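import Mathlib

set_option autoImplicit false

namespace Cfsg.Agent.Helper71

open Finset

/-- A group acting fixed-point-freely on a nontrivial finite abelian group of order prime to `p`
contains no `C_p × C_p`: commuting `y`, `z` of exponent `p` with `z ≠ 1` have `y ∈ ⟨z⟩`
(stated contrapositively). -/
theorem no_cp_cp_of_fpf {G₀ A : Type*} [Group G₀] [AddCommGroup A] [Finite A] [Nontrivial A]
    (φ : G₀ →* AddMonoid.End A) (p : ℕ) [hp : Fact p.Prime] (hcop : (Nat.card A).Coprime p)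
    (hfpf : ∀ g : G₀, g ≠ 1 → ∀ a : A, φ g a = a → a = 0)
    (y z : G₀) (hyz : Commute y z) (hy : y ^ p = 1) (hz : z ^ p = 1) (hz1 : z ≠ 1)
    (hyz' : ∀ j : ℕ, y * z ^ j ≠ 1) : False := by
  -- norm elements vanish
  have key : ∀ w : G₀, w ≠ 1 → w ^ p = 1 → ∑ k ∈ range p, (φ w) ^ k = 0 := by
    intro w hw hwp
    have h1 : (φ w - 1) * ∑ k ∈ range p, (φ w) ^ k = 0 := by
      rw [mul_geom_sum, ← map_pow, hwp, map_one, sub_self]
    ext a
    have h2 := congrArg (fun f : AddMonoid.End A => f a) h1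
    simp only [AddMonoid.End.zero_apply] at h2 ⊢
    apply hfpf w hw
    have h3 : ((φ w - 1) * ∑ k ∈ range p, (φ w) ^ k) a
        = φ w ((∑ k ∈ range p, (φ w) ^ k) a) - (∑ k ∈ range p, (φ w) ^ k) a := rfl
    rw [h3] at h2
    exact sub_eq_zero.1 h2
  have hzk : ∀ k : ℕ, 0 < k → k < p → z ^ k ≠ 1 := by
    intro k hk0 hkp h
    have hord : orderOf z = p := orderOf_eq_prime hz hz1
    have := orderOf_dvd_of_pow_eq_one h
    rw [hord] at this
    exact absurd (Nat.le_of_dvd hk0 this) (by omega)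
  have hsum : ∑ j ∈ range p, ∑ k ∈ range p, (φ (y * z ^ j)) ^ k = 0 := by
    apply Finset.sum_eq_zero
    intro j _
    apply key _ (hyz' j)
    rw [(hyz.pow_right j).mul_pow, hy, ← pow_mul, mul_comm, pow_mul, hz, one_pow, one_mul]
  have hcomm : Commute (φ y) (φ z) := by
    show φ y * φ z = φ z * φ y
    rw [← map_mul, ← map_mul, hyz.eq]
  have hterm : ∀ j k : ℕ, (φ (y * z ^ j)) ^ k = (φ y) ^ k * ((φ z) ^ k) ^ j := by
    intro j k
    rw [map_mul, map_pow, (hcomm.pow_right j).mul_pow, ← pow_mul, ← pow_mul, mul_comm j k]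
  rw [Finset.sum_comm] at hsum
  simp_rw [hterm, ← Finset.mul_sum] at hsum
  obtain ⟨q, hq⟩ : ∃ q, p = q + 1 := ⟨p - 1, by have := hp.out.pos; omega⟩
  have hsum' : ∑ k ∈ range p, (φ y) ^ k * ∑ j ∈ range p, ((φ z) ^ k) ^ j = (p : AddMonoid.End A) := by
    have : ∀ k ∈ range p, (φ y) ^ k * ∑ j ∈ range p, ((φ z) ^ k) ^ j
        = if k = 0 then (p : AddMonoid.End A) else 0 := by
      intro k hk
      by_cases hk0 : k = 0
      · subst hk0; simp
      · rw [if_neg hk0]
        have hkp : k < p := Finset.mem_range.1 hk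
        have := key (z ^ k) (hzk k (Nat.pos_of_ne_zero hk0) hkp)
          (by rw [← pow_mul, mul_comm, pow_mul, hz, one_pow])
        rw [map_pow] at this
        rw [this, mul_zero]
    rw [Finset.sum_congr rfl this, Finset.sum_ite_eq' (range p) 0]
    rw [if_pos (Finset.mem_range.2 hp.out.pos)]
  rw [hsum'] at hsum
  -- so `p • a = 0` for all `a`
  obtain ⟨a, ha⟩ := exists_ne (0 : A)
  have h4 : p • a = 0 := by
    have := congrArg (fun f : AddMonoid.End A => f a) hsum
    simpa using this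
  have h5 : addOrderOf a ∣ p := addOrderOf_dvd_of_nsmul_eq_zero h4
  have h6 : addOrderOf a ∣ Nat.card A := addOrderOf_dvd_natCard a
  have h7 : addOrderOf a = 1 := Nat.eq_one_of_dvd_coprimes hcop h6 h5
  exact ha (AddMonoid.addOrderOf_eq_one_iff.1 h7)

end Cfsg.Agent.Helper71
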