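import Mathlib
import Cfsg.Agent.Lib.Helper71.NoCpCp

set_option autoImplicit false

namespace Cfsg.Agent.Helper71

open scoped Pointwise

/-- A `p`-group acting on a nontrivial finite group of order prime to `p` leaves invariant
some nontrivial subgroup with commuting elements (the centre of an invariant Sylow subgroup). -/
theorem exists_invariant_abelian {P₀ N : Type*} [Group P₀] [Group N] [Finite N] [Nontrivial N]
    (p : ℕ) [hp : Fact p.Prime] (hP : IsPGroup p P₀) (hcop : (Nat.card N).Coprime p)
    (ρ : P₀ →* MulAut N) :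
    ∃ Z : Subgroup N, Z ≠ ⊥ ∧ (∀ a ∈ Z, ∀ b ∈ Z, a * b = b * a) ∧
      ∀ g : P₀, ∀ a ∈ Z, ρ g a ∈ Z := by
  classical
  have hcard1 : Nat.card N ≠ 1 := by
    intro h
    have := Finite.one_lt_card_iff_nontrivial.2 (inferInstance : Nontrivial N)
    omega
  set r := (Nat.card N).minFac with hr
  have hrp : r.Prime := Nat.minFac_prime hcard1
  have _hrf : Fact r.Prime := ⟨hrp⟩
  have hrdvd : r ∣ Nat.card N := Nat.minFac_dvd _
  let _mda : MulDistribMulAction P₀ N := MulDistribMulAction.compHom N ρ
  have hsmul : ∀ (g : P₀) (a : N), g • a = ρ g a := fun g a => rfl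
  -- a fixed Sylow subgroup
  have hnd : ¬ p ∣ Nat.card (Sylow r N) := by
    intro hdvd
    obtain ⟨S⟩ : Nonempty (Sylow r N) := inferInstance
    have h1 : Nat.card (Sylow r N) ∣ Nat.card N :=
      (Sylow.card_dvd_index S).trans (Subgroup.index_dvd_card _)
    have h2 : p ∣ Nat.card N := hdvd.trans h1
    have := Nat.Coprime.eq_one_of_dvd hcop.symm h2
    exact hp.out.one_lt.ne' this
  obtain ⟨S, hS⟩ := hP.nonempty_fixed_point_of_prime_not_dvd_card (Sylow r N) hnd
  have hSinv : ∀ (g : P₀) (a : N), a ∈ (S : Subgroup N) → ρ g a ∈ (S : Subgroup N) := by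
    intro g a ha
    have h1 : g • S = S := hS g
    have h2 : g • (S : Subgroup N) = (S : Subgroup N) := by
      rw [← Sylow.pointwise_smul_def, h1]
    have h3 : g • a ∈ g • (S : Subgroup N) := Subgroup.smul_mem_pointwise_smul _ _ _ ha
    rw [h2, hsmul] at h3
    exact h3
  refine ⟨(S : Subgroup N) ⊓ Subgroup.centralizer ((S : Subgroup N) : Set N), ?_, ?_, ?_⟩
  · -- nontrivial centre
    have hSne : (S : Subgroup N) ≠ ⊥ := S.ne_bot_of_dvd_card hrdvd
    have _hnt : Nontrivial (S : Subgroup N) := (Subgroup.nontrivial_iff_ne_bot _).2 hSne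
    have _hcnt := S.2.center_nontrivial
    obtain ⟨⟨z, hz⟩, hz1⟩ := exists_ne (1 : Subgroup.center (S : Subgroup N))
    intro hbot
    have hmem : (z : N) ∈ (S : Subgroup N) ⊓ Subgroup.centralizer ((S : Subgroup N) : Set N) := by
      refine Subgroup.mem_inf.2 ⟨z.2, ?_⟩
      rw [Subgroup.mem_centralizer_iff]
      intro s hs
      have := Subgroup.mem_center_iff.1 hz ⟨s, hs⟩
      exact congrArg Subtype.val this
    rw [hbot, Subgroup.mem_bot] at hmem
    apply hz1
    apply Subtype.ext
    apply Subtype.ext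
    exact hmem
  · intro a ha b hb
    obtain ⟨ha, _⟩ := Subgroup.mem_inf.1 ha
    obtain ⟨_, hb⟩ := Subgroup.mem_inf.1 hb
    rw [Subgroup.mem_centralizer_iff] at hb
    exact hb a ha
  · intro g a ha
    obtain ⟨ha, hac⟩ := Subgroup.mem_inf.1 ha
    refine Subgroup.mem_inf.2 ⟨hSinv g a ha, ?_⟩
    rw [Subgroup.mem_centralizer_iff] at hac ⊢
    intro s hs
    have hs' : ρ g⁻¹ s ∈ (S : Subgroup N) := hSinv g⁻¹ s hs
    have h1 := hac _ hs'
    have h2 := congrArg (ρ g) h1
    rw [map_mul, map_mul] at h2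
    have h3 : ρ g (ρ g⁻¹ s) = s := by
      rw [← MulAut.mul_apply, ← map_mul, mul_inv_cancel, map_one]; rfl
    rw [h3] at h2
    exact h2

/-- A `p`-group acting fixed-point-freely on a nontrivial finite group contains no `C_p × C_p`. -/
theorem mem_zpowers_of_fpf {P₀ N : Type*} [Group P₀] [Group N] [Finite N] [Nontrivial N]
    (p : ℕ) [hp : Fact p.Prime] (hP : IsPGroup p P₀) (hcop : (Nat.card N).Coprime p)
    (ρ : P₀ →* MulAut N) (hfpf : ∀ g : P₀, g ≠ 1 → ∀ x : N, ρ g x = x → x = 1)
    (y z : P₀) (hyz : Commute y z) (hy : y ^ p = 1) (hz : z ^ p = 1) (hz1 : z ≠ 1) :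
    y ∈ Subgroup.zpowers z := by
  by_contra hy'
  obtain ⟨Z, hZ1, hZc, hZinv⟩ := exists_invariant_abelian p hP hcop ρ
  let _instC : CommGroup Z :=
    { (inferInstance : Group Z) with mul_comm := fun a b => Subtype.ext (hZc a a.2 b b.2) }
  let res : P₀ → (Z →* Z) := fun g =>
    { toFun := fun a => ⟨ρ g a, hZinv g a a.2⟩
      map_one' := Subtype.ext (map_one _)
      map_mul' := fun a b => Subtype.ext (map_mul _ _ _) }
  let φ : P₀ →* AddMonoid.End (Additive Z) :=
    { toFun := fun g => MonoidHom.toAdditive (res g)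
      map_one' := by
        apply AddMonoidHom.ext
        intro a
        show Additive.ofMul ((res 1) a.toMul) = a
        have : (res 1) a.toMul = a.toMul := Subtype.ext (by simp [res])
        rw [this]; rfl
      map_mul' := by
        intro g h
        apply AddMonoidHom.ext
        intro a
        show Additive.ofMul ((res (g * h)) a.toMul) = Additive.ofMul ((res g) ((res h) a.toMul))
        have : (res (g * h)) a.toMul = (res g) ((res h) a.toMul) :=
          Subtype.ext (by simp [res, map_mul])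
        rw [this] }
  have _hntZ : Nontrivial (Additive Z) := (Subgroup.nontrivial_iff_ne_bot Z).2 hZ1
  have hcopZ : (Nat.card (Additive Z)).Coprime p := by
    have : Nat.card (Additive Z) = Nat.card Z := rfl
    rw [this]
    exact Nat.Coprime.coprime_dvd_left (Subgroup.card_subgroup_dvd_card Z) hcop
  refine no_cp_cp_of_fpf φ p hcopZ ?_ y z hyz hy hz hz1 ?_
  · intro g hg a ha
    have h1 : (res g) a.toMul = a.toMul := congrArg Additive.toMul ha
    have h2 : ρ g (a.toMul : N) = (a.toMul : N) := congrArg Subtype.val h1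
    have h3 := hfpf g hg _ h2
    have h4 : a.toMul = 1 := Subtype.ext h3
    exact congrArg Additive.ofMul h4
  · intro j hj
    apply hy'
    have : y = (z ^ j)⁻¹ := eq_inv_of_mul_eq_one_left hj
    rw [this]
    exact (Subgroup.zpowers z).inv_mem (Subgroup.pow_mem _ (Subgroup.mem_zpowers z) j)

end Cfsg.Agent.Helper71
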