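import Mathlib

set_option autoImplicit false

namespace Cfsg.Agent.Helper71

/-- Two anticommuting square roots of `-1` force even dimension (when `-1 ≠ 1`). -/
theorem even_finrank_of_anticommuting {K V : Type*} [Field K] [AddCommGroup V] [Module K V]
    [FiniteDimensional K V] (hK : (-1 : K) ≠ 1) (f g : V →ₗ[K] V)
    (hf : f ∘ₗ f = -LinearMap.id) (hg : g ∘ₗ g = -LinearMap.id)
    (hfg : f ∘ₗ g = -(g ∘ₗ f)) : Even (Module.finrank K V) := by
  set d := Module.finrank K V with hd
  have hneg : ∀ h : V →ₗ[K] V, LinearMap.det (-h) = (-1) ^ d * LinearMap.det h := by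
    intro h
    have : -h = (-1 : K) • h := by simp
    rw [this, LinearMap.det_smul]
  have h1 : LinearMap.det f * LinearMap.det f = (-1) ^ d := by
    have := congrArg LinearMap.det hf
    rw [LinearMap.det_comp, hneg, LinearMap.det_id, mul_one] at this
    exact this
  have h2 : LinearMap.det g * LinearMap.det g = (-1) ^ d := by
    have := congrArg LinearMap.det hg
    rw [LinearMap.det_comp, hneg, LinearMap.det_id, mul_one] at this
    exact this
  have hpow : ((-1 : K)) ^ d ≠ 0 := pow_ne_zero _ (neg_ne_zero.2 one_ne_zero)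
  have hf0 : LinearMap.det f ≠ 0 := by
    intro h0; rw [h0, mul_zero] at h1; exact hpow h1.symm
  have hg0 : LinearMap.det g ≠ 0 := by
    intro h0; rw [h0, mul_zero] at h2; exact hpow h2.symm
  have h3 : LinearMap.det f * LinearMap.det g = (-1) ^ d * (LinearMap.det g * LinearMap.det f) := by
    have := congrArg LinearMap.det hfg
    rw [LinearMap.det_comp, hneg, LinearMap.det_comp] at this
    exact this
  rcases Nat.even_or_odd d with he | ho
  · exact he
  · exfalso
    rw [ho.neg_one_pow] at h3
    have h4 : (2 : K) * (LinearMap.det f * LinearMap.det g) = 0 := by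
      linear_combination h3
    have h5 : (2 : K) ≠ 0 := by
      intro h
      apply hK
      linear_combination (-1 : K) * h
    rcases mul_eq_zero.1 h4 with h | h
    · exact h5 h
    · rcases mul_eq_zero.1 h with h | h
      · exact hf0 h
      · exact hg0 h

/-- the elementary abelian case -/
theorem isSquare_card_of_elementary {A : Type*} [AddCommGroup A] [Finite A] (p : ℕ)
    [hp : Fact p.Prime] (hp2 : p ≠ 2) (hA : ∀ x : A, p • x = 0) (α β : A →+ A)
    (hα : ∀ x, α (α x) = -x) (hβ : ∀ x, β (β x) = -x) (hαβ : ∀ x, α (β x) = -(β (α x))) :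
    IsSquare (Nat.card A) := by
  classical
  let _inst : Module (ZMod p) A := AddCommGroup.zmodModule hA
  have : Fintype A := Fintype.ofFinite A
  have hK : (-1 : ZMod p) ≠ 1 := by
    intro h
    have h2 : (2 : ZMod p) = 0 := by linear_combination (-1 : ZMod p) * h
    have h3 : ((2 : ℕ) : ZMod p) = 0 := by exact_mod_cast h2
    rw [ZMod.natCast_eq_zero_iff] at h3
    have := (Nat.prime_dvd_prime_iff_eq hp.out Nat.prime_two).1 h3
    exact hp2 this
  have hfin : Module.Finite (ZMod p) A := Module.Finite.of_finite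
  have heven : Even (Module.finrank (ZMod p) A) :=
    @even_finrank_of_anticommuting (ZMod p) A _ _ _inst hfin hK
    (α.toZModLinearMap p) (β.toZModLinearMap p)
    (by ext x; simp [hα]) (by ext x; simp [hβ]) (by ext x; simp [hαβ])
  obtain ⟨e, he⟩ := heven
  have hcard : Nat.card A = p ^ (Module.finrank (ZMod p) A) := by
    rw [Nat.card_eq_fintype_card, Module.card_eq_pow_finrank (K := ZMod p), ZMod.card]
  rw [hcard, he, pow_add]
  exact ⟨p ^ e, rfl⟩

/-- A finite abelian group of odd order admitting two anticommuting automorphisms squaring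
to `-1` (i.e. a fixed-point-free `Q₈`-module) has square order. -/
theorem isSquare_card_of_anticommuting {A : Type*} [AddCommGroup A] [Finite A]
    (hodd : Odd (Nat.card A)) (α β : A →+ A)
    (hα : ∀ x, α (α x) = -x) (hβ : ∀ x, β (β x) = -x) (hαβ : ∀ x, α (β x) = -(β (α x))) :
    IsSquare (Nat.card A) := by
  classical
  induction' hn : Nat.card A using Nat.strong_induction_on with n ih generalizing A
  by_cases h1 : n = 1
  · subst h1; exact ⟨1, rfl⟩
  have hnpos : 0 < n := hn ▸ Nat.card_pos
  set p := n.minFac with hpdef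
  have hp : p.Prime := Nat.minFac_prime h1
  have _hpf : Fact p.Prime := ⟨hp⟩
  have hpn : p ∣ n := Nat.minFac_dvd n
  have hp2 : p ≠ 2 := by
    intro h2
    rw [h2] at hpn
    rw [hn] at hodd
    exact (Nat.not_even_iff_odd.2 hodd) (even_iff_two_dvd.2 hpn)
  let φ : A →+ A := nsmulAddMonoidHom p
  have hφ : ∀ x, φ x = p • x := fun x => rfl
  have hcard : Nat.card A = Nat.card φ.range * Nat.card φ.ker := by
    rw [AddSubgroup.card_eq_card_quotient_mul_card_addSubgroup φ.ker,
      Nat.card_congr (QuotientAddGroup.quotientKerEquivRange φ).toEquiv]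
  -- restrictions
  have hαW : ∀ x : φ.ker, α x ∈ φ.ker := by
    intro x
    have hx : p • (x : A) = 0 := x.2
    rw [AddMonoidHom.mem_ker, hφ, ← map_nsmul, hx, map_zero]
  have hβW : ∀ x : φ.ker, β x ∈ φ.ker := by
    intro x
    have hx : p • (x : A) = 0 := x.2
    rw [AddMonoidHom.mem_ker, hφ, ← map_nsmul, hx, map_zero]
  have hαB : ∀ x : φ.range, α x ∈ φ.range := by
    rintro ⟨x, y, rfl⟩
    exact ⟨α y, by simp [hφ, map_nsmul]⟩
  have hβB : ∀ x : φ.range, β x ∈ φ.range := by
    rintro ⟨x, y, rfl⟩
    exact ⟨β y, by simp [hφ, map_nsmul]⟩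
  let αW : φ.ker →+ φ.ker := (α.comp φ.ker.subtype).codRestrict φ.ker hαW
  let βW : φ.ker →+ φ.ker := (β.comp φ.ker.subtype).codRestrict φ.ker hβW
  let αB : φ.range →+ φ.range := (α.comp φ.range.subtype).codRestrict φ.range hαB
  let βB : φ.range →+ φ.range := (β.comp φ.range.subtype).codRestrict φ.range hβB
  have cαW : ∀ x : φ.ker, ((αW x : φ.ker) : A) = α x := fun x => rfl
  have cβW : ∀ x : φ.ker, ((βW x : φ.ker) : A) = β x := fun x => rfl
  have cαB : ∀ x : φ.range, ((αB x : φ.range) : A) = α x := fun x => rfl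
  have cβB : ∀ x : φ.range, ((βB x : φ.range) : A) = β x := fun x => rfl
  have hW : IsSquare (Nat.card φ.ker) := by
    refine isSquare_card_of_elementary p hp2 ?_ αW βW ?_ ?_ ?_
    · intro x
      apply Subtype.ext
      have hx : p • (x : A) = 0 := x.2
      simpa using hx
    · intro x; apply Subtype.ext; simp only [cαW, hα, AddSubgroup.coe_neg]
    · intro x; apply Subtype.ext; simp only [cβW, hβ, AddSubgroup.coe_neg]
    · intro x; apply Subtype.ext; simp only [cαW, cβW, hαβ, AddSubgroup.coe_neg]
  -- kernel nontrivial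
  have hWlt : 1 < Nat.card φ.ker := by
    have : p ∣ Nat.card A := hn ▸ hpn
    obtain ⟨x, hx⟩ := exists_prime_addOrderOf_dvd_card' p this
    have hxk : x ∈ φ.ker := by
      rw [AddMonoidHom.mem_ker, hφ, ← hx, addOrderOf_nsmul_eq_zero]
    have hx0 : x ≠ 0 := by
      intro h0
      rw [h0, addOrderOf_zero] at hx
      exact hp.one_lt.ne hx
    rw [Finite.one_lt_card_iff_nontrivial]
    exact ⟨⟨⟨x, hxk⟩, 0, fun h => hx0 (congrArg Subtype.val h)⟩⟩
  have hBpos : 0 < Nat.card φ.range := Nat.card_pos
  have hBlt : Nat.card φ.range < n := by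
    rw [← hn, hcard]
    nlinarith
  have hBodd : Odd (Nat.card φ.range) := by
    have : Nat.card φ.range ∣ Nat.card A := ⟨_, hcard⟩
    exact Odd.of_dvd_nat hodd this
  have hB : IsSquare (Nat.card φ.range) := by
    refine ih _ hBlt hBodd αB βB ?_ ?_ ?_ rfl
    · intro x; apply Subtype.ext; simp only [cαB, hα, AddSubgroup.coe_neg]
    · intro x; apply Subtype.ext; simp only [cβB, hβ, AddSubgroup.coe_neg]
    · intro x; apply Subtype.ext; simp only [cαB, cβB, hαβ, AddSubgroup.coe_neg]
  rw [← hn, hcard]
  exact hB.mul hW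

/-- Multiplicative version: a finite group of odd order whose elements commute, with two
endomorphisms `α`, `β` such that `α² = β² = inversion` and `αβ = inversion ∘ βα`,
has square order. -/
theorem isSquare_card_of_anticommuting_mul {N : Type*} [Group N] [Finite N]
    (hodd : Odd (Nat.card N)) (hcomm : ∀ x y : N, x * y = y * x) (α β : N →* N)
    (hα : ∀ x, α (α x) = x⁻¹) (hβ : ∀ x, β (β x) = x⁻¹) (hαβ : ∀ x, α (β x) = (β (α x))⁻¹) :
    IsSquare (Nat.card N) := by
  let _inst : CommGroup N := { (inferInstance : Group N) with mul_comm := hcomm }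
  have h := isSquare_card_of_anticommuting (A := Additive N) hodd
    (MonoidHom.toAdditive α) (MonoidHom.toAdditive β) hα hβ hαβ
  exact h

end Cfsg.Agent.Helper71
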