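import Mathlib
import Cfsg.Prelude.Def_Solvable
import Cfsg.Agent.Lib.Helper96.Frobenius
import Cfsg.Agent.Lib.Helper71.FpfPGroup
import Cfsg.Agent.Lib.Helper71.SquareOrder
import Cfsg.Agent.S0035

set_option autoImplicit false

namespace Cfsg.Agent.Helper71

section conj

variable {L : Type*} [Group L]

/-- conjugation action of a subgroup `H` on a normal subgroup `N` -/
noncomputable def conjHom (H N : Subgroup L) [N.Normal] : H →* MulAut N :=
  (MulAut.conjNormal (H := N)).comp H.subtype

theorem conjHom_coe (H N : Subgroup L) [N.Normal] (h : H) (x : N) :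
    ((conjHom H N h x : N) : L) = (h : L) * x * (h : L)⁻¹ :=
  MulAut.conjNormal_apply _ _

/-- a Frobenius complement acts fixed-point-freely on a normal subgroup meeting it trivially -/
theorem conjHom_fpf {H N : Subgroup L} [N.Normal] (hH : Cfsg.IsFrobeniusComplement H)
    (hdisj : N ⊓ H = ⊥) :
    ∀ h : H, h ≠ 1 → ∀ x : N, conjHom H N h x = x → x = 1 := by
  intro h hh x hx
  have hx' : (h : L) * x * (h : L)⁻¹ = x := by
    rw [← conjHom_coe, hx]
  have hxH : (x : L) ∈ H := by
    apply Helper96.frob_mem_of_conj_mem hH h.2 (fun e => hh (Subtype.ext e))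
    have h' : (x : L)⁻¹ * h * x = h := by
      have h'' : (h : L) * x = x * h := by
        calc (h : L) * x = ((h : L) * x * (h : L)⁻¹) * h := by group
          _ = x * h := by rw [hx']
      rw [mul_assoc, h'', ← mul_assoc, inv_mul_cancel, one_mul]
    rw [h']; exact h.2
  have hmem : (x : L) ∈ N ⊓ H := ⟨x.2, hxH⟩
  rw [hdisj] at hmem
  exact Subtype.ext (Subgroup.mem_bot.1 hmem)

end conj

section kernel

variable {L : Type*} [Group L] [Finite L]

/-- Frobenius' theorem, packaged with the numerical facts on the kernel. -/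
theorem exists_kernel_subgroup (H : Subgroup L) (hH : Cfsg.IsFrobeniusComplement H) :
    ∃ N : Subgroup L, N.Normal ∧ N ⊓ H = ⊥ ∧
      Nat.card N = Nat.card (Cfsg.frobeniusKernel H) ∧ Nontrivial N ∧
      (Nat.card N).Coprime (Nat.card H) := by
  obtain ⟨N, hNset, hNnormal, hNcompl⟩ := Cfsg.Agent.S0035.result H hH
  have hcardN : Nat.card N = Nat.card (Cfsg.frobeniusKernel H) :=
    Nat.card_congr (Equiv.setCongr hNset)
  have hidx : Nat.card N = H.index := by rw [hcardN, Helper96.card_frobeniusKernel hH]
  refine ⟨N, hNnormal, hNcompl.disjoint.eq_bot, hcardN, ?_, ?_⟩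
  · rw [← Finite.one_lt_card_iff_nontrivial, hidx]
    have h0 : H.index ≠ 0 := Subgroup.index_ne_zero_of_finite
    have h1 : H.index ≠ 1 := fun h => hH.2.1 (Subgroup.index_eq_one.1 h)
    omega
  · rw [hidx]
    have hmod : H.index ≡ 1 [MOD Nat.card H] := Helper96.index_mod_card hH
    have := hmod.gcd_eq
    rw [Nat.gcd_one_left] at this
    exact this

end kernel

section unique

/-- A `p`-group acting fixed-point-freely on a nontrivial finite group has at most one
subgroup of order `p`. -/
theorem unique_subgroup_order_p_of_fpf {P₀ N : Type*} [Group P₀] [Finite P₀] [Group N] [Finite N]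
    [Nontrivial N] (p : ℕ) [hp : Fact p.Prime] (hP : IsPGroup p P₀)
    (hcop : (Nat.card N).Coprime p)
    (ρ : P₀ →* MulAut N) (hfpf : ∀ g : P₀, g ≠ 1 → ∀ x : N, ρ g x = x → x = 1)
    (A B : Subgroup P₀) (hA : Nat.card A = p) (hB : Nat.card B = p) : A = B := by
  have hnt : Nontrivial P₀ := by
    rw [← Finite.one_lt_card_iff_nontrivial]
    have := Nat.le_of_dvd Nat.card_pos (Subgroup.card_subgroup_dvd_card A)
    have := hp.out.one_lt
    omega
  have hcnt := hP.center_nontrivial
  have hdvd : p ∣ Nat.card (Subgroup.center P₀) := by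
    rcases (hP.to_subgroup (Subgroup.center P₀)).card_eq_or_dvd with h | h
    · have := Finite.one_lt_card_iff_nontrivial.2 hcnt
      omega
    · exact h
  obtain ⟨z₀, hz₀⟩ := exists_prime_orderOf_dvd_card' p hdvd
  have hzord : orderOf (z₀ : P₀) = p := by rw [Subgroup.orderOf_coe, hz₀]
  have hzp : (z₀ : P₀) ^ p = 1 := by rw [← hzord, pow_orderOf_eq_one]
  have hz1 : (z₀ : P₀) ≠ 1 := by
    intro h
    rw [h, orderOf_one] at hzord
    exact hp.out.one_lt.ne hzord
  have key : ∀ C : Subgroup P₀, Nat.card C = p → C = Subgroup.zpowers (z₀ : P₀) := by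
    intro C hC
    have hle : C ≤ Subgroup.zpowers (z₀ : P₀) := by
      intro y hy
      have hyp : y ^ p = 1 := by
        have := pow_card_eq_one' (G := C) (x := ⟨y, hy⟩)
        rw [hC] at this
        exact congrArg Subtype.val this
      have hcomm : Commute y (z₀ : P₀) := Subgroup.mem_center_iff.1 z₀.2 y
      exact mem_zpowers_of_fpf p hP hcop ρ hfpf y z₀ hcomm hyp hzp hz1
    apply Subgroup.eq_of_le_of_card_ge hle
    rw [Nat.card_zpowers, hzord, hC]
  rw [key A hA, key B hB]

variable {L : Type*} [Group L] [Finite L]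

/-- In a Frobenius complement, each Sylow subgroup has at most one subgroup of order `p`. -/
theorem sylow_unique_subgroup_order_p (H : Subgroup L) (hH : Cfsg.IsFrobeniusComplement H)
    (p : ℕ) [hp : Fact p.Prime] (P : Sylow p H) (A B : Subgroup P) (hA : Nat.card A = p)
    (hB : Nat.card B = p) : A = B := by
  obtain ⟨N, hNnormal, hdisj, -, hNnt, hcop⟩ := exists_kernel_subgroup H hH
  have hpH : p ∣ Nat.card H := by
    rw [← hA]
    exact (Subgroup.card_subgroup_dvd_card A).trans (Subgroup.card_subgroup_dvd_card _)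
  have hcop' : (Nat.card N).Coprime p := Nat.Coprime.coprime_dvd_right hpH hcop
  refine unique_subgroup_order_p_of_fpf p P.2 hcop'
    ((conjHom H N).comp (P : Subgroup H).subtype) ?_ A B hA hB
  intro g hg x hx
  refine conjHom_fpf hH hdisj (g : H) ?_ x hx
  intro h
  exact hg (Subtype.ext h)

end unique

section q8

variable {L : Type*} [Group L] [Finite L]

/-- A Frobenius complement containing a copy of `Q₈` (given by elements `i`, `j`, `z`)
has a kernel of odd square order. -/
theorem odd_isSquare_card_kernel_of_q8 (H : Subgroup L) (hH : Cfsg.IsFrobeniusComplement H)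
    (i j z : H) (hz1 : z ≠ 1) (hzz : z * z = 1) (hii : i * i = z) (hjj : j * j = z)
    (hij : i * j = z * (j * i)) :
    Odd (Nat.card (Cfsg.frobeniusKernel H)) ∧ IsSquare (Nat.card (Cfsg.frobeniusKernel H)) := by
  obtain ⟨N, hNnormal, hdisj, hcardN, -, -⟩ := exists_kernel_subgroup H hH
  rw [← hcardN]
  have hfpf := conjHom_fpf (N := N) hH hdisj
  set c := conjHom H N with hc
  have hσfpf : MonoidHom.FixedPointFree (c z).toMonoidHom :=
    fun x hx => hfpf _ hz1 x hx
  have hσinv : Function.Involutive (c z).toMonoidHom := fun x => by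
    show c z (c z x) = x
    rw [← MulAut.mul_apply, ← map_mul, hzz, map_one]; rfl
  have hσ : ∀ x, c z x = x⁻¹ :=
    fun x => congrFun (hσfpf.coe_eq_inv_of_involutive hσinv) x
  have hcomm : ∀ x y : N, x * y = y * x :=
    fun x y => hσfpf.commute_all_of_involutive hσinv x y
  have hodd : Odd (Nat.card N) := hσfpf.odd_card_of_involutive hσinv
  refine ⟨hodd, ?_⟩
  refine isSquare_card_of_anticommuting_mul (N := N) hodd hcomm
    (c i).toMonoidHom (c j).toMonoidHom ?_ ?_ ?_
  · intro x
    show c i (c i x) = x⁻¹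
    rw [← MulAut.mul_apply, ← map_mul c, hii, hσ]
  · intro x
    show c j (c j x) = x⁻¹
    rw [← MulAut.mul_apply, ← map_mul c, hjj, hσ]
  · intro x
    show c i (c j x) = (c j (c i x))⁻¹
    rw [← MulAut.mul_apply, ← map_mul c, hij, map_mul c, MulAut.mul_apply, hσ, map_mul c,
      MulAut.mul_apply]

end q8

end Cfsg.Agent.Helper71
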