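import Mathlib

/-!
# SR (T1, T2, T3): strictly triangular matrices with non-zero subdiagonal act cyclically

`lv : ι → ℕ` is an injective level function whose values form an initial segment, `T` is strictly lower
triangular for the levels with non-zero entries just below the diagonal.  Then the iterates `T ^ k x` of a
vector `x` with leading level `1` form a triangular system, so a `(1 + T)`-invariant subspace containing `x`
contains every vector vanishing at level `0`.
-/

set_option autoImplicit false

namespace Cfsg.Agent.Helper71.SR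

open Matrix

section T
variable {F : Type*} [Field F] {ι : Type*} [Fintype ι] [DecidableEq ι]

omit [DecidableEq ι] in
/-- one application of `T` raises the leading level -/
theorem tri_step (lv : ι → ℕ) (T : Matrix ι ι F) (hT : ∀ a b, lv a ≤ lv b → T a b = 0)
    (r : ℕ) (x : ι → F) (hx : ∀ b, lv b < r → x b = 0) :
    ∀ a, lv a < r + 1 → (T *ᵥ x) a = 0 := by
  intro a ha
  simp only [Matrix.mulVec, dotProduct]
  apply Finset.sum_eq_zero
  intro b _
  by_cases hb : lv b < r
  · rw [hx b hb, mul_zero]
  · rw [hT a b (by omega), zero_mul]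

/-- (T1) -/
theorem tri_iter (lv : ι → ℕ) (T : Matrix ι ι F) (hT : ∀ a b, lv a ≤ lv b → T a b = 0) :
    ∀ (k r : ℕ) (x : ι → F), (∀ b, lv b < r → x b = 0) →
      ∀ a, lv a < r + k → ((T ^ k) *ᵥ x) a = 0 := by
  intro k
  induction k with
  | zero =>
    intro r x hx a ha
    rw [pow_zero, Matrix.one_mulVec]
    exact hx a (by omega)
  | succ k ih =>
    intro r x hx a ha
    rw [pow_succ, ← Matrix.mulVec_mulVec]
    exact ih (r + 1) (T *ᵥ x) (tri_step lv T hT r x hx) a (by omega)

/-- (T2) -/
theorem tri_iter_ne (lv : ι → ℕ) (hinj : Function.Injective lv)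
    (hsurj : ∀ a, ∀ j < lv a, ∃ b, lv b = j)
    (T : Matrix ι ι F) (hT : ∀ a b, lv a ≤ lv b → T a b = 0)
    (hsub : ∀ a b, lv a = lv b + 1 → T a b ≠ 0) :
    ∀ (k r : ℕ) (x : ι → F), (∀ b, lv b < r → x b = 0) → (∃ b, lv b = r ∧ x b ≠ 0) →
      ∀ a, lv a = r + k → ((T ^ k) *ᵥ x) a ≠ 0 := by
  intro k
  induction k with
  | zero =>
    intro r x hx hb a ha
    obtain ⟨b, hb, hxb⟩ := hb
    have hab : a = b := hinj (by omega)
    subst hab
    rw [pow_zero, Matrix.one_mulVec]
    exact hxb
  | succ k ih =>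
    intro r x hx hb a ha
    obtain ⟨b, hb, hxb⟩ := hb
    rw [pow_succ, ← Matrix.mulVec_mulVec]
    refine ih (r + 1) (T *ᵥ x) (tri_step lv T hT r x hx) ?_ a (by omega)
    obtain ⟨b', hb'⟩ : ∃ b', lv b' = r + 1 := by
      by_cases h : lv a = r + 1
      · exact ⟨a, h⟩
      · exact hsurj a (r + 1) (by omega)
    refine ⟨b', hb', ?_⟩
    have hsum : (T *ᵥ x) b' = T b' b * x b := by
      simp only [Matrix.mulVec, dotProduct]
      apply Finset.sum_eq_single b
      · intro c _ hcb
        by_cases hc : lv c < r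
        · rw [hx c hc, mul_zero]
        · have hcr : lv c ≠ r := fun h => hcb (hinj (h.trans hb.symm))
          rw [hT b' c (by omega), zero_mul]
      · intro h
        exact absurd (Finset.mem_univ b) h
    rw [hsum]
    exact mul_ne_zero (hsub b' b (by omega)) hxb

/-- (T3) downward induction on the level, using T1 T2 -/
theorem tri_cyclic (lv : ι → ℕ) (hinj : Function.Injective lv)
    (hsurj : ∀ a, ∀ j < lv a, ∃ b, lv b = j)
    (T : Matrix ι ι F) (hT : ∀ a b, lv a ≤ lv b → T a b = 0)
    (hsub : ∀ a b, lv a = lv b + 1 → T a b ≠ 0)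
    (S : Submodule F (ι → F)) (x : ι → F) (hxS : x ∈ S)
    (hx0 : ∀ b, lv b < 1 → x b = 0) (hx1 : ∃ b, lv b = 1 ∧ x b ≠ 0)
    (hS : ∀ y ∈ S, (1 + T) *ᵥ y ∈ S) :
    ∀ y : ι → F, (∀ b, lv b < 1 → y b = 0) → y ∈ S := by
  have hST : ∀ y ∈ S, T *ᵥ y ∈ S := by
    intro y hy
    have h1 := hS y hy
    rw [Matrix.add_mulVec, Matrix.one_mulVec] at h1
    have h2 := S.sub_mem h1 hy
    rwa [add_sub_cancel_left] at h2
  have hpow : ∀ k : ℕ, (T ^ k) *ᵥ x ∈ S := by
    intro k
    induction k with
    | zero => rw [pow_zero, Matrix.one_mulVec]; exact hxS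
    | succ k ih => rw [pow_succ', ← Matrix.mulVec_mulVec]; exact hST _ ih
  have hB : ∀ b : ι, lv b < Finset.univ.sup lv + 1 := fun b =>
    Nat.lt_succ_of_le (Finset.le_sup (f := lv) (Finset.mem_univ b))
  have key : ∀ d r : ℕ, 1 ≤ r → Finset.univ.sup lv + 1 ≤ r + d →
      ∀ y : ι → F, (∀ b, lv b < r → y b = 0) → y ∈ S := by
    intro d
    induction d with
    | zero =>
      intro r _ hr y hy
      have hy0 : y = 0 := by
        funext b
        exact hy b (lt_of_lt_of_le (hB b) (by omega))
      rw [hy0]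
      exact S.zero_mem
    | succ d ih =>
      intro r hr1 hr y hy
      by_cases hex : ∃ b, lv b = r
      · obtain ⟨b, hb⟩ := hex
        have hv0 : ∀ a, lv a < r → ((T ^ (r - 1)) *ᵥ x) a = 0 := by
          intro a ha
          exact tri_iter lv T hT (r - 1) 1 x hx0 a (by omega)
        have hvb : ((T ^ (r - 1)) *ᵥ x) b ≠ 0 :=
          tri_iter_ne lv hinj hsurj T hT hsub (r - 1) 1 x hx0 hx1 b (by omega)
        have hy' : y - (y b / ((T ^ (r - 1)) *ᵥ x) b) • ((T ^ (r - 1)) *ᵥ x) ∈ S := by
          apply ih (r + 1) (by omega) (by omega)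
          intro a ha
          by_cases har : lv a < r
          · simp only [Pi.sub_apply, Pi.smul_apply, smul_eq_mul]
            rw [hy a har, hv0 a har, mul_zero, sub_zero]
          · have hab : a = b := hinj (by omega)
            subst hab
            simp only [Pi.sub_apply, Pi.smul_apply, smul_eq_mul]
            rw [div_mul_cancel₀ _ hvb, sub_self]
        have h3 := S.add_mem hy' (S.smul_mem (y b / ((T ^ (r - 1)) *ᵥ x) b) (hpow (r - 1)))
        rwa [sub_add_cancel] at h3
      · apply ih (r + 1) (by omega) (by omega) y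
        intro a ha
        apply hy a
        have : lv a ≠ r := fun h => hex ⟨a, h⟩
        omega
  exact key (Finset.univ.sup lv + 1) 1 le_rfl (by omega)

end T

end Cfsg.Agent.Helper71.SR
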