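import Mathlib
import Cfsg.Agent.Lib.Helper71.SRT3

/-!
# SR (T4): a strictly triangular matrix with non-zero subdiagonal is nilpotent of maximal class
-/

set_option autoImplicit false

namespace Cfsg.Agent.Helper71.SR

open Matrix

section T
variable {F : Type*} [Field F] {ι : Type*} [Fintype ι] [DecidableEq ι]

/-- (T4) from T1, T2 -/
theorem tri_regular (d : ℕ) (lv : ι → ℕ) (hinj : Function.Injective lv)
    (hsurj : ∀ a, ∀ j < lv a, ∃ b, lv b = j) (hlt : ∀ a, lv a < d) (htop : ∃ a, lv a + 1 = d)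
    (T : Matrix ι ι F) (hT : ∀ a b, lv a ≤ lv b → T a b = 0)
    (hsub : ∀ a b, lv a = lv b + 1 → T a b ≠ 0) :
    IsNilpotent T ∧ T ^ (d - 1) ≠ 0 := by
  constructor
  · refine ⟨d, ?_⟩
    have h : ∀ x : ι → F, (T ^ d) *ᵥ x = 0 := by
      intro x
      funext a
      exact tri_iter lv T hT d 0 x (fun b hb => absurd hb (Nat.not_lt_zero _)) a
        (by have := hlt a; omega)
    ext a b
    have h1 := congrFun (h (Pi.single b 1)) a
    rw [Matrix.mulVec_single_one] at h1
    simpa using h1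
  · obtain ⟨a, ha⟩ := htop
    obtain ⟨b0, hb0⟩ : ∃ b, lv b = 0 := by
      by_cases h : lv a = 0
      · exact ⟨a, h⟩
      · exact hsurj a 0 (by omega)
    intro h0
    have h1 := tri_iter_ne lv hinj hsurj T hT hsub (d - 1) 0 (Pi.single b0 1)
      (fun b hb => absurd hb (Nat.not_lt_zero _)) ⟨b0, hb0, by simp⟩ a (by omega)
    apply h1
    rw [h0, Matrix.zero_mulVec]
    rfl

end T

end Cfsg.Agent.Helper71.SR
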