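import Mathlib
import Cfsg.Agent.Lib.Helper52.CoprimeSylow

set_option autoImplicit false

namespace Cfsg.Agent.Helper71

open Subgroup Cfsg.Agent.Helper52

universe u

variable {G : Type u} [Group G] [Finite G] (p : ℕ) [hp : Fact p.Prime]

/-- **Lemma A.** The number of Sylow `p`-subgroups of a subgroup `K`, as a relative index. -/
theorem card_sylow_eq_relIndex (K Q : Subgroup G) (hQK : Q ≤ K) (hQ : Nat.card Q = sylCard p K) :
    Nat.card (Sylow p K) = (normalizer (Q : Set G)).relIndex K := by
  obtain ⟨P, hP⟩ := exists_sylow_of_card p K Q hQK hQ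
  have h1 : Q.subgroupOf K = (P : Subgroup K) := by
    rw [← hP, subgroupOf, comap_map_eq_self_of_injective K.subtype_injective]
  rw [P.card_eq_index_normalizer, relIndex, subgroupOf_normalizer_eq hQK, h1]
  rfl

/-- **Lemma F** (Frattini argument as an index identity). -/
theorem relIndex_normalizer_frattini (K X Q : Subgroup G) (hKX : K ≤ X)
    (hXK : X ≤ normalizer (K : Set G)) (hQK : Q ≤ K) (hQ : Nat.card Q = sylCard p K) :
    (normalizer (Q : Set G)).relIndex K = (normalizer (Q : Set G)).relIndex X := by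
  apply relIndex_eq_of_forall_mul _ K X hKX
  intro m hm
  have hmK : m ∈ normalizer (K : Set G) := hXK hm
  have h1 : Q.map (MulAut.conj m).toMonoidHom ≤ K := map_conj_le_of_le_normalizer hQK hmK
  have h2 : Nat.card (Q.map (MulAut.conj m).toMonoidHom) = sylCard p K := by
    rw [card_map_conj, hQ]
  obtain ⟨k, hk, hkk⟩ := exists_conj_of_card p K Q _ hQK h1 hQ h2
  refine ⟨k, hk, k⁻¹ * m, ?_, by group⟩
  apply mem_normalizer_of_map_conj_eq
  have h3 : (Q.map (MulAut.conj m).toMonoidHom).map (MulAut.conj k⁻¹).toMonoidHom = Q := by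
    rw [hkk, Subgroup.map_map]
    have : (MulAut.conj k⁻¹).toMonoidHom.comp (MulAut.conj k).toMonoidHom = MonoidHom.id G := by
      ext x; simp [mul_assoc]
    rw [this, Subgroup.map_id]
  rw [Subgroup.map_map] at h3
  have h4 : (MulAut.conj k⁻¹).toMonoidHom.comp (MulAut.conj m).toMonoidHom
      = (MulAut.conj (k⁻¹ * m)).toMonoidHom := by
    ext x; simp [mul_assoc]
  rw [h4] at h3
  exact h3

/-- A Sylow subgroup of `G` contained in `K` has the Sylow order of `K`. -/
theorem sylow_card_eq_sylCard_of_le (P : Sylow p G) (K : Subgroup G)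
    (hPK : (P : Subgroup G) ≤ K) : Nat.card (P : Subgroup G) = sylCard p K := by
  unfold sylCard
  rw [P.card_eq_multiplicity]
  congr 1
  apply le_antisymm
  · have h1 : p ^ (Nat.card G).factorization p ∣ Nat.card K := by
      rw [← P.card_eq_multiplicity]
      exact Subgroup.card_dvd_of_le hPK
    exact (hp.out.pow_dvd_iff_le_factorization Nat.card_pos.ne').1 h1
  · have h2 : Nat.card K ∣ Nat.card G := Subgroup.card_subgroup_dvd_card K
    exact (Nat.factorization_le_iff_dvd Nat.card_pos.ne' Nat.card_pos.ne').2 h2 p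

/-- a `p`-subgroup of `K` of index prime to `p` has the Sylow order -/
theorem card_eq_sylCard_of_not_dvd (K Q : Subgroup G) (hQK : Q ≤ K) (hQ : IsPGroup p Q)
    (hidx : ¬ p ∣ Q.relIndex K) : Nat.card Q = sylCard p K := by
  obtain ⟨k, hk⟩ := IsPGroup.iff_card.1 hQ
  have h1 : Nat.card Q * Q.relIndex K = Nat.card K := card_mul_relIndex_eq hQK
  unfold sylCard
  rw [← h1, hk]
  have hne : Q.relIndex K ≠ 0 := by
    intro h0
    rw [h0, mul_zero] at h1
    exact Nat.card_pos.ne' h1.symm
  rw [Nat.factorization_mul (pow_ne_zero _ hp.out.ne_zero) hne, Nat.Prime.factorization_pow hp.out]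
  simp [Nat.factorization_eq_zero_of_not_dvd hidx]

/-- **(S2)** `P ⊓ N` is a Sylow `p`-subgroup of the normal subgroup `N`. -/
theorem card_sylow_inf_normal (P : Sylow p G) (N : Subgroup G) [N.Normal] :
    Nat.card ((P : Subgroup G) ⊓ N : Subgroup G) = sylCard p N := by
  apply card_eq_sylCard_of_not_dvd p N _ inf_le_right (P.2.to_le inf_le_left)
  rw [inf_relIndex_right]
  have h1 : (P : Subgroup G).relIndex N = (P : Subgroup G).relIndex (N ⊔ P) := by
    apply relIndex_eq_of_forall_mul _ N (N ⊔ P) le_sup_left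
    intro m hm
    have hm' : m ∈ ((N ⊔ (P : Subgroup G) : Subgroup G) : Set G) := hm
    rw [normal_mul] at hm'
    obtain ⟨n, hn, x, hx, rfl⟩ := Set.mem_mul.1 hm'
    exact ⟨n, hn, x, hx, rfl⟩
  rw [h1]
  intro hdvd
  have h2 := relIndex_mul_index (H := (P : Subgroup G)) (K := N ⊔ P) le_sup_right
  exact P.not_dvd_index (h2 ▸ hdvd.mul_right _)

/-- `Sylow.card_eq_index_normalizer` with the coercion through `Subgroup` -/
theorem card_sylow_eq_index (P : Sylow p G) :
    Nat.card (Sylow p G) = (normalizer (((P : Subgroup G)) : Set G)).index :=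
  P.card_eq_index_normalizer

/-- the number of Sylow subgroups of a quotient -/
theorem card_sylow_quotient (P : Sylow p G) (N : Subgroup G) [N.Normal] :
    Nat.card (Sylow p (G ⧸ N)) = (normalizer (((P : Subgroup G) ⊔ N : Subgroup G) : Set G)).index := by
  have hf := QuotientGroup.mk'_surjective N
  rw [card_sylow_eq_index p (P.mapSurjective hf)]
  rw [← index_comap_of_surjective _ hf, comap_normalizer_eq_of_surjective _ hf]
  rw [Sylow.coe_mapSurjective, comap_map_eq, QuotientGroup.ker_mk']

omit [Finite G] in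
theorem normalizer_inf_normalizer_le_sup (H N : Subgroup G) :
    normalizer (H : Set G) ⊓ normalizer (N : Set G) ≤ normalizer ((H ⊔ N : Subgroup G) : Set G) := by
  intro g hg
  obtain ⟨h1, h2⟩ := Subgroup.mem_inf.1 hg
  apply mem_normalizer_of_map_conj_eq
  rw [Subgroup.map_sup, map_conj_eq_of_mem_normalizer h1, map_conj_eq_of_mem_normalizer h2]

omit [Finite G] in
theorem normalizer_le_normalizer_sup_normal (H N : Subgroup G) [N.Normal] :
    normalizer (H : Set G) ≤ normalizer ((H ⊔ N : Subgroup G) : Set G) := by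
  intro g hg
  apply normalizer_inf_normalizer_le_sup
  exact Subgroup.mem_inf.2 ⟨hg, le_normalizer_of_normal (H := N) (K := ⊤) trivial⟩

omit [Finite G] in
theorem normalizer_le_normalizer_inf_normal (H N : Subgroup G) [N.Normal] :
    normalizer (H : Set G) ≤ normalizer ((H ⊓ N : Subgroup G) : Set G) := by
  intro g hg
  apply inf_normalizer_le_normalizer_inf
  exact Subgroup.mem_inf.2 ⟨hg, le_normalizer_of_normal (H := N) (K := ⊤) trivial⟩

/-- **(L1)** `n_p(G) = n_p(G/N) · n_p(PN)`. -/
theorem card_sylow_eq_quotient_mul (P : Sylow p G) (N : Subgroup G) [N.Normal] :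
    Nat.card (Sylow p G) =
      Nat.card (Sylow p (G ⧸ N)) * Nat.card (Sylow p ((P : Subgroup G) ⊔ N : Subgroup G)) := by
  set K : Subgroup G := (P : Subgroup G) ⊔ N with hK
  have hPK : (P : Subgroup G) ≤ K := le_sup_left
  have hcard : Nat.card (P : Subgroup G) = sylCard p K := sylow_card_eq_sylCard_of_le p P K hPK
  rw [card_sylow_quotient p P N, card_sylow_eq_relIndex p K P hPK hcard,
    relIndex_normalizer_frattini p K (normalizer (K : Set G)) P le_normalizer le_rfl hPK hcard,
    card_sylow_eq_index p P, mul_comm]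
  refine (relIndex_mul_index ?_).symm
  exact normalizer_le_normalizer_sup_normal _ N

/-- **(L2)** `n_p(G) = n_p(N) · n_p(N_G(P ∩ N))`. -/
theorem card_sylow_eq_normal_mul (P : Sylow p G) (N : Subgroup G) [N.Normal] :
    Nat.card (Sylow p G) = Nat.card (Sylow p N) *
      Nat.card (Sylow p (normalizer (((P : Subgroup G) ⊓ N : Subgroup G) : Set G))) := by
  set R : Subgroup G := (P : Subgroup G) ⊓ N with hR
  set X : Subgroup G := normalizer (R : Set G) with hX
  have hRN : R ≤ N := inf_le_right
  have hRcard : Nat.card R = sylCard p N := card_sylow_inf_normal p P N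
  have hPX : (P : Subgroup G) ≤ X :=
    le_normalizer.trans (normalizer_le_normalizer_inf_normal _ N)
  have hPcard : Nat.card (P : Subgroup G) = sylCard p X := sylow_card_eq_sylCard_of_le p P X hPX
  have hNP : normalizer ((P : Subgroup G) : Set G) ≤ X := normalizer_le_normalizer_inf_normal _ N
  rw [card_sylow_eq_relIndex p N R hRN hRcard,
    relIndex_normalizer_frattini p N ⊤ R le_top
      (fun g _ => le_normalizer_of_normal (H := N) (K := ⊤) trivial) hRN hRcard,
    relIndex_top_right, card_sylow_eq_relIndex p X P hPX hPcard, card_sylow_eq_index p P, mul_comm]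
  exact (relIndex_mul_index hNP).symm

/-- a `p`-group has exactly one Sylow `p`-subgroup -/
theorem card_sylow_of_isPGroup_subgroup (P : Sylow p G) :
    Nat.card (Sylow p (P : Subgroup G)) = 1 := by
  have h := card_sylow_eq_relIndex p (P : Subgroup G) (P : Subgroup G) le_rfl
    (sylow_card_eq_sylCard_of_le p P P le_rfl)
  rw [h, relIndex_eq_one]
  exact le_normalizer

/-- **(L1′)** factoring out a normal `p`-subgroup does not change the number of Sylow
`p`-subgroups. -/
theorem card_sylow_quotient_of_isPGroup (R : Subgroup G) [R.Normal] (hR : IsPGroup p R) :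
    Nat.card (Sylow p G) = Nat.card (Sylow p (G ⧸ R)) := by
  obtain ⟨P⟩ : Nonempty (Sylow p G) := inferInstance
  have hRP : R ≤ (P : Subgroup G) := by
    apply le_of_card_sylCard p R ⊤ P le_top
      (fun g _ => le_normalizer_of_normal (H := R) (K := ⊤) trivial) hR le_top
    exact sylow_card_eq_sylCard_of_le p P ⊤ le_top
  have h1 := card_sylow_eq_quotient_mul p P R
  have h2 : (P : Subgroup G) ⊔ R = P := sup_of_le_left hRP
  rw [h2, card_sylow_of_isPGroup_subgroup, mul_one] at h1
  exact h1

/-- **(3b)** `G = PN` with `N` a normal `p'`-subgroup: every prime-power part of `n_p(G)`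
is `≡ 1 (mod p)`. -/
theorem card_sylow_primePow_part_of_coprime (P : Sylow p G) (N : Subgroup G) [N.Normal]
    (hcop : ¬ p ∣ Nat.card N) (htop : (P : Subgroup G) ⊔ N = ⊤) (r : ℕ) (hr : r.Prime) :
    (r ^ (Nat.card (Sylow p G)).factorization r) % p = 1 := by
  have _hrf : Fact r.Prime := ⟨hr⟩
  set NP : Subgroup G := normalizer ((P : Subgroup G) : Set G) with hNP
  set m := Nat.card (Sylow p G) with hm
  -- m = |N : N ∩ N_G(P)|
  have hm1 : m = NP.relIndex N := by
    rw [hm, card_sylow_eq_index p P, ← relIndex_top_right]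
    symm
    apply relIndex_eq_of_forall_mul _ N ⊤ le_top
    intro g _
    have hg : g ∈ ((N ⊔ (P : Subgroup G) : Subgroup G) : Set G) := by
      rw [sup_comm, htop]; trivial
    rw [normal_mul] at hg
    obtain ⟨n, hn, x, hx, rfl⟩ := Set.mem_mul.1 hg
    exact ⟨n, hn, x, le_normalizer hx, rfl⟩
  set C : Subgroup G := N ⊓ NP with hC
  have hCN : C ≤ N := inf_le_left
  have hm2 : Nat.card C * m = Nat.card N := by
    rw [hm1, ← inf_relIndex_left (H := N) (K := NP)]
    exact card_mul_relIndex_eq hCN
  -- coprimality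
  have hcopPN : (Nat.card (P : Subgroup G)).Coprime (Nat.card N) := by
    obtain ⟨k, hk⟩ := IsPGroup.iff_card.1 P.2
    rw [hk]
    exact Nat.Coprime.pow_left _ ((Nat.Prime.coprime_iff_not_dvd hp.out).2 hcop)
  have hPN : (P : Subgroup G) ≤ normalizer (N : Set G) :=
    fun g _ => le_normalizer_of_normal (H := N) (K := ⊤) trivial
  have hCcent : ∀ c ∈ C, c ∈ centralizer ((P : Subgroup G) : Set G) := by
    intro c hc
    obtain ⟨hcN, hcNP⟩ := Subgroup.mem_inf.1 hc
    apply mem_centralizer_of_normalizes N P hPN hcopPN c hcN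
    intro a ha
    exact (mem_normalizer_iff.1 hcNP a).1 ha
  -- a Sylow r-subgroup of C
  obtain ⟨S₀⟩ : Nonempty (Sylow r C) := inferInstance
  set Q₀ : Subgroup G := (S₀ : Subgroup C).map C.subtype with hQ₀
  have hQ₀card : Nat.card Q₀ = sylCard r C := card_sylow_map r C S₀
  have hQ₀C : Q₀ ≤ C := by
    rintro x ⟨y, _, rfl⟩
    exact y.2
  have hQ₀r : IsPGroup r Q₀ := IsPGroup.of_card hQ₀card
  have hPQ₀ : (P : Subgroup G) ≤ normalizer (Q₀ : Set G) := by
    intro x hx
    rw [mem_normalizer_iff]
    have hcomm : ∀ q ∈ Q₀, x * q * x⁻¹ = q := by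
      intro q hq
      have := mem_centralizer_iff.1 (hCcent q (hQ₀C hq)) x hx
      rw [this, mul_inv_cancel_right]
    intro h
    constructor
    · intro hh
      rw [hcomm h hh]; exact hh
    · intro hh
      have h2 := hcomm _ hh
      have h3 : x * h * x⁻¹ = h := mul_left_cancel (mul_right_cancel h2)
      rw [← h3]; exact hh
  have hPsolv : Group.IsSolvable (P : Subgroup G) := by
    have _hnil := P.2.isNilpotent
    infer_instance
  obtain ⟨S, hSN, hScard, hQ₀S, hPS⟩ :=
    exists_invariant_sylow_ge P N hPN hcopPN (Or.inl hPsolv) r Q₀ (hQ₀C.trans hCN) hQ₀r hPQ₀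
  -- the group `Y = S P`
  set Y : Subgroup G := S ⊔ P with hY
  have hPY : (P : Subgroup G) ≤ Y := le_sup_right
  have hPcardY : Nat.card (P : Subgroup G) = sylCard p Y := sylow_card_eq_sylCard_of_le p P Y hPY
  have hnY : Nat.card (Sylow p Y) = NP.relIndex S := by
    rw [card_sylow_eq_relIndex p Y P hPY hPcardY]
    symm
    apply relIndex_eq_of_forall_mul _ S Y le_sup_left
    intro g hg
    have hg' : g ∈ ((S ⊔ (P : Subgroup G) : Subgroup G) : Set G) := hg
    rw [coe_mul_of_right_le_normalizer_left S P hPS] at hg'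
    obtain ⟨n, hn, x, hx, rfl⟩ := Set.mem_mul.1 hg'
    exact ⟨n, hn, x, le_normalizer hx, rfl⟩
  have hmod : Nat.card (Sylow p Y) ≡ 1 [MOD p] := card_sylow_modEq_one p Y
  -- |S ∩ N_G(P)| = |Q₀|
  have hSr : IsPGroup r S := IsPGroup.of_card hScard
  have hSC : S ⊓ NP = S ⊓ C := by
    rw [hC, ← inf_assoc, inf_of_le_left hSN]
  have hSCcard : Nat.card (S ⊓ NP : Subgroup G) = sylCard r C := by
    rw [hSC]
    apply Nat.dvd_antisymm
    · obtain ⟨k, hk⟩ := IsPGroup.iff_card.1 (hSr.to_le (inf_le_left : S ⊓ C ≤ S))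
      have h1 : Nat.card (S ⊓ C : Subgroup G) ∣ Nat.card C := Subgroup.card_dvd_of_le inf_le_right
      rw [hk] at h1 ⊢
      unfold sylCard
      exact pow_dvd_pow r ((hr.pow_dvd_iff_le_factorization Nat.card_pos.ne').1 h1)
    · rw [← hQ₀card]
      exact Subgroup.card_dvd_of_le (le_inf hQ₀S hQ₀C)
  have h5 : Nat.card (S ⊓ NP : Subgroup G) * NP.relIndex S = Nat.card S := by
    rw [← inf_relIndex_left (H := S) (K := NP)]
    exact card_mul_relIndex_eq inf_le_left
  rw [hSCcard, hScard] at h5
  -- factorization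
  have hCpos : Nat.card C ≠ 0 := Nat.card_pos.ne'
  have hmpos : m ≠ 0 := by
    intro h0
    rw [h0, mul_zero] at hm2
    exact Nat.card_pos.ne' hm2.symm
  have hfac : (Nat.card N).factorization r = (Nat.card C).factorization r + m.factorization r := by
    rw [← hm2, Nat.factorization_mul hCpos hmpos]; rfl
  unfold sylCard at h5
  rw [hfac, pow_add] at h5
  have h6 : NP.relIndex S = r ^ m.factorization r :=
    Nat.eq_of_mul_eq_mul_left (pow_pos hr.pos _) h5
  rw [← h6, ← hnY]
  have := Nat.mod_eq_of_modEq hmod hp.out.one_lt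
  exact this

end Cfsg.Agent.Helper71
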