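import Mathlib
import Cfsg.Agent.Lib.Helper48.BG36EndCtx
import Cfsg.Agent.Lib.Helper10.PSolvDual
import Cfsg.Agent.Lib.Helper52.CoprimeSylow
import Cfsg.Agent.Lib.Helper54.PConstrained
import Cfsg.Agent.Lib.Helper54.PSolv
import Cfsg.Agent.Lib.Helper76.SolvPSolv

/-!
# BG Theorem 3.6, endgame, step (E1)

`Q = O_{p'}(L)` is self-centralizing in `L` (dual Hall–Higman, as `O_p(L) = 1`), and there is an
`R`-invariant `p`-subgroup `P = [P, R] ≠ 1` of `L`.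
-/

set_option autoImplicit false
set_option linter.unusedSectionVars false

namespace Cfsg.Agent.Helper71.BG36

open Subgroup Cfsg Cfsg.Agent.Helper48.BG36

/-- `O_{p',p}(G)` is characteristic. -/
theorem pPrimePCore_char {G : Type*} [Group G] (p : ℕ) : (pPrimePCore p G).Characteristic := by
  have : (pPrimeCore p G).Normal := Cfsg.Agent.Helper54.pPrimeCore_normal' p
  rw [Subgroup.characteristic_iff_map_le]
  intro φ
  rintro _ ⟨x, hx, rfl⟩
  have hN : (pPrimeCore p G).map φ.toMonoidHom = pPrimeCore p G :=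
    Cfsg.Agent.Helper54.pPrimeCore_map_mulEquiv p φ
  let ψ : G ⧸ pPrimeCore p G ≃* G ⧸ pPrimeCore p G :=
    QuotientGroup.congr (pPrimeCore p G) (pPrimeCore p G) φ hN
  have hψ : (pCore p (G ⧸ pPrimeCore p G)).map ψ.toMonoidHom = pCore p (G ⧸ pPrimeCore p G) :=
    Cfsg.Agent.Helper54.pCore_map_mulEquiv p ψ
  have hx' : (QuotientGroup.mk' (pPrimeCore p G)) x ∈ pCore p (G ⧸ pPrimeCore p G) := hx
  show (QuotientGroup.mk' (pPrimeCore p G)) (φ x) ∈ pCore p (G ⧸ pPrimeCore p G)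
  rw [← hψ]
  exact ⟨_, hx', rfl⟩

/-- the `Q`-part: `Q = O_{p'}(L)` is normal in `Γ`, a `p'`-group, and `C_L(Q) ≤ Q`. -/
theorem exists_Q {Γ : Type*} [Group Γ] [Finite Γ] [Group.IsSolvable Γ] {p : ℕ} [Fact p.Prime]
    (L : Subgroup Γ) [L.Normal]
    (hop : ∀ N : Subgroup Γ, N ≤ L → IsPGroup p N → (∀ u ∈ L, ∀ n ∈ N, u * n * u⁻¹ ∈ N) → N = ⊥) :
    ((pPrimeCore p ↥L).map L.subtype).Normal ∧
    (Nat.card ((pPrimeCore p ↥L).map L.subtype)).Coprime p ∧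
    (∀ u ∈ L, (∀ q ∈ (pPrimeCore p ↥L).map L.subtype, u * q = q * u) →
      u ∈ (pPrimeCore p ↥L).map L.subtype) := by
  refine ⟨?_, ?_, ?_⟩
  · have : (pPrimeCore p ↥L).Characteristic := Cfsg.Agent.Helper54.pPrimeCore_characteristic p
    exact ConjAct.normal_of_characteristic_of_normal
  · rw [Subgroup.card_map_of_injective L.subtype_injective]
    exact Cfsg.Agent.Helper54.pPrimeCore_coprime p
  · intro u hu hcomm
    have hcore : pCore p ↥L = ⊥ := by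
      have hNn : (pCore p ↥L).Normal := Cfsg.pCore_normal p ↥L
      have h1 : (pCore p ↥L).map L.subtype = ⊥ := by
        apply hop
        · exact Subgroup.map_subtype_le _
        · exact Cfsg.Agent.Helper54.isPGroup_pCore.map _
        · rintro v hv _ ⟨m, hm, rfl⟩
          refine ⟨(⟨v, hv⟩ : ↥L) * m * (⟨v, hv⟩ : ↥L)⁻¹, hNn.conj_mem m hm _, ?_⟩
          simp
      exact (Subgroup.map_eq_bot_iff_of_injective _ L.subtype_injective).mp h1
    have hps : IsPSolvable p ↥L := Cfsg.Agent.Helper76.isPSolvable_of_isSolvable' p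
    have hcen := Cfsg.Agent.Helper10.centralizer_pPrimeCore_le_of_isPSolvable hps hcore
    have hmem : (⟨u, hu⟩ : ↥L) ∈ Subgroup.centralizer ((pPrimeCore p ↥L : Subgroup ↥L) : Set ↥L) := by
      rw [Subgroup.mem_centralizer_iff]
      intro m hm
      apply Subtype.ext
      have := hcomm (m : Γ) ⟨m, hm, rfl⟩
      simpa using this.symm
    exact ⟨⟨u, hu⟩, hcen hmem, rfl⟩

/-- the `P`-part: if `L = [L, R]` (coprime action) and `p ∣ |L|`, there is an `R`-invariant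
`p`-subgroup `P ≠ 1` of `L` with `P = [P, R]`. -/
theorem exists_P {Γ : Type*} [Group Γ] [Finite Γ] [Group.IsSolvable Γ] {p : ℕ} [Fact p.Prime]
    (L R : Subgroup Γ) [L.Normal] (hcop : (Nat.card L).Coprime (Nat.card R))
    (hcomm : L ≤ ⁅L, R⁆) (hpL : p ∣ Nat.card L) :
    ∃ P : Subgroup Γ, P ≤ L ∧ IsPGroup p P ∧ P ≠ ⊥ ∧ (∀ ρ ∈ R, ∀ x ∈ P, ρ * x * ρ⁻¹ ∈ P) ∧
      P ≤ ⁅P, R⁆ := by
  have hp : p.Prime := Fact.out
  have hOn : (pPrimeCore p ↥L).Normal := Cfsg.Agent.Helper54.pPrimeCore_normal' p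
  have hOc : (pPrimeCore p ↥L).Characteristic := Cfsg.Agent.Helper54.pPrimeCore_characteristic p
  have hMc : (pPrimePCore p ↥L).Characteristic := pPrimePCore_char p
  have hMn : (pPrimePCore p ↥L).Normal := Subgroup.normal_of_characteristic _
  have hQn : ((pPrimeCore p ↥L).map L.subtype).Normal := ConjAct.normal_of_characteristic_of_normal
  have hL1n : ((pPrimePCore p ↥L).map L.subtype).Normal :=
    ConjAct.normal_of_characteristic_of_normal
  have hL1L : (pPrimePCore p ↥L).map L.subtype ≤ L := Subgroup.map_subtype_le _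
  have hRL1 : R ≤ normalizer (((pPrimePCore p ↥L).map L.subtype : Subgroup Γ) : Set Γ) := by
    rw [Subgroup.normalizer_eq_top]; exact le_top
  have hcop1 : (Nat.card R).Coprime (Nat.card ((pPrimePCore p ↥L).map L.subtype : Subgroup Γ)) :=
    (Nat.Coprime.coprime_dvd_left (Subgroup.card_dvd_of_le hL1L) hcop).symm
  obtain ⟨Ph, hPhL1, hPhc, hRPh⟩ := Cfsg.Agent.Helper52.exists_invariant_sylow R
    ((pPrimePCore p ↥L).map L.subtype) hRL1 hcop1 (Or.inl inferInstance) p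
  have hPhL : Ph ≤ L := hPhL1.trans hL1L
  have hPhp : IsPGroup p Ph := IsPGroup.of_card hPhc
  have hcopPh : (Nat.card R).Coprime (Nat.card Ph) :=
    Nat.Coprime.coprime_dvd_right (Subgroup.card_dvd_of_le hPhL1) hcop1
  by_cases hc : ⁅Ph, R⁆ = ⊥
  · exfalso
    -- `R` centralizes `Ph`
    have hcent : ∀ ρ ∈ R, ∀ x ∈ Ph, ρ * x = x * ρ := by
      intro ρ hρ x hx
      have h1 := (Subgroup.commutator_eq_bot_iff_le_centralizer.mp hc) hx
      exact Subgroup.mem_centralizer_iff.mp h1 ρ hρ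
    -- the Sylow subgroup of `O_{p',p}(L)` inside `↥L`
    have hle : Ph.subgroupOf L ≤ pPrimePCore p ↥L := by
      intro y hy
      obtain ⟨m, hm, hmy⟩ := hPhL1 (Subgroup.mem_subgroupOf.mp hy)
      have : m = y := Subtype.ext hmy
      rwa [← this]
    have hcard : Nat.card (Ph.subgroupOf L) = Cfsg.Agent.Helper52.sylCard p (pPrimePCore p ↥L) := by
      rw [Nat.card_congr (Subgroup.subgroupOfEquivOfLe hPhL).toEquiv, hPhc]
      unfold Cfsg.Agent.Helper52.sylCard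
      rw [Subgroup.card_map_of_injective L.subtype_injective]
    obtain ⟨Ps, hPs⟩ := Cfsg.Agent.Helper52.exists_sylow_of_card p (pPrimePCore p ↥L)
      (Ph.subgroupOf L) hle hcard
    -- `p`-constraint
    have hcons : IsPConstrained p ↥L :=
      Cfsg.Agent.Helper54.isPConstrained_iff_isCharP_quotient.mpr
        (Cfsg.Agent.Helper54.centralizer_pCore_le p
          (Cfsg.Agent.Helper54.pPrimeCore_quotient_eq_bot p))
    have hC : ∀ x ∈ L, (∀ y ∈ Ph, x * y = y * x) → x ∈ (pPrimePCore p ↥L).map L.subtype := by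
      intro x hx hxy
      have h1 := hcons Ps
      rw [hPs] at h1
      have hmem : (⟨x, hx⟩ : ↥L) ∈
          Subgroup.centralizer ((Ph.subgroupOf L : Subgroup ↥L) : Set ↥L) := by
        rw [Subgroup.mem_centralizer_iff]
        intro y hy
        apply Subtype.ext
        have := hxy (y : Γ) (Subgroup.mem_subgroupOf.mp hy)
        simpa using this.symm
      exact ⟨⟨x, hx⟩, h1 hmem, rfl⟩
    -- Frattini
    have hF := Sylow.normalizer_sup_eq_top Ps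
    rw [hPs] at hF
    -- commutators `[n, ρ]` with `n ∈ N_L(Ph)` lie in `L1`
    have hstepf : ∀ n : ↥L, n ∈ normalizer ((Ph.subgroupOf L : Subgroup ↥L) : Set ↥L) →
        ∀ ρ ∈ R, (n : Γ) * ρ * (n : Γ)⁻¹ * ρ⁻¹ ∈ (pPrimePCore p ↥L).map L.subtype := by
      intro n hn ρ hρ
      apply hC
      · have h1 : ρ * (n : Γ)⁻¹ * ρ⁻¹ ∈ L := ‹L.Normal›.conj_mem _ (L.inv_mem n.2) ρ
        have h2 : (n : Γ) * ρ * (n : Γ)⁻¹ * ρ⁻¹ = (n : Γ) * (ρ * (n : Γ)⁻¹ * ρ⁻¹) := by group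
        rw [h2]; exact L.mul_mem n.2 h1
      · intro y hy
        have hninv : n⁻¹ ∈ normalizer ((Ph.subgroupOf L : Subgroup ↥L) : Set ↥L) :=
          Subgroup.inv_mem _ hn
        have hz : (n : Γ)⁻¹ * y * (n : Γ) ∈ Ph := by
          have h1 := (Subgroup.mem_normalizer_iff.mp hninv ⟨y, hPhL hy⟩).mp
            (Subgroup.mem_subgroupOf.mpr hy)
          have h2 := Subgroup.mem_subgroupOf.mp h1
          simpa using h2
        have e1 : ρ * y = y * ρ := hcent ρ hρ y hy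
        have e2 : ρ * ((n : Γ)⁻¹ * y * (n : Γ)) = ((n : Γ)⁻¹ * y * (n : Γ)) * ρ :=
          hcent ρ hρ _ hz
        have e3 : ρ⁻¹ * y = y * ρ⁻¹ := by
          calc ρ⁻¹ * y = ρ⁻¹ * (y * ρ) * ρ⁻¹ := by group
            _ = ρ⁻¹ * (ρ * y) * ρ⁻¹ := by rw [e1]
            _ = y * ρ⁻¹ := by group
        calc (n : Γ) * ρ * (n : Γ)⁻¹ * ρ⁻¹ * y
            = (n : Γ) * ρ * (n : Γ)⁻¹ * (ρ⁻¹ * y) := by group
          _ = (n : Γ) * ρ * (n : Γ)⁻¹ * (y * ρ⁻¹) := by rw [e3]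
          _ = (n : Γ) * (ρ * ((n : Γ)⁻¹ * y * (n : Γ))) * (n : Γ)⁻¹ * ρ⁻¹ := by group
          _ = (n : Γ) * (((n : Γ)⁻¹ * y * (n : Γ)) * ρ) * (n : Γ)⁻¹ * ρ⁻¹ := by rw [e2]
          _ = y * ((n : Γ) * ρ * (n : Γ)⁻¹ * ρ⁻¹) := by group
    -- `[L, R] ≤ L1`
    have hLR1 : ⁅L, R⁆ ≤ (pPrimePCore p ↥L).map L.subtype := by
      rw [Subgroup.commutator_le]
      intro l hl ρ hρ
      have hmem : (⟨l, hl⟩ : ↥L) ∈ normalizer ((Ph.subgroupOf L : Subgroup ↥L) : Set ↥L) ⊔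
          pPrimePCore p ↥L := by rw [hF]; exact Subgroup.mem_top _
      obtain ⟨n, hn, m, hm, hnm⟩ := Subgroup.mem_sup_of_normal_right.mp hmem
      have hl' : l = (n : Γ) * (m : Γ) := by
        have := congrArg Subtype.val hnm
        simpa using this.symm
      have hm1 : (m : Γ) ∈ (pPrimePCore p ↥L).map L.subtype := ⟨m, hm, rfl⟩
      have h1 : (m : Γ) * ρ * (m : Γ)⁻¹ * ρ⁻¹ ∈ (pPrimePCore p ↥L).map L.subtype := by
        have h2 : ρ * (m : Γ)⁻¹ * ρ⁻¹ ∈ (pPrimePCore p ↥L).map L.subtype :=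
          hL1n.conj_mem _ (Subgroup.inv_mem _ hm1) ρ
        have h3 : (m : Γ) * ρ * (m : Γ)⁻¹ * ρ⁻¹ = (m : Γ) * (ρ * (m : Γ)⁻¹ * ρ⁻¹) := by group
        rw [h3]; exact Subgroup.mul_mem _ hm1 h2
      have h4 := hL1n.conj_mem _ h1 (n : Γ)
      have h5 := hstepf n hn ρ hρ
      rw [commutatorElement_def, hl']
      have h6 : (n : Γ) * (m : Γ) * ρ * ((n : Γ) * (m : Γ))⁻¹ * ρ⁻¹ =
          ((n : Γ) * ((m : Γ) * ρ * (m : Γ)⁻¹ * ρ⁻¹) * (n : Γ)⁻¹) *
            ((n : Γ) * ρ * (n : Γ)⁻¹ * ρ⁻¹) := by group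
      rw [h6]
      exact Subgroup.mul_mem _ h4 h5
    have hLL1 : L ≤ (pPrimePCore p ↥L).map L.subtype := hcomm.trans hLR1
    -- `L1 = Ph Q`
    have hdec : ∀ l ∈ (pPrimePCore p ↥L).map L.subtype, ∃ x ∈ Ph,
        ∃ q ∈ (pPrimeCore p ↥L).map L.subtype, l = x * q := by
      rintro _ ⟨m, hm, rfl⟩
      have h1 := Cfsg.Agent.Helper54.map_sylow_pPrimePCore Ps
      rw [hPs] at h1
      have h2 : (QuotientGroup.mk' (pPrimeCore p ↥L)) m ∈ pCore p (↥L ⧸ pPrimeCore p ↥L) := hm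
      rw [← h1] at h2
      obtain ⟨x', hx', hx'm⟩ := h2
      have h3 : x'⁻¹ * m ∈ pPrimeCore p ↥L := by
        rw [← QuotientGroup.eq]
        exact hx'm
      refine ⟨(x' : Γ), Subgroup.mem_subgroupOf.mp hx', ((x'⁻¹ * m : ↥L) : Γ), ⟨_, h3, rfl⟩, ?_⟩
      simp
    -- `[L, R] ≤ Q`
    have hLRQ : ⁅L, R⁆ ≤ (pPrimeCore p ↥L).map L.subtype := by
      rw [Subgroup.commutator_le]
      intro l hl ρ hρ
      obtain ⟨x, hx, q, hq, rfl⟩ := hdec l (hLL1 hl)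
      have e1 : ρ * x = x * ρ := hcent ρ hρ x hx
      have h2 : ρ * q⁻¹ * ρ⁻¹ ∈ (pPrimeCore p ↥L).map L.subtype :=
        hQn.conj_mem _ (Subgroup.inv_mem _ hq) ρ
      have h3 : q * (ρ * q⁻¹ * ρ⁻¹) ∈ (pPrimeCore p ↥L).map L.subtype := Subgroup.mul_mem _ hq h2
      have h4 := hQn.conj_mem _ h3 x
      rw [commutatorElement_def]
      have h5 : x * q * ρ * (x * q)⁻¹ * ρ⁻¹ = x * (q * (ρ * q⁻¹ * ρ⁻¹)) * x⁻¹ := by
        calc x * q * ρ * (x * q)⁻¹ * ρ⁻¹ = x * q * ρ * q⁻¹ * (ρ⁻¹ * (ρ * x⁻¹)) * ρ⁻¹ := by group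
          _ = x * q * ρ * q⁻¹ * (ρ⁻¹ * (x⁻¹ * ρ)) * ρ⁻¹ := by
            have : ρ * x⁻¹ = x⁻¹ * ρ := by
              calc ρ * x⁻¹ = x⁻¹ * (x * ρ) * x⁻¹ := by group
                _ = x⁻¹ * (ρ * x) * x⁻¹ := by rw [e1]
                _ = x⁻¹ * ρ := by group
            rw [this]
          _ = x * (q * (ρ * q⁻¹ * ρ⁻¹)) * x⁻¹ := by group
      rw [h5]
      exact h4
    have hLQ : L ≤ (pPrimeCore p ↥L).map L.subtype := hcomm.trans hLRQ
    have hdvd : p ∣ Nat.card ((pPrimeCore p ↥L).map L.subtype : Subgroup Γ) :=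
      hpL.trans (Subgroup.card_dvd_of_le hLQ)
    rw [Subgroup.card_map_of_injective L.subtype_injective] at hdvd
    have hcopQ : (Nat.card (pPrimeCore p ↥L)).Coprime p := Cfsg.Agent.Helper54.pPrimeCore_coprime p
    have h1 : p ∣ Nat.gcd (Nat.card (pPrimeCore p ↥L)) p := Nat.dvd_gcd hdvd dvd_rfl
    rw [Nat.Coprime.gcd_eq_one hcopQ, Nat.dvd_one] at h1
    exact hp.one_lt.ne' h1
  · have hPPh : ⁅Ph, R⁆ ≤ Ph := Cfsg.Agent.Helper24.commutator_le_of_le_normalizer Ph R hRPh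
    refine ⟨⁅Ph, R⁆, hPPh.trans hPhL, hPhp.to_le hPPh, hc, ?_, ?_⟩
    · intro ρ hρ x hx
      have h1 : (⁅Ph, R⁆).map (MulAut.conj ρ).toMonoidHom = ⁅Ph, R⁆ := by
        rw [Subgroup.map_commutator,
          Cfsg.Agent.Helper52.map_conj_eq_of_mem_normalizer (hRPh hρ),
          Cfsg.Agent.Helper52.map_conj_eq_of_mem_normalizer (Subgroup.le_normalizer hρ)]
      rw [← h1]
      exact ⟨x, hx, by simp⟩
    · exact (Cfsg.Agent.Helper52.commutator_commutator_eq Ph R hRPh hcopPh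
        (Or.inl inferInstance)).ge

variable {Γ : Type*} [Group Γ] [Finite Γ] [Group.IsSolvable Γ]
  {p : ℕ} [Fact p.Prime] {W : Type*} [AddCommGroup W] [Module (ZMod p) W] [Finite W]

/-- (E1) structure: `Q = O_{p'}(L)` and an `R`-invariant `p`-subgroup `P = [P, R] ≠ 1`. -/
theorem E1 (φ : Γ →* Module.End (ZMod p) W) (L R : Subgroup Γ) [L.Normal] (a : Γ) {r : ℕ}
    (h : EndCtx φ L R a r) (hpL : p ∣ Nat.card L) :
    ∃ Q P : Subgroup Γ, Q.Normal ∧ Q ≤ L ∧ (Nat.card Q).Coprime p ∧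
      (∀ u ∈ L, (∀ q ∈ Q, u * q = q * u) → u ∈ Q) ∧
      P ≤ L ∧ IsPGroup p P ∧ P ≠ ⊥ ∧ (∀ ρ ∈ R, ∀ x ∈ P, ρ * x * ρ⁻¹ ∈ P) ∧ P ≤ ⁅P, R⁆ := by
  obtain ⟨hQn, hQc, hQC⟩ := exists_Q (p := p) L h.op
  obtain ⟨P, hPL, hPp, hP1, hRP, hPR⟩ := exists_P (p := p) L R h.conf.cop h.comm hpL
  exact ⟨(pPrimeCore p ↥L).map L.subtype, P, hQn, Subgroup.map_subtype_le _, hQc, hQC,
    hPL, hPp, hP1, hRP, hPR⟩

end Cfsg.Agent.Helper71.BG36
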