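import Mathlib
import Cfsg.Agent.Lib.Helper14.SPIDefs

/-!
# SPI lemma server (helper14, S5961): core of piece (PAIR) `pair_block`

The pieces (MASCHKE) and (ADJ) enter as hypotheses `hMas`, `hAdj`; (MINPRIME) is reproved here.
-/

set_option autoImplicit false

namespace Cfsg.Agent.Helper71.SPI

open Module Polynomial Cfsg.Agent.Helper14.SPI

section
variable {F V : Type*} [Field F] [AddCommGroup V] [Module F V]

theorem h71_pow_mem (x : V →ₗ[F] V) (Z : Submodule F V) (hZx : Z.map x ≤ Z) (n : ℕ) :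
    ∀ z ∈ Z, (x ^ n) z ∈ Z := by
  induction n with
  | zero => intro z hz; simpa using hz
  | succ n ih =>
    intro z hz
    rw [pow_succ, Module.End.mul_apply]
    exact ih _ (hZx (Submodule.mem_map_of_mem hz))

theorem h71_aeval_mem (x : V →ₗ[F] V) (Z : Submodule F V) (hZx : Z.map x ≤ Z) (g : F[X]) :
    ∀ z ∈ Z, aeval x g z ∈ Z := by
  induction g using Polynomial.induction_on' with
  | add p q hp hq =>
    intro z hz
    rw [map_add, LinearMap.add_apply]
    exact Z.add_mem (hp z hz) (hq z hz)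
  | monomial n a =>
    intro z hz
    rw [aeval_monomial, Module.End.mul_apply, Module.algebraMap_end_apply]
    exact Z.smul_mem a (h71_pow_mem x Z hZx n z hz)

theorem h71_aeval_comm (x : V →ₗ[F] V) (g : F[X]) (v : V) :
    aeval x g (x v) = x (aeval x g v) := by
  have h1 : aeval x (g * X) = aeval x g * x := by rw [map_mul, aeval_X]
  have h2 : aeval x (X * g) = x * aeval x g := by rw [map_mul, aeval_X]
  have h3 : aeval x g * x = x * aeval x g := by rw [← h1, ← h2, mul_comm]
  calc aeval x g (x v) = (aeval x g * x) v := (Module.End.mul_apply _ _ _).symm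
    _ = (x * aeval x g) v := by rw [h3]
    _ = x (aeval x g v) := Module.End.mul_apply _ _ _

/-- (MINPRIME), reproved. -/
theorem h71_prime_of_min (x : V →ₗ[F] V) (Y : Submodule F V) (hYx : Y.map x ≤ Y)
    (hmin : ∀ Z : Submodule F V, Z ≤ Y → Z.map x ≤ Z → Z = ⊥ ∨ Z = Y) :
    ∀ g : F[X], (∀ z ∈ Y, aeval x g z = 0) ∨ (∀ z ∈ Y, aeval x g z = 0 → z = 0) := by
  intro g
  have hKY : Y ⊓ LinearMap.ker (aeval x g) ≤ Y := inf_le_left
  have hKx : (Y ⊓ LinearMap.ker (aeval x g)).map x ≤ Y ⊓ LinearMap.ker (aeval x g) := by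
    rintro _ ⟨z, hz, rfl⟩
    have hz1 : z ∈ Y := hz.1
    have hz2 : aeval x g z = 0 := LinearMap.mem_ker.1 hz.2
    refine Submodule.mem_inf.2 ⟨hYx (Submodule.mem_map_of_mem hz1), ?_⟩
    rw [LinearMap.mem_ker, h71_aeval_comm, hz2, map_zero]
  rcases hmin _ hKY hKx with h | h
  · right
    intro z hz hz0
    have : z ∈ Y ⊓ LinearMap.ker (aeval x g) := Submodule.mem_inf.2 ⟨hz, LinearMap.mem_ker.2 hz0⟩
    rw [h] at this
    exact (Submodule.mem_bot F).1 this
  · left
    intro z hz
    have : z ∈ Y ⊓ LinearMap.ker (aeval x g) := by rw [h]; exact hz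
    exact LinearMap.mem_ker.1 (Submodule.mem_inf.1 this).2

theorem h71_pow_inj_on (T : V →ₗ[F] V) (Y : Submodule F V) (hTY : ∀ z ∈ Y, T z ∈ Y)
    (hinj : ∀ z ∈ Y, T z = 0 → z = 0) (n : ℕ) :
    (∀ z ∈ Y, (T ^ n) z ∈ Y) ∧ ∀ z ∈ Y, (T ^ n) z = 0 → z = 0 := by
  induction n with
  | zero =>
    refine ⟨fun z hz => by simpa using hz, fun z hz h => by simpa using h⟩
  | succ n ih =>
    refine ⟨fun z hz => ?_, fun z hz h => ?_⟩
    · rw [pow_succ, Module.End.mul_apply]
      exact ih.1 _ (hTY z hz)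
    · rw [pow_succ, Module.End.mul_apply] at h
      exact hinj z hz (ih.2 _ (hTY z hz) h)

theorem h71_pow_zero_on (T : V →ₗ[F] V) (Y : Submodule F V)
    (h0 : ∀ z ∈ Y, T z = 0) (s : ℕ) (hs : 0 < s) : ∀ z ∈ Y, (T ^ s) z = 0 := by
  intro z hz
  obtain ⟨k, rfl⟩ : ∃ k, s = k + 1 := ⟨s - 1, by omega⟩
  rw [pow_succ, Module.End.mul_apply, h0 z hz, map_zero]

/-- core of (PAIR): (MASCHKE) and (ADJ) are the hypotheses `hMas`, `hAdj`. -/
theorem h71_pair_core [FiniteDimensional F V] (B : LinearMap.BilinForm F V) (hB : B.IsAlt)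
    (x : V →ₗ[F] V) (hx : IsIsom B x) (r : ℕ) (hr1 : 1 ≤ r) (hxr : x ^ r = 1)
    (R : Submodule F V) (hRx : R.map x ≤ R) (hRnd : NondegOn B R)
    (Y : Submodule F V) (hYR : Y ≤ R) (hYx : Y.map x ≤ Y)
    (hmin : ∀ Z : Submodule F V, Z ≤ Y → Z.map x ≤ Z → Z = ⊥ ∨ Z = Y)
    (hiso : ∀ u ∈ Y, ∀ v ∈ Y, B u v = 0)
    (hMas : ∀ U : Submodule F V, U.map x ≤ U → U ≤ R →
      ∃ C : Submodule F V, C ≤ R ∧ C.map x ≤ C ∧ U ⊓ C = ⊥ ∧ U ⊔ C = R)
    (P : Prop)
    (hAdj : P → ∃ s : ℕ, 0 < s ∧
      ∀ (g : F[X]) (u w : V), B (((aeval x g) ^ s) u) w = B u (aeval x g w)) :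
    ∃ W : Submodule F V, W ≤ R ∧ Y ≤ W ∧ W.map x ≤ W ∧ NondegOn B W ∧
      finrank F W = 2 * finrank F Y ∧
      (P → ∀ g : F[X], (∀ z ∈ W, aeval x g z = 0) ∨ (∀ z ∈ W, aeval x g z = 0 → z = 0)) := by
  classical
  -- the inverse of `x`
  have hinv : ∀ v, x ((x ^ (r - 1)) v) = v := by
    intro v
    have h1 : x * x ^ (r - 1) = 1 := by
      rw [← pow_succ', Nat.sub_add_cancel hr1, hxr]
    calc x ((x ^ (r - 1)) v) = (x * x ^ (r - 1)) v := (Module.End.mul_apply _ _ _).symm
      _ = v := by rw [h1]; rfl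
  -- `B n (x m) = B (x⁻¹ n) m`
  have hadjx : ∀ n m, B n (x m) = B ((x ^ (r - 1)) n) m := by
    intro n m
    have := hx ((x ^ (r - 1)) n) m
    rw [hinv] at this
    exact this
  -- `U = R ⊓ Y^⊥`
  have hUR : R ⊓ B.orthogonal Y ≤ R := inf_le_left
  have hUx : (R ⊓ B.orthogonal Y).map x ≤ R ⊓ B.orthogonal Y := by
    rintro _ ⟨m, hm, rfl⟩
    have hm1 : m ∈ R := hm.1
    have hm2 : m ∈ B.orthogonal Y := hm.2
    refine Submodule.mem_inf.2 ⟨hRx (Submodule.mem_map_of_mem hm1), ?_⟩
    rw [LinearMap.BilinForm.mem_orthogonal_iff]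
    intro n hn
    rw [hadjx]
    exact (LinearMap.BilinForm.mem_orthogonal_iff.1 hm2) _ (h71_pow_mem x Y hYx (r - 1) n hn)
  obtain ⟨C, hCR, hCx, hUC, hsup⟩ := hMas _ hUx hUR
  -- (k1)
  have k1 : ∀ c ∈ C, (∀ n ∈ Y, B n c = 0) → c = 0 := by
    intro c hc h
    have : c ∈ (R ⊓ B.orthogonal Y) ⊓ C :=
      Submodule.mem_inf.2 ⟨Submodule.mem_inf.2 ⟨hCR hc, LinearMap.BilinForm.mem_orthogonal_iff.2 h⟩, hc⟩
    rw [hUC] at this
    exact (Submodule.mem_bot F).1 this
  -- (k2)
  have k2 : ∀ y ∈ Y, (∀ c ∈ C, B y c = 0) → y = 0 := by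
    have hY0Y : Y ⊓ B.orthogonal C ≤ Y := inf_le_left
    have hY0x : (Y ⊓ B.orthogonal C).map x ≤ Y ⊓ B.orthogonal C := by
      rintro _ ⟨y, hy, rfl⟩
      have hy1 : y ∈ Y := hy.1
      have hy2 : y ∈ B.orthogonal C := hy.2
      refine Submodule.mem_inf.2 ⟨hYx (Submodule.mem_map_of_mem hy1), ?_⟩
      rw [LinearMap.BilinForm.mem_orthogonal_iff]
      intro c hc
      rw [hadjx]
      exact (LinearMap.BilinForm.mem_orthogonal_iff.1 hy2) _ (h71_pow_mem x C hCx (r - 1) c hc)
    intro y hy h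
    have hyorth : y ∈ B.orthogonal C := by
      rw [LinearMap.BilinForm.mem_orthogonal_iff]
      intro c hc
      rw [← hB.neg_eq, h c hc, neg_zero]
    rcases hmin _ hY0Y hY0x with h0 | h0
    · have : y ∈ Y ⊓ B.orthogonal C := Submodule.mem_inf.2 ⟨hy, hyorth⟩
      rw [h0] at this
      exact (Submodule.mem_bot F).1 this
    · -- every element of `Y` is orthogonal to `R`
      by_contra hy0
      obtain ⟨v, hv, hBv⟩ := hRnd y (hYR hy) hy0
      apply hBv
      rw [← hsup] at hv
      obtain ⟨u, hu, c, hc, rfl⟩ := Submodule.mem_sup.1 hv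
      have hu2 : u ∈ B.orthogonal Y := (Submodule.mem_inf.1 hu).2
      rw [map_add, (LinearMap.BilinForm.mem_orthogonal_iff.1 hu2) y hy, h c hc, add_zero]
  have hYC : Y ⊓ C = ⊥ := by
    rw [eq_bot_iff, ← hUC]
    refine inf_le_inf_right C ?_
    intro y hy
    refine Submodule.mem_inf.2 ⟨hYR hy, ?_⟩
    rw [LinearMap.BilinForm.mem_orthogonal_iff]
    intro n hn
    exact hiso n hn y hy
  refine ⟨Y ⊔ C, sup_le hYR hCR, le_sup_left, ?_, ?_, ?_, ?_⟩
  · rw [Submodule.map_sup]
    exact sup_le_sup hYx hCx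
  · -- nondegenerate
    intro w hw hw0
    obtain ⟨y, hy, c, hc, rfl⟩ := Submodule.mem_sup.1 hw
    by_cases hc0 : c = 0
    · subst hc0
      rw [add_zero] at hw0 ⊢
      by_contra hall
      push Not at hall
      exact hw0 (k2 y hy (fun c hc => hall c (Submodule.mem_sup_right hc)))
    · by_contra hall
      push Not at hall
      apply hc0
      apply k1 c hc
      intro n hn
      have h1 := hall n (Submodule.mem_sup_left hn)
      rw [map_add, LinearMap.add_apply, hiso y hy n hn, zero_add] at h1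
      rw [← hB.neg_eq, h1, neg_zero]
  · -- dimension
    have hle1 : finrank F C ≤ finrank F Y := by
      have hinj : Function.Injective (B.flip.domRestrict₁₂ C Y) := by
        rw [injective_iff_map_eq_zero]
        intro c hc
        apply Subtype.ext
        apply k1 c.1 c.2
        intro n hn
        have := LinearMap.congr_fun hc ⟨n, hn⟩
        simpa [LinearMap.domRestrict₁₂_apply] using this
      have := LinearMap.finrank_le_finrank_of_injective hinj
      rwa [Subspace.dual_finrank_eq] at this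
    have hle2 : finrank F Y ≤ finrank F C := by
      have hinj : Function.Injective (B.domRestrict₁₂ Y C) := by
        rw [injective_iff_map_eq_zero]
        intro y hy
        apply Subtype.ext
        apply k2 y.1 y.2
        intro c hc
        have := LinearMap.congr_fun hy ⟨c, hc⟩
        simpa [LinearMap.domRestrict₁₂_apply] using this
      have := LinearMap.finrank_le_finrank_of_injective hinj
      rwa [Subspace.dual_finrank_eq] at this
    have h := Submodule.finrank_sup_add_finrank_inf_eq Y C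
    rw [hYC, finrank_bot] at h
    omega
  · -- the even case
    intro hP g
    obtain ⟨s, hs, hadj⟩ := hAdj hP
    have hTY := h71_aeval_mem x Y hYx g
    have hTC := h71_aeval_mem x C hCx g
    rcases h71_prime_of_min x Y hYx hmin g with h0 | hinj
    · left
      intro w hw
      obtain ⟨y, hy, c, hc, rfl⟩ := Submodule.mem_sup.1 hw
      have hTc : aeval x g c = 0 := by
        apply k1 _ (hTC c hc)
        intro n hn
        rw [← hadj g n c, h71_pow_zero_on (aeval x g) Y h0 s hs n hn, map_zero, LinearMap.zero_apply]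
      rw [map_add, h0 y hy, hTc, add_zero]
    · right
      intro w hw hTw
      obtain ⟨y, hy, c, hc, rfl⟩ := Submodule.mem_sup.1 hw
      rw [map_add] at hTw
      have hTy : aeval x g y = 0 := by
        have h1 : aeval x g y ∈ Y ⊓ C := by
          refine Submodule.mem_inf.2 ⟨hTY y hy, ?_⟩
          have : aeval x g y = -(aeval x g c) := eq_neg_of_add_eq_zero_left hTw
          rw [this]
          exact C.neg_mem (hTC c hc)
        rw [hYC] at h1
        exact (Submodule.mem_bot F).1 h1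
      have hy0 : y = 0 := hinj y hy hTy
      have hTc : aeval x g c = 0 := by rwa [hTy, zero_add] at hTw
      have hpow := h71_pow_inj_on (aeval x g) Y hTY hinj s
      -- `T^s` is onto `Y`
      have hsurj : Function.Surjective ((aeval x g ^ s).restrict hpow.1) := by
        apply LinearMap.injective_iff_surjective.1
        rw [injective_iff_map_eq_zero]
        intro z hz
        apply Subtype.ext
        apply hpow.2 z.1 z.2
        have := congrArg Subtype.val hz
        simpa using this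
      have hc0 : c = 0 := by
        apply k1 c hc
        intro n hn
        obtain ⟨y', hy'⟩ := hsurj ⟨n, hn⟩
        have h2 : (aeval x g ^ s) (y' : V) = n := by
          have := congrArg Subtype.val hy'
          simpa using this
        rw [← h2, hadj g _ c, hTc, map_zero]
      rw [hy0, hc0, add_zero]

end

end Cfsg.Agent.Helper71.SPI
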