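import Mathlib
import Cfsg.Agent.Lib.Helper14.SPIDefs
import Cfsg.Agent.Lib.Helper71.SPIPAIRCore
import Cfsg.Agent.Lib.Helper63.SPIMASCHKE
import Cfsg.Agent.Lib.Helper46.SPIADJ

/-!
# SPI lemma server (helper14, S5961): piece (PAIR) `pair_block`

`h71_pair_core` + (MASCHKE) by helper63 + (ADJ) by helper46.
-/

set_option autoImplicit false

namespace Cfsg.Agent.Helper71.SPI

open Module Polynomial Cfsg.Agent.Helper14.SPI

set_option linter.unusedVariables false in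
/-- (PAIR) a totally isotropic minimal invariant `Y ≤ R` lies in an invariant nondegenerate `W ≤ R`
of twice the dimension: `W = Y ⊔ C`, `C` an invariant complement (MASCHKE) of `R ⊓ Y^⊥` in `R`.
If `i` is even, every `g(x)` is zero or injective on `W` (by (ADJ) and (MINPRIME)). -/
theorem pair_block {F V : Type*} [Field F] [Fintype F] [AddCommGroup V] [Module F V]
    [FiniteDimensional F V] (B : LinearMap.BilinForm F V) (hB : B.IsAlt)
    (x : V →ₗ[F] V) (hx : IsIsom B x) (r : ℕ) [Fact r.Prime] (hr0 : (r : F) ≠ 0)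
    (hrq : ¬ r ∣ Fintype.card F) (hxr : x ^ r = 1)
    (R : Submodule F V) (hRx : R.map x ≤ R) (hRnd : NondegOn B R)
    (Y : Submodule F V) (hYR : Y ≤ R) (hYx : Y.map x ≤ Y)
    (hmin : ∀ Z : Submodule F V, Z ≤ Y → Z.map x ≤ Z → Z = ⊥ ∨ Z = Y)
    (hiso : ∀ u ∈ Y, ∀ v ∈ Y, B u v = 0) :
    ∃ W : Submodule F V, W ≤ R ∧ Y ≤ W ∧ W.map x ≤ W ∧ NondegOn B W ∧
      finrank F W = 2 * finrank F Y ∧
      (Even (orderOf ((Fintype.card F : ℕ) : ZMod r)) →
        ∀ g : F[X], (∀ z ∈ W, aeval x g z = 0) ∨ (∀ z ∈ W, aeval x g z = 0 → z = 0)) := by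
  have hr1 : 1 ≤ r := (Fact.out : r.Prime).one_lt.le
  exact h71_pair_core B hB x hx r hr1 hxr R hRx hRnd Y hYR hYx hmin hiso
    (fun U hUx hUR => Cfsg.Agent.Helper63.SPI.exists_inv_compl x r hr0 hxr R U hRx hUx hUR)
    (Even (orderOf ((Fintype.card F : ℕ) : ZMod r)))
    (fun hev => Cfsg.Agent.Helper46.SPI.adjoint_frob B x hx r hrq hxr hev)

end Cfsg.Agent.Helper71.SPI
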