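import Mathlib
import Cfsg.Agent.Lib.Helper14.TSPDefs

set_option autoImplicit false

/-!
# TSP (SYM) `kdi_of_right_one` for helper14's S5980 server
-/

namespace Cfsg.Agent.Helper71.TSP

open Matrix Module Polynomial
open scoped Kronecker
open Cfsg.Agent.Helper14.TSP Cfsg.Agent.Helper44.StarInv

universe u

variable {F : Type u} [Field F]

/-- swapping the two tensor factors -/
theorem kron_swap_mulVec {a b : ℕ} (A : Matrix (Fin a) (Fin a) F) (B : Matrix (Fin b) (Fin b) F)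
    (w : Fin a × Fin b → F) :
    (LinearEquiv.funCongrLeft F F (Equiv.prodComm (Fin b) (Fin a))) ((A ⊗ₖ B) *ᵥ w) =
      (B ⊗ₖ A) *ᵥ ((LinearEquiv.funCongrLeft F F (Equiv.prodComm (Fin b) (Fin a))) w) := by
  funext ⟨j, i⟩
  simp only [LinearEquiv.funCongrLeft_apply, LinearMap.funLeft_apply, Equiv.prodComm_apply,
    Prod.swap_prod_mk, Matrix.mulVec, dotProduct, Fintype.sum_prod_type, Matrix.kroneckerMap_apply]
  rw [Finset.sum_comm]
  apply Finset.sum_congr rfl
  intro j' _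
  apply Finset.sum_congr rfl
  intro i' _
  ring

/-- (SYM) -/
theorem kdi_of_right_one {ι : Type} [Fintype ι] [DecidableEq ι] {a b : ℕ} (x : Matrix ι ι F)
    (Ψ : (ι → F) ≃ₗ[F] (Fin a × Fin b → F)) (A : Matrix (Fin a) (Fin a) F)
    (hΨ : ∀ v, Ψ (x *ᵥ v) = (A ⊗ₖ (1 : Matrix (Fin b) (Fin b) F)) *ᵥ Ψ v) (f : F[X]) :
    kdi x f = b * kdi A f := by
  have h := kdi_of_left_scalar (a := b) (b := a) x
    (Ψ.trans (LinearEquiv.funCongrLeft F F (Equiv.prodComm (Fin b) (Fin a))))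
    (1 : Matrix (Fin b) (Fin b) F) A
    (by
      intro v
      rw [LinearEquiv.trans_apply, LinearEquiv.trans_apply, hΨ v, kron_swap_mulVec])
    (1 : F) (by rw [one_smul]) f
  rw [h, one_smul]

end Cfsg.Agent.Helper71.TSP
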