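import Mathlib
import Cfsg.Agent.Lib.Helper14.TSPDefs
import Cfsg.Agent.Lib.Helper14.TSPAdapted
import Cfsg.Agent.Lib.Helper96.SympInvol

set_option autoImplicit false

/-!
# TSP (B1) `adaptedMap_form` for helper14's S5980 server (+ the shared `adaptedMap` lemmas)
-/

namespace Cfsg.Agent.Helper71.TSP

open Matrix Module Polynomial
open scoped Kronecker
open Cfsg.Agent.Helper14.TSP Cfsg.Agent.Helper44.StarInv Cfsg.Agent.Helper14.TSPSigs

universe u

variable {F : Type u} [Field F]
variable {V : Type*} [AddCommGroup V] [Module F V]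

theorem adaptedMap_apply' {b : ℕ} (u v : Fin b → V) (Y : Fin 2 × Fin b → F) :
    adaptedMap u v Y = ∑ k, (Y (0, k) • u k + Y (1, k) • v k) := by
  exact adaptedMap_apply u v Y

theorem alt_sum_left (f : V → V → F) (hf : Cfsg.Agent.Helper96.SympInvol.AltForm f) {ι : Type*}
    (s : Finset ι) (g : ι → V) (w : V) : f (∑ i ∈ s, g i) w = ∑ i ∈ s, f (g i) w := by
  classical
  induction s using Finset.induction_on with
  | empty => simp [hf.zero_left]
  | insert a s ha ih => rw [Finset.sum_insert ha, Finset.sum_insert ha, hf.add_left, ih]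

theorem alt_sum_right (f : V → V → F) (hf : Cfsg.Agent.Helper96.SympInvol.AltForm f) {ι : Type*}
    (s : Finset ι) (g : ι → V) (w : V) : f w (∑ i ∈ s, g i) = ∑ i ∈ s, f w (g i) := by
  classical
  induction s using Finset.induction_on with
  | empty => simp [hf.zero_right]
  | insert a s ha ih => rw [Finset.sum_insert ha, Finset.sum_insert ha, hf.add_right, ih]

/-- (B1) -/
theorem adaptedMap_form (f : V → V → F) (hf : Cfsg.Agent.Helper96.SympInvol.AltForm f) {b : ℕ}
    (u v : Fin b → V) (κ : Fin b → F)
    (huu : ∀ k k', f (u k) (u k') = 0) (hvv : ∀ k k', f (v k) (v k') = 0)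
    (huv : ∀ k k', f (u k) (v k') = if k = k' then κ k else 0) (Y Y' : Fin 2 × Fin b → F) :
    f (adaptedMap u v Y) (adaptedMap u v Y') =
      ∑ k, κ k * (Y (0, k) * Y' (1, k) - Y (1, k) * Y' (0, k)) := by
  have hvu : ∀ k k', f (v k) (u k') = if k = k' then - κ k else 0 := by
    intro k k'
    rw [hf.swap, huv]
    by_cases h : k = k'
    · subst h; simp
    · have h' : ¬ k' = k := fun e => h e.symm
      simp [h, h']
  rw [adaptedMap_apply', adaptedMap_apply', alt_sum_left f hf]
  apply Finset.sum_congr rfl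
  intro k _
  rw [alt_sum_right f hf]
  have : ∀ k', f (Y (0, k) • u k + Y (1, k) • v k) (Y' (0, k') • u k' + Y' (1, k') • v k') =
      if k = k' then κ k * (Y (0, k) * Y' (1, k') - Y (1, k) * Y' (0, k')) else 0 := by
    intro k'
    rw [hf.add_left, hf.add_right, hf.add_right, hf.smul_left, hf.smul_left, hf.smul_left,
      hf.smul_left, hf.smul_right, hf.smul_right, hf.smul_right, hf.smul_right, huu, hvv, huv, hvu]
    by_cases h : k = k'
    · simp [h]; ring
    · simp [h]
  rw [Finset.sum_congr rfl (fun k' _ => this k'), Finset.sum_ite_eq]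
  simp

end Cfsg.Agent.Helper71.TSP
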