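import Mathlib
import Cfsg.Agent.Lib.Helper14.TSPDefs
import Cfsg.Agent.Lib.Helper14.TSPAdapted
import Cfsg.Agent.Lib.Helper96.SympInvol
import Cfsg.Agent.Lib.Helper71.TSPB1

set_option autoImplicit false

/-!
# TSP (B2) `adaptedMap_intertwine` for helper14's S5980 server
-/

namespace Cfsg.Agent.Helper71.TSP

open Matrix Module Polynomial
open scoped Kronecker
open Cfsg.Agent.Helper14.TSP Cfsg.Agent.Helper44.StarInv Cfsg.Agent.Helper14.TSPSigs

universe u

variable {F : Type u} [Field F]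
variable {V : Type*} [AddCommGroup V] [Module F V]

/-- (B2) -/
theorem adaptedMap_intertwine (x : V →ₗ[F] V) {b : ℕ} (u v : Fin b → V) (ε : Fin b → F)
    (A₀ : Matrix (Fin 2) (Fin 2) F)
    (hmode : ∀ k, x (u k) = ε k • (A₀ 0 0 • u k + A₀ 1 0 • v k) ∧
      x (v k) = ε k • (A₀ 0 1 • u k + A₀ 1 1 • v k)) (Y : Fin 2 × Fin b → F) :
    x (adaptedMap u v Y) = adaptedMap u v ((A₀ ⊗ₖ Matrix.diagonal ε) *ᵥ Y) := by
  have hentry : ∀ (i : Fin 2) (k : Fin b), ((A₀ ⊗ₖ Matrix.diagonal ε) *ᵥ Y) (i, k) =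
      ε k * (A₀ i 0 * Y (0, k) + A₀ i 1 * Y (1, k)) := by
    intro i k
    simp only [Matrix.mulVec, dotProduct, Fintype.sum_prod_type, Matrix.kroneckerMap_apply,
      Matrix.diagonal_apply, Fin.sum_univ_two]
    simp only [mul_ite, mul_zero, ite_mul, zero_mul, Finset.sum_ite_eq, Finset.mem_univ, if_true]
    ring
  rw [adaptedMap_apply', adaptedMap_apply', map_sum]
  apply Finset.sum_congr rfl
  intro k _
  rw [map_add, map_smul, map_smul, (hmode k).1, (hmode k).2, hentry, hentry]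
  simp only [smul_add, smul_smul]
  module

end Cfsg.Agent.Helper71.TSP
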