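import Mathlib
import Cfsg.Agent.Lib.Helper14.TSPDefs
import Cfsg.Agent.Lib.Helper14.TSPAdapted
import Cfsg.Agent.Lib.Helper96.SympInvol
import Cfsg.Agent.Lib.Helper71.TSPB1

set_option autoImplicit false

/-!
# TSP (B3) `adaptedMap_bijective` for helper14's S5980 server
-/

namespace Cfsg.Agent.Helper71.TSP

open Matrix Module Polynomial
open scoped Kronecker
open Cfsg.Agent.Helper14.TSP Cfsg.Agent.Helper44.StarInv Cfsg.Agent.Helper14.TSPSigs

universe u

variable {F : Type u} [Field F]
variable {V : Type*} [AddCommGroup V] [Module F V]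

/-- (B3) -/
theorem adaptedMap_bijective [FiniteDimensional F V] (f : V → V → F)
    (hf : Cfsg.Agent.Helper96.SympInvol.AltForm f) {b : ℕ} (hV : finrank F V = 2 * b)
    (u v : Fin b → V) (κ : Fin b → F) (hκ : ∀ k, κ k ≠ 0)
    (huu : ∀ k k', f (u k) (u k') = 0) (hvv : ∀ k k', f (v k) (v k') = 0)
    (huv : ∀ k k', f (u k) (v k') = if k = k' then κ k else 0) :
    Function.Bijective (adaptedMap (F := F) u v) := by
  classical
  have hinj : Function.Injective (adaptedMap (F := F) u v) := by
    rw [← LinearMap.ker_eq_bot, LinearMap.ker_eq_bot']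
    intro Y hY
    have key : ∀ Y' : Fin 2 × Fin b → F,
        ∑ k, κ k * (Y (0, k) * Y' (1, k) - Y (1, k) * Y' (0, k)) = 0 := by
      intro Y'
      rw [← adaptedMap_form f hf u v κ huu hvv huv Y Y', hY, hf.zero_left]
    funext ⟨i, k⟩
    fin_cases i
    · have h := key (Pi.single ((1 : Fin 2), k) 1)
      have h1 : ∀ k', κ k' * (Y (0, k') * (Pi.single ((1 : Fin 2), k) (1 : F) : Fin 2 × Fin b → F) (1, k') -
          Y (1, k') * (Pi.single ((1 : Fin 2), k) (1 : F) : Fin 2 × Fin b → F) (0, k')) =
          if k' = k then κ k * Y (0, k) else 0 := by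
        intro k'
        by_cases hk : k' = k
        · subst hk; simp
        · have : ((1 : Fin 2), k') ≠ ((1 : Fin 2), k) := fun e => hk (Prod.ext_iff.mp e).2
          simp [hk, this]
      rw [Finset.sum_congr rfl (fun k' _ => h1 k'), Finset.sum_ite_eq'] at h
      simp only [Finset.mem_univ, if_true] at h
      rcases mul_eq_zero.mp h with h | h
      · exact absurd h (hκ k)
      · simpa using h
    · have h := key (Pi.single ((0 : Fin 2), k) 1)
      have h1 : ∀ k', κ k' * (Y (0, k') * (Pi.single ((0 : Fin 2), k) (1 : F) : Fin 2 × Fin b → F) (1, k') -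
          Y (1, k') * (Pi.single ((0 : Fin 2), k) (1 : F) : Fin 2 × Fin b → F) (0, k')) =
          if k' = k then - (κ k * Y (1, k)) else 0 := by
        intro k'
        by_cases hk : k' = k
        · subst hk; simp
        · have : ((0 : Fin 2), k') ≠ ((0 : Fin 2), k) := fun e => hk (Prod.ext_iff.mp e).2
          simp [hk, this]
      rw [Finset.sum_congr rfl (fun k' _ => h1 k'), Finset.sum_ite_eq'] at h
      simp only [Finset.mem_univ, if_true, neg_eq_zero] at h
      rcases mul_eq_zero.mp h with h | h
      · exact absurd h (hκ k)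
      · simpa using h
  have hdim : finrank F (Fin 2 × Fin b → F) = finrank F V := by
    rw [hV, Module.finrank_fintype_fun_eq_card, Fintype.card_prod, Fintype.card_fin, Fintype.card_fin]
  exact ⟨hinj, (LinearMap.injective_iff_surjective_of_finrank_eq_finrank hdim).mp hinj⟩

end Cfsg.Agent.Helper71.TSP
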