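import Mathlib
import Cfsg.Agent.Lib.Helper14.TSPDefs

set_option autoImplicit false

/-!
# TSP (B4) `formOfGram_twist` for helper14's S5980 server
-/

namespace Cfsg.Agent.Helper71.TSP

open Matrix Module Polynomial
open scoped Kronecker
open Cfsg.Agent.Helper14.TSP Cfsg.Agent.Helper44.StarInv

universe u
variable {F : Type u} [Field F]

theorem formOfGram_id_eq {κ : Type} [Fintype κ] (G : Matrix κ κ F) (x y : κ → F) :
    Cfsg.Geo.formOfGram id G x y = x ⬝ᵥ (G *ᵥ y) := by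
  simp only [Cfsg.Geo.formOfGram, dotProduct, Matrix.mulVec, id, Finset.mul_sum, mul_assoc]

/-- (B4) -/
theorem formOfGram_twist {b : ℕ} (γ : F) (G₂ : Matrix (Fin b) (Fin b) F) (T : Matrix (Fin b) (Fin b) F)
    (δ : Fin b → F) (hT : Tᵀ * G₂ * T = Matrix.diagonal δ) (Y Y' : Fin 2 × Fin b → F) :
    Cfsg.Geo.formOfGram id ((!![0, γ; -γ, 0] : Matrix (Fin 2) (Fin 2) F) ⊗ₖ G₂)
      (((1 : Matrix (Fin 2) (Fin 2) F) ⊗ₖ T) *ᵥ Y) (((1 : Matrix (Fin 2) (Fin 2) F) ⊗ₖ T) *ᵥ Y') =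
    ∑ k, γ * δ k * (Y (0, k) * Y' (1, k) - Y (1, k) * Y' (0, k)) := by
  classical
  set J : Matrix (Fin 2) (Fin 2) F := !![0, γ; -γ, 0] with hJ
  set M : Matrix (Fin 2 × Fin b) (Fin 2 × Fin b) F := (1 : Matrix (Fin 2) (Fin 2) F) ⊗ₖ T with hM
  have hMt : Mᵀ * (J ⊗ₖ G₂) * M = J ⊗ₖ Matrix.diagonal δ := by
    rw [hM, ← Matrix.kroneckerMap_transpose, Matrix.transpose_one, ← Matrix.mul_kronecker_mul,
      ← Matrix.mul_kronecker_mul, Matrix.one_mul, Matrix.mul_one, hT]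
  rw [formOfGram_id_eq, Matrix.mulVec_mulVec]
  have h1 : (M *ᵥ Y) ⬝ᵥ ((J ⊗ₖ G₂ * M) *ᵥ Y') = Y ⬝ᵥ ((Mᵀ * (J ⊗ₖ G₂) * M) *ᵥ Y') := by
    rw [← Matrix.vecMul_transpose, ← Matrix.dotProduct_mulVec, Matrix.mulVec_mulVec, Matrix.mul_assoc]
  rw [h1, hMt]
  simp only [dotProduct, Matrix.mulVec, Fintype.sum_prod_type, Matrix.kroneckerMap_apply,
    Matrix.diagonal_apply, Fin.sum_univ_two, hJ]
  simp only [mul_ite, mul_zero, ite_mul, zero_mul, Finset.sum_ite_eq, Finset.mem_univ, if_true,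
    Matrix.of_apply, Matrix.cons_val', Matrix.cons_val_zero, Matrix.cons_val_one, Matrix.empty_val',
    Matrix.cons_val_fin_one]
  rw [← Finset.sum_add_distrib]
  apply Finset.sum_congr rfl
  intro k _
  simp
  ring

end Cfsg.Agent.Helper71.TSP
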