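import Mathlib
import Cfsg.Agent.Lib.Helper14.TSPDefs
import Cfsg.Agent.Lib.Helper96.SympInvol

set_option autoImplicit false

/-!
# TSP (PP) `pick_pos` for helper14's S5980 server
-/

namespace Cfsg.Agent.Helper71.TSP

open Matrix Module Polynomial
open scoped Kronecker
open Cfsg.Agent.Helper14.TSP Cfsg.Agent.Helper44.StarInv

universe u

variable {F : Type u} [Field F]
variable {V : Type*} [AddCommGroup V] [Module F V]

/-- the core of (PP): a common eigenvalue `ε = ±1` with eigenvectors `u, v ∈ C`, `f u v = κ`. -/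
theorem pick_pos_core (h2 : (2 : F) ≠ 0) (f : V → V → F)
    (hf : Cfsg.Agent.Helper96.SympInvol.AltForm f) (x : V →ₗ[F] V)
    (hxf : ∀ u w, f (x u) (x w) = f u w) (hx : ∀ v, x (x v) = v)
    (C : Submodule F V) (hC : ∀ u ∈ C, x u ∈ C) (hCnd : ∀ u ∈ C, u ≠ 0 → ∃ w ∈ C, f u w ≠ 0)
    (hC0 : C ≠ ⊥) (κ : F) :
    ∃ u ∈ C, ∃ v ∈ C, ∃ ε : F, ε ≠ 0 ∧ f u v = κ ∧ x u = ε • u ∧ x v = ε • v := by
  obtain ⟨c, hcC, hc0⟩ := (Submodule.ne_bot_iff C).mp hC0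
  -- an eigenvector
  have heig : ∃ u ∈ C, u ≠ 0 ∧ ∃ ε : F, ε * ε = 1 ∧ x u = ε • u := by
    by_cases hp : c + x c = 0
    · refine ⟨c - x c, C.sub_mem hcC (hC c hcC), ?_, -1, by ring, ?_⟩
      · intro hm
        apply hc0
        have h3 : (2 : F) • c = 0 := by
          have : (2 : F) • c = (c + x c) + (c - x c) := by rw [two_smul]; abel
          rw [this, hp, hm, add_zero]
        rcases smul_eq_zero.mp h3 with h | h
        · exact absurd h h2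
        · exact h
      · rw [map_sub, hx]; simp
    · refine ⟨c + x c, C.add_mem hcC (hC c hcC), hp, 1, by ring, ?_⟩
      rw [map_add, hx, one_smul, add_comm]
  obtain ⟨u, huC, hu0, ε, hε, hxu⟩ := heig
  obtain ⟨w, hwC, hfw⟩ := hCnd u huC hu0
  have hε0 : ε ≠ 0 := by
    intro h; rw [h] at hε; simp at hε
  have hfx : f u (x w) = ε * f u w := by
    have h1 := hxf u (x w)
    rw [hx, hxu, hf.smul_left] at h1
    exact h1.symm
  have hf2 : f u (w + ε • x w) = 2 * f u w := by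
    rw [hf.add_right, hf.smul_right, hfx, ← mul_assoc, hε]; ring
  have h2fw : 2 * f u w ≠ 0 := mul_ne_zero h2 hfw
  refine ⟨u, huC, (κ / (2 * f u w)) • (w + ε • x w),
    C.smul_mem _ (C.add_mem hwC (C.smul_mem _ (hC w hwC))), ε, hε0, ?_, hxu, ?_⟩
  · rw [hf.smul_right, hf2]
    field_simp
  · rw [map_smul, map_add, map_smul, hx]
    have h5 : ε • (κ / (2 * f u w)) • (w + ε • x w) =
        (κ / (2 * f u w)) • (ε • w + (ε * ε) • x w) := by
      rw [smul_comm, smul_add, smul_smul]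
    rw [h5, hε, one_smul, add_comm]

set_option linter.unusedVariables false in
/-- (PP) -/
theorem pick_pos (h2 : (2 : F) ≠ 0) (f : V → V → F)
    (hf : Cfsg.Agent.Helper96.SympInvol.AltForm f) (x : V →ₗ[F] V)
    (hxf : ∀ u w, f (x u) (x w) = f u w) (hx : ∀ v, x (x v) = v)
    (C : Submodule F V) (hC : ∀ u ∈ C, x u ∈ C) (hCnd : ∀ u ∈ C, u ≠ 0 → ∃ w ∈ C, f u w ≠ 0)
    (hC0 : C ≠ ⊥) (κ : F) (hκ : κ ≠ 0) :
    ∃ u ∈ C, ∃ v ∈ C, ∃ ε : F, ε ≠ 0 ∧ f u v = κ ∧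
      x u = ε • ((1 : Matrix (Fin 2) (Fin 2) F) 0 0 • u + (1 : Matrix (Fin 2) (Fin 2) F) 1 0 • v) ∧
      x v = ε • ((1 : Matrix (Fin 2) (Fin 2) F) 0 1 • u + (1 : Matrix (Fin 2) (Fin 2) F) 1 1 • v) := by
  obtain ⟨u, huC, v, hvC, ε, hε0, hfuv, hxu, hxv⟩ :=
    pick_pos_core h2 f hf x hxf hx C hC hCnd hC0 κ
  refine ⟨u, huC, v, hvC, ε, hε0, hfuv, ?_, ?_⟩
  · rw [hxu]; simp
  · rw [hxv]; simp

end Cfsg.Agent.Helper71.TSP
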