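import Mathlib
import Cfsg.Prelude.Def_OddOrder
import Cfsg.Prelude.Def_OddOrderLocal
import Cfsg.Agent.Lib.Helper84.GrpSylow
import Cfsg.Agent.Lib.Helper52.CoprimeHall
import Cfsg.Agent.Lib.Helper99.FrobFR

/-!
# (L8) CASE (F2) of helper54's proof of B-G 14.2, part (i): the pure HALL TRICK (helper71)

`hall_trick`: in a solvable group `c` with cyclic nontrivial Sylow `a`- and `b`-subgroups `Ua`, `Ub`
(`a ≠ b`), either some `c`-conjugate of `Ub` normalizes `Ω₁(Ua)`, or some `c`-conjugate of `Ua`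
normalizes `Ω₁(Ub)`.  (Take a Hall `{a,b}`-subgroup `F ≥ Ua` of `c` and a nontrivial normal
`r`-subgroup of `F`.)
-/

set_option autoImplicit false

namespace Cfsg.Agent.Helper71.BG142

open Subgroup Cfsg
open Cfsg.Agent.Helper84 (IsSylIn)

variable {G : Type*} [Group G]

/-- a `p`-subgroup normalized by `K` lies in every Sylow `p`-subgroup of `K` (light copy). -/
theorem normal_le_of_isSylIn {p : ℕ} [Fact p.Prime] {T N K : Subgroup G}
    [Finite K] (h : IsSylIn p T K) (hNK : N ≤ K) (hN : IsPGroup p N)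
    (hn : K ≤ Subgroup.normalizer (N : Set G)) : N ≤ T := by
  obtain ⟨k, hk, hle⟩ := h.exists_conj_ge hNK hN
  intro x hx
  have hx' : k * x * k⁻¹ ∈ N := (Subgroup.mem_normalizer_iff.mp (hn hk) x).mp hx
  obtain ⟨y, hy, hyx⟩ := hle hx'
  have h1 : k * y * k⁻¹ = k * x * k⁻¹ := by simpa [MulAut.conj_apply] using hyx
  have h2 : y = x := mul_left_cancel (mul_right_cancel h1)
  rw [← h2]; exact hy

/-- Hall `π`-subgroup of a solvable subgroup `M` over a given `r`-subgroup, `r ∈ π` (light copy of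
`Helper60.BG139.exists_hall_ge`). -/
theorem exists_hall_ge_pgroup [Finite G] {M T : Subgroup G} (hsol : Group.IsSolvable M) (π : Set ℕ)
    {r : ℕ} [hr' : Fact r.Prime] (hr : r ∈ π) (hT : IsPGroup r T) (hTM : T ≤ M) :
    ∃ K : Subgroup G, IsPiHallOf π K M ∧ T ≤ K := by
  have hM0 : Nat.card M ≠ 0 := Nat.card_pos.ne'
  obtain ⟨K₀, hK₀M, hK₀c⟩ := Cfsg.Agent.Helper52.hall_exists_internal M hsol
    (Cfsg.Agent.Helper52.piPart π (Nat.card M)) (Cfsg.Agent.Helper52.piPrimePart π (Nat.card M))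
    (Cfsg.Agent.Helper52.piPart_mul_piPrimePart π hM0).symm
    (Cfsg.Agent.Helper52.piPart_coprime π _)
  have hHall : IsPiHallOf π K₀ M :=
    (Cfsg.Agent.Helper52.isPiHallOf_iff_card π K₀ M).mpr ⟨hK₀M, hK₀c⟩
  obtain ⟨R, -, hR⟩ := Cfsg.Agent.Helper84.exists_isSylIn_ge (p := r) (H := (⊥ : Subgroup G))
    (K := K₀) bot_le (IsPGroup.of_bot)
  have hRM : IsSylIn r R M := by
    refine ⟨hR.1.trans hK₀M, hR.2.1, ?_⟩
    rw [← Subgroup.relIndex_mul_relIndex R K₀ M hR.1 hK₀M]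
    intro hd
    rcases (Nat.Prime.dvd_mul hr'.out).mp hd with h | h
    · exact hR.2.2 h
    · exact hHall.2.2 r hr'.out hr h
  obtain ⟨k, hk, hTk⟩ := hRM.exists_conj_ge hTM hT
  refine ⟨K₀.map (MulAut.conj k).toMonoidHom, ?_, hTk.trans (Subgroup.map_mono hR.1)⟩
  rw [Cfsg.Agent.Helper52.isPiHallOf_iff_card]
  refine ⟨?_, by rw [Cfsg.Agent.Helper84.card_map_conj, hK₀c]⟩
  have := Subgroup.map_mono (f := (MulAut.conj k).toMonoidHom) hK₀M
  rwa [Cfsg.Agent.Helper84.map_conj_eq_self_of_mem hk] at this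

/-- In a group `F` with a cyclic Sylow `p`-subgroup `U`, a nontrivial `p`-subgroup `R` normalized by
`F` forces `F` to normalize the subgroup `X` of order `p` of `U`. -/
theorem le_normalizer_of_cyclic_sylow [Finite G] {p : ℕ} [Fact p.Prime] {F U X R : Subgroup G}
    (hU : IsSylIn p U F) (hUcyc : IsCyclic U) (hX : X ≤ U) (hXc : Nat.card X = p)
    (hRF : R ≤ F) (hRn : F ≤ normalizer (R : Set G)) (hRp : IsPGroup p R) (hR1 : R ≠ ⊥) :
    F ≤ normalizer (X : Set G) := by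
  have hp : p.Prime := Fact.out
  have hRU : R ≤ U := normal_le_of_isSylIn hU hRF hRp hRn
  have hpowX : ∀ x ∈ X, x ^ p = 1 := by
    intro x hx
    have h1 : (⟨x, hx⟩ : X) ^ Nat.card X = 1 := pow_card_eq_one'
    rw [hXc] at h1
    exact congrArg Subtype.val h1
  -- X ≤ R
  have hXR : X ≤ R := by
    have hdvd : p ∣ Nat.card R := by
      obtain ⟨n, hn⟩ := IsPGroup.iff_card.mp hRp
      have hn0 : n ≠ 0 := by
        intro h0
        rw [h0, pow_zero] at hn
        exact hR1 (Subgroup.card_eq_one.mp hn)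
      rw [hn]
      exact dvd_pow_self p hn0
    obtain ⟨y, hy⟩ := exists_prime_orderOf_dvd_card' p hdvd
    have hyo : orderOf (y : G) = p := by rw [Subgroup.orderOf_coe, hy]
    have hyX : (y : G) ∈ X :=
      Cfsg.Agent.Helper99.FrobFR.mem_of_isCyclic_of_pow_eq_one hp U X hUcyc hXc hX (hRU y.2)
        (by rw [← hyo]; exact pow_orderOf_eq_one _)
    have hzX : Subgroup.zpowers (y : G) ≤ X := by
      rw [Subgroup.zpowers_le]; exact hyX
    have hzc : Nat.card (Subgroup.zpowers (y : G)) = p := by rw [Nat.card_zpowers, hyo]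
    have hzeq : Subgroup.zpowers (y : G) = X :=
      Subgroup.eq_of_le_of_card_ge hzX (by rw [hzc, hXc])
    rw [← hzeq, Subgroup.zpowers_le]
    exact y.2
  apply Cfsg.Agent.Helper99.FrobFR.le_normalizer_of_forall_conj_mem
  intro f hf x hx
  have h1 : f * x * f⁻¹ ∈ R := (Subgroup.mem_normalizer_iff.mp (hRn hf) x).mp (hXR hx)
  refine Cfsg.Agent.Helper99.FrobFR.mem_of_isCyclic_of_pow_eq_one hp U X hUcyc hXc hX (hRU h1) ?_
  rw [conj_pow, hpowX x hx, mul_one, mul_inv_cancel]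

/-- **The HALL TRICK** (pure). -/
theorem hall_trick [Finite G] (c : Subgroup G) (hc : Group.IsSolvable c)
    (a b : ℕ) [ha : Fact a.Prime] [hb : Fact b.Prime] (hab : a ≠ b)
    (Ua Ub Xa Xb : Subgroup G)
    (hUa : IsSylIn a Ua c) (hUb : IsSylIn b Ub c)
    (hUacyc : IsCyclic Ua) (hUbcyc : IsCyclic Ub)
    (hXa : Xa ≤ Ua) (hXb : Xb ≤ Ub) (hXac : Nat.card Xa = a) (hXbc : Nat.card Xb = b) :
    (∃ g ∈ c, Ub.map (MulAut.conj g).toMonoidHom ≤ normalizer (Xa : Set G)) ∨
    (∃ g ∈ c, Ua.map (MulAut.conj g).toMonoidHom ≤ normalizer (Xb : Set G)) := by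
  classical
  obtain ⟨F, hF, hUaF⟩ := exists_hall_ge_pgroup hc ({a, b} : Set ℕ) (r := a)
    (Set.mem_insert a {b}) hUa.2.1 hUa.1
  have hFc : F ≤ c := hF.1
  have hUaF' : IsSylIn a Ua F := hUa.of_le hUaF hFc
  -- a Sylow `b`-subgroup of `F` is a `c`-conjugate of `Ub`
  obtain ⟨Rb, -, hRb⟩ := Cfsg.Agent.Helper84.exists_isSylIn_ge (p := b) (H := (⊥ : Subgroup G))
    (K := F) bot_le (IsPGroup.of_bot)
  have hRbc : IsSylIn b Rb c := by
    refine ⟨hRb.1.trans hFc, hRb.2.1, ?_⟩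
    rw [← Subgroup.relIndex_mul_relIndex Rb F c hRb.1 hFc]
    intro hd
    rcases (Nat.Prime.dvd_mul hb.out).mp hd with h | h
    · exact hRb.2.2 h
    · exact hF.2.2 b hb.out (Set.mem_insert_of_mem a rfl) h
  obtain ⟨g, hg, hRbeq⟩ := hUb.exists_conj hRbc
  -- a nontrivial normal `r`-subgroup of `F`
  have hFsol : Group.IsSolvable F :=
    Group.isSolvable_of_isSolvable_injective (Subgroup.inclusion_injective hFc)
  have hXa1 : Xa ≠ ⊥ := by
    intro h
    rw [h, Subgroup.card_bot] at hXac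
    exact ha.out.one_lt.ne hXac
  have hFne : (⊤ : Subgroup F) ≠ ⊥ := by
    intro h
    apply hXa1
    rw [eq_bot_iff]
    intro x hx
    have hxF : x ∈ F := hUaF (hXa hx)
    have : (⟨x, hxF⟩ : F) ∈ (⊥ : Subgroup F) := h ▸ Subgroup.mem_top _
    rw [Subgroup.mem_bot] at this
    rw [Subgroup.mem_bot]
    exact congrArg Subtype.val this
  obtain ⟨r, hr, R, hRn, -, hR1, hRp⟩ :=
    Cfsg.Agent.Helper52.exists_normal_pgroup_le (G := F) ⊤ inferInstance hFne
  set R' : Subgroup G := R.map F.subtype with hR'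
  have hR'F : R' ≤ F := Subgroup.map_subtype_le _
  have hR'n : F ≤ normalizer (R' : Set G) := by
    apply Cfsg.Agent.Helper99.FrobFR.le_normalizer_of_forall_conj_mem
    rintro f hf _ ⟨y, hy, rfl⟩
    exact ⟨(⟨f, hf⟩ : F) * y * (⟨f, hf⟩ : F)⁻¹, hRn.conj_mem y hy _, by simp⟩
  have hR'p : IsPGroup r R' := hRp.map _
  have hR'1 : R' ≠ ⊥ := by
    intro h
    apply hR1
    rw [eq_bot_iff]
    intro y hy
    have : (y : G) ∈ R' := ⟨y, hy, rfl⟩
    rw [h, Subgroup.mem_bot] at this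
    rw [Subgroup.mem_bot]
    exact Subtype.ext this
  -- `r ∈ {a, b}`
  have hrdvd : r ∣ Nat.card F := by
    have : Fact r.Prime := ⟨hr⟩
    obtain ⟨n, hn⟩ := IsPGroup.iff_card.mp hR'p
    have hn0 : n ≠ 0 := by
      intro h0
      rw [h0, pow_zero] at hn
      exact hR'1 (Subgroup.card_eq_one.mp hn)
    have h1 : r ∣ Nat.card R' := by rw [hn]; exact dvd_pow_self r hn0
    exact h1.trans (Subgroup.card_dvd_of_le hR'F)
  have hrab : r = a ∨ r = b := by
    have := hF.2.1 r hr hrdvd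
    simpa using this
  rcases hrab with rfl | rfl
  · left
    refine ⟨g, hg, ?_⟩
    have h1 : F ≤ normalizer (Xa : Set G) :=
      le_normalizer_of_cyclic_sylow hUaF' hUacyc hXa hXac hR'F hR'n hR'p hR'1
    rw [← hRbeq]
    exact hRb.1.trans h1
  · right
    refine ⟨g⁻¹, c.inv_mem hg, ?_⟩
    have hRbcyc : IsCyclic Rb := by
      rw [hRbeq]
      have e : Ub ≃* Ub.map (MulAut.conj g).toMonoidHom :=
        Ub.equivMapOfInjective _ (MulAut.conj g).injective
      exact isCyclic_of_surjective e e.surjective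
    have hXg : Xb.map (MulAut.conj g).toMonoidHom ≤ Rb := by
      rw [hRbeq]; exact Subgroup.map_mono hXb
    have hXgc : Nat.card (Xb.map (MulAut.conj g).toMonoidHom) = r := by
      rw [Cfsg.Agent.Helper84.card_map_conj, hXbc]
    have h1 : F ≤ normalizer ((Xb.map (MulAut.conj g).toMonoidHom : Subgroup G) : Set G) :=
      le_normalizer_of_cyclic_sylow hRb hRbcyc hXg hXgc hR'F hR'n hR'p hR'1
    rintro _ ⟨u, hu, rfl⟩
    have h2 := h1 (hUaF hu)
    rw [← Subgroup.map_equiv_normalizer_eq] at h2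
    obtain ⟨n, hn, hnu⟩ := h2
    have : n = g⁻¹ * u * g := by
      have h3 : g * n * g⁻¹ = u := by simpa [MulAut.conj_apply] using hnu
      rw [← h3]; group
    simp only [MulEquiv.coe_toMonoidHom, MulAut.conj_apply, inv_inv]
    rw [← this]
    exact hn

end Cfsg.Agent.Helper71.BG142
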