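import Mathlib
import Cfsg.Prelude.Def_OddOrder
import Cfsg.Prelude.Def_OddOrderLocal
import Cfsg.Agent.Lib.Helper71.BG142F2a
import Cfsg.Agent.Lib.Helper52.CoprimeSylow
import Cfsg.Agent.Lib.Helper55.BGBasic
import Cfsg.Agent.Lib.Helper34.BG10d

/-!
# (L8) CASE (F2) of helper54's proof of B-G 14.2, part (ii): the SIDE lemma (helper71)

For a maximal subgroup `M`, a subgroup `Z ≤ M` of prime order `t ∉ α(M)` with `N_G(Z) ≰ M`, and an
abelian `k`-subgroup `K ≤ M` (`k ∉ β(M)`, `k ≠ t`) normalized by `Z` with `C_K(Z) = 1` which does not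
centralize `M_β = O_{β(M)}(M)`: there are `a ∈ β(M)`, a `KZ`-invariant Sylow `a`-subgroup `T` of `M_β`
such that `U := C_T(Z)` is cyclic, is a Sylow `a`-subgroup of `C_G(Z)`, is not centralized by `K`, and
its subgroup `X` of order `a` has `N_G(X) ≤ M`.

Hypothesis-parametrised: the frozen rows S1406, S1414 (first conjunct), S1423 (β-case) for `M` and
`α(M) ⊆ σ(M)` are explicit hypotheses.
-/

set_option autoImplicit false

namespace Cfsg.Agent.Helper71.BG142

open Subgroup Cfsg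
open Cfsg.Agent.Helper84 (IsSylIn)
open Cfsg.Agent.Helper52 (sylCard)

variable {G : Type*} [Group G]

theorem card_of_isSylIn [Finite G] {p : ℕ} [Fact p.Prime] {T N : Subgroup G} (h : IsSylIn p T N) :
    Nat.card T = sylCard p N := by
  obtain ⟨R, hR⟩ := h.exists_sylow
  have := Cfsg.Agent.Helper52.card_sylow_map p N R
  rwa [hR, Subgroup.map_subgroupOf_eq_of_le h.1] at this

theorem isSylIn_of_card [Finite G] {p : ℕ} [Fact p.Prime] {T N : Subgroup G} (hTN : T ≤ N)
    (hc : Nat.card T = sylCard p N) : IsSylIn p T N := by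
  obtain ⟨P, hP⟩ := Cfsg.Agent.Helper52.exists_sylow_of_card p N T hTN hc
  apply Cfsg.Agent.Helper84.isSylIn_of_sylow hTN
  refine ⟨P, ?_⟩
  ext x
  rw [Subgroup.mem_subgroupOf, ← hP]
  constructor
  · intro hx; exact ⟨x, hx, rfl⟩
  · rintro ⟨y, hy, hyx⟩
    have : y = x := Subtype.ext hyx
    rwa [← this]

/-- a `p`-subgroup of `M` lies in a normal subgroup `N` of `M` of index prime to `p`. -/
theorem pgroup_le_normal_hall [Finite G] {M N P : Subgroup G} {a : ℕ} [ha : Fact a.Prime]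
    (hNM : N ≤ M) (hMN : M ≤ normalizer (N : Set G)) (hidx : ¬ a ∣ N.relIndex M)
    (hPM : P ≤ M) (hP : IsPGroup a P) : P ≤ N := by
  obtain ⟨T, -, hT⟩ := Cfsg.Agent.Helper84.exists_isSylIn_ge (p := a) (H := (⊥ : Subgroup G))
    (K := N) bot_le IsPGroup.of_bot
  have hTM : IsSylIn a T M := by
    refine ⟨hT.1.trans hNM, hT.2.1, ?_⟩
    rw [← Subgroup.relIndex_mul_relIndex T N M hT.1 hNM]
    intro hd
    rcases (Nat.Prime.dvd_mul ha.out).mp hd with h | h
    · exact hT.2.2 h
    · exact hidx h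
  obtain ⟨m, hm, hPm⟩ := hTM.exists_conj_ge hPM hP
  refine hPm.trans ?_
  have h1 := Subgroup.map_mono (f := (MulAut.conj m).toMonoidHom) hT.1
  rwa [Cfsg.Agent.Helper52.map_conj_eq_of_mem_normalizer (hMN hm)] at h1

/-- **Coprime action**: if `T` is an `A`-invariant Sylow `p`-subgroup of `N` then `C_T(A)` is a Sylow
`p`-subgroup of `C_N(A)`. -/
theorem isSylIn_inf_centralizer [Finite G] (A N T : Subgroup G) (hAN : A ≤ normalizer (N : Set G))
    (hcop : (Nat.card A).Coprime (Nat.card N)) (hsolv : Group.IsSolvable A ∨ Group.IsSolvable N)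
    (p : ℕ) [Fact p.Prime] (hT : IsSylIn p T N) (hAT : A ≤ normalizer (T : Set G)) :
    IsSylIn p (T ⊓ centralizer (A : Set G)) (N ⊓ centralizer (A : Set G)) := by
  have hle : T ⊓ centralizer (A : Set G) ≤ N ⊓ centralizer (A : Set G) := inf_le_inf_right _ hT.1
  have hpg : IsPGroup p (T ⊓ centralizer (A : Set G) : Subgroup G) := hT.2.1.to_inf_left
  obtain ⟨P, hP1, hP⟩ := Cfsg.Agent.Helper84.exists_isSylIn_ge hle hpg
  refine hP.of_card_ge hle hpg ?_
  have hPN : P ≤ N := hP.1.trans inf_le_left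
  have hPA : P ≤ centralizer (A : Set G) := hP.1.trans inf_le_right
  have hAP : A ≤ normalizer (P : Set G) := by
    apply Cfsg.Agent.Helper99.FrobFR.le_normalizer_of_forall_conj_mem
    intro x hx y hy
    have h1 : x * y = y * x := (mem_centralizer_iff.mp (hPA hy)) x hx
    rw [h1, mul_inv_cancel_right]
    exact hy
  obtain ⟨Q, hQN, hQc, hPQ, hAQ⟩ :=
    Cfsg.Agent.Helper52.exists_invariant_sylow_ge A N hAN hcop hsolv p P hPN hP.2.1 hAP
  obtain ⟨c, hc, hQeq⟩ := Cfsg.Agent.Helper52.exists_centralizer_conj_of_invariant A N hAN hcop hsolv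
    p T Q hT.1 hQN (card_of_isSylIn hT) hQc hAT hAQ
  have hcA : c ∈ centralizer (A : Set G) := (mem_inf.mp hc).2
  have hmap : P.map (MulAut.conj c⁻¹).toMonoidHom ≤ T ⊓ centralizer (A : Set G) := by
    rintro _ ⟨x, hx, rfl⟩
    have hxQ : x ∈ T.map (MulAut.conj c).toMonoidHom := hQeq ▸ hPQ hx
    rw [Cfsg.Agent.Helper52.mem_map_conj] at hxQ
    refine mem_inf.mpr ⟨?_, ?_⟩
    · simpa [MulAut.conj_apply] using hxQ
    · have h1 : c⁻¹ ∈ centralizer (A : Set G) := Subgroup.inv_mem _ hcA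
      have h2 := Subgroup.mul_mem _ (Subgroup.mul_mem _ h1 (hPA hx)) hcA
      simpa [MulAut.conj_apply] using h2
  calc Nat.card P = Nat.card (P.map (MulAut.conj c⁻¹).toMonoidHom) :=
        (Cfsg.Agent.Helper84.card_map_conj P c⁻¹).symm
    _ ≤ _ := Subgroup.card_le_of_le hmap

/-- if `A` acts coprimely on `N` and `K` does not centralize `N`, some `A`-invariant Sylow subgroup
of `N` is not centralized by `K`. -/
theorem exists_noncentral_invariant_sylow [Finite G] (A N K : Subgroup G)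
    (hAN : A ≤ normalizer (N : Set G))
    (hcop : (Nat.card A).Coprime (Nat.card N)) (hsolv : Group.IsSolvable A ∨ Group.IsSolvable N)
    (hK : ¬ N ≤ centralizer (K : Set G)) :
    ∃ (a : ℕ) (_ : Fact a.Prime) (T : Subgroup G), a ∣ Nat.card N ∧ IsSylIn a T N ∧
      A ≤ normalizer (T : Set G) ∧ ¬ T ≤ centralizer (K : Set G) := by
  set C := N ⊓ centralizer (K : Set G) with hC
  have hCN : C ≤ N := inf_le_left
  have hidx : C.relIndex N ≠ 1 := by
    intro h
    apply hK
    have : N ≤ C := Subgroup.relIndex_eq_one.mp h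
    exact this.trans inf_le_right
  obtain ⟨a, ha, hadvd⟩ := Nat.exists_prime_and_dvd hidx
  have haF : Fact a.Prime := ⟨ha⟩
  obtain ⟨T, hTN, hTc, hAT⟩ := Cfsg.Agent.Helper52.exists_invariant_sylow A N hAN hcop hsolv a
  have hT : IsSylIn a T N := isSylIn_of_card hTN hTc
  refine ⟨a, haF, T, ?_, hT, hAT, ?_⟩
  · exact hadvd.trans (Subgroup.relIndex_dvd_card _ _)
  · intro hTK
    have hTC : T ≤ C := le_inf hTN hTK
    apply hT.2.2
    rw [← Subgroup.relIndex_mul_relIndex T C N hTC hCN]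
    exact Dvd.dvd.mul_left hadvd _

/-- an abelian group `K` on which `x` acts without fixed points consists of commutators with `x`. -/
theorem exists_comm_eq_of_fpf {K : Subgroup G} [Finite K] {x : G}
    (hxK : x ∈ normalizer (K : Set G)) (hKab : ∀ u ∈ K, ∀ v ∈ K, u * v = v * u)
    (hfix : ∀ u ∈ K, x * u = u * x → u = 1) :
    ∀ u ∈ K, ∃ v ∈ K, u = x * v * x⁻¹ * v⁻¹ := by
  have hconj : ∀ u ∈ K, x * u * x⁻¹ ∈ K := fun u hu => (mem_normalizer_iff.mp hxK u).mp hu
  let f : K → K := fun u => ⟨x * u * x⁻¹ * (u : G)⁻¹, K.mul_mem (hconj u u.2) (K.inv_mem u.2)⟩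
  have hf : Function.Injective f := by
    intro u v huv
    have h1 : x * u * x⁻¹ * (u : G)⁻¹ = x * v * x⁻¹ * (v : G)⁻¹ := congrArg Subtype.val huv
    -- w := v⁻¹ u is fixed by x
    have hw : ((v : G)⁻¹ * u) ∈ K := K.mul_mem (K.inv_mem v.2) u.2
    have h2 : x * ((v : G)⁻¹ * u) = ((v : G)⁻¹ * u) * x := by
      -- x u x⁻¹ u⁻¹ = x v x⁻¹ v⁻¹, all in the abelian K
      have ha := hKab _ (hconj v v.2) _ (K.inv_mem v.2)
      have hb := hKab _ (hconj u u.2) _ (K.inv_mem v.2)
      have hc : (x * v * x⁻¹)⁻¹ * (x * u * x⁻¹) = (v : G)⁻¹ * u := by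
        have h3 : x * u * x⁻¹ = x * v * x⁻¹ * (v : G)⁻¹ * u := by
          rw [← h1]; group
        rw [h3]
        have h4 : x * v * x⁻¹ * (v : G)⁻¹ * u = (x * v * x⁻¹) * ((v : G)⁻¹ * u) := by group
        rw [h4, inv_mul_cancel_left]
      have hd : (x * v * x⁻¹)⁻¹ * (x * u * x⁻¹) = x * ((v : G)⁻¹ * u) * x⁻¹ := by group
      rw [hd] at hc
      calc x * ((v : G)⁻¹ * u) = (x * ((v : G)⁻¹ * u) * x⁻¹) * x := by group
        _ = ((v : G)⁻¹ * u) * x := by rw [hc]
    have h3 := hfix _ hw h2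
    apply Subtype.ext
    have : (u : G) = v * ((v : G)⁻¹ * u) := by group
    rw [this, h3, mul_one]
  have hsurj : Function.Surjective f := Finite.surjective_of_injective hf
  intro u hu
  obtain ⟨v, hv⟩ := hsurj ⟨u, hu⟩
  exact ⟨v, v.2, (congrArg Subtype.val hv).symm⟩

/-- `PRankLE` passes to the source of an injective homomorphism. -/
theorem pRankLE_of_injective {p k : ℕ} {H H' : Type*} [Group H] [Group H'] (f : H →* H')
    (hf : Function.Injective f) (h : PRankLE p k H') : PRankLE p k H := by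
  intro A hA1 hA2
  have h1 := h (A.map f) ?_ ?_
  · rwa [card_map_of_injective hf] at h1
  · refine ⟨⟨fun x y => ?_⟩⟩
    obtain ⟨x₀, hx₀, hx⟩ := mem_map.mp x.2
    obtain ⟨y₀, hy₀, hy⟩ := mem_map.mp y.2
    apply Subtype.ext
    have h1 := hA1.is_comm.comm ⟨x₀, hx₀⟩ ⟨y₀, hy₀⟩
    have h2 := congrArg (fun t : ↥A => f (t : H)) h1
    simp only [Subgroup.coe_mul, map_mul] at h2 ⊢
    rw [← hx, ← hy]
    exact h2
  · intro a ha
    obtain ⟨a₀, ha₀, rfl⟩ := mem_map.mp ha
    rw [← map_pow, hA2 a₀ ha₀, map_one]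

/-- normalizers grow in `q`-groups (light copy of `Helper54.card_lt_card_normalizer_inf`). -/
theorem card_lt_card_normalizer_inf' [Finite G] {q : ℕ} [Fact q.Prime] (D P : Subgroup G)
    (hP : IsPGroup q P) (hDP : D ≤ P) (hne' : D ≠ P) :
    Nat.card D < Nat.card (normalizer (D : Set G) ⊓ P : Subgroup G) := by
  have h1 : (D.subgroupOf P) < ⊤ := by
    rw [lt_top_iff_ne_top]
    intro h
    rw [subgroupOf_eq_top] at h
    exact hne' (le_antisymm hDP h)
  have hPfin : Finite P := inferInstance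
  have hnil : Group.IsNilpotent P := hP.isNilpotent
  have h2 := Group.normalizerCondition_of_isNilpotent (G := P) (D.subgroupOf P) h1
  have h3 : Nat.card (D.subgroupOf P) <
      Nat.card (normalizer ((D.subgroupOf P : Subgroup P) : Set P)) := by
    by_contra hge
    rw [not_lt] at hge
    exact (ne_of_lt h2) (Subgroup.eq_of_le_of_card_ge le_normalizer hge)
  have h4 : Nat.card (D.subgroupOf P) = Nat.card D :=
    Nat.card_congr (subgroupOfEquivOfLe hDP).toEquiv
  have h5 : Nat.card (normalizer ((D.subgroupOf P : Subgroup P) : Set P)) ≤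
      Nat.card (normalizer (D : Set G) ⊓ P : Subgroup G) := by
    have hmap : (normalizer ((D.subgroupOf P : Subgroup P) : Set P)).map P.subtype ≤
        normalizer (D : Set G) ⊓ P := by
      rintro _ ⟨x, hx, rfl⟩
      refine mem_inf.mpr ⟨?_, x.2⟩
      have := Subgroup.subgroupOf_normalizer_eq hDP
      rw [← this] at hx
      exact mem_subgroupOf.mp hx
    calc Nat.card (normalizer ((D.subgroupOf P : Subgroup P) : Set P))
        = Nat.card ((normalizer ((D.subgroupOf P : Subgroup P) : Set P)).map P.subtype) :=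
          (card_map_of_injective (subtype_injective _)).symm
      _ ≤ _ := Subgroup.card_le_of_le hmap
  omega

/-- The data produced by the SIDE lemma. -/
structure SideData (M Z K : Subgroup G) (a : ℕ) (T U X : Subgroup G) : Prop where
  mem_beta : a ∈ beta M
  sylT : IsSylIn a T (piCoreOf (beta M) M)
  KT : K ≤ normalizer (T : Set G)
  ZT : Z ≤ normalizer (T : Set G)
  cop : (Nat.card ↥(K ⊔ Z)).Coprime (Nat.card ↥(piCoreOf (beta M) M))
  U_eq : U = T ⊓ centralizer (Z : Set G)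
  cyc : IsCyclic U
  sylU : IsSylIn a U (centralizer (Z : Set G))
  not_le : ¬ U ≤ centralizer (K : Set G)
  XU : X ≤ U
  cardX : Nat.card X = a
  normX : normalizer (X : Set G) ≤ M

/-- **The SIDE lemma of the Hall trick**, core form. -/
theorem side_core [Finite G] (hG : IsMinSimpleOddOrder G) (M : Subgroup G) (hM : IsCoatom M)
    (h06 : ∀ X : Subgroup G, X ≤ M → (∀ p : ℕ, p.Prime → p ∣ Nat.card X → p ∉ alpha M) →
      ¬ RankLE 1 ↥(alphaCore M ⊓ centralizer (X : Set G)) →
      InUniqueMaximal (M ⊓ centralizer (X : Set G)))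
    (h14 : IsPiHallOf (beta M) (piCoreOf (beta M) M) M)
    (h23 : ∀ (p : ℕ) [Fact p.Prime], p ∈ sigma M → ∀ X : Subgroup G, X ≤ M → Nat.card X = p →
      p ∈ beta M → ∀ L : Subgroup G, IsCoatom L → centralizer (X : Set G) ≤ L → L = M)
    (hασ : ∀ p : ℕ, p ∈ alpha M → p ∈ sigma M)
    (t k : ℕ) [ht : Fact t.Prime] [hk : Fact k.Prime] (hkt : k ≠ t)
    (htα : t ∉ alpha M) (Z K : Subgroup G) (hZM : Z ≤ M) (hZ : Nat.card Z = t)
    (hNZ : ¬ normalizer (Z : Set G) ≤ M)
    (hKM : K ≤ M) (hK : IsPGroup k K) (hKab : ∀ x ∈ K, ∀ y ∈ K, x * y = y * x)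
    (hkβ : k ∉ beta M)
    (hZK : Z ≤ normalizer (K : Set G)) (hfpf : K ⊓ centralizer (Z : Set G) = ⊥)
    (hKβ : ¬ piCoreOf (beta M) M ≤ centralizer (K : Set G)) :
    ∃ (a : ℕ) (_ : Fact a.Prime) (T U X : Subgroup G), SideData M Z K a T U X := by
  classical
  have hsimple : IsSimpleGroup G := hG.2.1
  have hodd : Odd (Nat.card G) := hG.1
  have hodd' : ∀ p : ℕ, p ∣ Nat.card G → p ≠ 2 := by
    intro p hp h2
    rw [h2] at hp
    exact (Nat.not_even_iff_odd.mpr hodd) (even_iff_two_dvd.mpr hp)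
  set N := piCoreOf (beta M) M with hN
  have hNM : N ≤ M := h14.1
  have hMN : M ≤ normalizer (N : Set G) := Cfsg.Agent.Helper54.le_normalizer_piCoreOf _ _
  have hNpi : ∀ r : ℕ, r.Prime → r ∣ Nat.card N → r ∈ beta M := h14.2.1
  have hMsol : Group.IsSolvable M := hG.2.2.2 M hM.1
  have hNsol : Group.IsSolvable N :=
    Group.isSolvable_of_isSolvable_injective (Subgroup.inclusion_injective hNM)
  have htβ : t ∉ beta M := fun h => htα h.1
  -- the acting group `A = K Z`
  set A := K ⊔ Z with hA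
  have hAM : A ≤ M := sup_le hKM hZM
  have hAN : A ≤ normalizer (N : Set G) := hAM.trans hMN
  have hcardA : Nat.card A ∣ Nat.card K * Nat.card Z :=
    Cfsg.Agent.Helper54.card_sup_dvd_of_le_normalizer K Z hZK
  have hcopK : (Nat.card K).Coprime (Nat.card N) := by
    obtain ⟨n, hn⟩ := IsPGroup.iff_card.mp hK
    rw [hn]
    apply Nat.Coprime.pow_left
    rw [Nat.Prime.coprime_iff_not_dvd hk.out]
    intro hd
    exact hkβ (hNpi k hk.out hd)
  have hcopZ : (Nat.card Z).Coprime (Nat.card N) := by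
    rw [hZ, Nat.Prime.coprime_iff_not_dvd ht.out]
    intro hd
    exact htβ (hNpi t ht.out hd)
  have hcop : (Nat.card A).Coprime (Nat.card N) :=
    Nat.Coprime.coprime_dvd_left hcardA (Nat.Coprime.mul_left hcopK hcopZ)
  obtain ⟨a, haF, T, hadvd, hT, hAT, hTK⟩ :=
    exists_noncentral_invariant_sylow A N K hAN hcop (Or.inr hNsol) hKβ
  have ha : a.Prime := haF.out
  have haβ : a ∈ beta M := hNpi a ha hadvd
  have hKT : K ≤ normalizer (T : Set G) := le_sup_left.trans hAT
  have hZT : Z ≤ normalizer (T : Set G) := le_sup_right.trans hAT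
  have hTN : T ≤ N := hT.1
  have hTM : T ≤ M := hTN.trans hNM
  have hTa : IsPGroup a T := hT.2.1
  -- primes
  have haG : a ∣ Nat.card G := hadvd.trans (Subgroup.card_subgroup_dvd_card N)
  have ha2 : a ≠ 2 := hodd' a haG
  have hK1 : K ≠ ⊥ := by
    intro h
    apply hKβ
    rw [h]
    intro x _
    rw [mem_centralizer_iff]
    intro y hy
    rw [Subgroup.coe_bot, Set.mem_singleton_iff] at hy
    rw [hy, one_mul, mul_one]
  have hkK : k ∣ Nat.card K := by
    obtain ⟨n, hn⟩ := IsPGroup.iff_card.mp hK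
    have hn0 : n ≠ 0 := by
      intro h0
      rw [h0, pow_zero] at hn
      exact hK1 (Subgroup.card_eq_one.mp hn)
    rw [hn]
    exact dvd_pow_self k hn0
  have hk2 : k ≠ 2 := hodd' k (hkK.trans (Subgroup.card_subgroup_dvd_card K))
  have hak : a ≠ k := fun h => hkβ (h ▸ haβ)
  have hat : a ≠ t := fun h => htβ (h ▸ haβ)
  -- a generator of `Z`
  have hZcyc : IsCyclic Z := isCyclic_of_prime_card hZ
  obtain ⟨x, hx⟩ := IsCyclic.exists_generator (α := Z)
  have hxZ : (x : G) ∈ Z := x.2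
  have hZx : ∀ z ∈ Z, z ∈ Subgroup.zpowers (x : G) := by
    intro z hz
    obtain ⟨n, hn⟩ := Subgroup.mem_zpowers_iff.mp (hx ⟨z, hz⟩)
    refine Subgroup.mem_zpowers_iff.mpr ⟨n, ?_⟩
    have := congrArg Subtype.val hn
    simpa using this
  have hxt : (x : G) ^ t = 1 := by
    have h1 : x ^ Nat.card Z = 1 := pow_card_eq_one'
    rw [hZ] at h1
    have := congrArg Subtype.val h1
    simpa using this
  have hcentZ : ∀ y : G, (x : G) * y = y * x → y ∈ centralizer (Z : Set G) := by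
    intro y hy
    rw [mem_centralizer_iff]
    intro z hz
    obtain ⟨n, hn⟩ := Subgroup.mem_zpowers_iff.mp (hZx z hz)
    rw [← hn]
    have hc : Commute (x : G) y := hy
    exact (hc.zpow_left n).eq
  -- `K = [K, x]`
  have hKgen : K ≤ Subgroup.closure {g | ∃ u ∈ K, g = (x : G) * u * (x : G)⁻¹ * u⁻¹} := by
    intro u hu
    have hfix : ∀ u ∈ K, (x : G) * u = u * x → u = 1 := by
      intro u hu hxu
      have : u ∈ K ⊓ centralizer (Z : Set G) := mem_inf.mpr ⟨hu, hcentZ u hxu⟩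
      rw [hfpf, Subgroup.mem_bot] at this
      exact this
    obtain ⟨v, hv, huv⟩ := exists_comm_eq_of_fpf (hZK hxZ) hKab hfix u hu
    exact Subgroup.subset_closure ⟨v, hv, huv⟩
  -- `U := C_T(Z)` is not centralized by `K`
  set U := T ⊓ centralizer (Z : Set G) with hU
  have hUK : ¬ U ≤ centralizer (K : Set G) := by
    intro hUK
    apply hTK
    refine Cfsg.Agent.Helper99.FrobFR.frob_centralizes ha hk.out ht.out ha2 hk2 hak hat hkt T K (x : G)
      hTa hK hKT (hZT hxZ) (hZK hxZ) hxt hKgen ?_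
    intro y hy hxy _
    exact hUK (mem_inf.mpr ⟨hy, hcentZ y hxy⟩)
  have hUT : U ≤ T := inf_le_left
  have hUa : IsPGroup a U := hTa.to_inf_left
  have hU1 : U ≠ ⊥ := by
    intro h
    apply hUK
    rw [h]
    exact bot_le
  -- `U` is cyclic
  have hZ1 : Z ≠ ⊥ := by
    intro h
    rw [h, Subgroup.card_bot] at hZ
    exact ht.out.one_lt.ne hZ
  have hZtop : Z ≠ ⊤ := by
    intro h
    apply hM.1
    rw [eq_top_iff, ← h]
    exact hZM
  have hrank : RankLE 1 ↥(alphaCore M ⊓ centralizer (Z : Set G)) := by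
    by_contra hnr
    have huniq := h06 Z hZM (by
      intro p hp hpd
      rw [hZ] at hpd
      have : p = t := (Nat.prime_dvd_prime_iff_eq hp ht.out).mp hpd
      rw [this]; exact htα) hnr
    obtain ⟨L₀, -, hL₀⟩ := huniq
    have hNtop : normalizer (Z : Set G) ≠ ⊤ :=
      Cfsg.Agent.Helper54.normalizer_ne_top_of_isSimpleGroup Z hZ1 hZtop
    rcases eq_top_or_exists_le_coatom (normalizer (Z : Set G)) with h | ⟨L, hL, hNL⟩
    · exact hNtop h
    · have h1 : L = L₀ := hL₀ L ⟨hL, inf_le_right.trans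
        ((Subgroup.centralizer_le_normalizer _).trans hNL)⟩
      have h2 : M = L₀ := hL₀ M ⟨hM, inf_le_left⟩
      apply hNZ
      rw [h2, ← h1]
      exact hNL
  have hNα : N ≤ alphaCore M :=
    Cfsg.Agent.Helper54.le_piCoreOf_of_normalized (alpha M) M N hNM hMN
      (fun r hr hd => (hNpi r hr hd).1)
  have hUle : U ≤ alphaCore M ⊓ centralizer (Z : Set G) :=
    le_inf (hUT.trans (hTN.trans hNα)) inf_le_right
  have hUcyc : IsCyclic U := by
    have h1 : PRankLE a 1 ↥U :=
      pRankLE_of_injective (Subgroup.inclusion hUle) (Subgroup.inclusion_injective hUle)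
        (hrank a ha)
    exact Cfsg.Agent.Helper34.BG.isCyclic_of_pRankLE_one ha2 hUa h1
  -- the subgroup `X` of order `a` of `U`
  have haU : a ∣ Nat.card U := by
    obtain ⟨n, hn⟩ := IsPGroup.iff_card.mp hUa
    have hn0 : n ≠ 0 := by
      intro h0
      rw [h0, pow_zero] at hn
      exact hU1 (Subgroup.card_eq_one.mp hn)
    rw [hn]
    exact dvd_pow_self a hn0
  obtain ⟨y, hy⟩ := exists_prime_orderOf_dvd_card' a haU
  have hyo : orderOf (y : G) = a := by rw [Subgroup.orderOf_coe, hy]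
  set X := Subgroup.zpowers (y : G) with hX
  have hXU : X ≤ U := by
    rw [hX, Subgroup.zpowers_le]; exact y.2
  have hXc : Nat.card X = a := by rw [hX, Nat.card_zpowers, hyo]
  have hXM : X ≤ M := hXU.trans (hUT.trans hTM)
  have hX1 : X ≠ ⊥ := by
    intro h
    rw [h, Subgroup.card_bot] at hXc
    exact ha.one_lt.ne hXc
  have hXtop : X ≠ ⊤ := by
    intro h
    apply hM.1
    rw [eq_top_iff, ← h]
    exact hXM
  have hNX : normalizer (X : Set G) ≤ M :=
    Cfsg.Agent.Helper55.BGB.normalizer_le_of_unique hX1 hXtop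
      (h23 a (hασ a haβ.1) X hXM hXc haβ)
  -- `X` is the unique subgroup of order `a` of `U`
  have hXuniq : ∀ z ∈ U, z ^ a = 1 → z ∈ X := fun z hz hza =>
    Cfsg.Agent.Helper99.FrobFR.mem_of_isCyclic_of_pow_eq_one ha U X hUcyc hXc hXU hz hza
  have hpowX : ∀ z ∈ X, z ^ a = 1 := by
    intro z hz
    have h1 : (⟨z, hz⟩ : X) ^ Nat.card X = 1 := pow_card_eq_one'
    rw [hXc] at h1
    exact congrArg Subtype.val h1
  -- `U` is a Sylow `a`-subgroup of `C_G(Z)`
  have hUc : U ≤ centralizer (Z : Set G) := inf_le_right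
  have hsylU : IsSylIn a U (centralizer (Z : Set G)) := by
    obtain ⟨P, hUP, hP⟩ := Cfsg.Agent.Helper84.exists_isSylIn_ge hUc hUa
    by_cases hUPeq : U = P
    · rw [hUPeq]; exact hP
    exfalso
    have hlt := card_lt_card_normalizer_inf' U P hP.2.1 hUP hUPeq
    set Nn := normalizer (U : Set G) ⊓ P with hNn
    have hNnX : Nn ≤ normalizer (X : Set G) := by
      apply Cfsg.Agent.Helper99.FrobFR.le_normalizer_of_forall_conj_mem
      intro n hn z hz
      have hnU : n ∈ normalizer (U : Set G) := (mem_inf.mp hn).1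
      have h1 : n * z * n⁻¹ ∈ U := (mem_normalizer_iff.mp hnU z).mp (hXU hz)
      refine hXuniq _ h1 ?_
      rw [conj_pow, hpowX z hz, mul_one, mul_inv_cancel]
    have hNnM : Nn ≤ M := hNnX.trans hNX
    have hNna : IsPGroup a Nn := hP.2.1.to_inf_right
    have hNnN : Nn ≤ N :=
      pgroup_le_normal_hall hNM hMN (h14.2.2 a ha haβ) hNnM hNna
    have hNnc : Nn ≤ N ⊓ centralizer (Z : Set G) :=
      le_inf hNnN (inf_le_right.trans hP.1)
    have hsyl := isSylIn_inf_centralizer Z N T (hZM.trans hMN) hcopZ (Or.inr hNsol) a hT hZT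
    have hle : Nat.card Nn ≤ Nat.card U := hsyl.card_le hNnc hNna
    omega
  exact ⟨a, haF, T, U, X, ⟨haβ, hT, hKT, hZT, hcop, rfl, hUcyc, hsylU, hUK, hXU, hXc, hNX⟩⟩

end Cfsg.Agent.Helper71.BG142
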