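import Mathlib
import Cfsg.Prelude.Def_OddOrder
import Cfsg.Prelude.Def_OddOrderLocal
import Cfsg.Agent.Lib.Helper55.BGBasic

/-!
# (L4) CONFIG A kill of B-G 14.2, step (1) of helper51's proof (#2607), parts (1a), (1b) (helper71)

* `eigen_lines` (pure): `A` elementary abelian of order `r ^ 2`, `X` normalizing `A`, centralizing the
  line `A0 ≤ A` but not `A`: two `X`-invariant lines of `A` different from `A0` coincide.
* `omegaCenter r S = Ω₁(Z(S))` and `omega_center_line`: for a nonabelian Sylow `r`-subgroup `S ≥ A` of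
  `G` (rows S1408, S1413(e), S1417(b), S1418 as explicit hypotheses), `Ω₁(Z(S))` is a line of `A`
  different from `A0`, and `N_G(A) ≤ N_G(Ω₁(Z(S)))`.
-/

set_option autoImplicit false

namespace Cfsg.Agent.Helper71.BG142L4

open Subgroup Cfsg

variable {G : Type*} [Group G]

/-- two distinct subgroups of the same prime order meet trivially. -/
theorem inf_eq_bot_of_card_prime_ne [Finite G] {r : ℕ} (hr : r.Prime) {B C : Subgroup G}
    (hB : Nat.card B = r) (hC : Nat.card C = r) (hne : B ≠ C) : B ⊓ C = ⊥ := by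
  by_contra h
  have hd : Nat.card (B ⊓ C : Subgroup G) ∣ r := hB ▸ Subgroup.card_dvd_of_le inf_le_left
  rcases (Nat.dvd_prime hr).mp hd with h1 | h1
  · exact h (Subgroup.card_eq_one.mp h1)
  · have hBle : B ≤ C := by
      have : B ⊓ C = B := Subgroup.eq_of_le_of_card_ge inf_le_left (by rw [h1, hB])
      rw [← this]; exact inf_le_right
    exact hne (Subgroup.eq_of_le_of_card_ge hBle (by rw [hB, hC]))

/-- a nontrivial element generates a subgroup of prime order. -/
theorem zpowers_eq_of_card_prime' [Finite G] {r : ℕ} (hr : r.Prime) {C : Subgroup G}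
    (hC : Nat.card C = r) {z : G} (hz : z ∈ C) (hz1 : z ≠ 1) : Subgroup.zpowers z = C := by
  have hle : Subgroup.zpowers z ≤ C := by rw [Subgroup.zpowers_le]; exact hz
  have hd : Nat.card (Subgroup.zpowers z) ∣ r := hC ▸ Subgroup.card_dvd_of_le hle
  rcases (Nat.dvd_prime hr).mp hd with h1 | h1
  · exfalso
    apply hz1
    have : Subgroup.zpowers z = ⊥ := Subgroup.card_eq_one.mp h1
    rwa [Subgroup.zpowers_eq_bot] at this
  · exact Subgroup.eq_of_le_of_card_ge hle (by rw [h1, hC])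

/-- **(1a) eigen-lines.** -/
theorem eigen_lines [Finite G] {r : ℕ} [hr : Fact r.Prime] (A A0 X Z1 Z2 : Subgroup G)
    (hAab : ∀ a ∈ A, ∀ b ∈ A, a * b = b * a)
    (hAc : Nat.card A = r ^ 2)
    (hA0A : A0 ≤ A) (hA0c : Nat.card A0 = r)
    (hXA0 : X ≤ centralizer (A0 : Set G)) (hXnA : ¬ X ≤ centralizer (A : Set G))
    (hZ1A : Z1 ≤ A) (hZ1c : Nat.card Z1 = r) (hXZ1 : X ≤ normalizer (Z1 : Set G)) (hZ1 : Z1 ≠ A0)
    (hZ2A : Z2 ≤ A) (hZ2c : Nat.card Z2 = r) (hXZ2 : X ≤ normalizer (Z2 : Set G)) (hZ2 : Z2 ≠ A0) :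
    Z1 = Z2 := by
  classical
  by_contra hne
  have hrp : r.Prime := hr.out
  have hdisj : A0 ⊓ Z1 = ⊥ := inf_eq_bot_of_card_prime_ne hrp hA0c hZ1c (Ne.symm hZ1)
  -- the product map `A0 × Z1 → A` is bijective
  let f : A0 × Z1 → A := fun w => ⟨(w.1 : G) * (w.2 : G), A.mul_mem (hA0A w.1.2) (hZ1A w.2.2)⟩
  have hfinj : Function.Injective f := by
    rintro ⟨a, z⟩ ⟨a', z'⟩ h
    have h1 : (a : G) * z = a' * z' := congrArg Subtype.val h
    have h2 : (a' : G)⁻¹ * a = z' * (z : G)⁻¹ := by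
      have : (a : G) = a' * z' * (z : G)⁻¹ := by rw [← h1]; group
      rw [this]; group
    have h3 : (a' : G)⁻¹ * a ∈ A0 ⊓ Z1 :=
      mem_inf.mpr ⟨A0.mul_mem (A0.inv_mem a'.2) a.2, h2 ▸ Z1.mul_mem z'.2 (Z1.inv_mem z.2)⟩
    rw [hdisj, Subgroup.mem_bot] at h3
    have ha : (a : G) = a' := by
      have : (a : G) = a' * ((a' : G)⁻¹ * a) := by group
      rw [this, h3, mul_one]
    have hz : (z : G) = z' := by
      rw [ha] at h1
      exact mul_left_cancel h1
    exact Prod.ext (Subtype.ext ha) (Subtype.ext hz)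
  have hfbij : Function.Bijective f := by
    apply Function.Injective.bijective_of_nat_card_le hfinj
    rw [Nat.card_prod, hA0c, hZ1c, hAc, pow_two]
  -- a generator of `Z2`
  have hZ2ne : Z2 ≠ ⊥ := by
    intro h
    rw [h, Subgroup.card_bot] at hZ2c
    exact hrp.one_lt.ne hZ2c
  obtain ⟨w, hw⟩ := (Subgroup.ne_bot_iff_exists_ne_one).mp hZ2ne
  obtain ⟨z2, hz2, hz21⟩ : ∃ z2 : G, z2 ∈ Z2 ∧ z2 ≠ 1 :=
    ⟨(w : G), w.2, fun h => hw (Subtype.ext h)⟩
  have hZ2gen : Subgroup.zpowers z2 = Z2 := zpowers_eq_of_card_prime' hrp hZ2c hz2 hz21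
  obtain ⟨⟨a, z⟩, haz⟩ := hfbij.2 ⟨z2, hZ2A hz2⟩
  have haz' : (a : G) * z = z2 := congrArg Subtype.val haz
  -- `a ≠ 1`
  have ha1 : (a : G) ≠ 1 := by
    intro h
    rw [h, one_mul] at haz'
    have hzZ2 : (z : G) ∈ Z2 := haz' ▸ hz2
    have hz1 : (z : G) ≠ 1 := haz' ▸ hz21
    have h1 : Subgroup.zpowers (z : G) = Z1 := zpowers_eq_of_card_prime' hrp hZ1c z.2 hz1
    have h2 : Subgroup.zpowers (z : G) = Z2 := zpowers_eq_of_card_prime' hrp hZ2c hzZ2 hz1
    exact hne (h1.symm.trans h2)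
  -- `X` centralizes `z`
  have hXz : ∀ x ∈ X, x * (z : G) = z * x := by
    intro x hx
    have hconj : x * z2 * x⁻¹ ∈ Z2 := (mem_normalizer_iff.mp (hXZ2 hx) z2).mp hz2
    rw [← hZ2gen] at hconj
    obtain ⟨μ, hμ⟩ := Subgroup.mem_zpowers_iff.mp hconj
    have hxa : x * (a : G) = a * x := ((mem_centralizer_iff.mp (hXA0 hx)) a a.2).symm
    have hcomm : Commute (a : G) (z : G) := hAab a (hA0A a.2) z (hZ1A z.2)
    have h1 : x * z2 * x⁻¹ = (a : G) * (x * z * x⁻¹) := by
      rw [← haz']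
      calc x * ((a : G) * z) * x⁻¹ = (x * a) * z * x⁻¹ := by group
        _ = (a * x) * z * x⁻¹ := by rw [hxa]
        _ = (a : G) * (x * z * x⁻¹) := by group
    have h2 : z2 ^ μ = (a : G) ^ μ * (z : G) ^ μ := by
      rw [← haz', hcomm.mul_zpow]
    have hzc : x * z * x⁻¹ ∈ Z1 := (mem_normalizer_iff.mp (hXZ1 hx) z).mp z.2
    have heq : f (a, ⟨x * z * x⁻¹, hzc⟩) = f (⟨(a : G) ^ μ, A0.zpow_mem a.2 μ⟩,
        ⟨(z : G) ^ μ, Z1.zpow_mem z.2 μ⟩) := by
      apply Subtype.ext
      show (a : G) * (x * z * x⁻¹) = (a : G) ^ μ * (z : G) ^ μ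
      rw [← h1, ← h2, hμ]
    have h3 := hfinj heq
    have h4 : (a : G) = (a : G) ^ μ := congrArg (fun w : A0 × Z1 => (w.1 : G)) h3
    have h5 : x * z * x⁻¹ = (z : G) ^ μ := congrArg (fun w : A0 × Z1 => (w.2 : G)) h3
    -- `μ ≡ 1 mod r`
    have hao : orderOf (a : G) = r := by
      have hd : orderOf (a : G) ∣ r := by
        rw [← hA0c]
        have := orderOf_dvd_natCard (⟨a, a.2⟩ : A0)
        rwa [Subgroup.orderOf_mk] at this
      rcases (Nat.dvd_prime hrp).mp hd with h | h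
      · exact absurd (orderOf_eq_one_iff.mp h) ha1
      · exact h
    have h6 : (a : G) ^ (μ - 1) = 1 := by
      rw [zpow_sub, zpow_one, ← h4, mul_inv_cancel]
    have h7 : (r : ℤ) ∣ μ - 1 := by
      rw [← hao]; exact orderOf_dvd_iff_zpow_eq_one.mpr h6
    have hzr : (z : G) ^ r = 1 := by
      have h1 : (z : Z1) ^ Nat.card Z1 = 1 := pow_card_eq_one'
      rw [hZ1c] at h1
      have := congrArg Subtype.val h1
      simpa using this
    have h8 : (z : G) ^ (μ - 1) = 1 := by
      obtain ⟨k, hk⟩ := h7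
      rw [hk, zpow_mul, zpow_natCast, hzr, one_zpow]
    have h9 : (z : G) ^ μ = z := by
      have : μ = (μ - 1) + 1 := by ring
      rw [this, zpow_add, h8, one_mul, zpow_one]
    rw [h9] at h5
    calc x * (z : G) = (x * z * x⁻¹) * x := by group
      _ = z * x := by rw [h5]
  -- hence `X` centralizes `A`
  apply hXnA
  intro x hx
  rw [mem_centralizer_iff]
  intro b hb
  obtain ⟨⟨a', z'⟩, hb'⟩ := hfbij.2 ⟨b, hb⟩
  have hb'' : (a' : G) * z' = b := congrArg Subtype.val hb'
  have hzgen : Subgroup.zpowers (z : G) = Z1 := by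
    apply zpowers_eq_of_card_prime' hrp hZ1c z.2
    intro hz1
    -- then `z2 = a ∈ A0`, so `Z2 = A0`
    rw [hz1, mul_one] at haz'
    have haZ2 : (a : G) ∈ Z2 := haz' ▸ hz2
    have h1 : Subgroup.zpowers (a : G) = A0 := zpowers_eq_of_card_prime' hrp hA0c a.2 ha1
    have h2 : Subgroup.zpowers (a : G) = Z2 := zpowers_eq_of_card_prime' hrp hZ2c haZ2 ha1
    exact hZ2 (h2.symm.trans h1)
  have hz'mem : (z' : G) ∈ Subgroup.zpowers (z : G) := by rw [hzgen]; exact z'.2
  obtain ⟨n, hn⟩ := Subgroup.mem_zpowers_iff.mp hz'mem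
  have hxz' : x * (z' : G) = z' * x := by
    rw [← hn]
    have hc : Commute x (z : G) := hXz x hx
    exact (hc.zpow_right n).eq
  have hxa' : x * (a' : G) = a' * x := ((mem_centralizer_iff.mp (hXA0 hx)) a' a'.2).symm
  rw [← hb'']
  calc (a' : G) * z' * x = a' * (z' * x) := by group
    _ = a' * (x * z') := by rw [hxz']
    _ = (a' * x) * z' := by group
    _ = (x * a') * z' := by rw [hxa']
    _ = x * ((a' : G) * z') := by group

/-- `Ω₁(Z(S))` with respect to the prime `r`. -/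
def omegaCenter (r : ℕ) (S : Subgroup G) : Subgroup G where
  carrier := {z | z ∈ S ∧ z ∈ centralizer (S : Set G) ∧ z ^ r = 1}
  one_mem' := ⟨S.one_mem, Subgroup.one_mem _, one_pow r⟩
  mul_mem' := by
    rintro z w ⟨hz, hzc, hzr⟩ ⟨hw, hwc, hwr⟩
    refine ⟨S.mul_mem hz hw, Subgroup.mul_mem _ hzc hwc, ?_⟩
    have hc : Commute z w := ((mem_centralizer_iff.mp hzc) w hw).symm
    rw [hc.mul_pow, hzr, hwr, one_mul]
  inv_mem' := by
    rintro z ⟨hz, hzc, hzr⟩
    exact ⟨S.inv_mem hz, Subgroup.inv_mem _ hzc, by rw [inv_pow, hzr, inv_one]⟩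

theorem mem_omegaCenter {r : ℕ} {S : Subgroup G} {z : G} :
    z ∈ omegaCenter r S ↔ z ∈ S ∧ z ∈ centralizer (S : Set G) ∧ z ^ r = 1 := Iff.rfl

theorem omegaCenter_le (r : ℕ) (S : Subgroup G) : omegaCenter r S ≤ S := fun _ h => h.1

theorem omegaCenter_le_centralizer (r : ℕ) (S : Subgroup G) :
    omegaCenter r S ≤ centralizer (S : Set G) := fun _ h => h.2.1

/-- `Ω₁(Z(S))` is characteristic in `S`. -/
theorem normalizer_le_normalizer_omegaCenter (r : ℕ) (S : Subgroup G) :
    normalizer (S : Set G) ≤ normalizer ((omegaCenter r S : Subgroup G) : Set G) := by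
  have key : ∀ n ∈ normalizer (S : Set G), ∀ z ∈ omegaCenter r S,
      n * z * n⁻¹ ∈ omegaCenter r S := by
    rintro n hn z ⟨hz, hzc, hzr⟩
    refine ⟨(mem_normalizer_iff.mp hn z).mp hz, ?_, ?_⟩
    · rw [mem_centralizer_iff]
      intro s hs
      have hs' : n⁻¹ * s * n ∈ S := by
        have := (mem_normalizer_iff.mp (Subgroup.inv_mem _ hn) s).mp hs
        simpa using this
      have h1 := (mem_centralizer_iff.mp hzc) _ hs'
      calc s * (n * z * n⁻¹) = n * ((n⁻¹ * s * n) * z) * n⁻¹ := by group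
        _ = n * (z * (n⁻¹ * s * n)) * n⁻¹ := by rw [h1]
        _ = n * z * n⁻¹ * s := by group
    · rw [conj_pow, hzr, mul_one, mul_inv_cancel]
  intro n hn
  rw [mem_normalizer_iff]
  intro z
  constructor
  · exact key n hn z
  · intro h
    have := key n⁻¹ (Subgroup.inv_mem _ hn) _ h
    simpa [mul_assoc] using this

/-- `Ω₁(Z(S)) ≠ 1` for a nontrivial `r`-group `S`. -/
theorem omegaCenter_ne_bot [Finite G] {r : ℕ} [hr : Fact r.Prime] {S : Subgroup G}
    (hS : IsPGroup r S) (hS1 : S ≠ ⊥) : omegaCenter r S ≠ ⊥ := by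
  have hnt : Nontrivial S := (Subgroup.nontrivial_iff_ne_bot S).mpr hS1
  have hZn : Nontrivial ↥(center S) := hS.center_nontrivial
  have hZp : IsPGroup r ↥(center S) := hS.to_subgroup _
  obtain ⟨j, hj⟩ := IsPGroup.iff_card.mp hZp
  have hj0 : j ≠ 0 := by
    rintro rfl
    rw [pow_zero] at hj
    have := (Finite.one_lt_card_iff_nontrivial).mpr hZn
    omega
  obtain ⟨z₀, hz₀⟩ := exists_prime_orderOf_dvd_card' (G := ↥(center S)) r
    (by rw [hj]; exact dvd_pow_self r hj0)
  have hzo : orderOf ((z₀ : S) : G) = r := by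
    rw [Subgroup.orderOf_coe, Subgroup.orderOf_coe]; exact hz₀
  intro hbot
  have hmem : ((z₀ : S) : G) ∈ omegaCenter r S := by
    refine ⟨(z₀ : S).2, ?_, ?_⟩
    · rw [mem_centralizer_iff]
      intro s hs
      have := (Subgroup.mem_center_iff.mp z₀.2) ⟨s, hs⟩
      exact congrArg Subtype.val this
    · rw [← hzo]; exact pow_orderOf_eq_one _
  rw [hbot, Subgroup.mem_bot] at hmem
  rw [hmem, orderOf_one] at hzo
  exact hr.out.one_lt.ne hzo

/-- **(1b)**: `Ω₁(Z(S))` is a line of `A` different from `A0`, and `N_G(A) ≤ N_G(Ω₁(Z(S)))`. -/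
theorem omega_center_line [Finite G] (hG : IsMinSimpleOddOrder G) (M : Subgroup G) (hM : IsCoatom M)
    (r : ℕ) [hr : Fact r.Prime] (A A0 : Subgroup G) (S : Sylow r G)
    (hA : IsElementaryAbelian r A) (hAc : Nat.card A = r ^ 2) (hAS : A ≤ (S : Subgroup G))
    (hSna : ¬ IsMulCommutative (S : Subgroup G))
    -- S1408: `A` is a maximal elementary abelian `r`-subgroup of `G`
    (hmax : ∀ B : Subgroup G, IsElementaryAbelian r B → A ≤ B → B = A)
    -- S1413(e) for `S`
    (h13e : ∀ (R Q : Subgroup G), IsPGroup r R → Q ≤ (S : Subgroup G) ⊓ R →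
      normalizer ((S : Subgroup G) : Set G) ≤ normalizer (Q : Set G) →
      normalizer (R : Set G) ≤ normalizer (Q : Set G))
    -- S1417(b): Sylow `r`-subgroups of `M` are abelian
    (hSylab : ∀ P : Sylow r M, IsMulCommutative (P : Subgroup M))
    -- S1418(b)
    (hCA : centralizer (A : Set G) ≤ M) (hNA : ¬ normalizer (A : Set G) ≤ M)
    (hA0A : A0 ≤ A) (hA0c : Nat.card A0 = r) (hMA0 : M ≤ normalizer (A0 : Set G)) :
    Nat.card (omegaCenter r (S : Subgroup G)) = r ∧ omegaCenter r (S : Subgroup G) ≤ A ∧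
      omegaCenter r (S : Subgroup G) ≠ A0 ∧
      normalizer (A : Set G) ≤ normalizer ((omegaCenter r (S : Subgroup G) : Subgroup G) : Set G) := by
  classical
  have hrp : r.Prime := hr.out
  have hsimple : IsSimpleGroup G := hG.2.1
  set Z0 := omegaCenter r (S : Subgroup G) with hZ0
  have hSp : IsPGroup r (S : Subgroup G) := S.isPGroup'
  have hA1 : A ≠ ⊥ := by
    intro h
    rw [h, Subgroup.card_bot] at hAc
    have : 1 < r ^ 2 := Nat.one_lt_pow (by norm_num) hrp.one_lt
    omega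
  have hS1 : (S : Subgroup G) ≠ ⊥ := by
    intro h
    apply hA1
    rw [eq_bot_iff, ← h]
    exact hAS
  have hZ01 : Z0 ≠ ⊥ := omegaCenter_ne_bot hSp hS1
  -- (i) `Z0 ≤ A` by maximality of `A`
  have hZ0A : Z0 ≤ A := by
    have hB : IsElementaryAbelian r (A ⊔ Z0) := by
      have hcomm : ∀ a ∈ A, ∀ z ∈ Z0, a * z = z * a := by
        intro a ha z hz
        exact (mem_centralizer_iff.mp hz.2.1) a (hAS ha)
      have hAab : ∀ a ∈ A, ∀ b ∈ A, a * b = b * a := by
        intro a ha b hb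
        have := hA.1.is_comm.comm ⟨a, ha⟩ ⟨b, hb⟩
        exact congrArg Subtype.val this
      have hZab : ∀ a ∈ Z0, ∀ b ∈ Z0, a * b = b * a := by
        intro a ha b hb
        exact ((mem_centralizer_iff.mp hb.2.1) a ha.1)
      -- every element of `A ⊔ Z0` is `a * z`
      have hdecomp : ∀ x ∈ A ⊔ Z0, ∃ a ∈ A, ∃ z ∈ Z0, x = a * z := by
        intro x hx
        have hAn : A ≤ normalizer (Z0 : Set G) := by
          intro a ha
          rw [mem_normalizer_iff]
          intro z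
          have key : ∀ z ∈ Z0, a * z * a⁻¹ = z := by
            intro z hz
            rw [hcomm a ha z hz, mul_inv_cancel_right]
          constructor
          · intro hz
            rw [key z hz]; exact hz
          · intro hz
            have h1 := key _ hz
            have h2 : z = a * z * a⁻¹ := by
              have : a * (a * z * a⁻¹) * a⁻¹ = a * z * a⁻¹ := h1
              have h3 : a * z * a⁻¹ = z := by
                have := congrArg (fun t => a⁻¹ * t * a) this
                simpa [mul_assoc] using this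
              exact h3.symm
            rw [h2]; exact hz
        have hx' : x ∈ ((A ⊔ Z0 : Subgroup G) : Set G) := hx
        rw [coe_mul_of_left_le_normalizer_right A Z0 hAn] at hx'
        obtain ⟨a, ha, z, hz, rfl⟩ := Set.mem_mul.mp hx'
        exact ⟨a, ha, z, hz, rfl⟩
      constructor
      · refine ⟨⟨fun x y => ?_⟩⟩
        obtain ⟨a, ha, z, hz, hx⟩ := hdecomp x x.2
        obtain ⟨a', ha', z', hz', hy⟩ := hdecomp y y.2
        apply Subtype.ext
        show (x : G) * y = y * x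
        rw [hx, hy]
        have h1 := hAab a ha a' ha'
        have h2 := hZab z hz z' hz'
        have h3 := hcomm a' ha' z hz
        have h4 := hcomm a ha z' hz'
        calc a * z * (a' * z') = a * (z * a') * z' := by group
          _ = a * (a' * z) * z' := by rw [← h3]
          _ = (a * a') * (z * z') := by group
          _ = (a' * a) * (z' * z) := by rw [h1, h2]
          _ = a' * (a * z') * z := by group
          _ = a' * (z' * a) * z := by rw [h4]
          _ = a' * z' * (a * z) := by group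
      · intro x hx
        obtain ⟨a, ha, z, hz, rfl⟩ := hdecomp x hx
        have hc : Commute a z := hcomm a ha z hz
        rw [hc.mul_pow, hA.2 a ha, hz.2.2, one_mul]
    have := hmax (A ⊔ Z0) hB le_sup_left
    rw [← this]
    exact le_sup_right
  -- (ii) `|Z0| = r`
  have hZ0c : Nat.card Z0 = r := by
    have hd : Nat.card Z0 ∣ r ^ 2 := hAc ▸ Subgroup.card_dvd_of_le hZ0A
    obtain ⟨k, hk, hkc⟩ := (Nat.dvd_prime_pow hrp).mp hd
    interval_cases k
    · exfalso
      rw [pow_zero] at hkc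
      exact hZ01 (Subgroup.card_eq_one.mp hkc)
    · rw [hkc, pow_one]
    · exfalso
      -- `Z0 = A`, so `S ≤ C_G(A) ≤ M` is abelian
      have hZA : Z0 = A := Subgroup.eq_of_le_of_card_ge hZ0A (by rw [hkc, hAc])
      have hSM : (S : Subgroup G) ≤ M := by
        refine le_trans ?_ hCA
        rw [Subgroup.le_centralizer_iff, ← hZA]
        exact omegaCenter_le_centralizer r _
      apply hSna
      have hSp' : IsPGroup r ((S : Subgroup G).subgroupOf M) :=
        hSp.comap_of_injective _ (Subgroup.subtype_injective _)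
      obtain ⟨P, hP⟩ := hSp'.exists_le_sylow
      have hPab := hSylab P
      refine ⟨⟨fun x y => ?_⟩⟩
      have hx : (⟨x.1, hSM x.2⟩ : M) ∈ (P : Subgroup M) := hP (mem_subgroupOf.mpr x.2)
      have hy : (⟨y.1, hSM y.2⟩ : M) ∈ (P : Subgroup M) := hP (mem_subgroupOf.mpr y.2)
      have := hPab.is_comm.comm ⟨_, hx⟩ ⟨_, hy⟩
      have h2 := congrArg (fun t : ↥(P : Subgroup M) => ((t : M) : G)) this
      exact Subtype.ext h2
  -- (iii) `N_G(A) ≤ N_G(Z0)`
  have hNAZ : normalizer (A : Set G) ≤ normalizer (Z0 : Set G) := by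
    have hAp : IsPGroup r A := IsPGroup.iff_card.mpr ⟨2, hAc⟩
    exact h13e A Z0 hAp (le_inf (omegaCenter_le r _) hZ0A)
      (normalizer_le_normalizer_omegaCenter r _)
  refine ⟨hZ0c, hZ0A, ?_, hNAZ⟩
  -- (v) `Z0 ≠ A0`
  intro hZA0
  have hA01 : A0 ≠ ⊥ := by
    intro h
    rw [h, Subgroup.card_bot] at hA0c
    exact hrp.one_lt.ne hA0c
  have hA0top : A0 ≠ ⊤ := by
    intro h
    have hAtop : A = ⊤ := by
      rw [eq_top_iff, ← h]; exact hA0A
    have h1 : Nat.card A = Nat.card A0 := by rw [hAtop, h]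
    rw [hAc, hA0c] at h1
    have : r ^ 2 = r ^ 1 := by rw [h1, pow_one]
    have := Nat.pow_right_injective hrp.two_le this
    omega
  have hNtop : normalizer (A0 : Set G) ≠ ⊤ :=
    Cfsg.Agent.Helper54.normalizer_ne_top_of_isSimpleGroup A0 hA01 hA0top
  have hNM : normalizer (A0 : Set G) = M := by
    by_contra hne
    exact hNtop (hM.2 _ (lt_of_le_of_ne hMA0 (Ne.symm hne)))
  apply hNA
  rw [← hNM, ← hZA0]
  exact hNAZ

end Cfsg.Agent.Helper71.BG142L4
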