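import Mathlib
import Cfsg.Prelude.Def_OddOrder
import Cfsg.Prelude.Def_OddOrderLocal
import Cfsg.Agent.Lib.Helper71.BG142L4a
import Cfsg.Agent.Lib.Helper71.BG142F2b

/-!
# (L4) CONFIG A kill of B-G 14.2, step (1) of helper51's proof (#2607), part (1c) (helper71)

`passage_to_L`: for a nonabelian Sylow `r`-subgroup `S ≥ A` of `G`, the unique maximal subgroup `L`
over `S` (S1422) contains `N_G(S)` and `N_G(A)`, is different from `M`, meets `M_σ` trivially
(S1417(e)), has `r ∈ σ(L)`, and `p ∉ σ(L)` (normal `r`-complement of `L_σ`, S1414, since `r` is not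
ideal, S1408).  Rows as explicit hypotheses.
-/

set_option autoImplicit false

namespace Cfsg.Agent.Helper71.BG142L4

open Subgroup Cfsg
open Cfsg.Agent.Helper84 (IsSylIn)

variable {G : Type*} [Group G]

/-- a proper subgroup containing a subgroup `S` with `MM(S) = {L}` lies in `L`. -/
theorem le_of_inUniqueMaximal [Finite G] {S L K : Subgroup G} (hS : InUniqueMaximal S)
    (hL : IsCoatom L) (hSL : S ≤ L) (hSK : S ≤ K) (hK : K ≠ ⊤) : K ≤ L := by
  obtain ⟨L₀, -, huniq⟩ := hS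
  rcases eq_top_or_exists_le_coatom K with h | ⟨L', hL', hKL'⟩
  · exact absurd h hK
  · have h1 : L' = L₀ := huniq L' ⟨hL', hSK.trans hKL'⟩
    have h2 : L = L₀ := huniq L ⟨hL, hSL⟩
    rw [h2, ← h1]
    exact hKL'

/-- in a finite group `K` with a normal `r`-complement, an element `y` with `y ^ p = 1`, `p ≠ r`
prime, lies in the complement; and the complement has order prime to `r`. -/
theorem mem_normal_complement {K : Type*} [Group K] [Finite K] {r p : ℕ} [hr : Fact r.Prime]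
    (hp : p.Prime) (hpr : p ≠ r) (P : Sylow r K) (N : Subgroup K) (hN : N.Normal)
    (hNP : N.IsComplement' (P : Subgroup K)) :
    (∀ y : K, y ^ p = 1 → y ∈ N) ∧ ¬ r ∣ Nat.card N := by
  have hidx : N.index = Nat.card (P : Subgroup K) := hNP.symm.index_eq_card
  have hcardN : Nat.card N = (P : Subgroup K).index := (hNP.index_eq_card).symm
  refine ⟨?_, ?_⟩
  · intro y hy
    obtain ⟨k, hk⟩ := IsPGroup.iff_card.mp P.isPGroup'
    have h1 : (QuotientGroup.mk y : K ⧸ N) ^ p = 1 := by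
      rw [← QuotientGroup.mk_pow, hy, QuotientGroup.mk_one]
    have h2 : orderOf (QuotientGroup.mk y : K ⧸ N) ∣ p := orderOf_dvd_of_pow_eq_one h1
    have h3 : orderOf (QuotientGroup.mk y : K ⧸ N) ∣ r ^ k := by
      have := orderOf_dvd_natCard (QuotientGroup.mk y : K ⧸ N)
      rwa [← Subgroup.index_eq_card, hidx, hk] at this
    have hcop : Nat.Coprime p (r ^ k) :=
      Nat.Coprime.pow_right k ((Nat.coprime_primes hp hr.out).mpr hpr)
    have h4 : orderOf (QuotientGroup.mk y : K ⧸ N) = 1 :=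
      Nat.eq_one_of_dvd_coprimes hcop h2 h3
    rw [orderOf_eq_one_iff, QuotientGroup.eq_one_iff] at h4
    exact h4
  · rw [hcardN]
    exact P.not_dvd_index

/-- **(1c)**. -/
theorem passage_to_L [Finite G] (hG : IsMinSimpleOddOrder G) (M : Subgroup G) (_hM : IsCoatom M)
    (r p : ℕ) [hr : Fact r.Prime] [hp : Fact p.Prime] (hpr : p ≠ r)
    (A X : Subgroup G) (S : Sylow r G)
    (hA : IsElementaryAbelian r A) (hAc : Nat.card A = r ^ 2) (hAS : A ≤ (S : Subgroup G))
    -- S1422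
    (h22 : InUniqueMaximal (S : Subgroup G))
    -- `N_G(A) ≤ N_G(Ω₁ Z(S))` from (1b)
    (hNAZ : normalizer (A : Set G) ≤
      normalizer ((omegaCenter r (S : Subgroup G) : Subgroup G) : Set G))
    -- S1418(b)
    (hNA : ¬ normalizer (A : Set G) ≤ M)
    -- S1417(e)
    (h17e : ∀ Mstar : Subgroup G, IsCoatom Mstar → Mstar ≠ M → A ≤ Mstar →
      sigmaCore M ⊓ Mstar = ⊥)
    -- S1408
    (hnotideal : ¬ IsIdealPrime r G)
    -- S1350(1) and S1414 for every maximal subgroup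
    (h50 : ∀ L : Subgroup G, IsCoatom L → IsPiHallOf (sigma L) (sigmaCore L) L)
    (h14 : ∀ L : Subgroup G, IsCoatom L → r ∣ Nat.card L → r ∉ beta L →
      HasNormalPComplement r ↥(sigmaCore L))
    (hXA : X ≤ normalizer (A : Set G)) (hX : Nat.card X = p)
    (hXnA : ¬ X ≤ centralizer (A : Set G)) :
    ∃ L : Subgroup G, IsCoatom L ∧ (S : Subgroup G) ≤ L ∧
      normalizer ((S : Subgroup G) : Set G) ≤ L ∧ normalizer (A : Set G) ≤ L ∧ L ≠ M ∧
      sigmaCore M ⊓ L = ⊥ ∧ r ∈ sigma L ∧ p ∉ sigma L := by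
  classical
  have hrp : r.Prime := hr.out
  have hsimple : IsSimpleGroup G := hG.2.1
  obtain ⟨L, ⟨hL, hSL⟩, -⟩ := id h22
  have hSp : IsPGroup r (S : Subgroup G) := S.isPGroup'
  have hA1 : A ≠ ⊥ := by
    intro h
    rw [h, Subgroup.card_bot] at hAc
    have : 1 < r ^ 2 := Nat.one_lt_pow (by norm_num) hrp.one_lt
    omega
  have hS1 : (S : Subgroup G) ≠ ⊥ := by
    intro h
    apply hA1
    rw [eq_bot_iff, ← h]
    exact hAS
  have hStop : (S : Subgroup G) ≠ ⊤ := by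
    intro h
    apply hL.1
    rw [eq_top_iff, ← h]
    exact hSL
  -- `N_G(S) ≤ L`
  have hNS : normalizer ((S : Subgroup G) : Set G) ≤ L :=
    le_of_inUniqueMaximal h22 hL hSL le_normalizer
      (Cfsg.Agent.Helper54.normalizer_ne_top_of_isSimpleGroup _ hS1 hStop)
  -- `N_G(Z0) ≤ L`
  set Z0 := omegaCenter r (S : Subgroup G) with hZ0
  have hZ01 : Z0 ≠ ⊥ := omegaCenter_ne_bot hSp hS1
  have hZ0top : Z0 ≠ ⊤ := by
    intro h
    apply hStop
    rw [eq_top_iff, ← h]
    exact omegaCenter_le r _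
  have hSNZ : (S : Subgroup G) ≤ normalizer (Z0 : Set G) :=
    le_normalizer.trans (normalizer_le_normalizer_omegaCenter r _)
  have hNZ : normalizer (Z0 : Set G) ≤ L :=
    le_of_inUniqueMaximal h22 hL hSL hSNZ
      (Cfsg.Agent.Helper54.normalizer_ne_top_of_isSimpleGroup _ hZ01 hZ0top)
  have hNAL : normalizer (A : Set G) ≤ L := hNAZ.trans hNZ
  have hLM : L ≠ M := by
    intro h
    exact hNA (h ▸ hNAL)
  have hAL : A ≤ L := hAS.trans hSL
  have hbot : sigmaCore M ⊓ L = ⊥ := h17e L hL hLM hAL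
  -- `r ∈ σ(L)`
  have hrL : r ∣ Nat.card L := by
    have h1 : r ∣ Nat.card A := by rw [hAc]; exact dvd_pow_self r (by norm_num)
    exact h1.trans (Subgroup.card_dvd_of_le hAL)
  have hrσ : r ∈ sigma L := by
    refine ⟨hrp, hrL, S.subtype hSL, ?_⟩
    rw [Sylow.coe_subtype, Subgroup.map_subgroupOf_eq_of_le hSL]
    exact hNS
  refine ⟨L, hL, hSL, hNS, hNAL, hLM, hbot, hrσ, ?_⟩
  -- `p ∉ σ(L)`
  intro hpσ
  have hrβ : r ∉ beta L := fun h => hnotideal h.2
  obtain ⟨P, N, hNn, hNP⟩ := h14 L hL hrL hrβ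
  have hHall := h50 L hL
  have hKL : sigmaCore L ≤ L := hHall.1
  have hLK : L ≤ normalizer ((sigmaCore L : Subgroup G) : Set G) :=
    Cfsg.Agent.Helper54.le_normalizer_piCoreOf (sigma L) L
  have hXL : X ≤ L := hXA.trans hNAL
  have hXp : IsPGroup p X := IsPGroup.of_card (n := 1) (by rw [hX, pow_one])
  have hAp : IsPGroup r A := IsPGroup.of_card hAc
  have hXK : X ≤ sigmaCore L :=
    Cfsg.Agent.Helper71.BG142.pgroup_le_normal_hall hKL hLK (hHall.2.2 p hp.out hpσ) hXL hXp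
  have hAK : A ≤ sigmaCore L :=
    Cfsg.Agent.Helper71.BG142.pgroup_le_normal_hall hKL hLK (hHall.2.2 r hrp hrσ) hAL hAp
  obtain ⟨hmemN, hNr⟩ := mem_normal_complement hp.out hpr P N hNn hNP
  apply hXnA
  intro x hx
  rw [mem_centralizer_iff]
  intro a ha
  -- the commutator `c = a x a⁻¹ x⁻¹` lies in `A` and in `N`
  have hxp : x ^ p = 1 := by
    have h1 : (⟨x, hx⟩ : X) ^ Nat.card X = 1 := pow_card_eq_one'
    rw [hX] at h1
    exact congrArg Subtype.val h1
  set xK : ↥(sigmaCore L) := ⟨x, hXK hx⟩ with hxK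
  set aK : ↥(sigmaCore L) := ⟨a, hAK ha⟩ with haK
  have hxN : xK ∈ N := hmemN xK (by apply Subtype.ext; simpa using hxp)
  have hcN : aK * xK * aK⁻¹ * xK⁻¹ ∈ N := N.mul_mem (hNn.conj_mem xK hxN aK) (N.inv_mem hxN)
  have hcA : a * x * a⁻¹ * x⁻¹ ∈ A := by
    have h1 : x * a⁻¹ * x⁻¹ ∈ A := (mem_normalizer_iff.mp (hXA hx) a⁻¹).mp (A.inv_mem ha)
    have h2 : a * x * a⁻¹ * x⁻¹ = a * (x * a⁻¹ * x⁻¹) := by group
    rw [h2]
    exact A.mul_mem ha h1
  have hcr : (aK * xK * aK⁻¹ * xK⁻¹) ^ r = 1 := by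
    apply Subtype.ext
    have := hA.2 _ hcA
    simpa using this
  have hc1 : aK * xK * aK⁻¹ * xK⁻¹ = 1 := by
    have h1 : orderOf (⟨aK * xK * aK⁻¹ * xK⁻¹, hcN⟩ : N) ∣ r := by
      apply orderOf_dvd_of_pow_eq_one
      apply Subtype.ext
      simpa using hcr
    have h2 : orderOf (⟨aK * xK * aK⁻¹ * xK⁻¹, hcN⟩ : N) ∣ Nat.card N := orderOf_dvd_natCard _
    rcases (Nat.dvd_prime hrp).mp h1 with h | h
    · have := orderOf_eq_one_iff.mp h
      exact congrArg Subtype.val this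
    · exact absurd (h ▸ h2) hNr
  have hc1' : a * x * a⁻¹ * x⁻¹ = 1 := by
    have := congrArg (fun t : ↥(sigmaCore L) => (t : G)) hc1
    simpa using this
  calc a * x = (a * x * a⁻¹ * x⁻¹) * (x * a) := by group
    _ = x * a := by rw [hc1', one_mul]

end Cfsg.Agent.Helper71.BG142L4
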