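import Mathlib
import Cfsg.Prelude.Def_OddOrder
import Cfsg.Prelude.Def_OddOrderLocal
import Cfsg.Agent.Lib.Helper71.BG142L4b

/-!
# (L4) CONFIG A kill of B-G 14.2, step (1) of helper51's proof (#2607), part (1d) (helper71)

`exists_invariant_sylow_compl`: `L` maximal, `r ∈ σ(L)`, `p ∉ σ(L)`, `X ≤ L` of order `p` normalizing
the `r`-subgroup `A ≤ L`: there are an `X`-invariant Sylow `r`-subgroup `S'` of `G` with
`A ≤ S' ≤ L_σ` and a complement `V ≥ X` of `S'` in `N_G(S')`.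
-/

set_option autoImplicit false

namespace Cfsg.Agent.Helper71.BG142L4

open Subgroup Cfsg
open Cfsg.Agent.Helper84 (IsSylIn)
open Cfsg.Agent.Helper52 (sylCard)

variable {G : Type*} [Group G]

/-- a Sylow `r`-subgroup `Q` of `L` is a Sylow `r`-subgroup of `G` when `r ∈ σ(L)`. -/
theorem isSylIn_top_of_sigma [Finite G] {L Q : Subgroup G} {r : ℕ} [hr : Fact r.Prime]
    (hrσ : r ∈ sigma L) (hQ : IsSylIn r Q L) : IsSylIn r Q ⊤ := by
  obtain ⟨-, -, P0, hP0⟩ := hrσ
  set P0' : Subgroup G := (P0 : Subgroup L).map L.subtype with hP0'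
  have hP0L : P0' ≤ L := Subgroup.map_subtype_le _
  have hP0syl : IsSylIn r P0' L := by
    apply Cfsg.Agent.Helper84.isSylIn_of_sylow hP0L
    refine ⟨P0, ?_⟩
    ext x
    rw [Subgroup.mem_subgroupOf, hP0']
    constructor
    · intro hx; exact ⟨x, hx, rfl⟩
    · rintro ⟨y, hy, hyx⟩
      have : y = x := Subtype.ext hyx
      rwa [← this]
  -- `P0'` is Sylow in `G`
  obtain ⟨Pst, hPst⟩ := hP0syl.2.1.exists_le_sylow
  have hPeq : P0' = (Pst : Subgroup G) := by
    by_contra hne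
    have hlt := Cfsg.Agent.Helper71.BG142.card_lt_card_normalizer_inf' P0' (Pst : Subgroup G)
      Pst.isPGroup' hPst hne
    have hle : normalizer (P0' : Set G) ⊓ (Pst : Subgroup G) ≤ L := inf_le_left.trans hP0
    have := hP0syl.card_le hle (Pst.isPGroup'.to_inf_right)
    omega
  have hcard : Nat.card Q = Nat.card (Pst : Subgroup G) := by
    obtain ⟨l, -, hl⟩ := hP0syl.exists_conj hQ
    rw [hl, Cfsg.Agent.Helper84.card_map_conj, hPeq]
  refine ⟨le_top, hQ.2.1, ?_⟩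
  rw [Subgroup.relIndex_top_right]
  intro hd
  have h1 : Nat.card Q * Q.index = Nat.card G := Subgroup.card_mul_index Q
  have h2 : Nat.card (Pst : Subgroup G) * (Pst : Subgroup G).index = Nat.card G :=
    Subgroup.card_mul_index _
  have h3 : Q.index = (Pst : Subgroup G).index := by
    rw [← hcard] at h2
    have hpos : 0 < Nat.card Q := Nat.card_pos
    exact Nat.eq_of_mul_eq_mul_left hpos (h1.trans h2.symm)
  rw [h3] at hd
  exact Pst.not_dvd_index hd

/-- **(1d)**. -/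
theorem exists_invariant_sylow_compl [Finite G] (hG : IsMinSimpleOddOrder G) (L : Subgroup G)
    (hL : IsCoatom L) (r p : ℕ) [hr : Fact r.Prime] [hp : Fact p.Prime] (hpr : p ≠ r)
    (A X : Subgroup G) (hAp : IsPGroup r A) (hA1 : A ≠ ⊥) (hAL : A ≤ L) (hXL : X ≤ L)
    (hX : Nat.card X = p) (hXA : X ≤ normalizer (A : Set G))
    (hrσ : r ∈ sigma L) (hpσ : p ∉ sigma L)
    (h50 : IsPiHallOf (sigma L) (sigmaCore L) L) :
    ∃ (S' : Sylow r G) (V : Subgroup G), A ≤ (S' : Subgroup G) ∧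
      (S' : Subgroup G) ≤ sigmaCore L ∧ X ≤ normalizer ((S' : Subgroup G) : Set G) ∧ X ≤ V ∧
      IsComplIn (S' : Subgroup G) V (normalizer ((S' : Subgroup G) : Set G)) := by
  classical
  have hrp : r.Prime := hr.out
  have hsimple : IsSimpleGroup G := hG.2.1
  set K := sigmaCore L with hK
  have hKL : K ≤ L := h50.1
  have hLK : L ≤ normalizer (K : Set G) := Cfsg.Agent.Helper54.le_normalizer_piCoreOf (sigma L) L
  have hLsol : Group.IsSolvable L := hG.2.2.2 L hL.1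
  have hKsol : Group.IsSolvable K :=
    Group.isSolvable_of_isSolvable_injective (Subgroup.inclusion_injective hKL)
  have hXp : IsPGroup p X := IsPGroup.of_card (n := 1) (by rw [hX, pow_one])
  have hcop : (Nat.card X).Coprime (Nat.card K) := by
    rw [hX, Nat.Prime.coprime_iff_not_dvd hp.out]
    intro hd
    exact hpσ (h50.2.1 p hp.out hd)
  have hAK : A ≤ K :=
    Cfsg.Agent.Helper71.BG142.pgroup_le_normal_hall hKL hLK (h50.2.2 r hrp hrσ) hAL hAp
  obtain ⟨Q, hQK, hQc, hAQ, hXQ⟩ :=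
    Cfsg.Agent.Helper52.exists_invariant_sylow_ge X K (hXL.trans hLK) hcop (Or.inr hKsol) r A hAK
      hAp hXA
  have hQsylK : IsSylIn r Q K := Cfsg.Agent.Helper71.BG142.isSylIn_of_card hQK hQc
  have hQsylL : IsSylIn r Q L := by
    refine ⟨hQK.trans hKL, hQsylK.2.1, ?_⟩
    rw [← Subgroup.relIndex_mul_relIndex Q K L hQK hKL]
    intro hd
    rcases (Nat.Prime.dvd_mul hrp).mp hd with h | h
    · exact hQsylK.2.2 h
    · exact h50.2.2 r hrp hrσ h
  have hQtop : IsSylIn r Q ⊤ := isSylIn_top_of_sigma hrσ hQsylL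
  -- `Q` as a Sylow subgroup of `G`
  have hQidx : ¬ r ∣ Q.index := by
    have := hQtop.2.2
    rwa [Subgroup.relIndex_top_right] at this
  let S' : Sylow r G := hQtop.2.1.toSylow hQidx
  have hS'Q : (S' : Subgroup G) = Q := rfl
  -- the normalizer of `Q`
  set Nn := normalizer (Q : Set G) with hNn
  have hQ1 : Q ≠ ⊥ := by
    intro h
    apply hA1
    rw [eq_bot_iff, ← h]
    exact hAQ
  have hQne : Q ≠ ⊤ := by
    intro h
    apply hL.1
    rw [eq_top_iff, ← h]
    exact hQK.trans hKL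
  have hNtop : Nn ≠ ⊤ := Cfsg.Agent.Helper54.normalizer_ne_top_of_isSimpleGroup Q hQ1 hQne
  have hNsol : Group.IsSolvable Nn := hG.2.2.2 Nn hNtop
  obtain ⟨V, hV, hXV⟩ := Cfsg.Agent.Helper71.BG142.exists_hall_ge_pgroup hNsol
    ({q | q ≠ r} : Set ℕ) (r := p) hpr hXp hXQ
  have hVN : V ≤ Nn := hV.1
  have hQN : Q ≤ Nn := le_normalizer
  have hdisj : Q ⊓ V = ⊥ := by
    by_contra hne
    have hcard : Nat.card (Q ⊓ V : Subgroup G) ≠ 1 := fun h1 => hne (Subgroup.card_eq_one.mp h1)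
    obtain ⟨q, hq, hqd⟩ := Nat.exists_prime_and_dvd hcard
    have h1 : q ∣ Nat.card Q := hqd.trans (Subgroup.card_dvd_of_le inf_le_left)
    have h2 : q ∣ Nat.card V := hqd.trans (Subgroup.card_dvd_of_le inf_le_right)
    obtain ⟨n, hn⟩ := IsPGroup.iff_card.mp hQsylK.2.1
    rw [hn] at h1
    have hqr : q = r := (Nat.prime_dvd_prime_iff_eq hq hrp).mp (hq.dvd_of_dvd_pow h1)
    exact hV.2.1 q hq h2 hqr
  have hsup : Nn ≤ Q ⊔ V := by
    have hle : Q ⊔ V ≤ Nn := sup_le hQN hVN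
    rw [← Subgroup.relIndex_eq_one]
    by_contra hne
    obtain ⟨q, hq, hqd⟩ := Nat.exists_prime_and_dvd hne
    by_cases hqr : q = r
    · subst hqr
      have h1 : (Q ⊔ V).relIndex Nn ∣ Q.relIndex Nn :=
        ⟨Q.relIndex (Q ⊔ V), by
          rw [mul_comm]; exact (Subgroup.relIndex_mul_relIndex Q (Q ⊔ V) Nn le_sup_left hle).symm⟩
      have h2 : Q.relIndex Nn ∣ Q.index := Subgroup.relIndex_dvd_index_of_le hQN
      exact hQidx (hqd.trans (h1.trans h2))
    · have h1 : (Q ⊔ V).relIndex Nn ∣ V.relIndex Nn :=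
        ⟨V.relIndex (Q ⊔ V), by
          rw [mul_comm]; exact (Subgroup.relIndex_mul_relIndex V (Q ⊔ V) Nn le_sup_right hle).symm⟩
      exact hV.2.2 q hq hqr (hqd.trans h1)
  refine ⟨S', V, hAQ, hQK, hXQ, hXV, hQN, hVN, hdisj, ?_⟩
  intro n hn
  have hn' : n ∈ ((Q ⊔ V : Subgroup G) : Set G) := hsup hn
  rw [Subgroup.coe_mul_of_right_le_normalizer_left Q V hVN] at hn'
  obtain ⟨s, hs, v, hv, rfl⟩ := Set.mem_mul.mp hn'
  exact ⟨s, hs, v, hv, rfl⟩

end Cfsg.Agent.Helper71.BG142L4
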