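import Mathlib
import Cfsg.Prelude.Def_OddOrder
import Cfsg.Prelude.Def_OddOrderLocal
import Cfsg.Agent.Lib.Helper71.BG142L4c

/-!
# (L4) CONFIG A kill of B-G 14.2: the lemma (1c) requested by helper51 (#3253) (helper71)

`exists_invariant_sylow_of_line`: given ANY Sylow `r`-subgroup `S'` of `G` over `A` and a line
`1 ≠ Z0 ≤ A` with `N_G(S') ≤ N_G(Z0)` and `N_G(A) ≤ N_G(Z0)`, there is a Sylow `r`-subgroup `S` of `G`
with `A ≤ S` and `X ≤ N_G(S)` (and a complement `V ≥ X` of `S` in `N_G(S)`, and a maximal subgroup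
`L ≥ N_G(A)` with `S ≤ L_σ`).  No S1422.  Rows S1350(1), S1408 (`r` not ideal), S1414 as hypotheses.
-/

set_option autoImplicit false

namespace Cfsg.Agent.Helper71.BG142L4

open Subgroup Cfsg
open Cfsg.Agent.Helper84 (IsSylIn)

variable {G : Type*} [Group G]

/-- `L` maximal containing `N_G(S')` for a Sylow `r`-subgroup `S' ≥ A` of `G`, `X ≤ L` of prime
order `p ≠ r` normalizing but not centralizing the elementary abelian `A`: then `r ∈ σ(L)` and
`p ∉ σ(L)`. -/
theorem sigma_facts_of_normalizer_le [Finite G] (L : Subgroup G) (_hL : IsCoatom L)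
    (r p : ℕ) [hr : Fact r.Prime] [hp : Fact p.Prime] (hpr : p ≠ r)
    (A X : Subgroup G) (S' : Sylow r G)
    (hA : IsElementaryAbelian r A) (hAp : IsPGroup r A) (hA1 : A ≠ ⊥)
    (hAS : A ≤ (S' : Subgroup G))
    (hNS : normalizer ((S' : Subgroup G) : Set G) ≤ L)
    (hnotideal : ¬ IsIdealPrime r G)
    (h50 : IsPiHallOf (sigma L) (sigmaCore L) L)
    (h14 : r ∣ Nat.card L → r ∉ beta L → HasNormalPComplement r ↥(sigmaCore L))
    (hXL : X ≤ L) (hXA : X ≤ normalizer (A : Set G)) (hX : Nat.card X = p)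
    (hXnA : ¬ X ≤ centralizer (A : Set G)) :
    r ∈ sigma L ∧ p ∉ sigma L := by
  classical
  have hrp : r.Prime := hr.out
  have hSL : (S' : Subgroup G) ≤ L := le_normalizer.trans hNS
  have hAL : A ≤ L := hAS.trans hSL
  have hrL : r ∣ Nat.card L := by
    obtain ⟨n, hn⟩ := IsPGroup.iff_card.mp hAp
    have hn0 : n ≠ 0 := by
      intro h0
      rw [h0, pow_zero] at hn
      exact hA1 (Subgroup.card_eq_one.mp hn)
    have h1 : r ∣ Nat.card A := by rw [hn]; exact dvd_pow_self r hn0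
    exact h1.trans (Subgroup.card_dvd_of_le hAL)
  have hrσ : r ∈ sigma L := by
    refine ⟨hrp, hrL, S'.subtype hSL, ?_⟩
    rw [Sylow.coe_subtype, Subgroup.map_subgroupOf_eq_of_le hSL]
    exact hNS
  refine ⟨hrσ, ?_⟩
  intro hpσ
  have hrβ : r ∉ beta L := fun h => hnotideal h.2
  obtain ⟨P, N, hNn, hNP⟩ := h14 hrL hrβ
  have hKL : sigmaCore L ≤ L := h50.1
  have hLK : L ≤ normalizer ((sigmaCore L : Subgroup G) : Set G) :=
    Cfsg.Agent.Helper54.le_normalizer_piCoreOf (sigma L) L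
  have hXp : IsPGroup p X := IsPGroup.of_card (n := 1) (by rw [hX, pow_one])
  have hXK : X ≤ sigmaCore L :=
    Cfsg.Agent.Helper71.BG142.pgroup_le_normal_hall hKL hLK (h50.2.2 p hp.out hpσ) hXL hXp
  have hAK : A ≤ sigmaCore L :=
    Cfsg.Agent.Helper71.BG142.pgroup_le_normal_hall hKL hLK (h50.2.2 r hrp hrσ) hAL hAp
  obtain ⟨hmemN, hNr⟩ := mem_normal_complement hp.out hpr P N hNn hNP
  apply hXnA
  intro x hx
  rw [mem_centralizer_iff]
  intro a ha
  have hxp : x ^ p = 1 := by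
    have h1 : (⟨x, hx⟩ : X) ^ Nat.card X = 1 := pow_card_eq_one'
    rw [hX] at h1
    exact congrArg Subtype.val h1
  set xK : ↥(sigmaCore L) := ⟨x, hXK hx⟩ with hxK
  set aK : ↥(sigmaCore L) := ⟨a, hAK ha⟩ with haK
  have hxN : xK ∈ N := hmemN xK (by apply Subtype.ext; simpa using hxp)
  have hcN : aK * xK * aK⁻¹ * xK⁻¹ ∈ N := N.mul_mem (hNn.conj_mem xK hxN aK) (N.inv_mem hxN)
  have hcA : a * x * a⁻¹ * x⁻¹ ∈ A := by
    have h1 : x * a⁻¹ * x⁻¹ ∈ A := (mem_normalizer_iff.mp (hXA hx) a⁻¹).mp (A.inv_mem ha)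
    have h2 : a * x * a⁻¹ * x⁻¹ = a * (x * a⁻¹ * x⁻¹) := by group
    rw [h2]
    exact A.mul_mem ha h1
  have hcr : (aK * xK * aK⁻¹ * xK⁻¹) ^ r = 1 := by
    apply Subtype.ext
    have := hA.2 _ hcA
    simpa using this
  have hc1 : aK * xK * aK⁻¹ * xK⁻¹ = 1 := by
    have h1 : orderOf (⟨aK * xK * aK⁻¹ * xK⁻¹, hcN⟩ : N) ∣ r := by
      apply orderOf_dvd_of_pow_eq_one
      apply Subtype.ext
      simpa using hcr
    have h2 : orderOf (⟨aK * xK * aK⁻¹ * xK⁻¹, hcN⟩ : N) ∣ Nat.card N := orderOf_dvd_natCard _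
    rcases (Nat.dvd_prime hrp).mp h1 with h | h
    · have := orderOf_eq_one_iff.mp h
      exact congrArg Subtype.val this
    · exact absurd (h ▸ h2) hNr
  have hc1' : a * x * a⁻¹ * x⁻¹ = 1 := by
    have := congrArg (fun t : ↥(sigmaCore L) => (t : G)) hc1
    simpa using this
  calc a * x = (a * x * a⁻¹ * x⁻¹) * (x * a) := by group
    _ = x * a := by rw [hc1', one_mul]

/-- **(1c) as requested by helper51.** -/
theorem exists_invariant_sylow_of_line [Finite G] (hG : IsMinSimpleOddOrder G)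
    (r p : ℕ) [hr : Fact r.Prime] [hp : Fact p.Prime] (hpr : p ≠ r)
    (A X Z0 : Subgroup G) (S' : Sylow r G)
    (hA : IsElementaryAbelian r A) (hAc : Nat.card A = r ^ 2) (hAS : A ≤ (S' : Subgroup G))
    (hZ01 : Z0 ≠ ⊥) (hZ0A : Z0 ≤ A)
    (hNSZ : normalizer ((S' : Subgroup G) : Set G) ≤ normalizer (Z0 : Set G))
    (hNAZ : normalizer (A : Set G) ≤ normalizer (Z0 : Set G))
    -- S1408
    (hnotideal : ¬ IsIdealPrime r G)
    -- S1350(1) and S1414 for every maximal subgroup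
    (h50 : ∀ L : Subgroup G, IsCoatom L → IsPiHallOf (sigma L) (sigmaCore L) L)
    (h14 : ∀ L : Subgroup G, IsCoatom L → r ∣ Nat.card L → r ∉ beta L →
      HasNormalPComplement r ↥(sigmaCore L))
    (hXA : X ≤ normalizer (A : Set G)) (hX : Nat.card X = p)
    (hXnA : ¬ X ≤ centralizer (A : Set G)) :
    ∃ (S : Sylow r G) (V L : Subgroup G), A ≤ (S : Subgroup G) ∧
      X ≤ normalizer ((S : Subgroup G) : Set G) ∧ X ≤ V ∧
      IsComplIn (S : Subgroup G) V (normalizer ((S : Subgroup G) : Set G)) ∧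
      IsCoatom L ∧ normalizer (A : Set G) ≤ L ∧ (S : Subgroup G) ≤ sigmaCore L ∧
      r ∈ sigma L ∧ p ∉ sigma L := by
  classical
  have hrp : r.Prime := hr.out
  have hsimple : IsSimpleGroup G := hG.2.1
  have hAp : IsPGroup r A := IsPGroup.of_card hAc
  have hA1 : A ≠ ⊥ := by
    intro h
    rw [h, Subgroup.card_bot] at hAc
    have : 1 < r ^ 2 := Nat.one_lt_pow (by norm_num) hrp.one_lt
    omega
  have hZ0top : Z0 ≠ ⊤ := by
    intro h
    -- then `A = ⊤`, so `G` is an `r`-group, hence solvable: impossible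
    have hAtop : A = ⊤ := by rw [eq_top_iff, ← h]; exact hZ0A
    have hGp : IsPGroup r G := by
      intro g
      obtain ⟨k, hk⟩ := hAp ⟨g, hAtop ▸ Subgroup.mem_top g⟩
      exact ⟨k, by simpa using congrArg Subtype.val hk⟩
    have hnil : Group.IsNilpotent G := hGp.isNilpotent
    have hsol : Group.IsSolvable G := inferInstance
    have hcomm := (IsSimpleGroup.comm_iff_isSolvable (G := G)).mpr hsol
    exact hG.2.2.1 ⟨⟨hcomm⟩⟩
  have hNZtop : normalizer (Z0 : Set G) ≠ ⊤ :=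
    Cfsg.Agent.Helper54.normalizer_ne_top_of_isSimpleGroup Z0 hZ01 hZ0top
  rcases eq_top_or_exists_le_coatom (normalizer (Z0 : Set G)) with h | ⟨L, hL, hNZL⟩
  · exact absurd h hNZtop
  have hNS : normalizer ((S' : Subgroup G) : Set G) ≤ L := hNSZ.trans hNZL
  have hNAL : normalizer (A : Set G) ≤ L := hNAZ.trans hNZL
  have hXL : X ≤ L := hXA.trans hNAL
  have hAL : A ≤ L := hAS.trans (le_normalizer.trans hNS)
  obtain ⟨hrσ, hpσ⟩ := sigma_facts_of_normalizer_le L hL r p hpr A X S' hA hAp hA1 hAS hNS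
    hnotideal (h50 L hL) (h14 L hL) hXL hXA hX hXnA
  obtain ⟨S, V, hAS', hSK, hXS, hXV, hcompl⟩ :=
    exists_invariant_sylow_compl hG L hL r p hpr A X hAp hA1 hAL hXL hX hXA hrσ hpσ (h50 L hL)
  exact ⟨S, V, L, hAS', hXS, hXV, hcompl, hL, hNAL, hSK, hrσ, hpσ⟩

end Cfsg.Agent.Helper71.BG142L4
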