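import Mathlib
import Cfsg.Prelude.Def_OddOrderLocal
import Cfsg.Agent.Lib.Helper24.RankTwoAut

/-!
# (L3) of helper54's proof of B-G 14.2 (helper71)

A solvable group `N` of odd order normalizing an `r`-group `A` of rank at most 2, with
`|N : C_N(A)|` prime to `r`, acts on `A` as an abelian group: all commutators of `N` centralize `A`.
Consequently `N` normalizes `C_A(X)` for every subgroup `X ≤ N`.
-/

set_option autoImplicit false

namespace Cfsg.Agent.Helper71.BG142

open Subgroup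
open scoped commutatorElement

variable {G : Type*} [Group G]

/-- the conjugation action of `N ≤ N_G(A)` on `A` -/
noncomputable def conjHomL3 (A N : Subgroup G)
    (hN : N ≤ Subgroup.normalizer (A : Set G)) : ↥N →* MulAut ↥A :=
  (A.normalizerMonoidHom).comp (Subgroup.inclusion hN)

theorem conjHomL3_apply (A N : Subgroup G)
    (hN : N ≤ Subgroup.normalizer (A : Set G)) (n : N) (x : A) :
    ((conjHomL3 A N hN n x : ↥A) : G) = n * x * (n : G)⁻¹ := rfl

theorem mem_ker_conjHomL3_iff (A N : Subgroup G)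
    (hN : N ≤ Subgroup.normalizer (A : Set G)) (n : N) :
    n ∈ (conjHomL3 A N hN).ker ↔ (n : G) ∈ Subgroup.centralizer (A : Set G) := by
  rw [MonoidHom.mem_ker, Subgroup.mem_centralizer_iff]
  constructor
  · intro h x hx
    have h1 : conjHomL3 A N hN n ⟨x, hx⟩ = ⟨x, hx⟩ := by rw [h]; rfl
    have h2 := congrArg Subtype.val h1
    rw [conjHomL3_apply] at h2
    have h3 : (n : G) * x * (n : G)⁻¹ = x := h2
    calc x * (n : G) = ((n : G) * x * (n : G)⁻¹) * (n : G) := by rw [h3]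
      _ = (n : G) * x := by group
  · intro h
    ext x
    rw [conjHomL3_apply]
    have h3 := h x x.2
    show (n : G) * x * (n : G)⁻¹ = ((1 : MulAut ↥A) x : G)
    rw [MulAut.one_apply, ← h3]
    group

/-- **(L3)**: all commutators of `N` centralize `A`. -/
theorem commutator_mem_centralizer_of_rank_two [Finite G] {r : ℕ} [Fact r.Prime] (hr2 : r ≠ 2)
    (A N : Subgroup G) (hA : IsPGroup r A) (hArk : Cfsg.PRankLE r 2 A)
    (hN : N ≤ Subgroup.normalizer (A : Set G)) (hNs : Group.IsSolvable N)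
    (hNodd : Odd (Nat.card N))
    (hcop : ¬ r ∣ (N ⊓ Subgroup.centralizer (A : Set G)).relIndex N) :
    ∀ n ∈ N, ∀ x ∈ N, ⁅n, x⁆ ∈ Subgroup.centralizer (A : Set G) := by
  classical
  set φ := conjHomL3 A N hN with hφ
  have hr : r.Prime := Fact.out
  -- the quotient acts faithfully
  have hinj : Function.Injective (QuotientGroup.kerLift φ) := QuotientGroup.kerLift_injective φ
  have hQodd : Odd (Nat.card (↥N ⧸ φ.ker)) := by
    have hdvd : Nat.card (↥N ⧸ φ.ker) ∣ Nat.card N := Subgroup.card_quotient_dvd_card _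
    exact Odd.of_dvd_nat hNodd hdvd
  have hQs : Group.IsSolvable (↥N ⧸ φ.ker) :=
    Group.isSolvable_of_surjective (QuotientGroup.mk'_surjective φ.ker)
  have hcomm : IsPGroup r (commutator (↥N ⧸ φ.ker)) :=
    Cfsg.Agent.Helper24.RankTwoAut.isPGroup_commutator_of_rank_two hr2 hA hArk
      (QuotientGroup.kerLift φ) hinj hQodd hQs
  -- the kernel is `N ⊓ C(A)` inside `N`
  have hker : φ.ker = (N ⊓ Subgroup.centralizer (A : Set G)).subgroupOf N := by
    ext n
    rw [mem_ker_conjHomL3_iff, Subgroup.mem_subgroupOf, Subgroup.mem_inf]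
    exact ⟨fun h => ⟨n.2, h⟩, fun h => h.2⟩
  have hQcard : Nat.card (↥N ⧸ φ.ker) = (N ⊓ Subgroup.centralizer (A : Set G)).relIndex N := by
    rw [Subgroup.relIndex, ← hker]; rfl
  have hbot : commutator (↥N ⧸ φ.ker) = ⊥ := by
    obtain ⟨k, hk⟩ := IsPGroup.iff_card.mp hcomm
    have hdvd : Nat.card (commutator (↥N ⧸ φ.ker)) ∣ Nat.card (↥N ⧸ φ.ker) :=
      Subgroup.card_subgroup_dvd_card _
    rcases Nat.eq_zero_or_pos k with h0 | hpos
    · rw [h0, pow_zero] at hk
      exact (Subgroup.card_eq_one).mp hk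
    · exfalso
      apply hcop
      rw [← hQcard]
      exact (dvd_pow_self r (Nat.pos_iff_ne_zero.mp hpos)).trans (hk ▸ hdvd)
  intro n hn x hx
  let qn : ↥N ⧸ φ.ker := QuotientGroup.mk (⟨n, hn⟩ : N)
  let qx : ↥N ⧸ φ.ker := QuotientGroup.mk (⟨x, hx⟩ : N)
  have h1 : ⁅qn, qx⁆ = (1 : ↥N ⧸ φ.ker) := by
    have hmem : ⁅qn, qx⁆ ∈ commutator (↥N ⧸ φ.ker) := by
      rw [commutator_def]
      exact Subgroup.commutator_mem_commutator (Subgroup.mem_top _) (Subgroup.mem_top _)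
    rw [hbot, Subgroup.mem_bot] at hmem
    exact hmem
  have h2 : (⁅(⟨n, hn⟩ : N), ⟨x, hx⟩⁆ : N) ∈ φ.ker := by
    rw [← QuotientGroup.eq_one_iff]
    have : ((⁅(⟨n, hn⟩ : N), ⟨x, hx⟩⁆ : N) : ↥N ⧸ φ.ker) = ⁅qn, qx⁆ := by
      simp only [commutatorElement_def, qn, qx, QuotientGroup.mk_mul, QuotientGroup.mk_inv]
    rw [this, h1]
  have h3 := (mem_ker_conjHomL3_iff A N hN _).mp h2
  simpa [commutatorElement_def] using h3

/-- **(L3), corollary**: `N` normalizes `C_A(X)` for each `X ≤ N`. -/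
theorem le_normalizer_inf_centralizer_of_rank_two [Finite G] {r : ℕ} [Fact r.Prime] (hr2 : r ≠ 2)
    (A N : Subgroup G) (hA : IsPGroup r A) (hArk : Cfsg.PRankLE r 2 A)
    (hN : N ≤ Subgroup.normalizer (A : Set G)) (hNs : Group.IsSolvable N)
    (hNodd : Odd (Nat.card N))
    (hcop : ¬ r ∣ (N ⊓ Subgroup.centralizer (A : Set G)).relIndex N)
    (X : Subgroup G) (hXN : X ≤ N) :
    N ≤ Subgroup.normalizer ((A ⊓ Subgroup.centralizer (X : Set G) : Subgroup G) : Set G) := by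
  have hc := commutator_mem_centralizer_of_rank_two hr2 A N hA hArk hN hNs hNodd hcop
  -- one direction, for every `n ∈ N`
  have key : ∀ n ∈ N, ∀ a ∈ A ⊓ Subgroup.centralizer (X : Set G),
      n * a * n⁻¹ ∈ A ⊓ Subgroup.centralizer (X : Set G) := by
    intro n hn a ha
    have haA : a ∈ A := ha.1
    have haX := Subgroup.mem_centralizer_iff.mp ha.2
    refine Subgroup.mem_inf.mpr ⟨?_, ?_⟩
    · exact (Subgroup.mem_normalizer_iff.mp (hN hn) a).mp haA
    · rw [Subgroup.mem_centralizer_iff]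
      intro x hx
      -- `c = ⁅x⁻¹, n⁻¹⁆` centralizes `A`, and `n⁻¹ x n = x c`
      have hcx : ⁅x⁻¹, n⁻¹⁆ ∈ Subgroup.centralizer (A : Set G) :=
        hc x⁻¹ (N.inv_mem (hXN hx)) n⁻¹ (N.inv_mem hn)
      have h1 := Subgroup.mem_centralizer_iff.mp hcx a haA
      have h2 := haX x hx
      rw [commutatorElement_def] at h1
      -- h1 : a * (x⁻¹ * n⁻¹ * x⁻¹⁻¹ * n⁻¹⁻¹) = (x⁻¹ * n⁻¹ * x⁻¹⁻¹ * n⁻¹⁻¹) * a ; h2 : x * a = a * x
      have h3 : a * (x⁻¹ * n⁻¹ * x * n) = (x⁻¹ * n⁻¹ * x * n) * a := by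
        simpa using h1
      -- goal : x * (n * a * n⁻¹) = n * a * n⁻¹ * x
      have h4 : n⁻¹ * x * n = x * (x⁻¹ * n⁻¹ * x * n) := by group
      have h5 : (n⁻¹ * x * n) * a = a * (n⁻¹ * x * n) := by
        rw [h4, mul_assoc, ← h3, ← mul_assoc, h2, mul_assoc]
      calc x * (n * a * n⁻¹) = n * ((n⁻¹ * x * n) * a) * n⁻¹ := by group
        _ = n * (a * (n⁻¹ * x * n)) * n⁻¹ := by rw [h5]
        _ = n * a * n⁻¹ * x := by group
  intro n hn
  rw [Subgroup.mem_normalizer_iff]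
  intro a
  constructor
  · exact key n hn a
  · intro h
    have := key n⁻¹ (N.inv_mem hn) _ h
    simpa [mul_assoc] using this

end Cfsg.Agent.Helper71.BG142
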