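import Mathlib
import Cfsg.Prelude.Def_OddOrder
import Cfsg.Prelude.Def_OddOrderLocal
import Cfsg.Agent.Lib.Helper71.BG142L3
import Cfsg.Agent.Lib.Helper55.BGBasic

/-!
# (L5) of helper54's proof of B-G 14.2 (helper71): `C_E(X)` contains no `τ₂`-element

Hypothesis-parametrised: the frozen rows S1417(d), S1418, S1419, S1428 and the CONFIG A kill (L4)
enter as explicit hypotheses (`no_tau2_core`: minimal shapes; `L5`: the verbatim conclusions of the
frozen rows, so that the assembler can feed `Cfsg.Agent.S14xx.result ...` directly).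
-/

set_option autoImplicit false

namespace Cfsg.Agent.Helper71.BG142

open Subgroup Cfsg

variable {G : Type*} [Group G]

/-- **(L5), core form.** -/
theorem no_tau2_core [Finite G] (hG : Cfsg.IsMinSimpleOddOrder G)
    (M : Subgroup G) (hM : IsCoatom M) (E : Subgroup G) (hEM : E ≤ M)
    (r : ℕ) [Fact r.Prime]
    (X : Subgroup G) (hXE : X ≤ E)
    (hC : Cfsg.sigmaCore M ⊓ Subgroup.centralizer (X : Set G) ≠ ⊥)
    (R : Subgroup G) (hRE : R ≤ E ⊓ Subgroup.centralizer (X : Set G)) (hR : Nat.card R = r)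
    (A : Subgroup G) (hA : A ≤ E ∧ Cfsg.IsElementaryAbelian r A ∧ Nat.card A = r ^ 2)
    (h1428 : ∀ R' : Subgroup G, R' ≤ E ⊓ Subgroup.centralizer (X : Set G) → (Nat.card R').Prime →
      Cfsg.sigmaCore M ⊓ Subgroup.centralizer (X : Set G) ≤
        Cfsg.sigmaCore M ⊓ Subgroup.centralizer (R' : Set G))
    (h1417d : Cfsg.sigmaCore M ⊓ Subgroup.centralizer (A : Set G) = ⊥)
    (h1418a : E ≤ Subgroup.normalizer (A : Set G))
    (h1418a' : ∀ X' : Subgroup G, X' ≤ E → Nat.card X' = r → X' ≤ A)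
    (h1418b : ¬ Subgroup.normalizer (A : Set G) ≤ M)
    (h1418c : ∀ X' : Subgroup G, X' ≤ A → Nat.card X' = r →
      Cfsg.sigmaCore M ⊓ Subgroup.centralizer (X' : Set G) ≠ ⊥ →
        ∀ L : Subgroup G, IsCoatom L → Subgroup.centralizer (X' : Set G) ≤ L → L = M)
    (h1419 : (∀ S : Sylow r G, ¬ IsMulCommutative (S : Subgroup G)) →
      ∀ X' : Subgroup G, X' ≤ E → Nat.card X' = r →
        X' ≠ A ⊓ Subgroup.centralizer (Cfsg.sigmaCore M : Set G) →
          Cfsg.sigmaCore M ⊓ Subgroup.centralizer (X' : Set G) = ⊥)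
    (hL4 : (∀ S : Sylow r G, ¬ IsMulCommutative (S : Subgroup G)) →
      X ≤ Subgroup.centralizer ((A ⊓ Subgroup.centralizer (Cfsg.sigmaCore M : Set G) : Subgroup G) : Set G) →
        ¬ X ≤ Subgroup.centralizer (A : Set G) → False) :
    False := by
  classical
  have hr : r.Prime := Fact.out
  have : IsSimpleGroup G := hG.2.1
  obtain ⟨hAE, ⟨hAcomm, hAexp⟩, hAcard⟩ := hA
  have hGodd : Odd (Nat.card G) := hG.1
  -- r is odd
  have hr2 : r ≠ 2 := by
    intro h2
    have hdvd : r ∣ Nat.card G := hR ▸ Subgroup.card_subgroup_dvd_card R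
    rw [h2] at hdvd
    exact (Nat.not_even_iff_odd.mpr hGodd) (even_iff_two_dvd.mpr hdvd)
  -- (1) R ≤ A
  have hRE' : R ≤ E := hRE.trans inf_le_left
  have hRX : R ≤ Subgroup.centralizer (X : Set G) := hRE.trans inf_le_right
  have hRA : R ≤ A := h1418a' R hRE' hR
  -- (2) X does not centralize A
  have hXnA : ¬ X ≤ Subgroup.centralizer (A : Set G) := by
    intro hXA
    apply hC
    rw [eq_bot_iff, ← h1417d]
    intro y hy
    refine Subgroup.mem_inf.mpr ⟨hy.1, ?_⟩
    rw [Subgroup.mem_centralizer_iff]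
    intro a ha
    by_cases ha1 : a = 1
    · rw [ha1, one_mul, mul_one]
    · have hord : orderOf a = r := orderOf_eq_prime (hAexp a ha) ha1
      have hcard : Nat.card (Subgroup.zpowers a) = r := by rw [Nat.card_zpowers, hord]
      have hle : Subgroup.zpowers a ≤ E ⊓ Subgroup.centralizer (X : Set G) := by
        rw [Subgroup.zpowers_le]
        refine Subgroup.mem_inf.mpr ⟨hAE ha, ?_⟩
        rw [Subgroup.mem_centralizer_iff]
        intro x hx
        exact (Subgroup.mem_centralizer_iff.mp (hXA hx) a ha).symm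
      have h := h1428 (Subgroup.zpowers a) hle (hcard ▸ hr) hy
      exact Subgroup.mem_centralizer_iff.mp h.2 a (Subgroup.mem_zpowers a)
  -- (3) C_A(X) = R
  have hAX : A ⊓ Subgroup.centralizer (X : Set G) = R := by
    have hle : R ≤ A ⊓ Subgroup.centralizer (X : Set G) := le_inf hRA hRX
    have hdvd : Nat.card ↥(A ⊓ Subgroup.centralizer (X : Set G)) ∣ r ^ 2 :=
      hAcard ▸ Subgroup.card_dvd_of_le inf_le_left
    obtain ⟨k, hk2, hk⟩ := (Nat.dvd_prime_pow hr).mp hdvd
    have hk1 : k ≠ 0 := by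
      intro h0
      rw [h0, pow_zero] at hk
      have := Subgroup.card_dvd_of_le hle
      rw [hk, hR] at this
      exact hr.one_lt.ne' (Nat.dvd_one.mp this)
    have hk' : k = 1 := by
      rcases Nat.lt_or_ge k 2 with h | h
      · omega
      · exfalso
        have hk2' : k = 2 := le_antisymm hk2 h
        rw [hk2'] at hk
        have heq : A ⊓ Subgroup.centralizer (X : Set G) = A :=
          Subgroup.eq_of_le_of_card_ge inf_le_left (by rw [hk, hAcard])
        apply hXnA
        rw [Subgroup.le_centralizer_iff]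
        rw [← heq]
        exact inf_le_right
    rw [hk', pow_one] at hk
    exact (Subgroup.eq_of_le_of_card_ge hle (by rw [hk, hR])).symm
  -- (4) C_{M_σ}(R) ≠ 1, hence N_G(R) ≤ M
  have hCR : Cfsg.sigmaCore M ⊓ Subgroup.centralizer (R : Set G) ≠ ⊥ := by
    intro h
    apply hC
    rw [eq_bot_iff, ← h]
    exact h1428 R hRE (hR ▸ hr)
  have hR1 : R ≠ ⊥ := by
    intro h
    rw [h, Subgroup.card_bot] at hR
    exact hr.one_lt.ne' hR.symm
  have hMtop : M ≠ ⊤ := hM.1
  have hRt : R ≠ ⊤ := by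
    intro h
    apply hMtop
    rw [eq_top_iff, ← h]
    exact hRE'.trans hEM
  have hNR : Subgroup.normalizer (R : Set G) ≤ M :=
    Cfsg.Agent.Helper55.BGB.normalizer_le_of_unique hR1 hRt (h1418c R hRA hR hCR)
  -- (5) the two cases
  by_cases hS : ∀ S : Sylow r G, ¬ IsMulCommutative (S : Subgroup G)
  · -- nonabelian Sylow: CONFIG A
    have hRA0 : R = A ⊓ Subgroup.centralizer (Cfsg.sigmaCore M : Set G) := by
      by_contra hne
      exact hCR (h1419 hS R hRE' hR hne)
    refine hL4 hS ?_ hXnA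
    rw [← hRA0, Subgroup.le_centralizer_iff]
    exact hRX
  · -- abelian Sylow: (L3)
    push Not at hS
    obtain ⟨S, hScomm⟩ := hS
    have hAp : IsPGroup r A := by
      intro a
      exact ⟨1, by
        rw [pow_one]
        have := hAexp a a.2
        exact Subtype.ext (by simpa using this)⟩
    obtain ⟨S', hAS'⟩ := hAp.exists_le_sylow
    obtain ⟨g, hg⟩ := MulAction.exists_smul_eq G S' S
    -- S' is commutative
    have hS'comm : ∀ u ∈ (S' : Subgroup G), ∀ v ∈ (S' : Subgroup G), u * v = v * u := by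
      intro u hu v hv
      have hmem : ∀ w ∈ (S' : Subgroup G), g * w * g⁻¹ ∈ (S : Subgroup G) := by
        intro w hw
        rw [← hg, Sylow.coe_subgroup_smul, Subgroup.mem_pointwise_smul_iff_inv_smul_mem]
        have : (MulAut.conj g)⁻¹ • (g * w * g⁻¹) = w := by
          rw [← map_inv, MulAut.smul_def, MulAut.conj_apply]
          group
        rw [this]
        exact hw
      have h1 := hmem u hu
      have h2 := hmem v hv
      have h3 : (⟨g * u * g⁻¹, h1⟩ : (S : Subgroup G)) * ⟨g * v * g⁻¹, h2⟩ =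
          ⟨g * v * g⁻¹, h2⟩ * ⟨g * u * g⁻¹, h1⟩ := hScomm.is_comm.comm _ _
      have h4 := congrArg Subtype.val h3
      simp only [Subgroup.coe_mul] at h4
      have h5 : g * (u * v) * g⁻¹ = g * (v * u) * g⁻¹ := by
        calc g * (u * v) * g⁻¹ = (g * u * g⁻¹) * (g * v * g⁻¹) := by group
          _ = (g * v * g⁻¹) * (g * u * g⁻¹) := h4
          _ = g * (v * u) * g⁻¹ := by group
      exact mul_left_cancel (mul_right_cancel h5)
    have hS'C : (S' : Subgroup G) ≤ Subgroup.centralizer (A : Set G) := by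
      intro u hu
      rw [Subgroup.mem_centralizer_iff]
      intro a ha
      exact hS'comm a (hAS' ha) u hu
    set N := Subgroup.normalizer (A : Set G) with hNdef
    have hCN : Subgroup.centralizer (A : Set G) ≤ N := Subgroup.centralizer_le_normalizer _
    have hA1 : A ≠ ⊥ := by
      intro h
      rw [h, Subgroup.card_bot] at hAcard
      have : 1 < r ^ 2 := Nat.one_lt_pow (by norm_num) hr.one_lt
      omega
    have hAt : A ≠ ⊤ := by
      intro h
      apply hMtop
      rw [eq_top_iff, ← h]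
      exact hAE.trans hEM
    have hNtop : N ≠ ⊤ := Cfsg.Agent.Helper54.normalizer_ne_top_of_isSimpleGroup A hA1 hAt
    have hNs : Group.IsSolvable N := hG.2.2.2 N hNtop
    have hNodd : Odd (Nat.card N) := Odd.of_dvd_nat hGodd (Subgroup.card_subgroup_dvd_card N)
    have hcop : ¬ r ∣ (N ⊓ Subgroup.centralizer (A : Set G)).relIndex N := by
      intro hdvd
      have h1 : (N ⊓ Subgroup.centralizer (A : Set G)).relIndex N ∣
          (N ⊓ Subgroup.centralizer (A : Set G)).index :=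
        ⟨N.index, (Subgroup.relIndex_mul_index inf_le_left).symm⟩
      have h2 : (N ⊓ Subgroup.centralizer (A : Set G)).index ∣ (S' : Subgroup G).index :=
        Subgroup.index_dvd_of_le (le_inf (hS'C.trans hCN) hS'C)
      exact S'.not_dvd_index (hdvd.trans (h1.trans h2))
    have hArk : Cfsg.PRankLE r 2 A := by
      intro B _ _
      rw [← hAcard]
      exact Subgroup.card_le_card_group B
    have hXN : X ≤ N := hXE.trans h1418a
    have hfin := le_normalizer_inf_centralizer_of_rank_two hr2 A N hAp hArk le_rfl hNs hNodd hcop X hXN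
    rw [hAX] at hfin
    exact h1418b (hfin.trans hNR)

/-- **(L5)** with the frozen rows in verbatim shape: `h1428` is
`Cfsg.Agent.S1428.result hG M hM E hE p hp X hXE hX`, `h1417` is `Cfsg.Agent.S1417.result hG M hM r hr A ⟨_, _, _⟩`,
`h1418` is `Cfsg.Agent.S1418.result hG M hM E hE r hr A hA`, `h1419` is
`fun hS => Cfsg.Agent.S1419.result hG M hM E hE r hr hS A hA`, and `hL4` is the CONFIG A kill. -/
theorem L5 [Finite G] (hG : Cfsg.IsMinSimpleOddOrder G)
    (M : Subgroup G) (hM : IsCoatom M) (E : Subgroup G) (hE : Cfsg.IsComplIn E (Cfsg.sigmaCore M) M)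
    (r : ℕ) [Fact r.Prime]
    (X : Subgroup G) (hXE : X ≤ E)
    (hC : Cfsg.sigmaCore M ⊓ Subgroup.centralizer (X : Set G) ≠ ⊥)
    (R : Subgroup G) (hRE : R ≤ E ⊓ Subgroup.centralizer (X : Set G)) (hR : Nat.card R = r)
    (A : Subgroup G) (hA : A ≤ E ∧ Cfsg.IsElementaryAbelian r A ∧ Nat.card A = r ^ 2)
    (h1428 : ∀ R' : Subgroup G, R' ≤ E ⊓ Subgroup.centralizer (X : Set G) → (Nat.card R').Prime →
      Cfsg.sigmaCore M ⊓ Subgroup.centralizer (X : Set G) ≤
        Cfsg.sigmaCore M ⊓ Subgroup.centralizer (R' : Set G))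
    (h1417 : Group.IsNilpotent (Cfsg.sigmaCore M) ∧
      (∀ P : Sylow r M, IsMulCommutative (P : Subgroup M) ∧
        (A ≤ (P : Subgroup M).map M.subtype →
          (∀ x ∈ (P : Subgroup M).map M.subtype, x ^ r = 1 ↔ x ∈ A) ∧
          ¬ Subgroup.normalizer ((((P : Subgroup M).map M.subtype : Subgroup G)) : Set G) ≤ M)) ∧
      M ≤ Subgroup.normalizer ((Cfsg.sigmaCore M ⊔ A : Subgroup G) : Set G) ∧
      Cfsg.sigmaCore M ⊓ Subgroup.centralizer (A : Set G) = ⊥ ∧
      (∀ Mstar : Subgroup G, IsCoatom Mstar → Mstar ≠ M → A ≤ Mstar → Cfsg.sigmaCore M ⊓ Mstar = ⊥) ∧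
      ∃ A₁ : Subgroup G, A₁ ≤ A ∧ Nat.card A₁ = r ∧ Cfsg.sigmaCore M ⊓ Subgroup.centralizer (A₁ : Set G) = ⊥)
    (h1418 : (E ≤ Subgroup.normalizer (A : Set G) ∧ ∀ X : Subgroup G, X ≤ E → Nat.card X = r → X ≤ A) ∧
      (Subgroup.centralizer (A : Set G) ≤ M ⊓ Subgroup.normalizer (A : Set G) ∧ M ⊓ Subgroup.normalizer (A : Set G) = E ∧
        ¬ Subgroup.normalizer (A : Set G) ≤ M) ∧
      ∀ X : Subgroup G, X ≤ A → Nat.card X = r → Cfsg.sigmaCore M ⊓ Subgroup.centralizer (X : Set G) ≠ ⊥ → (Subgroup.centralizer (X : Set G) ≤ M ∧ ∀ L : Subgroup G, IsCoatom L → Subgroup.centralizer (X : Set G) ≤ L → L = M))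
    (h1419 : (∀ S : Sylow r G, ¬ IsMulCommutative (S : Subgroup G)) →
      (Cfsg.tau2 M = {r} ∧
      (Nat.card ↥(A ⊓ Subgroup.centralizer (Cfsg.sigmaCore M : Set G)) = r ∧
        Cfsg.fittingOf M = Cfsg.sigmaCore M ⊔ (A ⊓ Subgroup.centralizer (Cfsg.sigmaCore M : Set G))) ∧
      ∀ X : Subgroup G, X ≤ E → Nat.card X = r → X ≠ A ⊓ Subgroup.centralizer (Cfsg.sigmaCore M : Set G) →
        Cfsg.sigmaCore M ⊓ Subgroup.centralizer (X : Set G) = ⊥ ∧ ¬ Subgroup.centralizer (X : Set G) ≤ M))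
    (hL4 : (∀ S : Sylow r G, ¬ IsMulCommutative (S : Subgroup G)) →
      X ≤ Subgroup.centralizer ((A ⊓ Subgroup.centralizer (Cfsg.sigmaCore M : Set G) : Subgroup G) : Set G) →
        ¬ X ≤ Subgroup.centralizer (A : Set G) → False) :
    False :=
  no_tau2_core hG M hM E hE.1 r X hXE hC R hRE hR A hA h1428 h1417.2.2.2.1
    h1418.1.1 h1418.1.2 h1418.2.1.2.2 (fun X' h1 h2 h3 => (h1418.2.2 X' h1 h2 h3).2)
    (fun hS X' h1 h2 h3 => ((h1419 hS).2.2 X' h1 h2 h3).1) hL4

end Cfsg.Agent.Helper71.BG142
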