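import Mathlib
import Cfsg.Prelude.Def_OddOrder
import Cfsg.Prelude.Def_OddOrderLocal
import Cfsg.Agent.Lib.Helper71.BG142L5

/-!
# BG142 request (Q6) = (L5), core form (helper71)

`core`: the statement of (Q6) `false_of_tau2_centralizes` of `tools/bg142_sigs_helper54.lean.txt`
with the frozen rows S1417, S1418, S1419, S1428 and the CONFIG A kill (L4) as explicit hypotheses
(all in the verbatim shape of the rows, universally quantified; `hCAk` is definitionally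
`Cfsg.Agent.Helper79.BG142Q7.ConfigAKill G`), plus the existence of `E_{r^2} ≤ E`
(`Cfsg.Agent.Helper45.BG143.exists_elemAb_in_compl`).  The verbatim (Q6) is
`Cfsg/Agent/Lib/Helper71/BG142Q6.lean`.
-/

set_option autoImplicit false

namespace Cfsg.Agent.Helper71.BG142Q6

open Subgroup Cfsg

variable {G : Type*} [Group G] [Finite G]

theorem core (hG : Cfsg.IsMinSimpleOddOrder G)
    -- S1417
    (h17 : ∀ (M : Subgroup G), IsCoatom M → ∀ (p : ℕ) [Fact p.Prime], p ∈ Cfsg.tau2 M →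
      ∀ (A : Subgroup G), (A ≤ M ∧ Cfsg.IsElementaryAbelian p A ∧ Nat.card A = p ^ 2) →
      Group.IsNilpotent (Cfsg.sigmaCore M) ∧
      (∀ P : Sylow p M, IsMulCommutative (P : Subgroup M) ∧
        (A ≤ (P : Subgroup M).map M.subtype →
          (∀ x ∈ (P : Subgroup M).map M.subtype, x ^ p = 1 ↔ x ∈ A) ∧
          ¬ Subgroup.normalizer ((((P : Subgroup M).map M.subtype : Subgroup G)) : Set G) ≤ M)) ∧
      M ≤ Subgroup.normalizer ((Cfsg.sigmaCore M ⊔ A : Subgroup G) : Set G) ∧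
      Cfsg.sigmaCore M ⊓ Subgroup.centralizer (A : Set G) = ⊥ ∧
      (∀ Mstar : Subgroup G, IsCoatom Mstar → Mstar ≠ M → A ≤ Mstar → Cfsg.sigmaCore M ⊓ Mstar = ⊥) ∧
      ∃ A₁ : Subgroup G, A₁ ≤ A ∧ Nat.card A₁ = p ∧
        Cfsg.sigmaCore M ⊓ Subgroup.centralizer (A₁ : Set G) = ⊥)
    -- S1418
    (h18 : ∀ (M : Subgroup G), IsCoatom M → ∀ (E : Subgroup G),
      Cfsg.IsComplIn E (Cfsg.sigmaCore M) M → ∀ (p : ℕ) [Fact p.Prime], p ∈ Cfsg.tau2 M →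
      ∀ (A : Subgroup G), (A ≤ E ∧ Cfsg.IsElementaryAbelian p A ∧ Nat.card A = p ^ 2) →
      (E ≤ Subgroup.normalizer (A : Set G) ∧ ∀ X : Subgroup G, X ≤ E → Nat.card X = p → X ≤ A) ∧
      (Subgroup.centralizer (A : Set G) ≤ M ⊓ Subgroup.normalizer (A : Set G) ∧
        M ⊓ Subgroup.normalizer (A : Set G) = E ∧
        ¬ Subgroup.normalizer (A : Set G) ≤ M) ∧
      ∀ X : Subgroup G, X ≤ A → Nat.card X = p →
        Cfsg.sigmaCore M ⊓ Subgroup.centralizer (X : Set G) ≠ ⊥ →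
        (Subgroup.centralizer (X : Set G) ≤ M ∧
          ∀ L : Subgroup G, IsCoatom L → Subgroup.centralizer (X : Set G) ≤ L → L = M))
    -- S1419
    (h19 : ∀ (M : Subgroup G), IsCoatom M → ∀ (E : Subgroup G),
      Cfsg.IsComplIn E (Cfsg.sigmaCore M) M → ∀ (p : ℕ) [Fact p.Prime], p ∈ Cfsg.tau2 M →
      (∀ S : Sylow p G, ¬ IsMulCommutative (S : Subgroup G)) →
      ∀ (A : Subgroup G), (A ≤ E ∧ Cfsg.IsElementaryAbelian p A ∧ Nat.card A = p ^ 2) →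
      Cfsg.tau2 M = {p} ∧
      (Nat.card ↥(A ⊓ Subgroup.centralizer (Cfsg.sigmaCore M : Set G)) = p ∧
        Cfsg.fittingOf M =
          Cfsg.sigmaCore M ⊔ (A ⊓ Subgroup.centralizer (Cfsg.sigmaCore M : Set G))) ∧
      ∀ X : Subgroup G, X ≤ E → Nat.card X = p →
        X ≠ A ⊓ Subgroup.centralizer (Cfsg.sigmaCore M : Set G) →
        Cfsg.sigmaCore M ⊓ Subgroup.centralizer (X : Set G) = ⊥ ∧
          ¬ Subgroup.centralizer (X : Set G) ≤ M)
    -- S1428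
    (h28 : ∀ (M : Subgroup G), IsCoatom M → ∀ (E : Subgroup G),
      Cfsg.IsComplIn E (Cfsg.sigmaCore M) M → ∀ (p : ℕ), p ∈ Cfsg.tau1 M →
      ∀ (P : Subgroup G), P ≤ E → Nat.card P = p →
      ∀ (R : Subgroup G), R ≤ E ⊓ Subgroup.centralizer (P : Set G) → (Nat.card R).Prime →
      Cfsg.sigmaCore M ⊓ Subgroup.centralizer (P : Set G) ≤
        Cfsg.sigmaCore M ⊓ Subgroup.centralizer (R : Set G))
    -- CONFIG A kill (L4), = `Cfsg.Agent.Helper79.BG142Q7.ConfigAKill G`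
    (hCAk : ∀ (M : Subgroup G), IsCoatom M → ∀ (E : Subgroup G),
      Cfsg.IsComplIn E (Cfsg.sigmaCore M) M →
      ∀ (r p : ℕ) [Fact r.Prime] [Fact p.Prime], r ∈ Cfsg.tau2 M →
      (∀ S : Sylow r G, ¬ IsMulCommutative (S : Subgroup G)) →
      ∀ A : Subgroup G, (A ≤ E ∧ Cfsg.IsElementaryAbelian r A ∧ Nat.card A = r ^ 2) →
      p ∈ Cfsg.tau1 M → ∀ X : Subgroup G, X ≤ E → Nat.card X = p →
      Cfsg.sigmaCore M ⊓ centralizer (X : Set G) ≠ ⊥ →
      X ≤ centralizer ((A ⊓ centralizer (Cfsg.sigmaCore M : Set G) : Subgroup G) : Set G) →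
      ¬ X ≤ centralizer (A : Set G) → False)
    -- existence of `E_{r^2}` in a complement
    (hex : ∀ (M E : Subgroup G) (r : ℕ), r ∈ Cfsg.tau2 M → Cfsg.IsComplIn E (Cfsg.sigmaCore M) M →
      ∃ A : Subgroup G, A ≤ E ∧ Cfsg.IsElementaryAbelian r A ∧ Nat.card A = r ^ 2)
    (M : Subgroup G)
    (hM : IsCoatom M) (E : Subgroup G) (hE : Cfsg.IsComplIn E (Cfsg.sigmaCore M) M) (p : ℕ)
    (hp : p ∈ Cfsg.tau1 M) (X : Subgroup G) (hXE : X ≤ E) (hX : Nat.card X = p)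
    (hC : Cfsg.sigmaCore M ⊓ centralizer (X : Set G) ≠ ⊥) (r : ℕ) (hr : r ∈ Cfsg.tau2 M)
    (R : Subgroup G) (hRE : R ≤ E ⊓ centralizer (X : Set G)) (hR : Nat.card R = r) : False := by
  have hrF : Fact r.Prime := ⟨hr.1⟩
  have hpF : Fact p.Prime := ⟨hp.1⟩
  obtain ⟨A, hA⟩ := hex M E r hr hE
  have hAM : A ≤ M ∧ Cfsg.IsElementaryAbelian r A ∧ Nat.card A = r ^ 2 :=
    ⟨hA.1.trans hE.1, hA.2.1, hA.2.2⟩
  exact Cfsg.Agent.Helper71.BG142.L5 hG M hM E hE r X hXE hC R hRE hR A hA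
    (fun R' hR'E hR'p => h28 M hM E hE p hp X hXE hX R' hR'E hR'p)
    (h17 M hM r hr A hAM)
    (h18 M hM E hE r hr A hA)
    (fun hS => h19 M hM E hE r hr hS A hA)
    (fun hS h1 h2 => hCAk M hM E hE r p hr hS A hA hp X hXE hX hC h1 h2)

end Cfsg.Agent.Helper71.BG142Q6
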