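import Mathlib
import Cfsg.Agent.S1417
import Cfsg.Agent.S1418
import Cfsg.Agent.S1419
import Cfsg.Agent.S1428
import Cfsg.Agent.Lib.Helper45.BG143
import Cfsg.Agent.Lib.Helper71.BG142Q6a
import Cfsg.Agent.Lib.Helper79.BG142Q7

/-!
# Request (Q6) of helper54's BG142 server (B-G 14.2, lemma (L5)), verbatim statement (helper71)

No `τ₂(M)`-subgroup of prime order of `E` centralizes a `τ₁(M)`-subgroup `X ≤ E` of prime order
with fixed points on `M_σ`.  Core: `Cfsg.Agent.Helper71.BG142Q6.core` (`Lib/Helper71/BG142Q6a`);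
rows S1417, S1418, S1419, S1428 imported for real; the CONFIG A kill (L4) is
`Cfsg.Agent.Helper79.BG142Req.configAKill` (`Lib/Helper79/BG142Q7`, assembly of helper79 from the
pieces of helper51 (paper proof), helper71 (step 1), helper79 (steps 2, 3, `exists_T`), helper64
(endgame)).
-/

set_option autoImplicit false

namespace Cfsg.Agent.Helper71.BG142Req

open Subgroup

variable {G : Type*} [Group G] [Finite G]

/-- (Q6) = (L5): no tau2(M)-element of E centralizes a tau1(M)-subgroup of prime order with fixed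
points on M_sigma. -/
theorem false_of_tau2_centralizes (hG : Cfsg.IsMinSimpleOddOrder G) (M : Subgroup G)
    (hM : IsCoatom M) (E : Subgroup G) (hE : Cfsg.IsComplIn E (Cfsg.sigmaCore M) M) (p : ℕ)
    (hp : p ∈ Cfsg.tau1 M) (X : Subgroup G) (hXE : X ≤ E) (hX : Nat.card X = p)
    (hC : Cfsg.sigmaCore M ⊓ centralizer (X : Set G) ≠ ⊥) (r : ℕ) (hr : r ∈ Cfsg.tau2 M)
    (R : Subgroup G) (hRE : R ≤ E ⊓ centralizer (X : Set G)) (hR : Nat.card R = r) : False :=
  Cfsg.Agent.Helper71.BG142Q6.core hG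
    (fun M hM p _ hp A hA => Cfsg.Agent.S1417.result hG M hM p hp A hA)
    (fun M hM E hE p _ hp A hA => Cfsg.Agent.S1418.result hG M hM E hE p hp A hA)
    (fun M hM E hE p _ hp hS A hA => Cfsg.Agent.S1419.result hG M hM E hE p hp hS A hA)
    (fun M hM E hE p hp P hPE hP R hRE hR =>
      Cfsg.Agent.S1428.result hG M hM E hE p hp P hPE hP R hRE hR)
    (Cfsg.Agent.Helper79.BG142Req.configAKill hG)
    (fun _ _ _ hr hE => Cfsg.Agent.Helper45.BG143.exists_elemAb_in_compl hr hE)
    M hM E hE p hp X hXE hX hC r hr R hRE hR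

end Cfsg.Agent.Helper71.BG142Req
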