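import Mathlib
import Cfsg.Agent.Lib.Helper38.SL2Lift
import Cfsg.Agent.Lib.Helper38.SL2PresMain

set_option autoImplicit false

/-!
# R1 (KER) `ker_le_center` for helper83's S5022 server
-/

namespace Cfsg.Agent.Helper71.R1

open Cfsg.Agent.Helper38.SL2Pres

variable {Γ : Type*} [Group Γ] {p : ℕ} [Fact p.Prime]

/-- (KER) -/
theorem ker_le_center (Φ : Matrix.SpecialLinearGroup (Fin 2) (ZMod p) →* Γ)
    (h2 : ∀ s : ZMod p, s ≠ 0 → Φ (xmat s) * Φ (ymat 1) ≠ Φ (ymat 1) * Φ (xmat s))
    (h3 : ∀ t : ZMod p, Φ (xmat 1) ≠ Φ (ymat t)) :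
    Φ.ker ≤ Subgroup.center (Matrix.SpecialLinearGroup (Fin 2) (ZMod p)) := by
  have F0 : ∀ s : ZMod p, Φ (xmat s) = 1 → s = 0 := by
    intro s hs
    by_contra hne
    apply h2 s hne
    rw [hs, one_mul, mul_one]
  intro g hg
  rw [MonoidHom.mem_ker] at hg
  set α : ZMod p := (g : Matrix (Fin 2) (Fin 2) (ZMod p)) 0 0 with hα
  set β : ZMod p := (g : Matrix (Fin 2) (Fin 2) (ZMod p)) 0 1 with hβ
  set γ : ZMod p := (g : Matrix (Fin 2) (Fin 2) (ZMod p)) 1 0 with hγd
  set δ : ZMod p := (g : Matrix (Fin 2) (Fin 2) (ZMod p)) 1 1 with hδ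
  have hgm : (g : Matrix (Fin 2) (Fin 2) (ZMod p)) = !![α, β; γ, δ] := Matrix.eta_fin_two _
  have hdet : α * δ - β * γ = 1 := by
    have h := g.det_coe
    rw [Matrix.det_fin_two] at h
    exact h
  by_cases hγ : γ = 0
  · -- upper triangular
    have hαδ : α * δ = 1 := by rw [hγ] at hdet; linear_combination hdet
    have key1 : g * xmat 1 = xmat (α ^ 2) * g := by
      apply sl_ext
      rw [Matrix.SpecialLinearGroup.coe_mul, Matrix.SpecialLinearGroup.coe_mul, hgm, xmat_coe,
        xmat_coe, Matrix.mul_fin_two, Matrix.mul_fin_two]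
      apply mat2_ext
      · rw [hγ]; ring
      · linear_combination (-α) * hαδ
      · rw [hγ]; ring
      · rw [hγ]; ring
    have key2 : Φ (xmat 1) = Φ (xmat (α ^ 2)) := by
      have h := congrArg Φ key1
      rw [map_mul, map_mul, hg, one_mul, mul_one] at h
      exact h
    have key3 : Φ (xmat (α ^ 2 - 1)) = 1 := by
      have h : Φ (xmat (α ^ 2 - 1)) * Φ (xmat 1) = 1 * Φ (xmat 1) := by
        rw [← map_mul, xmat_add, sub_add_cancel, one_mul, ← key2]
      exact mul_right_cancel h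
    have hα2 : α ^ 2 = 1 := by
      have := F0 _ key3
      linear_combination this
    have hδα : δ = α := by
      have : δ = α ^ 2 * δ := by rw [hα2, one_mul]
      rw [this]; linear_combination α * hαδ
    have hα0 : α ≠ 0 := by
      intro h0; rw [h0] at hα2; simp at hα2
    -- the scalar matrix
    let z : Matrix.SpecialLinearGroup (Fin 2) (ZMod p) :=
      ⟨!![α, 0; 0, α], by rw [Matrix.det_fin_two_of]; linear_combination hα2⟩
    have hzc : (z : Matrix (Fin 2) (Fin 2) (ZMod p)) = !![α, 0; 0, α] := rfl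
    have hgz : g = z * xmat (α * β) := by
      apply sl_ext
      rw [Matrix.SpecialLinearGroup.coe_mul, hgm, hzc, xmat_coe, Matrix.mul_fin_two]
      apply mat2_ext
      · ring
      · linear_combination (-β) * hα2
      · rw [hγ]; ring
      · rw [hδα]; ring
    have hzy : z * ymat 1 = ymat 1 * z := by
      apply sl_ext
      rw [Matrix.SpecialLinearGroup.coe_mul, Matrix.SpecialLinearGroup.coe_mul, hzc, ymat_coe,
        Matrix.mul_fin_two, Matrix.mul_fin_two]
      apply mat2_ext <;> ring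
    have hΦz : Φ z * Φ (xmat (α * β)) = 1 := by
      rw [← map_mul, ← hgz, hg]
    have hcz : Commute (Φ z) (Φ (ymat 1)) := by
      show Φ z * Φ (ymat 1) = Φ (ymat 1) * Φ z
      rw [← map_mul, ← map_mul, hzy]
    have hx : Φ (xmat (α * β)) = (Φ z)⁻¹ := by
      rw [eq_inv_iff_mul_eq_one]
      have : Φ (xmat (α * β)) * Φ z = (Φ z)⁻¹ * (Φ z * Φ (xmat (α * β))) * Φ z := by group
      rw [this, hΦz]; group
    have hαβ : α * β = 0 := by
      by_contra hne
      apply h2 _ hne
      rw [hx]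
      exact (hcz.inv_left).eq
    have hβ0 : β = 0 := by
      rcases mul_eq_zero.mp hαβ with h | h
      · exact absurd h hα0
      · exact h
    rw [Subgroup.mem_center_iff]
    intro k
    apply sl_ext
    rw [Matrix.SpecialLinearGroup.coe_mul, Matrix.SpecialLinearGroup.coe_mul, hgm,
      Matrix.eta_fin_two (k : Matrix (Fin 2) (Fin 2) (ZMod p)), Matrix.mul_fin_two,
      Matrix.mul_fin_two, hβ0, hγ, hδα]
    apply mat2_ext <;> ring
  · -- Bruhat cell
    exfalso
    set t : ZMod p := -γ⁻¹ with ht_def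
    have ht : t ≠ 0 := by
      rw [ht_def]; exact neg_ne_zero.mpr (inv_ne_zero hγ)
    have htinv : -t⁻¹ = γ := by
      rw [ht_def, inv_neg, inv_inv, neg_neg]
    set W : Matrix.SpecialLinearGroup (Fin 2) (ZMod p) := xmat t * ymat (-t⁻¹) * xmat t with hW
    have hWc : (W : Matrix (Fin 2) (Fin 2) (ZMod p)) = !![0, t; -t⁻¹, 0] := wmat_coe ht
    have hdecomp : g = xmat (α / γ) * W * xmat (δ / γ) := by
      apply sl_ext
      rw [Matrix.SpecialLinearGroup.coe_mul, Matrix.SpecialLinearGroup.coe_mul, hWc, hgm, xmat_coe,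
        xmat_coe, Matrix.mul_fin_two, Matrix.mul_fin_two, htinv, ht_def]
      apply mat2_ext
      · field_simp
        ring
      · field_simp
        linear_combination (-1 : ZMod p) * hdet
      · ring
      · field_simp
        ring
    have h1 : Φ (xmat (α / γ)) * Φ W * Φ (xmat (δ / γ)) = 1 := by
      rw [← map_mul, ← map_mul, ← hdecomp, hg]
    have hcomm : ∀ s : ZMod p, Commute (Φ (xmat s)) (Φ (xmat 1)) := by
      intro s
      show Φ (xmat s) * Φ (xmat 1) = Φ (xmat 1) * Φ (xmat s)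
      rw [← map_mul, ← map_mul, xmat_add, xmat_add, add_comm]
    have hΦW : Φ W = (Φ (xmat (α / γ)))⁻¹ * (Φ (xmat (δ / γ)))⁻¹ := by
      calc Φ W = (Φ (xmat (α / γ)))⁻¹ * (Φ (xmat (α / γ)) * Φ W * Φ (xmat (δ / γ))) *
            (Φ (xmat (δ / γ)))⁻¹ := by group
        _ = _ := by rw [h1, mul_one]
    have hWcomm : Commute (Φ W) (Φ (xmat 1)) := by
      rw [hΦW]
      exact ((hcomm _).inv_left).mul_left ((hcomm _).inv_left)
    have hconj := congrArg Φ (wmat_conj_x ht (1 : ZMod p))
    rw [map_mul, map_mul, map_inv] at hconj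
    have h5 : Φ W * Φ (xmat 1) * (Φ W)⁻¹ = Φ (xmat 1) := by
      rw [hWcomm.eq]; group
    rw [h5] at hconj
    exact h3 _ hconj

end Cfsg.Agent.Helper71.R1
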