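import Mathlib
import Cfsg.Prelude.Def_Solvable

set_option autoImplicit false

namespace Cfsg.Agent.Helper71

open scoped Pointwise

section general

variable {K H : Type*} [Group K] [Group H]

/-- If `H` acts on `K` by automorphisms so that every non-identity element of `H` fixes only the
identity of `K`, then `H` is a Frobenius complement in the semidirect product. -/
theorem isFrobeniusComplement_range_inr (φ : H →* MulAut K) [Nontrivial K] [Nontrivial H]
    (hfpf : ∀ h : H, h ≠ 1 → ∀ k : K, φ h k = k → k = 1) :
    Cfsg.IsFrobeniusComplement (SemidirectProduct.inr : H →* K ⋊[φ] H).range := by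
  refine ⟨?_, ?_, ?_⟩
  · obtain ⟨h, hh⟩ := exists_ne (1 : H)
    intro hbot
    have : (SemidirectProduct.inr h : K ⋊[φ] H) ∈
        (SemidirectProduct.inr : H →* K ⋊[φ] H).range := ⟨h, rfl⟩
    rw [hbot, Subgroup.mem_bot] at this
    exact hh (SemidirectProduct.inr_injective (by simpa using this))
  · obtain ⟨k, hk⟩ := exists_ne (1 : K)
    intro htop
    have : (SemidirectProduct.inl k : K ⋊[φ] H) ∈
        (SemidirectProduct.inr : H →* K ⋊[φ] H).range := by rw [htop]; trivial
    obtain ⟨h, hh⟩ := this
    have := congrArg SemidirectProduct.left hh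
    simp at this
    exact hk this.symm
  · intro g hg
    rw [Subgroup.eq_bot_iff_forall]
    rintro y ⟨⟨a, rfl⟩, hy2⟩
    replace hy2 : SemidirectProduct.inr a ∈
        MulAut.conj g • (SemidirectProduct.inr : H →* K ⋊[φ] H).range := hy2
    rw [Subgroup.mem_smul_pointwise_iff_exists] at hy2
    obtain ⟨_, ⟨b, rfl⟩, hb⟩ := hy2
    have hk : g.left ≠ 1 := by
      intro h1
      apply hg
      refine ⟨g.right, ?_⟩
      ext <;> simp [h1]
    have hb' : g * SemidirectProduct.inr b = SemidirectProduct.inr a * g := by
      have : g * SemidirectProduct.inr b * g⁻¹ = SemidirectProduct.inr a := hb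
      rw [← this]; group
    have hl := congrArg SemidirectProduct.left hb'
    simp only [SemidirectProduct.mul_left, SemidirectProduct.left_inr, map_one, mul_one,
      SemidirectProduct.right_inr, one_mul] at hl
    by_cases ha : a = 1
    · rw [ha, map_one]
    · exact absurd (hfpf a ha g.left hl.symm) hk

end general

section additive

variable {V H : Type*} [AddGroup V] [Group H] [DistribMulAction H V]

/-- the homomorphism `H →* MulAut (Multiplicative V)` coming from a distributive action -/
noncomputable def toMulAutMul (H V : Type*) [AddGroup V] [Group H] [DistribMulAction H V] :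
    H →* MulAut (Multiplicative V) :=
  (MulAutMultiplicative V).symm.toMonoidHom.comp (DistribMulAction.toAddAut H V)

theorem toMulAutMul_apply (h : H) (v : Multiplicative V) :
    toMulAutMul H V h v = Multiplicative.ofAdd (h • v.toAdd) := rfl

/-- Additive version: a fixed-point-free distributive action gives a Frobenius complement. -/
theorem isFrobeniusComplement_of_distribMulAction [Nontrivial V] [Nontrivial H]
    (hfpf : ∀ h : H, h ≠ 1 → ∀ v : V, h • v = v → v = 0) :
    Cfsg.IsFrobeniusComplement
      (SemidirectProduct.inr : H →* Multiplicative V ⋊[toMulAutMul H V] H).range := by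
  apply isFrobeniusComplement_range_inr
  intro h hh k hk
  rw [toMulAutMul_apply] at hk
  have := hfpf h hh k.toAdd (congrArg Multiplicative.toAdd hk)
  exact congrArg Multiplicative.ofAdd this

/-- packaged existence statement, with the complement isomorphic to `H` -/
theorem exists_frobenius_of_distribMulAction {V H : Type} [AddGroup V] [Group H]
    [DistribMulAction H V] [Finite V] [Finite H] [Nontrivial V] [Nontrivial H]
    (hfpf : ∀ h : H, h ≠ 1 → ∀ v : V, h • v = v → v = 0) :
    ∃ (L : Type) (_ : Group L) (_ : Finite L) (C : Subgroup L),
      Cfsg.IsFrobeniusComplement C ∧ Nonempty (H ≃* C) := by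
  refine ⟨Multiplicative V ⋊[toMulAutMul H V] H, inferInstance, ?_, _,
    isFrobeniusComplement_of_distribMulAction hfpf, ?_⟩
  · exact Finite.of_equiv _ (SemidirectProduct.equivProd).symm
  · exact ⟨MonoidHom.ofInjective SemidirectProduct.inr_injective⟩

end additive

end Cfsg.Agent.Helper71
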