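import Mathlib

set_option autoImplicit false

namespace Cfsg.Agent.Helper71.H2

/-- Conjugation by `k ^ i`. -/
theorem fc_conj_pow_succ {H : Type*} [Group H] (k x : H) (i : ℕ) :
    k * (k ^ i * x * (k ^ i)⁻¹) * k⁻¹ = k ^ (i + 1) * x * (k ^ (i + 1))⁻¹ := by
  rw [pow_succ']
  group

/-- pairwise commuting generators give an abelian closure -/
theorem fc_closure_comm {H : Type*} [Group H] (S : Set H)
    (hS : ∀ x ∈ S, ∀ y ∈ S, x * y = y * x) :
    ∀ a ∈ Subgroup.closure S, ∀ b ∈ Subgroup.closure S, a * b = b * a := by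
  intro a ha b hb
  have h := (Subgroup.isMulCommutative_closure hS).is_comm.comm
    (⟨a, ha⟩ : Subgroup.closure S) ⟨b, hb⟩
  exact congrArg Subtype.val h

/-- The core: an abelian, `k^p`-invariant subgroup `X₀` of one of the pairwise commuting pieces `Rj' j`,
which are permuted by `k` through `j ↦ j + t`, `t ≠ 0`, lies in an abelian `k`-invariant subgroup of `R`. -/
theorem fc_core {H : Type*} [Group H] {p : ℕ} [Fact p.Prime] (R : Subgroup H)
    (Rj' : ZMod p → Subgroup H) (k : H) (t : ZMod p) (ht : t ≠ 0)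
    (hRj : ∀ j, Rj' j ≤ R) (hperm : ∀ j, ∀ g ∈ Rj' j, k * g * k⁻¹ ∈ Rj' (j + t))
    (hcomm : ∀ i j, i ≠ j → ∀ x ∈ Rj' i, ∀ y ∈ Rj' j, x * y = y * x)
    (j : ZMod p) (X₀ : Subgroup H) (hX₀ : X₀ ≤ Rj' j)
    (hab : ∀ a ∈ X₀, ∀ b ∈ X₀, a * b = b * a)
    (hinv : ∀ a ∈ X₀, k ^ p * a * (k ^ p)⁻¹ ∈ X₀) :
    ∃ X : Subgroup H, X ≤ R ∧ (∀ a ∈ X, ∀ b ∈ X, a * b = b * a) ∧
      (∀ a ∈ X, k * a * k⁻¹ ∈ X) ∧ X₀ ≤ X := by
  classical
  set S : Set H := {g | ∃ i : ℕ, ∃ x ∈ X₀, g = k ^ i * x * (k ^ i)⁻¹} with hSdef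
  -- location of the generators
  have hloc : ∀ (i : ℕ), ∀ x ∈ X₀, k ^ i * x * (k ^ i)⁻¹ ∈ Rj' (j + (i : ZMod p) * t) := by
    intro i
    induction i with
    | zero =>
      intro x hx
      simpa using hX₀ hx
    | succ n ih =>
      intro x hx
      have h1 := hperm _ _ (ih x hx)
      rw [fc_conj_pow_succ] at h1
      have : j + ((n + 1 : ℕ) : ZMod p) * t = j + (n : ZMod p) * t + t := by
        push_cast; ring
      rw [this]
      exact h1
  -- powers of k^p keep X₀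
  have hinvm : ∀ (m : ℕ), ∀ x ∈ X₀, (k ^ p) ^ m * x * ((k ^ p) ^ m)⁻¹ ∈ X₀ := by
    intro m
    induction m with
    | zero => intro x hx; simpa using hx
    | succ n ih =>
      intro x hx
      have h1 := hinv _ (ih x hx)
      rw [fc_conj_pow_succ] at h1
      exact h1
  -- same residue: both in the conjugate of X₀
  have hsame : ∀ (i m : ℕ), ∀ x ∈ X₀, ∀ x' ∈ X₀,
      (k ^ i * x * (k ^ i)⁻¹) * (k ^ (i + p * m) * x' * (k ^ (i + p * m))⁻¹) =
        (k ^ (i + p * m) * x' * (k ^ (i + p * m))⁻¹) * (k ^ i * x * (k ^ i)⁻¹) := by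
    intro i m x hx x' hx'
    have h1 := hinvm m x' hx'
    have h2 := hab x hx _ h1
    have e : k ^ (i + p * m) * x' * (k ^ (i + p * m))⁻¹ =
        k ^ i * ((k ^ p) ^ m * x' * ((k ^ p) ^ m)⁻¹) * (k ^ i)⁻¹ := by
      rw [pow_add, pow_mul]; group
    rw [e]
    calc k ^ i * x * (k ^ i)⁻¹ * (k ^ i * ((k ^ p) ^ m * x' * ((k ^ p) ^ m)⁻¹) * (k ^ i)⁻¹)
        = k ^ i * (x * ((k ^ p) ^ m * x' * ((k ^ p) ^ m)⁻¹)) * (k ^ i)⁻¹ := by group
      _ = k ^ i * (((k ^ p) ^ m * x' * ((k ^ p) ^ m)⁻¹) * x) * (k ^ i)⁻¹ := by rw [h2]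
      _ = _ := by group
  have hScomm : ∀ a ∈ S, ∀ b ∈ S, a * b = b * a := by
    rintro a ⟨i, x, hx, rfl⟩ b ⟨i', x', hx', rfl⟩
    by_cases hii : j + (i : ZMod p) * t = j + (i' : ZMod p) * t
    · have h3 : ((i : ZMod p)) = (i' : ZMod p) := by
        have := add_left_cancel hii
        exact mul_right_cancel₀ ht this
      rw [ZMod.natCast_eq_natCast_iff] at h3
      rcases le_total i i' with hle | hle
      · obtain ⟨m, hm⟩ := (Nat.modEq_iff_dvd' hle).mp h3
        have : i' = i + p * m := by omega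
        rw [this]
        exact hsame i m x hx x' hx'
      · obtain ⟨m, hm⟩ := (Nat.modEq_iff_dvd' hle).mp h3.symm
        have : i = i' + p * m := by omega
        rw [this]
        exact (hsame i' m x' hx' x hx).symm
    · exact hcomm _ _ hii _ (hloc i x hx) _ (hloc i' x' hx')
  refine ⟨Subgroup.closure S, ?_, fc_closure_comm S hScomm, ?_, ?_⟩
  · rw [Subgroup.closure_le]
    rintro a ⟨i, x, hx, rfl⟩
    exact hRj _ (hloc i x hx)
  · intro a ha
    have hmap : Subgroup.closure S ≤ (Subgroup.closure S).comap (MulAut.conj k).toMonoidHom := by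
      rw [Subgroup.closure_le]
      rintro a ⟨i, x, hx, rfl⟩
      show (MulAut.conj k) (k ^ i * x * (k ^ i)⁻¹) ∈ Subgroup.closure S
      rw [MulAut.conj_apply, fc_conj_pow_succ]
      exact Subgroup.subset_closure ⟨i + 1, x, hx, rfl⟩
    have := hmap ha
    simpa [MulAut.conj_apply] using this
  · intro x hx
    exact Subgroup.subset_closure ⟨0, x, hx, by simp⟩

end Cfsg.Agent.Helper71.H2
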