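import Mathlib
import Cfsg.Agent.Lib.Helper31.H2Defs
import Cfsg.Agent.Lib.Helper71.H2FCore

set_option autoImplicit false

/-!
# H2 (F1) `abDef_descent` for helper31's S3786 server
-/

namespace Cfsg.Agent.Helper71.H2

open Cfsg Cfsg.Agent.Helper31.H2 Cfsg.Agent.Helper31.HHB Cfsg.Agent.Helper48.Wreath

/-- (F1) Descent of ab-deficiency. -/
theorem abDef_descent {H : Type*} [Group H] [Finite H] {p : ℕ} [Fact p.Prime] (R : Subgroup H)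
    (Rj' : ZMod p → Subgroup H) (k : H) (l : ℕ) (t : ZMod p) (ht : t ≠ 0)
    (hRj : ∀ j, Rj' j ≤ R) (hperm : ∀ j, ∀ g ∈ Rj' j, k * g * k⁻¹ ∈ Rj' (j + t))
    (hcomm : ∀ i j, i ≠ j → ∀ x ∈ Rj' i, ∀ y ∈ Rj' j, x * y = y * x)
    (hd : AbDef p R k (l + 1)) (j : ZMod p) : AbDef p (Rj' j) (k ^ p) l := by
  intro X₀ hX₀ hab hinv a ha
  obtain ⟨X, hXR, hXab, hXk, hX₀X⟩ :=
    fc_core R Rj' k t ht hRj hperm hcomm j X₀ hX₀ hab hinv
  have h := hd X hXR hXab hXk a (hX₀X ha)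
  have e : (k ^ p) ^ p ^ l = k ^ p ^ (l + 1) := by
    rw [← pow_mul, pow_succ']
  rw [e]
  exact h

end Cfsg.Agent.Helper71.H2
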