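import Mathlib
import Cfsg.Agent.Lib.Helper31.H2Defs
import Cfsg.Agent.Lib.Helper71.H2FCore

set_option autoImplicit false

/-!
# H2 (F2) `false_of_level_zero` for helper31's S3786 server
-/

namespace Cfsg.Agent.Helper71.H2

open Cfsg Cfsg.Agent.Helper31.H2 Cfsg.Agent.Helper31.HHB Cfsg.Agent.Helper48.Wreath

/-- (F2) Level zero. -/
theorem false_of_level_zero {H : Type*} [Group H] [Finite H] {p : ℕ} [Fact p.Prime] (R R₁ : Subgroup H)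
    (Rj' : ZMod p → Subgroup H) (k : H) (t : ZMod p) (ht : t ≠ 0) (hk : k ^ p = 1)
    (hRj : ∀ j, Rj' j ≤ R) (hperm : ∀ j, ∀ g ∈ Rj' j, k * g * k⁻¹ ∈ Rj' (j + t))
    (hcomm : ∀ i j, i ≠ j → ∀ x ∈ Rj' i, ∀ y ∈ Rj' j, x * y = y * x)
    (hint : ∀ i j, i ≠ j → Rj' i ⊓ Rj' j ≤ R₁) (hnot : ¬ Rj' 0 ≤ R₁) (hd : AbDef p R k 0) :
    False := by
  obtain ⟨r, hr0, hrR₁⟩ := SetLike.not_le_iff_exists.mp hnot
  have hX₀ : Subgroup.zpowers r ≤ Rj' 0 := by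
    rw [Subgroup.zpowers_le]; exact hr0
  have hab : ∀ a ∈ Subgroup.zpowers r, ∀ b ∈ Subgroup.zpowers r, a * b = b * a := by
    rintro a ⟨m, rfl⟩ b ⟨n, rfl⟩
    exact (Commute.zpow_zpow_self r m n).eq
  have hinv : ∀ a ∈ Subgroup.zpowers r, k ^ p * a * (k ^ p)⁻¹ ∈ Subgroup.zpowers r := by
    intro a ha
    rw [hk]; simpa using ha
  obtain ⟨X, hXR, hXab, hXk, hX₀X⟩ :=
    fc_core R Rj' k t ht hRj hperm hcomm 0 (Subgroup.zpowers r) hX₀ hab hinv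
  have h := hd X hXR hXab hXk r (hX₀X (Subgroup.mem_zpowers r))
  rw [pow_zero, pow_one] at h
  have h1 : k * r * k⁻¹ = r := by rw [h]; group
  have h2 := hperm 0 r hr0
  rw [h1, zero_add] at h2
  have h3 : (0 : ZMod p) ≠ t := fun h => ht h.symm
  exact hrR₁ (hint 0 t h3 ⟨hr0, h2⟩)

end Cfsg.Agent.Helper71.H2
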