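import Mathlib
import Cfsg.Agent.Lib.Helper52.FLDefs
import Cfsg.Agent.Lib.Helper52.Coprime
import Cfsg.Agent.Lib.Helper9.WielandtBasic
import Cfsg.Agent.Lib.Helper97.FXDefs

set_option autoImplicit false

/-!
# FL server (helper52, S3822): basic consequences of the minimal-counterexample context `Ctx`
(shared by helper71's pieces DCEN, DER, POW, CQ; contains own proofs of (COMM) and (DNOR))
-/

namespace Cfsg.Agent.Helper71.FL

open Cfsg.Agent.Helper52.FL Cfsg.Agent.Helper97.FX

variable {G : Type*} [Group G] [Finite G]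

omit [Finite G] in
theorem fl_le_normalizer_of_conj_mem (A H : Subgroup G)
    (hc : ∀ g ∈ A, ∀ x ∈ H, g * x * g⁻¹ ∈ H) : A ≤ Subgroup.normalizer (H : Set G) := by
  intro g hg
  rw [Subgroup.mem_normalizer_iff]
  intro x
  constructor
  · exact hc g hg x
  · intro hx
    have := hc g⁻¹ (A.inv_mem hg) _ hx
    have e : g⁻¹ * (g * x * g⁻¹) * g⁻¹⁻¹ = x := by group
    rw [e] at this
    exact this

omit [Finite G] in
theorem fl_conj_mem_of_le_normalizer {A H : Subgroup G} (hA : A ≤ Subgroup.normalizer (H : Set G))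
    {g x : G} (hg : g ∈ A) (hx : x ∈ H) : g * x * g⁻¹ ∈ H :=
  (Subgroup.mem_normalizer_iff.mp (hA hg) x).mp hx

omit [Finite G] in
theorem fl_cj_eq_of_mem_normalizer {H : Subgroup G} {g : G}
    (hg : g ∈ Subgroup.normalizer (H : Set G)) : cj g H = H := by
  ext x
  rw [mem_cj]
  have h1 := Subgroup.mem_normalizer_iff.mp hg (g⁻¹ * x * g)
  have e : g * (g⁻¹ * x * g) * g⁻¹ = x := by group
  rw [e] at h1
  exact h1

omit [Finite G] in
theorem fl_mem_normalizer_of_cj_eq {W : Subgroup G} {g : G} (h : cj g W = W) :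
    g ∈ Subgroup.normalizer (W : Set G) := by
  rw [Subgroup.mem_normalizer_iff]
  intro x
  have h1 : g * x * g⁻¹ ∈ cj g W ↔ x ∈ W := by
    rw [mem_cj]
    have e : g⁻¹ * (g * x * g⁻¹) * g = x := by group
    rw [e]
  rw [h] at h1
  exact h1.symm

omit [Finite G] in
theorem fl_cj_commutator (g : G) (H K : Subgroup G) : cj g ⁅H, K⁆ = ⁅cj g H, cj g K⁆ := by
  unfold cj
  exact Subgroup.map_commutator H K _

omit [Finite G] in
/-- a subgroup normalising `H` and `K` normalises `⁅H, K⁆` -/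
theorem fl_normalizer_commutator {A H K : Subgroup G} (hH : A ≤ Subgroup.normalizer (H : Set G))
    (hK : A ≤ Subgroup.normalizer (K : Set G)) : A ≤ Subgroup.normalizer ((⁅H, K⁆ : Subgroup G) : Set G) := by
  intro g hg
  apply fl_mem_normalizer_of_cj_eq
  rw [fl_cj_commutator, fl_cj_eq_of_mem_normalizer (hH hg), fl_cj_eq_of_mem_normalizer (hK hg)]

omit [Finite G] in
/-- the centraliser of a subgroup is normalised by its normaliser -/
theorem fl_normalizer_centralizer {A Q : Subgroup G} (hQ : A ≤ Subgroup.normalizer (Q : Set G)) :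
    A ≤ Subgroup.normalizer ((Subgroup.centralizer (Q : Set G) : Subgroup G) : Set G) := by
  apply fl_le_normalizer_of_conj_mem
  intro g hg x hx
  rw [Subgroup.mem_centralizer_iff] at hx ⊢
  intro q hq
  have hq' : g⁻¹ * q * g⁻¹⁻¹ ∈ Q :=
    fl_conj_mem_of_le_normalizer hQ (A.inv_mem hg) hq
  have h1 := hx _ hq'
  calc q * (g * x * g⁻¹) = g * ((g⁻¹ * q * g⁻¹⁻¹) * x) * g⁻¹ := by group
    _ = g * (x * (g⁻¹ * q * g⁻¹⁻¹)) * g⁻¹ := by rw [h1]
    _ = g * x * g⁻¹ * q := by group

omit [Finite G] in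
theorem fl_normalizer_inf {A H K : Subgroup G} (hH : A ≤ Subgroup.normalizer (H : Set G))
    (hK : A ≤ Subgroup.normalizer (K : Set G)) : A ≤ Subgroup.normalizer ((H ⊓ K : Subgroup G) : Set G) := by
  apply fl_le_normalizer_of_conj_mem
  intro g hg x hx
  exact ⟨fl_conj_mem_of_le_normalizer hH hg hx.1, fl_conj_mem_of_le_normalizer hK hg hx.2⟩

section CTX
variable {A Q V : Subgroup G} {r s : ℕ} [Fact r.Prime] [Fact s.Prime]

omit [Finite G] [Fact r.Prime] [Fact s.Prime] in
theorem ctx_QV (h : Ctx A Q V r s) : Q ≤ Subgroup.normalizer (V : Set G) := h.hQA.trans h.hAV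

theorem ctx_coprime (h : Ctx A Q V r s) : (Nat.card Q).Coprime (Nat.card V) := by
  obtain ⟨n, hn⟩ := IsPGroup.iff_card.mp h.hQ
  obtain ⟨m, hm⟩ := IsPGroup.iff_card.mp h.hV
  rw [hn, hm]
  exact Nat.Coprime.pow _ _ ((Nat.coprime_primes Fact.out Fact.out).mpr h.hrs.symm)

omit [Finite G] [Fact r.Prime] [Fact s.Prime] in
theorem ctx_D_le (_h : Ctx A Q V r s) : Dsub Q V ≤ V := inf_le_left

omit [Finite G] [Fact r.Prime] [Fact s.Prime] in
theorem ctx_D_normalized (h : Ctx A Q V r s) : A ≤ Subgroup.normalizer (Dsub Q V : Set G) :=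
  fl_normalizer_inf h.hAV (fl_normalizer_centralizer h.hAQ)

omit [Finite G] [Fact r.Prime] [Fact s.Prime] in
theorem ctx_D_ne (h : Ctx A Q V r s) : Dsub Q V ≠ V := by
  intro he
  apply h.hnc
  rw [← he]
  exact inf_le_right

omit [Finite G] [Fact r.Prime] [Fact s.Prime] in
/-- proper `A`-invariant subgroups of `V` lie in `D` -/
theorem ctx_min (h : Ctx A Q V r s) (W : Subgroup G) (hW : W ≤ V) (hne : W ≠ V)
    (hA : A ≤ Subgroup.normalizer (W : Set G)) : W ≤ Dsub Q V :=
  le_inf hW (h.hmin W hW hne hA)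

/-- (COMM) -/
theorem ctx_comm_eq (h : Ctx A Q V r s) : ⁅V, Q⁆ = V := by
  by_contra hne
  have hle : ⁅V, Q⁆ ≤ V := Cfsg.Agent.Helper24.commutator_le_of_le_normalizer V Q (ctx_QV h)
  have hinv : A ≤ Subgroup.normalizer ((⁅V, Q⁆ : Subgroup G) : Set G) := fl_normalizer_commutator h.hAV h.hAQ
  have hc : ⁅V, Q⁆ ≤ Subgroup.centralizer (Q : Set G) := h.hmin _ hle hne hinv
  have h1 : ⁅⁅V, Q⁆, Q⁆ = ⊥ := by
    rw [Subgroup.commutator_eq_bot_iff_le_centralizer]
    exact hc
  have h2 := Cfsg.Agent.Helper52.commutator_commutator_eq V Q (ctx_QV h) (ctx_coprime h)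
    (Or.inr (IsNilpotent.to_isSolvable (G := ↥V) (h := h.hV.isNilpotent)))
  rw [h1] at h2
  apply h.hnc
  rw [← Subgroup.commutator_eq_bot_iff_le_centralizer]
  exact h2.symm

/-- (DNOR) -/
theorem ctx_D_normal (h : Ctx A Q V r s) : V ≤ Subgroup.normalizer (Dsub Q V : Set G) := by
  set D := Dsub Q V with hD
  set N : Subgroup G := V ⊓ Subgroup.normalizer (D : Set G) with hN
  have hNV : N ≤ V := inf_le_left
  have hAN : A ≤ Subgroup.normalizer (N : Set G) := by
    apply fl_le_normalizer_of_conj_mem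
    intro g hg x hx
    refine ⟨fl_conj_mem_of_le_normalizer h.hAV hg hx.1, ?_⟩
    have hgN : g ∈ Subgroup.normalizer (D : Set G) := ctx_D_normalized h hg
    exact Subgroup.mul_mem _ (Subgroup.mul_mem _ hgN hx.2) (Subgroup.inv_mem _ hgN)
  by_cases hNe : N = V
  · intro v hv
    have : v ∈ N := by rw [hNe]; exact hv
    exact this.2
  · exfalso
    have hND : N ≤ D := ctx_min h N hNV hNe hAN
    have hnil : Group.IsNilpotent ↥V := h.hV.isNilpotent
    have hD'lt : D.subgroupOf V < ⊤ := by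
      rw [lt_top_iff_ne_top]
      intro htop
      apply ctx_D_ne h
      exact le_antisymm (ctx_D_le h) (Subgroup.subgroupOf_eq_top.mp htop)
    have hlt := Group.normalizerCondition_of_isNilpotent (G := ↥V) (D.subgroupOf V) hD'lt
    obtain ⟨x, hxN, hxD⟩ := SetLike.exists_of_lt hlt
    apply hxD
    rw [Subgroup.mem_subgroupOf]
    apply hND
    refine Subgroup.mem_inf.mpr ⟨x.2, ?_⟩
    rw [Subgroup.mem_normalizer_iff]
    intro y
    have hx' := Subgroup.mem_normalizer_iff.mp hxN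
    constructor
    · intro hy
      have hyV : y ∈ V := ctx_D_le h hy
      have h1 := (hx' ⟨y, hyV⟩).mp (by rw [Subgroup.mem_subgroupOf]; exact hy)
      rw [Subgroup.mem_subgroupOf] at h1
      simpa using h1
    · intro hy
      have hyV : y ∈ V := by
        have h1 : (x : G) * y * (x : G)⁻¹ ∈ V := ctx_D_le h hy
        have e : y = (x : G)⁻¹ * ((x : G) * y * (x : G)⁻¹) * (x : G) := by group
        rw [e]
        exact V.mul_mem (V.mul_mem (V.inv_mem x.2) h1) x.2
      have h1 := (hx' ⟨y, hyV⟩).mpr (by rw [Subgroup.mem_subgroupOf]; simpa using hy)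
      rw [Subgroup.mem_subgroupOf] at h1
      exact h1

end CTX

end Cfsg.Agent.Helper71.FL
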