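import Mathlib
import Cfsg.Agent.Lib.Helper52.FLDefs
import Cfsg.Agent.Lib.Helper52.Coprime
import Cfsg.Agent.Lib.Helper9.WielandtBasic
import Cfsg.Agent.Lib.Helper97.FXDefs
import Cfsg.Agent.Lib.Helper71.FLCtx

set_option autoImplicit false

/-!
# FL (DCEN) `D_central` for helper52's S3822 server
-/

namespace Cfsg.Agent.Helper71.FL

open Cfsg.Agent.Helper52.FL Cfsg.Agent.Helper97.FX

variable {G : Type*} [Group G] [Finite G]

section CTX
variable {A Q V : Subgroup G} {r s : ℕ} [Fact r.Prime] [Fact s.Prime]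

/-- **(DCEN)** -/
theorem D_central (h : Ctx A Q V r s) : Dsub Q V ≤ Subgroup.centralizer (V : Set G) := by
  have hVD : ⁅V, Dsub Q V⁆ ≤ Dsub Q V := by
    rw [Subgroup.commutator_comm]
    exact Cfsg.Agent.Helper24.commutator_le_of_le_normalizer (Dsub Q V) V (ctx_D_normal h)
  have h1 : ⁅⁅V, Dsub Q V⁆, Q⁆ = ⊥ := by
    rw [Subgroup.commutator_eq_bot_iff_le_centralizer]
    exact hVD.trans inf_le_right
  have h2 : ⁅⁅Dsub Q V, Q⁆, V⁆ = ⊥ := by
    have h0 : ⁅Dsub Q V, Q⁆ = ⊥ := by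
      rw [Subgroup.commutator_eq_bot_iff_le_centralizer]
      exact inf_le_right
    rw [h0]
    exact Subgroup.commutator_bot_left V
  have h3 := Subgroup.commutator_commutator_eq_bot_of_rotate h1 h2
  rw [Subgroup.commutator_comm Q V, ctx_comm_eq h, Subgroup.commutator_comm,
    Subgroup.commutator_eq_bot_iff_le_centralizer] at h3
  exact h3

end CTX

end Cfsg.Agent.Helper71.FL
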