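import Mathlib
import Cfsg.Agent.Lib.Helper52.FLDefs
import Cfsg.Agent.Lib.Helper52.Coprime
import Cfsg.Agent.Lib.Helper9.WielandtBasic
import Cfsg.Agent.Lib.Helper97.FXDefs
import Cfsg.Agent.Lib.Helper71.FLCtx

set_option autoImplicit false

/-!
# FL (DER) `derived_le_D` for helper52's S3822 server
-/

namespace Cfsg.Agent.Helper71.FL

open Cfsg.Agent.Helper52.FL Cfsg.Agent.Helper97.FX

variable {G : Type*} [Group G] [Finite G]

section CTX
variable {A Q V : Subgroup G} {r s : ℕ} [Fact r.Prime] [Fact s.Prime]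

/-- **(DER)** -/
theorem derived_le_D (h : Ctx A Q V r s) : ⁅V, V⁆ ≤ Dsub Q V := by
  apply ctx_min h _ (Cfsg.Agent.Helper24.commutator_le_of_le_normalizer V V Subgroup.le_normalizer) ?_
    (fl_normalizer_commutator h.hAV h.hAV)
  intro he
  have hnil : Group.IsNilpotent ↥V := h.hV.isNilpotent
  have hsolv : Group.IsSolvable ↥V := IsNilpotent.to_isSolvable
  have hnt : Nontrivial ↥V := by
    rw [Subgroup.nontrivial_iff_ne_bot]
    intro hb
    apply h.hnc
    rw [hb]
    exact bot_le
  have hlt := Group.IsSolvable.commutator_lt_top_of_nontrivial ↥V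
  have hmap : (_root_.commutator ↥V).map V.subtype = ⁅V, V⁆ := Subgroup.map_subtype_commutator V
  apply hlt.ne
  apply Subgroup.map_injective V.subtype_injective
  rw [hmap, he, ← MonoidHom.range_eq_map, Subgroup.range_subtype]

end CTX

end Cfsg.Agent.Helper71.FL
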