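import Mathlib
import Cfsg.Agent.Lib.Helper52.FLDefs
import Cfsg.Agent.Lib.Helper52.Coprime
import Cfsg.Agent.Lib.Helper9.WielandtBasic
import Cfsg.Agent.Lib.Helper97.FXDefs
import Cfsg.Agent.Lib.Helper71.FLCtx
import Cfsg.Agent.Lib.Helper71.FLDER

set_option autoImplicit false

/-!
# FL (POW) `pow_mem_D` for helper52's S3822 server
-/

namespace Cfsg.Agent.Helper71.FL

open Cfsg.Agent.Helper52.FL Cfsg.Agent.Helper97.FX
open scoped commutatorElement

variable {G : Type*} [Group G] [Finite G]

section CTX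
variable {A Q V : Subgroup G} {r s : ℕ} [Fact r.Prime] [Fact s.Prime]

/-- **(POW)** -/
theorem pow_mem_D (h : Ctx A Q V r s) : ∀ v ∈ V, v ^ r ∈ Dsub Q V := by
  classical
  have hr : r.Prime := Fact.out
  set D := Dsub Q V with hD
  -- the quotient `V / D`
  have hDn : (D.subgroupOf V).Normal :=
    (Subgroup.normal_subgroupOf_iff_le_normalizer (ctx_D_le h)).mpr (ctx_D_normal h)
  -- commutativity modulo `D`
  have hcomm : ∀ x y : ↥V, (x * y)⁻¹ * (y * x) ∈ D.subgroupOf V := by
    intro x y
    rw [Subgroup.mem_subgroupOf]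
    apply derived_le_D h
    have e : (((x * y)⁻¹ * (y * x) : ↥V) : G) = ⁅(y : G)⁻¹, (x : G)⁻¹⁆ := by
      rw [commutatorElement_def]
      push_cast
      group
    rw [e]
    exact Subgroup.commutator_mem_commutator (V.inv_mem y.2) (V.inv_mem x.2)
  have hqc : ∀ a b : ↥V ⧸ D.subgroupOf V, a * b = b * a := by
    intro a b
    induction a using QuotientGroup.induction_on with
    | H x =>
      induction b using QuotientGroup.induction_on with
      | H y =>
        rw [← QuotientGroup.mk_mul, ← QuotientGroup.mk_mul, QuotientGroup.eq]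
        exact hcomm x y
  -- the subgroup `E`
  let E' : Subgroup ↥V :=
    { carrier := {x | x ^ r ∈ D.subgroupOf V}
      one_mem' := by
        show (1 : ↥V) ^ r ∈ D.subgroupOf V
        rw [one_pow]; exact Subgroup.one_mem _
      mul_mem' := by
        intro x y hx hy
        show (x * y) ^ r ∈ D.subgroupOf V
        have hx' : x ^ r ∈ D.subgroupOf V := hx
        have hy' : y ^ r ∈ D.subgroupOf V := hy
        rw [← QuotientGroup.eq_one_iff] at hx' hy' ⊢
        rw [QuotientGroup.mk_pow] at hx' hy' ⊢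
        rw [QuotientGroup.mk_mul, (show Commute (x : ↥V ⧸ D.subgroupOf V) y from hqc _ _).mul_pow,
          hx', hy', one_mul]
      inv_mem' := by
        intro x hx
        show (x⁻¹) ^ r ∈ D.subgroupOf V
        have hx' : x ^ r ∈ D.subgroupOf V := hx
        rw [inv_pow]
        exact Subgroup.inv_mem _ hx' }
  have hE'mem : ∀ x : ↥V, x ∈ E' ↔ (x : G) ^ r ∈ D := by
    intro x
    show x ^ r ∈ D.subgroupOf V ↔ _
    rw [Subgroup.mem_subgroupOf]
    simp
  set E : Subgroup G := E'.map V.subtype with hE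
  have hEmem : ∀ v : G, v ∈ E ↔ v ∈ V ∧ v ^ r ∈ D := by
    intro v
    constructor
    · rintro ⟨x, hx, rfl⟩
      exact ⟨x.2, (hE'mem x).mp hx⟩
    · rintro ⟨hv, hvr⟩
      exact ⟨⟨v, hv⟩, (hE'mem ⟨v, hv⟩).mpr hvr, rfl⟩
  have hEV : E ≤ V := fun v hv => ((hEmem v).mp hv).1
  have hAE : A ≤ Subgroup.normalizer (E : Set G) := by
    apply fl_le_normalizer_of_conj_mem
    intro g hg x hx
    rw [hEmem] at hx ⊢
    refine ⟨fl_conj_mem_of_le_normalizer h.hAV hg hx.1, ?_⟩
    rw [conj_pow]
    exact fl_conj_mem_of_le_normalizer (ctx_D_normalized h) hg hx.2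
  -- `E ≠ D`-ish: an element of order `r` in the quotient
  have hEnot : ¬ E ≤ D := by
    have hPq : IsPGroup r (↥V ⧸ D.subgroupOf V) := h.hV.to_quotient _
    have hnt : Nontrivial (↥V ⧸ D.subgroupOf V) := by
      rw [QuotientGroup.nontrivial_iff]
      intro htop
      apply ctx_D_ne h
      exact le_antisymm (ctx_D_le h) (Subgroup.subgroupOf_eq_top.mp htop)
    obtain ⟨n, hn⟩ := IsPGroup.iff_card.mp hPq
    have hn0 : n ≠ 0 := by
      rintro rfl
      rw [pow_zero] at hn
      have := (Nat.card_eq_one_iff_unique.mp hn).1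
      exact not_subsingleton _ this
    have hdvd : r ∣ Nat.card (↥V ⧸ D.subgroupOf V) := by
      rw [hn]; exact dvd_pow_self r hn0
    obtain ⟨u, hu⟩ := exists_prime_orderOf_dvd_card' r hdvd
    induction u using QuotientGroup.induction_on with
    | H x =>
      intro hED
      have hxE : (x : G) ∈ E := by
        rw [hEmem]
        refine ⟨x.2, ?_⟩
        have h1 : ((x : ↥V ⧸ D.subgroupOf V)) ^ r = 1 := by
          rw [← hu]; exact pow_orderOf_eq_one _
        rw [← QuotientGroup.mk_pow, QuotientGroup.eq_one_iff, Subgroup.mem_subgroupOf] at h1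
        simpa using h1
      have hxD : (x : G) ∈ D := hED hxE
      have h2 : (x : ↥V ⧸ D.subgroupOf V) = 1 := by
        rw [QuotientGroup.eq_one_iff, Subgroup.mem_subgroupOf]
        exact hxD
      rw [h2, orderOf_one] at hu
      exact hr.one_lt.ne hu
  have hEeq : E = V := by
    by_contra hne
    exact hEnot (ctx_min h E hEV hne hAE)
  intro v hv
  have : v ∈ E := by rw [hEeq]; exact hv
  exact ((hEmem v).mp this).2

end CTX

end Cfsg.Agent.Helper71.FL
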