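import Mathlib
import Cfsg.Prelude.Def_Blocks
import Cfsg.Agent.Lib.Helper55.O2520Defs
import Cfsg.Agent.Lib.Helper17.Simple
import Cfsg.Agent.Lib.Helper17.Embed

/-!
# O2520 lemma server (helper55, row S0984), wave 2, piece (FIN)

A subgroup of order 360 in a simple group of order 2520 has index 7; the action on its cosets embeds
`G` into `A7` (`Helper17.embed_alt`), and `|A7| = 2520 = |G|` makes the embedding bijective.
-/

set_option autoImplicit false

namespace Cfsg.Agent.Helper71.O2520

open Cfsg Cfsg.Agent.Helper55.O2520
open scoped Classical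

universe u

section grp
variable {G : Type u} [Group G] [Finite G] [IsSimpleGroup G] (hG : Nat.card G = 2520)
include hG

/-- (FIN) -/
theorem iso_of_done (h : Done G) : Nonempty (G ≃* alternatingGroup (Fin 7)) := by
  obtain ⟨K, hK⟩ := h
  have hidx : K.index = 7 := by
    have h1 := K.card_mul_index
    rw [hK, hG] at h1
    omega
  have hKtop : K ≠ ⊤ := by
    intro htop
    rw [htop, Subgroup.index_top] at hidx
    omega
  have hnc : ¬ IsMulCommutative G :=
    Cfsg.Agent.Helper17.not_comm_of_not_prime (by rw [hG]; norm_num)
  have key : ∀ n : ℕ, K.index = n →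
      (∃ f : G →* ↥(alternatingGroup (Fin K.index)), Function.Injective f) →
      ∃ f : G →* ↥(alternatingGroup (Fin n)), Function.Injective f := by
    intro n hn
    subst hn
    exact id
  obtain ⟨f, hf⟩ := key 7 hidx (Cfsg.Agent.Helper17.embed_alt hnc K hKtop)
  have hcard : Nat.card ↥(alternatingGroup (Fin 7)) = 2520 := by
    rw [nat_card_alternatingGroup, Nat.card_eq_fintype_card, Fintype.card_fin]
    decide
  have hbij : Function.Bijective f := by
    apply Function.Injective.bijective_of_nat_card_le hf
    rw [hcard, hG]
  exact ⟨MulEquiv.ofBijective f hbij⟩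

end grp

end Cfsg.Agent.Helper71.O2520
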