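import Mathlib
import Cfsg.Prelude.Def_Solvable
import Cfsg.Agent.Lib.Helper71.Frobenius

set_option autoImplicit false

namespace Cfsg.Agent.Helper71

open scoped Pointwise

universe u v

/-- Frobenius complements are transported by group isomorphisms. -/
theorem isFrobeniusComplement_map_equiv {L : Type u} {L' : Type v} [Group L] [Group L']
    (e : L ≃* L') (C : Subgroup L) (hC : Cfsg.IsFrobeniusComplement C) :
    Cfsg.IsFrobeniusComplement (C.map e.toMonoidHom) := by
  obtain ⟨h1, h2, h3⟩ := hC
  refine ⟨?_, ?_, ?_⟩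
  · intro h
    apply h1
    exact (Subgroup.map_eq_bot_iff_of_injective C e.injective).1 h
  · intro h
    apply h2
    rw [eq_top_iff]
    intro x _
    have : e x ∈ C.map e.toMonoidHom := by rw [h]; trivial
    obtain ⟨c, hc, hce⟩ := this
    have : c = x := e.injective hce
    rw [← this]; exact hc
  · intro g' hg'
    obtain ⟨g, rfl⟩ := e.surjective g'
    have hg : g ∉ C := fun hg => hg' ⟨g, hg, rfl⟩
    have h4 := h3 g hg
    rw [Subgroup.eq_bot_iff_forall]
    rintro y ⟨⟨c, hc, rfl⟩, hy2⟩
    replace hy2 : e.toMonoidHom c ∈ MulAut.conj (e g) • (C.map e.toMonoidHom) := hy2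
    rw [Subgroup.mem_smul_pointwise_iff_exists] at hy2
    obtain ⟨_, ⟨c', hc', rfl⟩, hcc⟩ := hy2
    have h5 : e (g * c' * g⁻¹) = e c := by
      simpa [MulAut.smul_def, MulAut.conj_apply] using hcc
    have h6 : g * c' * g⁻¹ = c := e.injective h5
    have h8 : c ∈ MulAut.conj g • C := by
      rw [Subgroup.mem_smul_pointwise_iff_exists]
      exact ⟨c', hc', by simpa [MulAut.smul_def, MulAut.conj_apply] using h6⟩
    have h7 : c ∈ C ⊓ MulAut.conj g • C := ⟨hc, h8⟩
    rw [h4, Subgroup.mem_bot] at h7
    rw [h7, map_one]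

/-- A finite group with a Frobenius complement has a model in `Type`. -/
theorem exists_small_model {L : Type u} [Group L] [Finite L] (C : Subgroup L)
    (hC : Cfsg.IsFrobeniusComplement C) :
    ∃ (L' : Type) (_ : Group L') (_ : Finite L') (C' : Subgroup L'),
      Cfsg.IsFrobeniusComplement C' ∧ Nonempty (C ≃* C') := by
  let e : Shrink.{0} L ≃* L := Shrink.mulEquiv
  have hfin : Finite (Shrink.{0} L) := Finite.of_equiv L e.symm.toEquiv
  exact ⟨Shrink.{0} L, inferInstance, hfin, C.map e.symm.toMonoidHom,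
    isFrobeniusComplement_map_equiv e.symm C hC, ⟨e.symm.subgroupMap C⟩⟩

/-- universe-polymorphic packaged existence statement -/
theorem exists_frobenius_of_distribMulAction' {V : Type u} {H : Type v} [AddGroup V] [Group H]
    [DistribMulAction H V] [Finite V] [Finite H] [Nontrivial V] [Nontrivial H]
    (hfpf : ∀ h : H, h ≠ 1 → ∀ v : V, h • v = v → v = 0) :
    ∃ (L : Type) (_ : Group L) (_ : Finite L) (C : Subgroup L),
      Cfsg.IsFrobeniusComplement C ∧ Nonempty (H ≃* C) := by
  have hfin : Finite (Multiplicative V ⋊[toMulAutMul H V] H) :=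
    Finite.of_equiv _ (SemidirectProduct.equivProd).symm
  obtain ⟨L, hL1, hL2, C, hC, ⟨e⟩⟩ := exists_small_model _
    (isFrobeniusComplement_of_distribMulAction (V := V) (H := H) hfpf)
  refine ⟨L, hL1, hL2, C, hC, ⟨?_⟩⟩
  exact (MonoidHom.ofInjective SemidirectProduct.inr_injective).trans e

end Cfsg.Agent.Helper71
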