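import Mathlib
import Cfsg.Agent.Lib.Helper7.M11UDefs
import Cfsg.Agent.Lib.Helper7.NSEDefs

/-!
# NSE (G5): a nontrivial normal subgroup of order prime to 11 has order 5  (helper71, for helper7's S3592 server)
-/

set_option autoImplicit false

namespace Cfsg.Agent.Helper71.NSE

open Subgroup Cfsg.Agent.Helper7.M11U Cfsg.Agent.Helper7.NSE
open scoped Pointwise

universe u

/-- arithmetic: a nontrivial power of 2 dividing 7920 is not `≡ 1 mod 11` -/
theorem g5_arith_two (m : ℕ) (h1 : m ∣ 16) (h2 : m ≡ 1 [MOD 11]) : m = 1 := by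
  have hle : m ≤ 16 := Nat.le_of_dvd (by norm_num) h1
  unfold Nat.ModEq at h2
  interval_cases m <;> omega

/-- arithmetic: a nontrivial power of 3 dividing 7920 is not `≡ 1 mod 11` -/
theorem g5_arith_three (m : ℕ) (h1 : m ∣ 9) (h2 : m ≡ 1 [MOD 11]) : m = 1 := by
  have hle : m ≤ 9 := Nat.le_of_dvd (by norm_num) h1
  unfold Nat.ModEq at h2
  interval_cases m <;> omega

/-- the key step: `p ∈ {2, 3}` does not divide `|N|` -/
theorem g5_not_dvd {G : Type*} [Group G] [Finite G] (hc : Nat.card G = 7920)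
    (h144 : Nat.card (Sylow 11 G) = 144)
    (h5a : ∀ (N : Subgroup G), N.Normal → ¬ 11 ∣ Nat.card N → ∀ (p : ℕ), p.Prime → ∀ T : Sylow p N,
      ∃ P : Sylow 11 G, (P : Subgroup G) ≤ normalizer ((((T : Subgroup N).map N.subtype : Subgroup G)) : Set G))
    (h5b : ∀ (P : Subgroup G), Nat.card P = 11 → ∀ T : Subgroup G, P ≤ normalizer (T : Set G) →
      Nat.card T ≡ Nat.card (T ⊓ centralizer (P : Set G) : Subgroup G) [MOD 11])
    (N : Subgroup G) (hN : N.Normal) (h11 : ¬ 11 ∣ Nat.card N)
    (p : ℕ) (hp : p.Prime) (hp23 : p = 2 ∨ p = 3) : ¬ p ∣ Nat.card N := by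
  intro hpN
  haveI : Fact p.Prime := ⟨hp⟩
  haveI : Fact (Nat.Prime 11) := ⟨by norm_num⟩
  obtain T : Sylow p N := default
  obtain ⟨P, hPT⟩ := h5a N hN h11 p hp T
  set T' : Subgroup G := (T : Subgroup N).map N.subtype with hT'
  -- cardinalities
  have hcT : Nat.card T' = Nat.card (T : Subgroup N) :=
    Subgroup.card_map_of_injective (Subgroup.subtype_injective N)
  have hpT : p ∣ Nat.card T' := by rw [hcT]; exact T.dvd_card_of_dvd_card hpN
  obtain ⟨a, ha⟩ := IsPGroup.iff_card.mp T.isPGroup'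
  have hT7920 : Nat.card T' ∣ 7920 := by
    rw [← hc]; exact Subgroup.card_subgroup_dvd_card T'
  have hP11 : Nat.card (P : Subgroup G) = 11 := by
    have := P.card_eq_multiplicity
    rw [hc] at this
    have hf : Nat.factorization 7920 11 = 1 := by
      have : (7920 : ℕ) = 11 ^ 1 * 720 := by norm_num
      rw [this, Nat.factorization_mul (by norm_num) (by norm_num), Nat.factorization_pow]
      simp [Nat.Prime.factorization_self (show Nat.Prime 11 by norm_num)]
      rw [Nat.factorization_eq_zero_of_not_dvd (by norm_num)]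
    rw [this, hf, pow_one]
  have hNP : Nat.card (normalizer ((P : Subgroup G) : Set G)) = 55 := by
    have h1 : Nat.card (Sylow 11 G) = (normalizer ((P : Subgroup G) : Set G)).index :=
      P.card_eq_index_normalizer
    have h2 := Subgroup.index_mul_card (normalizer ((P : Subgroup G) : Set G))
    rw [← h1, h144, hc] at h2
    omega
  have hmod := h5b P hP11 T' hPT
  set c := Nat.card (T' ⊓ centralizer ((P : Subgroup G) : Set G) : Subgroup G) with hc'
  have hcT' : c ∣ Nat.card T' := Subgroup.card_dvd_of_le inf_le_left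
  have hc55 : c ∣ 55 := by
    rw [← hNP]
    exact Subgroup.card_dvd_of_le (inf_le_right.trans (Subgroup.centralizer_le_normalizer _))
  rw [hcT, ha] at hcT' hpT hT7920
  rw [hcT, ha] at hmod
  -- c = 1
  have hcop : Nat.Coprime (p ^ a) 55 := by
    apply Nat.Coprime.pow_left
    rcases hp23 with rfl | rfl <;> decide
  have hc1 : c = 1 := Nat.eq_one_of_dvd_coprimes hcop hcT' hc55
  rw [hc1] at hmod
  -- p ^ a divides 16 or 9
  rcases hp23 with rfl | rfl
  · have h16 : 2 ^ a ∣ 16 := by
      have : (7920 : ℕ) = 16 * 495 := by norm_num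
      rw [this] at hT7920
      exact (Nat.Coprime.pow_left a (by decide : Nat.Coprime 2 495)).dvd_of_dvd_mul_right hT7920
    have := g5_arith_two _ h16 hmod
    rw [this] at hpT
    exact absurd hpT (by decide)
  · have h9 : 3 ^ a ∣ 9 := by
      have : (7920 : ℕ) = 9 * 880 := by norm_num
      rw [this] at hT7920
      exact (Nat.Coprime.pow_left a (by decide : Nat.Coprime 3 880)).dvd_of_dvd_mul_right hT7920
    have := g5_arith_three _ h9 hmod
    rw [this] at hpT
    exact absurd hpT (by decide)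

theorem normal_coprime {G : Type*} [Group G] [Finite G] (hc : Nat.card G = 7920)
    (h144 : Nat.card (Sylow 11 G) = 144)
    (h5a : ∀ (N : Subgroup G), N.Normal → ¬ 11 ∣ Nat.card N → ∀ (p : ℕ), p.Prime → ∀ T : Sylow p N,
      ∃ P : Sylow 11 G, (P : Subgroup G) ≤ normalizer ((((T : Subgroup N).map N.subtype : Subgroup G)) : Set G))
    (h5b : ∀ (P : Subgroup G), Nat.card P = 11 → ∀ T : Subgroup G, P ≤ normalizer (T : Set G) →
      Nat.card T ≡ Nat.card (T ⊓ centralizer (P : Set G) : Subgroup G) [MOD 11])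
    (N : Subgroup G) (hN : N.Normal) (h11 : ¬ 11 ∣ Nat.card N) (hne : N ≠ ⊥) : Nat.card N = 5 := by
  have h2 := g5_not_dvd hc h144 h5a h5b N hN h11 2 (by norm_num) (Or.inl rfl)
  have h3 := g5_not_dvd hc h144 h5a h5b N hN h11 3 (by norm_num) (Or.inr rfl)
  have hdvd : Nat.card N ∣ 7920 := by rw [← hc]; exact Subgroup.card_subgroup_dvd_card N
  have hcop : Nat.Coprime (Nat.card N) 1584 := by
    have c2 : Nat.Coprime (Nat.card N) 2 :=
      ((Nat.Prime.coprime_iff_not_dvd (by norm_num : Nat.Prime 2)).2 h2).symm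
    have c3 : Nat.Coprime (Nat.card N) 3 :=
      ((Nat.Prime.coprime_iff_not_dvd (by norm_num : Nat.Prime 3)).2 h3).symm
    have c11 : Nat.Coprime (Nat.card N) 11 :=
      ((Nat.Prime.coprime_iff_not_dvd (by norm_num : Nat.Prime 11)).2 h11).symm
    have : (1584 : ℕ) = 2 ^ 4 * 3 ^ 2 * 11 := by norm_num
    rw [this]
    exact Nat.Coprime.mul_right (Nat.Coprime.mul_right (c2.pow_right 4) (c3.pow_right 2)) c11
  have h5 : Nat.card N ∣ 5 := by
    have : (7920 : ℕ) = 5 * 1584 := by norm_num
    rw [this] at hdvd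
    exact hcop.dvd_of_dvd_mul_right hdvd
  rcases (Nat.dvd_prime Nat.prime_five).1 h5 with h | h
  · exact absurd (Subgroup.card_eq_one.mp h) hne
  · exact h

end Cfsg.Agent.Helper71.NSE
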