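import Mathlib

/-!
# Subgroups isomorphic to `A₄` in `GL₂(ℤ/2ᵏ)`: the Klein four-subgroup

Integer-lift computations showing that the involutions of a subgroup `A₄` of `GL₂(ℤ/2ᵏ)` are
`1 + 2^(k-1) E` for three explicit matrices `E`.
-/

set_option autoImplicit false

namespace Cfsg.Agent.Helper71.A4GL2

/-- 2 × 2 matrices over `𝔽₂` -/
abbrev M2 := Matrix (Fin 2) (Fin 2) (ZMod 2)

/-- 2 × 2 integer matrices -/
abbrev MZ := Matrix (Fin 2) (Fin 2) ℤ

section f2

set_option maxRecDepth 100000 in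
theorem step_f2 : ∀ (e : ZMod 2) (G M : M2), G * G * G = 1 → G * G * M * G = M + G * M * (G * G) →
    M + e • (M * M) = 0 → M = 0 := by decide

set_option maxRecDepth 100000 in
theorem final_f2 : ∀ (G M : M2), G * G * G = 1 → G * G * M * G = M + G * M * (G * G) →
    M = 0 ∨ M = !![0,1;1,0] ∨ M = !![1,1;0,1] ∨ M = !![1,0;1,1] := by decide

set_option maxRecDepth 100000 in
theorem base_f2 : ∀ (G X : M2), G * G * G = 1 → X * X = 1 →
    G * (G * X * (G * G)) * (G * G) = X * (G * X * (G * G)) → X = 1 := by decide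

end f2

/-- reduction of integer matrices modulo `n` -/
noncomputable def redn (n : ℕ) : MZ →+* Matrix (Fin 2) (Fin 2) (ZMod n) :=
  (Int.castRingHom (ZMod n)).mapMatrix

theorem redn_apply (n : ℕ) (A : MZ) (i j : Fin 2) : redn n A i j = ((A i j : ℤ) : ZMod n) := rfl

theorem redn_eq_zero_iff (n : ℕ) (A : MZ) : redn n A = 0 ↔ ∀ i j, (n : ℤ) ∣ A i j := by
  constructor
  · intro h i j
    have := congrFun (congrFun h i) j
    rw [redn_apply] at this
    exact (ZMod.intCast_zmod_eq_zero_iff_dvd _ _).mp this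
  · intro h
    ext i j
    rw [redn_apply]
    exact (ZMod.intCast_zmod_eq_zero_iff_dvd _ _).mpr (h i j)

theorem redn_smul (n : ℕ) (a : ℤ) (A : MZ) : redn n (a • A) = (a : ZMod n) • redn n A := by
  ext i j
  rw [redn_apply, Matrix.smul_apply, Matrix.smul_apply, redn_apply, smul_eq_mul, smul_eq_mul,
    Int.cast_mul]

theorem cancel (k j : ℕ) (hjk : j < k) (A : MZ) (h : redn (2 ^ k) (((2 : ℤ) ^ j) • A) = 0) :
    redn 2 A = 0 := by
  rw [redn_eq_zero_iff] at h ⊢
  intro i l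
  have h1 := h i l
  have e : ((2 ^ k : ℕ) : ℤ) = (2 : ℤ) ^ j * (2 : ℤ) ^ (k - j) := by
    rw [← pow_add]
    push_cast
    congr 1
    omega
  rw [e, Matrix.smul_apply, smul_eq_mul] at h1
  have h2 : (2 : ℤ) ^ (k - j) ∣ A i l :=
    (mul_dvd_mul_iff_left (pow_ne_zero j (two_ne_zero))).mp h1
  have h3 : (2 : ℤ) ∣ (2 : ℤ) ^ (k - j) := dvd_pow_self 2 (by omega)
  exact_mod_cast h3.trans h2

theorem exists_two_smul (A : MZ) (h : redn 2 A = 0) : ∃ B : MZ, A = (2 : ℤ) • B := by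
  rw [redn_eq_zero_iff] at h
  choose f hf using h
  refine ⟨Matrix.of f, ?_⟩
  ext i j
  rw [Matrix.smul_apply, smul_eq_mul, Matrix.of_apply]
  exact_mod_cast hf i j

theorem redn_two_of_pow (k : ℕ) (hk : 1 ≤ k) (A : MZ) (h : redn (2 ^ k) A = 0) : redn 2 A = 0 := by
  apply cancel k 0 (by omega) A
  simpa using h

theorem two_pow_cast_zero (j : ℕ) (hj : 1 ≤ j) : (((2 : ℤ) ^ j : ℤ) : ZMod 2) = 0 := by
  push_cast
  have : (2 : ZMod 2) = 0 := by decide
  rw [this, zero_pow (by omega)]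

theorem redn_two_eq_of_pow (k : ℕ) (hk : 1 ≤ k) (A B : MZ) (h : redn (2 ^ k) A = redn (2 ^ k) B) :
    redn 2 A = redn 2 B := by
  have h0 : redn (2 ^ k) (A - B) = 0 := by rw [map_sub, h, sub_self]
  have := redn_two_of_pow k hk _ h0
  rw [map_sub] at this
  exact sub_eq_zero.mp this

/-- the relations modulo 2 -/
theorem cube_f2 (k : ℕ) (hk : 1 ≤ k) (G : MZ) (h1 : redn (2 ^ k) (G * G * G) = 1) :
    redn 2 G * redn 2 G * redn 2 G = 1 := by
  have := redn_two_eq_of_pow k hk (G * G * G) 1 (by rw [h1, map_one])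
  rw [map_one, map_mul, map_mul] at this
  exact this

/-- the trace relation at level `j` -/
theorem trace_rel (k j : ℕ) (hj1 : 1 ≤ j) (hjk : j < k) (X G M : MZ)
    (hX : X = 1 + ((2 : ℤ) ^ j) • M)
    (h1 : redn (2 ^ k) (G * G * G) = 1)
    (h4 : redn (2 ^ k) (G * (G * X * (G * G)) * (G * G)) = redn (2 ^ k) (X * (G * X * (G * G)))) :
    redn 2 G * redn 2 G * redn 2 M * redn 2 G =
      redn 2 M + redn 2 G * redn 2 M * (redn 2 G * redn 2 G) := by
  have hG3 := cube_f2 k (by omega) G h1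
  have hid : G * (G * X * (G * G)) * (G * G) - X * (G * X * (G * G)) =
      (G * G * G * (G * G * G) - G * G * G) + ((2 : ℤ) ^ j) • (G * G * M * (G * G * G * G) -
        G * M * (G * G) - M * (G * G * G) - ((2 : ℤ) ^ j) • (M * G * M * (G * G))) := by
    rw [hX]
    simp only [mul_add, add_mul, mul_one, one_mul, smul_mul_assoc, mul_smul_comm, smul_add,
      smul_sub, smul_smul, mul_assoc]
    module
  have h0 : redn (2 ^ k) (G * (G * X * (G * G)) * (G * G) - X * (G * X * (G * G))) = 0 := by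
    rw [map_sub, h4, sub_self]
  rw [hid, map_add, map_sub, map_mul (redn (2 ^ k)) (G * G * G), h1, mul_one, sub_self,
    zero_add] at h0
  have h3 := cancel k j hjk _ h0
  rw [map_sub, map_sub, map_sub, redn_smul, two_pow_cast_zero j hj1, zero_smul, sub_zero] at h3
  simp only [map_mul] at h3
  have e4 : redn 2 G * redn 2 G * redn 2 G * redn 2 G = redn 2 G := by
    rw [hG3, one_mul]
  rw [e4, hG3, mul_one] at h3
  exact sub_eq_iff_eq_add.mp (sub_eq_zero.mp h3)

/-- the inductive step: from level `j` to level `j + 1` -/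
theorem step (k j : ℕ) (hj1 : 1 ≤ j) (hjk : j + 2 ≤ k) (X G M : MZ)
    (hX : X = 1 + ((2 : ℤ) ^ j) • M)
    (h1 : redn (2 ^ k) (G * G * G) = 1) (h2 : redn (2 ^ k) (X * X) = 1)
    (h4 : redn (2 ^ k) (G * (G * X * (G * G)) * (G * G)) = redn (2 ^ k) (X * (G * X * (G * G)))) :
    redn 2 M = 0 := by
  have hG3 := cube_f2 k (by omega) G h1
  have htr := trace_rel k j hj1 (by omega) X G M hX h1 h4
  -- the square relation
  have hsq : redn 2 M + (((2 : ℤ) ^ (j - 1) : ℤ) : ZMod 2) • (redn 2 M * redn 2 M) = 0 := by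
    have hid : X * X - 1 = ((2 : ℤ) ^ (j + 1)) • (M + ((2 : ℤ) ^ (j - 1)) • (M * M)) := by
      rw [hX]
      have e : (2 : ℤ) ^ j * (2 : ℤ) ^ j = (2 : ℤ) ^ (j + 1) * (2 : ℤ) ^ (j - 1) := by
        rw [← pow_add, ← pow_add]
        congr 1
        omega
      have e2 : (2 : ℤ) ^ (j + 1) = 2 * (2 : ℤ) ^ j := by rw [pow_succ]; ring
      simp only [mul_add, add_mul, mul_one, one_mul, smul_mul_assoc, mul_smul_comm, smul_add,
        smul_smul]
      rw [e, e2]
      module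
    have h0 : redn (2 ^ k) (X * X - 1) = 0 := by
      rw [map_sub, h2, map_one, sub_self]
    rw [hid] at h0
    have h3 := cancel k (j + 1) (by omega) _ h0
    rw [map_add, redn_smul, map_mul] at h3
    exact h3
  exact step_f2 _ (redn 2 G) (redn 2 M) hG3 htr hsq

/-- all levels up to `k - 1` -/
theorem levels (k : ℕ) (hk : 2 ≤ k) (X G : MZ)
    (h1 : redn (2 ^ k) (G * G * G) = 1) (h2 : redn (2 ^ k) (X * X) = 1)
    (h4 : redn (2 ^ k) (G * (G * X * (G * G)) * (G * G)) = redn (2 ^ k) (X * (G * X * (G * G))))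
    (j : ℕ) (hj1 : 1 ≤ j) (hjk : j + 1 ≤ k) : ∃ M : MZ, X = 1 + ((2 : ℤ) ^ j) • M := by
  induction j, hj1 using Nat.le_induction with
  | base =>
    have hG3 := cube_f2 k (by omega) G h1
    have hX2 : redn 2 X * redn 2 X = 1 := by
      have := redn_two_eq_of_pow k (by omega) (X * X) 1 (by rw [h2, map_one])
      rw [map_one, map_mul] at this
      exact this
    have hrel : redn 2 G * (redn 2 G * redn 2 X * (redn 2 G * redn 2 G)) * (redn 2 G * redn 2 G) =
        redn 2 X * (redn 2 G * redn 2 X * (redn 2 G * redn 2 G)) := by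
      have := redn_two_eq_of_pow k (by omega) _ _ h4
      simp only [map_mul] at this
      exact this
    have hX1 : redn 2 X = 1 := base_f2 _ _ hG3 hX2 hrel
    have h0 : redn 2 (X - 1) = 0 := by rw [map_sub, hX1, map_one, sub_self]
    obtain ⟨B, hB⟩ := exists_two_smul _ h0
    refine ⟨B, ?_⟩
    rw [pow_one, ← hB]
    abel
  | succ j hj1 ih =>
    obtain ⟨M, hM⟩ := ih (by omega)
    have h0 := step k j hj1 (by omega) X G M hM h1 h2 h4
    obtain ⟨B, hB⟩ := exists_two_smul _ h0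
    refine ⟨B, ?_⟩
    rw [hM, hB, smul_smul, pow_succ]

/-- the core statement over the integers -/
theorem core (k : ℕ) (hk : 2 ≤ k) (X G : MZ)
    (h1 : redn (2 ^ k) (G * G * G) = 1) (h2 : redn (2 ^ k) (X * X) = 1)
    (h4 : redn (2 ^ k) (G * (G * X * (G * G)) * (G * G)) = redn (2 ^ k) (X * (G * X * (G * G)))) :
    ∃ M : MZ, X = 1 + ((2 : ℤ) ^ (k - 1)) • M ∧
      (redn 2 M = 0 ∨ redn 2 M = !![0,1;1,0] ∨ redn 2 M = !![1,1;0,1] ∨ redn 2 M = !![1,0;1,1]) := by
  obtain ⟨M, hM⟩ := levels k hk X G h1 h2 h4 (k - 1) (by omega) (by omega)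
  refine ⟨M, hM, ?_⟩
  have hG3 := cube_f2 k (by omega) G h1
  have htr := trace_rel k (k - 1) (by omega) (by omega) X G M hM h1 h4
  exact final_f2 _ _ hG3 htr

/-- the three matrices `E` with `1 + 2^(k-1) E` an involution of the Klein subgroup -/
def E (R : Type*) [Ring R] : Fin 3 → Matrix (Fin 2) (Fin 2) R
  | 0 => !![0,1;1,0]
  | 1 => !![1,1;0,1]
  | 2 => !![1,0;1,1]

theorem redn_E (n : ℕ) (m : Fin 3) : redn n (E ℤ m) = E (ZMod n) m := by
  fin_cases m <;> ext i j <;> fin_cases i <;> fin_cases j <;> simp [redn_apply, E]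

theorem redn_surjective (n : ℕ) [NeZero n] (A : Matrix (Fin 2) (Fin 2) (ZMod n)) :
    ∃ B : MZ, redn n B = A := by
  refine ⟨Matrix.of fun i j => ((A i j).cast : ℤ), ?_⟩
  ext i j
  rw [redn_apply, Matrix.of_apply, ZMod.intCast_zmod_cast]

theorem two_pow_self_cast (k : ℕ) : (((2 : ℤ) ^ k : ℤ) : ZMod (2 ^ k)) = 0 := by
  have : (((2 ^ k : ℕ) : ℤ) : ZMod (2 ^ k)) = 0 := by
    rw [Int.cast_natCast, ZMod.natCast_self]
  rw [← this]
  push_cast
  rfl

/-- the form of the involutions, over `ZMod (2 ^ k)` -/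
theorem invol_form (k : ℕ) (hk : 2 ≤ k) (Xm Gm : Matrix (Fin 2) (Fin 2) (ZMod (2 ^ k)))
    (h1 : Gm * Gm * Gm = 1) (h2 : Xm * Xm = 1)
    (h4 : Gm * (Gm * Xm * (Gm * Gm)) * (Gm * Gm) = Xm * (Gm * Xm * (Gm * Gm))) (hne : Xm ≠ 1) :
    ∃ m : Fin 3, Xm = 1 + ((2 : ZMod (2 ^ k)) ^ (k - 1)) • E (ZMod (2 ^ k)) m := by
  obtain ⟨X, hX⟩ := redn_surjective (2 ^ k) Xm
  obtain ⟨G, hG⟩ := redn_surjective (2 ^ k) Gm
  have h1' : redn (2 ^ k) (G * G * G) = 1 := by
    rw [map_mul, map_mul, hG, h1]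
  have h2' : redn (2 ^ k) (X * X) = 1 := by
    rw [map_mul, hX, h2]
  have h4' : redn (2 ^ k) (G * (G * X * (G * G)) * (G * G)) =
      redn (2 ^ k) (X * (G * X * (G * G))) := by
    simp only [map_mul, hG, hX]
    exact h4
  obtain ⟨M, hM, hcases⟩ := core k hk X G h1' h2' h4'
  have hpow : (2 : ℤ) ^ (k - 1) * 2 = (2 : ℤ) ^ k := by
    rw [← pow_succ]
    congr 1
    omega
  have key : ∀ (Em : MZ), redn 2 M = redn 2 Em →
      Xm = 1 + ((2 : ZMod (2 ^ k)) ^ (k - 1)) • redn (2 ^ k) Em := by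
    intro Em hEm
    have h0 : redn 2 (M - Em) = 0 := by rw [map_sub, hEm, sub_self]
    obtain ⟨B, hB⟩ := exists_two_smul _ h0
    have hM' : M = Em + (2 : ℤ) • B := by rw [← hB]; abel
    have hX' : X = 1 + ((2 : ℤ) ^ (k - 1)) • Em + ((2 : ℤ) ^ k) • B := by
      rw [hM, hM', smul_add, smul_smul, hpow, add_assoc]
    rw [← hX, hX', map_add, map_add, map_one, redn_smul, redn_smul, two_pow_self_cast, zero_smul,
      add_zero]
    push_cast
    rfl
  rcases hcases with h | h | h | h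
  · exfalso
    apply hne
    have := key 0 (by rw [h, map_zero])
    rw [map_zero, smul_zero, add_zero] at this
    exact this
  · refine ⟨0, ?_⟩
    have := key (E ℤ 0) (by rw [h, redn_E]; rfl)
    rw [redn_E] at this
    exact this
  · refine ⟨1, ?_⟩
    have := key (E ℤ 1) (by rw [h, redn_E]; rfl)
    rw [redn_E] at this
    exact this
  · refine ⟨2, ?_⟩
    have := key (E ℤ 2) (by rw [h, redn_E]; rfl)
    rw [redn_E] at this
    exact this

end Cfsg.Agent.Helper71.A4GL2
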