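import Mathlib

/-!
# Elements of order 3 of `GL₂(ℤ/2ᵏ)` generate conjugate subgroups

The kernel of reduction modulo 2 is a 2-group and `GL₂(𝔽₂)` has order 6, so the Sylow 3-subgroups
of `GL₂(ℤ/2ᵏ)` have order at most 3.
-/

set_option autoImplicit false

namespace Cfsg.Agent.Helper71.A4GL2

/-- reduction modulo 2 -/
noncomputable def rho (k : ℕ) (hk : 1 ≤ k) : GL (Fin 2) (ZMod (2 ^ k)) →* GL (Fin 2) (ZMod 2) :=
  Matrix.GeneralLinearGroup.map (ZMod.castHom (dvd_pow_self 2 (by omega)) (ZMod 2))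

theorem card_GL2F2 : Nat.card (GL (Fin 2) (ZMod 2)) = 6 := by
  rw [Matrix.card_GL_field]
  simp [Fin.prod_univ_two, ZMod.card]

theorem exists_two_mul (k : ℕ) (hk : 1 ≤ k) (a : ZMod (2 ^ k))
    (h : ZMod.castHom (dvd_pow_self 2 (by omega)) (ZMod 2) a = 0) : ∃ b : ZMod (2 ^ k), a = 2 * b := by
  have h1 : a = ((a.val : ℕ) : ZMod (2 ^ k)) := (ZMod.natCast_zmod_val a).symm
  rw [h1, map_natCast, ZMod.natCast_eq_zero_iff] at h
  obtain ⟨m, hm⟩ := h
  refine ⟨(m : ZMod (2 ^ k)), ?_⟩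
  rw [h1, hm]
  push_cast
  rfl

theorem two_pow_eq_zero (k : ℕ) : (2 : ZMod (2 ^ k)) ^ k = 0 := by
  have : ((2 ^ k : ℕ) : ZMod (2 ^ k)) = 0 := ZMod.natCast_self _
  rw [← this]
  push_cast
  rfl

/-- elements of the kernel of reduction mod 2 have 2-power order -/
theorem ker_pow (k : ℕ) (hk : 1 ≤ k) (u : GL (Fin 2) (ZMod (2 ^ k))) (hu : rho k hk u = 1) :
    u ^ (2 ^ (k - 1)) = 1 := by
  set Um : Matrix (Fin 2) (Fin 2) (ZMod (2 ^ k)) := (u : Matrix (Fin 2) (Fin 2) (ZMod (2 ^ k)))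
    with hUm
  -- Um = 1 + 2 M
  have hA : ∃ M : Matrix (Fin 2) (Fin 2) (ZMod (2 ^ k)), Um = 1 + (2 : ZMod (2 ^ k)) • M := by
    have hent : ∀ i j, ∃ b : ZMod (2 ^ k), Um i j - (1 : Matrix (Fin 2) (Fin 2) (ZMod (2 ^ k))) i j
        = 2 * b := by
      intro i j
      apply exists_two_mul k hk
      have h1 : (rho k hk u : Matrix (Fin 2) (Fin 2) (ZMod 2)) i j =
          (1 : Matrix (Fin 2) (Fin 2) (ZMod 2)) i j := by rw [hu]; rfl
      have h2 : (rho k hk u : Matrix (Fin 2) (Fin 2) (ZMod 2)) i j =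
          ZMod.castHom (dvd_pow_self 2 (by omega)) (ZMod 2) (Um i j) := rfl
      rw [map_sub, ← h2, h1]
      by_cases hij : i = j
      · subst hij
        rw [Matrix.one_apply_eq, Matrix.one_apply_eq, map_one, sub_self]
      · rw [Matrix.one_apply_ne hij, Matrix.one_apply_ne hij, map_zero, sub_self]
    choose f hf using hent
    refine ⟨Matrix.of f, ?_⟩
    ext i j
    rw [Matrix.add_apply, Matrix.smul_apply, Matrix.of_apply, smul_eq_mul, ← hf i j]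
    ring
  -- powers
  have hB : ∀ i : ℕ, ∃ M : Matrix (Fin 2) (Fin 2) (ZMod (2 ^ k)),
      Um ^ (2 ^ i) = 1 + ((2 : ZMod (2 ^ k)) ^ (i + 1)) • M := by
    intro i
    induction i with
    | zero =>
      obtain ⟨M, hM⟩ := hA
      exact ⟨M, by rw [pow_zero, pow_one, zero_add, pow_one]; exact hM⟩
    | succ i ih =>
      obtain ⟨M, hM⟩ := ih
      refine ⟨M + ((2 : ZMod (2 ^ k)) ^ i) • (M * M), ?_⟩
      rw [pow_succ, pow_mul, hM, sq]
      have e : (2 : ZMod (2 ^ k)) ^ (i + 1) * (2 : ZMod (2 ^ k)) ^ (i + 1) =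
          (2 : ZMod (2 ^ k)) ^ (i + 1 + 1) * (2 : ZMod (2 ^ k)) ^ i := by
        rw [← pow_add, ← pow_add]
        congr 1
        omega
      have e2 : (2 : ZMod (2 ^ k)) ^ (i + 1 + 1) = 2 * (2 : ZMod (2 ^ k)) ^ (i + 1) := by
        rw [pow_succ]; ring
      simp only [mul_add, add_mul, mul_one, one_mul, smul_mul_assoc, mul_smul_comm, smul_add,
        smul_smul]
      rw [e, e2]
      module
  obtain ⟨M, hM⟩ := hB (k - 1)
  have hk1 : k - 1 + 1 = k := by omega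
  rw [hk1, two_pow_eq_zero, zero_smul, add_zero] at hM
  apply Units.ext
  rw [Units.val_pow_eq_pow_val, Units.val_one]
  exact hM

theorem ker_isPGroup (k : ℕ) (hk : 1 ≤ k) : IsPGroup 2 (rho k hk).ker := by
  rintro ⟨u, hu⟩
  refine ⟨k - 1, ?_⟩
  apply Subtype.ext
  rw [Subgroup.coe_pow, Subgroup.coe_one]
  exact ker_pow k hk u (MonoidHom.mem_ker.mp hu)

/-- 3-subgroups of `GL₂(ℤ/2ᵏ)` have order dividing 6 -/
theorem card_three_group_dvd (k : ℕ) (hk : 1 ≤ k) (P : Subgroup (GL (Fin 2) (ZMod (2 ^ k))))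
    (hP : IsPGroup 3 P) : Nat.card P ∣ 6 := by
  have : Fact (Nat.Prime 3) := ⟨Nat.prime_three⟩
  have hdis : Disjoint P (rho k hk).ker :=
    IsPGroup.disjoint_of_ne 3 2 (by norm_num) P _ hP (ker_isPGroup k hk)
  have hinj : Function.Injective ((rho k hk).comp P.subtype) := by
    rw [injective_iff_map_eq_one]
    intro p hp
    have hmem : (p : GL (Fin 2) (ZMod (2 ^ k))) ∈ P ⊓ (rho k hk).ker :=
      ⟨p.2, MonoidHom.mem_ker.mpr hp⟩
    rw [hdis.eq_bot, Subgroup.mem_bot] at hmem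
    exact Subtype.ext hmem
  have := Subgroup.card_dvd_of_injective _ hinj
  rw [card_GL2F2] at this
  exact this

/-- any element of order dividing 3 is conjugate into the subgroup generated by an element of
order 3 -/
theorem exists_conj_mem_zpowers (k : ℕ) (hk : 1 ≤ k) (g₁ g₂ : GL (Fin 2) (ZMod (2 ^ k)))
    (h₁ : g₁ ^ 3 = 1) (h₂ : g₂ ^ 3 = 1) (hne : g₂ ≠ 1) :
    ∃ a : GL (Fin 2) (ZMod (2 ^ k)), a * g₁ * a⁻¹ ∈ Subgroup.zpowers g₂ := by
  have : Fact (Nat.Prime 3) := ⟨Nat.prime_three⟩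
  have hpg : ∀ g : GL (Fin 2) (ZMod (2 ^ k)), g ^ 3 = 1 → IsPGroup 3 (Subgroup.zpowers g) := by
    intro g hg
    rintro ⟨y, hy⟩
    refine ⟨1, ?_⟩
    obtain ⟨i, rfl⟩ := Subgroup.mem_zpowers_iff.mp hy
    apply Subtype.ext
    rw [Subgroup.coe_pow, Subgroup.coe_one, pow_one, ← zpow_natCast, ← zpow_mul, mul_comm,
      zpow_mul, zpow_natCast, hg, one_zpow]
  obtain ⟨P₁, hP₁⟩ := (hpg g₁ h₁).exists_le_sylow
  obtain ⟨P₂, hP₂⟩ := (hpg g₂ h₂).exists_le_sylow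
  -- P₂ = zpowers g₂
  have hcard2 : Nat.card (Subgroup.zpowers g₂) = 3 := by
    rw [Nat.card_zpowers]
    exact orderOf_eq_prime h₂ hne
  have hP2card : Nat.card (P₂ : Subgroup (GL (Fin 2) (ZMod (2 ^ k)))) ≤ 3 := by
    have hd := card_three_group_dvd k hk P₂ P₂.2
    obtain ⟨n, hn⟩ := IsPGroup.exists_card_eq P₂.2
    rw [hn] at hd ⊢
    have hn1 : n ≤ 1 := by
      by_contra hlt
      push Not at hlt
      have h9 : 3 ^ 2 ∣ 3 ^ n := pow_dvd_pow 3 hlt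
      have := h9.trans hd
      norm_num at this
    calc 3 ^ n ≤ 3 ^ 1 := Nat.pow_le_pow_right (by norm_num) hn1
      _ = 3 := by norm_num
  have hP2eq : Subgroup.zpowers g₂ = (P₂ : Subgroup (GL (Fin 2) (ZMod (2 ^ k)))) :=
    Subgroup.eq_of_le_of_card_ge hP₂ (by rw [hcard2]; exact hP2card)
  obtain ⟨a, ha⟩ := MulAction.exists_smul_eq (GL (Fin 2) (ZMod (2 ^ k))) P₁ P₂
  refine ⟨a, ?_⟩
  rw [hP2eq, ← ha, Sylow.smul_def, Sylow.pointwise_smul_def]
  have hmem : g₁ ∈ (P₁ : Subgroup (GL (Fin 2) (ZMod (2 ^ k)))) := hP₁ (Subgroup.mem_zpowers g₁)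
  have := Subgroup.smul_mem_pointwise_smul _ (MulAut.conj a) _ hmem
  simpa [MulAut.smul_def] using this

end Cfsg.Agent.Helper71.A4GL2
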