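import Mathlib
import Cfsg.Agent.Lib.Helper17.Simple

/-!
# Nonabelian simple transitive permutation groups of small degree: basic tools

`T` is a subgroup of `Equiv.Perm D` that is simple and not solvable.
-/

set_option autoImplicit false

namespace Cfsg.Agent.Helper71.SimpleDeg

open Equiv MulAction

/-- Burnside's transfer theorem for simple groups: in a non-solvable simple group a nontrivial
Sylow subgroup is never central in its normalizer. -/
theorem not_normalizer_le_centralizer {G : Type*} [Group G] [Finite G] [IsSimpleGroup G]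
    (hns : ¬ Group.IsSolvable G) {p : ℕ} [Fact p.Prime] (P : Sylow p G)
    (hne : (P : Subgroup G) ≠ ⊥) :
    ¬ (Subgroup.normalizer ((P : Subgroup G) : Set G)
        ≤ Subgroup.centralizer ((P : Subgroup G) : Set G)) := by
  intro hP
  have h2 := MonoidHom.ker_transferSylow_isComplement' P hP
  have h3 := h2.card_mul_card
  rcases (MonoidHom.normal_ker (MonoidHom.transferSylow P hP)).eq_bot_or_eq_top with hk | hk
  · rw [hk, Subgroup.card_bot, one_mul] at h3
    have htop : (P : Subgroup G) = ⊤ := (Subgroup.card_eq_iff_eq_top _).1 h3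
    apply hns
    have hpg : IsPGroup p G := by
      intro g
      obtain ⟨k, hk⟩ := P.isPGroup' ⟨g, by rw [htop]; trivial⟩
      exact ⟨k, by simpa [Subtype.ext_iff] using hk⟩
    have : Group.IsNilpotent G := hpg.isNilpotent
    infer_instance
  · rw [hk, Subgroup.card_top] at h3
    have : Nat.card (P : Subgroup G) = 1 := by
      have hpos : 0 < Nat.card G := Nat.card_pos
      nlinarith [Nat.card_pos (α := (P : Subgroup G))]
    exact hne ((Subgroup.card_eq_one).1 this)

section Perm

variable {D : Type*} [Fintype D] [DecidableEq D]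

/-- A simple non-solvable permutation group consists of even permutations. -/
theorem le_alt (T : Subgroup (Perm D)) [IsSimpleGroup T] (hns : ¬ Group.IsSolvable T) :
    T ≤ alternatingGroup D := by
  intro t ht
  rw [Equiv.Perm.mem_alternatingGroup]
  let f : T →* ℤˣ := Perm.sign.comp T.subtype
  rcases (MonoidHom.normal_ker f).eq_bot_or_eq_top with hk | hk
  · exfalso
    apply hns
    have hinj : Function.Injective f := (MonoidHom.ker_eq_bot_iff f).1 hk
    rw [← IsSimpleGroup.comm_iff_isSolvable]
    intro a b
    apply hinj
    rw [map_mul, map_mul, mul_comm]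
  · have hmem : (⟨t, ht⟩ : T) ∈ f.ker := by rw [hk]; trivial
    exact hmem

theorem two_mul_card_dvd [Nontrivial D] (T : Subgroup (Perm D)) [IsSimpleGroup T]
    (hns : ¬ Group.IsSolvable T) : 2 * Nat.card T ∣ (Fintype.card D).factorial := by
  have h1 : Nat.card T ∣ Nat.card (alternatingGroup D) :=
    Subgroup.card_dvd_of_le (le_alt T hns)
  have h2 : 2 * Nat.card (alternatingGroup D) = Nat.card (Perm D) :=
    two_mul_nat_card_alternatingGroup
  rw [Nat.card_perm, Nat.card_eq_fintype_card (α := D)] at h2
  rw [← h2]
  exact Nat.mul_dvd_mul_left 2 h1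

theorem card_dvd_card (T : Subgroup (Perm D)) [IsPretransitive T D] [Nonempty D] :
    Fintype.card D ∣ Nat.card T := by
  obtain ⟨a⟩ := ‹Nonempty D›
  have h := MulAction.index_stabilizer_of_transitive (G := T) (x := a)
  rw [Nat.card_eq_fintype_card] at h
  rw [← h]
  exact Subgroup.index_dvd_card _

/-- A proper simple non-solvable subgroup of `Alt(D)` (with `Alt(D)` simple) has large index. -/
theorem card_eq_or_dvd_factorial (T : Subgroup (Perm D)) [IsSimpleGroup T]
    (hns : ¬ Group.IsSolvable T) (h5 : 5 ≤ Nat.card D)
    (hA : ¬ (Nat.card (alternatingGroup D)).Prime) :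
    Nat.card T = Nat.card (alternatingGroup D) ∨
      ∃ k, Nat.card T * k = Nat.card (alternatingGroup D) ∧
        2 * Nat.card (alternatingGroup D) ∣ k.factorial := by
  have := alternatingGroup.isSimpleGroup h5
  have hle := le_alt T hns
  by_cases htop : T.subgroupOf (alternatingGroup D) = ⊤
  · left
    rw [Subgroup.subgroupOf_eq_top] at htop
    exact le_antisymm (Subgroup.card_le_of_le hle) (Subgroup.card_le_of_le htop)
  · right
    refine ⟨(T.subgroupOf (alternatingGroup D)).index, ?_, ?_⟩
    · have := Subgroup.card_mul_index (T.subgroupOf (alternatingGroup D))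
      rw [← this]
      congr 1
      exact (Nat.card_congr (Subgroup.subgroupOfEquivOfLe hle).toEquiv).symm
    · exact Cfsg.Agent.Helper17.two_mul_card_dvd_factorial
        (Cfsg.Agent.Helper17.not_comm_of_not_prime hA) _ htop

end Perm

end Cfsg.Agent.Helper71.SimpleDeg
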