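import Mathlib
import Cfsg.Agent.Lib.Helper17.SymNormalizer
import Cfsg.Agent.Lib.Helper17.AltNormalizer
import Cfsg.Agent.Lib.Helper71.SimpleDegBasic

/-!
# Sylow `p`-normalizers in simple permutation groups of degree `p` or `p + 1`
-/

set_option autoImplicit false

namespace Cfsg.Agent.Helper71.SimpleDeg

open Equiv MulAction

variable {D : Type*} [Fintype D] [DecidableEq D]

theorem card_subgroupOf_eq {G : Type*} [Group G] (H K : Subgroup G) :
    Nat.card (H.subgroupOf K) = Nat.card (H ⊓ K : Subgroup G) := by
  rw [← Subgroup.inf_subgroupOf_right H K]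
  exact Nat.card_congr (Subgroup.subgroupOfEquivOfLe inf_le_right).toEquiv

/-- The key Sylow lemma: for an odd prime `p`, a simple non-solvable group `T` of permutations
of `p` or `p + 1` points whose order is divisible by `p` has order `m * n` with
`n ≡ 1 mod p` the number of Sylow `p`-subgroups, `p ∣ m`, `2 * m ∣ p * (p - 1)` and `m ≠ p`. -/
theorem sylow_prime (T : Subgroup (Perm D)) [IsSimpleGroup T] (hns : ¬ Group.IsSolvable T)
    (p : ℕ) [hp : Fact p.Prime] (hp2 : p ≠ 2)
    (hD : Fintype.card D = p ∨ Fintype.card D = p + 1)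
    (hpp : ¬ p ^ 2 ∣ (Fintype.card D).factorial) (hpT : p ∣ Nat.card T) :
    ∃ n m, n % p = 1 ∧ Nat.card T = m * n ∧ p ∣ m ∧ 2 * m ∣ p * (p - 1) ∧ m ≠ p := by
  classical
  have hp3 : 2 ≤ p := hp.out.two_le
  have hD2 : 2 ≤ Fintype.card D := by omega
  obtain ⟨P⟩ : Nonempty (Sylow p T) := inferInstance
  -- `|P| = p`
  have hPdvd : Nat.card (P : Subgroup T) ∣ Nat.card T := Subgroup.card_subgroup_dvd_card _
  have hTdvd : Nat.card T ∣ (Fintype.card D).factorial := by
    have := Subgroup.card_subgroup_dvd_card T
    rwa [Nat.card_perm, Nat.card_eq_fintype_card (α := D)] at this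
  have hPcard : Nat.card (P : Subgroup T) = p := by
    obtain ⟨k, hk⟩ := (IsPGroup.iff_card.1 P.isPGroup')
    have hk1 : k ≠ 0 := by
      rintro rfl
      rw [pow_zero] at hk
      have := P.dvd_card_of_dvd_card hpT
      rw [hk] at this
      exact hp.out.one_lt.ne' (Nat.dvd_one.1 this)
    have hk2 : k < 2 := by
      by_contra hge
      push Not at hge
      apply hpp
      refine dvd_trans (pow_dvd_pow p hge) ?_
      rw [← hk]
      exact hPdvd.trans hTdvd
    have : k = 1 := by omega
    rw [hk, this, pow_one]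
  -- the image `Q` in `Perm D`
  set Q : Subgroup (Perm D) := (P : Subgroup T).map T.subtype with hQ
  have hQcard : Nat.card Q = p := by
    rw [hQ, Subgroup.card_map_of_injective T.subtype_injective, hPcard]
  have hQT : Q ≤ T := by
    rw [hQ]
    exact Subgroup.map_subtype_le _
  have hQP : Q.subgroupOf T = (P : Subgroup T) := by
    rw [hQ, Subgroup.subgroupOf, Subgroup.comap_map_eq_self_of_injective T.subtype_injective]
  have hQpg : IsPGroup p Q := IsPGroup.of_card (n := 1) (by rw [hQcard, pow_one])
  have hQidx : ¬ p ∣ Q.index := by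
    intro h
    apply hpp
    have h1 := Subgroup.card_mul_index Q
    rw [Nat.card_perm, Nat.card_eq_fintype_card (α := D), hQcard] at h1
    rw [← h1, pow_two]
    exact Nat.mul_dvd_mul_left p h
  let QS : Sylow p (Perm D) := hQpg.toSylow hQidx
  have hQS : (QS : Subgroup (Perm D)) = Q := IsPGroup.toSylow_coe hQpg hQidx
  have hN1 := Cfsg.Agent.Helper17.card_normalizer_sylow_perm p hD QS
  have hN2 := Cfsg.Agent.Helper17.two_mul_card_alt_normalizer hD2 p hp2 QS
  have hQalt : Q ≤ alternatingGroup D := by
    rw [← hQS]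
    exact Cfsg.Agent.Helper17.pgroup_le_alternating hp2 _ QS.2
  rw [hQS] at hN1 hN2
  -- normalizer in `T`
  have hNT : Subgroup.normalizer ((P : Subgroup T) : Set T)
      = (Subgroup.normalizer (Q : Set (Perm D))).subgroupOf T := by
    rw [Subgroup.subgroupOf_normalizer_eq hQT, hQP]
  have hNA : Subgroup.normalizer ((Q.subgroupOf (alternatingGroup D) :
        Subgroup (alternatingGroup D)) : Set (alternatingGroup D))
      = (Subgroup.normalizer (Q : Set (Perm D))).subgroupOf (alternatingGroup D) := by
    rw [Subgroup.subgroupOf_normalizer_eq hQalt]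
  set m := Nat.card (Subgroup.normalizer ((P : Subgroup T) : Set T)) with hm
  have hle := le_alt T hns
  have hm_dvd : 2 * m ∣ p * (p - 1) := by
    rw [← hN1, ← hN2, hNA, hm, hNT, card_subgroupOf_eq, card_subgroupOf_eq]
    apply Nat.mul_dvd_mul_left
    apply Subgroup.card_dvd_of_le
    exact inf_le_inf_left _ hle
  have hpm : p ∣ m := by
    rw [← hPcard, hm]
    exact Subgroup.card_dvd_of_le Subgroup.le_normalizer
  have hmp : m ≠ p := by
    intro h
    have hPN : (P : Subgroup T) = Subgroup.normalizer ((P : Subgroup T) : Set T) := by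
      apply Subgroup.eq_of_le_of_card_ge Subgroup.le_normalizer
      rw [← hm, h, hPcard]
    have hPne : (P : Subgroup T) ≠ ⊥ := by
      intro hb
      rw [hb, Subgroup.card_bot] at hPcard
      omega
    apply not_normalizer_le_centralizer hns P hPne
    rw [← hPN]
    have hcyc : IsCyclic (P : Subgroup T) := by
      haveI : Fact (Nat.card (P : Subgroup T)).Prime := ⟨by rw [hPcard]; exact hp.out⟩
      exact isCyclic_of_prime_card rfl
    intro x hx
    rw [Subgroup.mem_centralizer_iff]
    intro y hy
    have hcm : IsMulCommutative (P : Subgroup T) := hcyc.isMulCommutative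
    have := hcm.is_comm.comm ⟨y, hy⟩ ⟨x, hx⟩
    exact congrArg Subtype.val this
  refine ⟨Nat.card (Sylow p T), m, ?_, ?_, hpm, hm_dvd, hmp⟩
  · have := card_sylow_modEq_one p T
    rw [Nat.ModEq, Nat.mod_eq_of_lt hp.out.one_lt] at this
    exact this
  · rw [P.card_eq_index_normalizer, hm]
    exact (Subgroup.card_mul_index _).symm

end Cfsg.Agent.Helper71.SimpleDeg
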