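import Mathlib
import Cfsg.Agent.S0144
import Cfsg.Agent.Lib.Helper71.SimpleDegSylow

/-!
# Simple transitive groups of degree 6
-/

set_option autoImplicit false

namespace Cfsg.Agent.Helper71.SimpleDeg

open Equiv MulAction

/-- In a non-solvable simple group whose order is divisible by `p` exactly once, the number of
Sylow `p`-subgroups is neither `1` nor `|G| / p`. -/
theorem sylow_count_ne {G : Type*} [Group G] [Finite G] [IsSimpleGroup G]
    (hns : ¬ Group.IsSolvable G) (p : ℕ) [hp : Fact p.Prime] (hpG : p ∣ Nat.card G)
    (hpp : ¬ p ^ 2 ∣ Nat.card G) :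
    Nat.card (Sylow p G) ≠ 1 ∧ Nat.card (Sylow p G) * p ≠ Nat.card G := by
  obtain ⟨P⟩ : Nonempty (Sylow p G) := inferInstance
  have hPcard : Nat.card (P : Subgroup G) = p := by
    obtain ⟨k, hk⟩ := (IsPGroup.iff_card.1 P.isPGroup')
    have hk1 : k ≠ 0 := by
      rintro rfl
      rw [pow_zero] at hk
      have := P.dvd_card_of_dvd_card hpG
      rw [hk] at this
      exact hp.out.one_lt.ne' (Nat.dvd_one.1 this)
    have hk2 : k < 2 := by
      by_contra hge
      push Not at hge
      apply hpp
      refine dvd_trans (pow_dvd_pow p hge) ?_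
      rw [← hk]
      exact Subgroup.card_subgroup_dvd_card _
    have : k = 1 := by omega
    rw [hk, this, pow_one]
  have hPne : (P : Subgroup G) ≠ ⊥ := by
    intro hb
    rw [hb, Subgroup.card_bot] at hPcard
    exact hp.out.one_lt.ne hPcard
  have hcyc : IsCyclic (P : Subgroup G) := by
    haveI : Fact (Nat.card (P : Subgroup G)).Prime := ⟨by rw [hPcard]; exact hp.out⟩
    exact isCyclic_of_prime_card rfl
  have hidx := P.card_eq_index_normalizer
  constructor
  · intro h1
    rw [h1] at hidx
    have htop : Subgroup.normalizer ((P : Subgroup G) : Set G) = ⊤ :=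
      Subgroup.index_eq_one.1 hidx.symm
    have hnorm : (P : Subgroup G).Normal := Subgroup.normalizer_eq_top_iff.1 htop
    rcases hnorm.eq_bot_or_eq_top with h | h
    · exact hPne h
    · apply hns
      have : IsCyclic G := by
        have e : (P : Subgroup G) ≃* G := by
          rw [h]; exact Subgroup.topEquiv
        exact isCyclic_of_surjective e e.surjective
      have hc : ∀ a b : G, a * b = b * a := fun a b => (this.isMulCommutative).is_comm.comm a b
      exact IsSimpleGroup.comm_iff_isSolvable.1 hc
  · intro h2
    have h3 := Subgroup.card_mul_index (Subgroup.normalizer ((P : Subgroup G) : Set G))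
    have hidx' : (Subgroup.normalizer ((P : Subgroup G) : Set G)).index = Nat.card (Sylow p G) :=
      hidx.symm
    rw [hidx', ← h2] at h3
    have hNcard : Nat.card (Subgroup.normalizer ((P : Subgroup G) : Set G)) = p := by
      have hpos : 0 < Nat.card (Sylow p G) := Nat.card_pos
      have : Nat.card (Subgroup.normalizer ((P : Subgroup G) : Set G)) * Nat.card (Sylow p G)
          = p * Nat.card (Sylow p G) := by rw [h3, mul_comm]
      exact Nat.eq_of_mul_eq_mul_right hpos this
    have hPN : (P : Subgroup G) = Subgroup.normalizer ((P : Subgroup G) : Set G) := by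
      apply Subgroup.eq_of_le_of_card_ge Subgroup.le_normalizer
      rw [hNcard, hPcard]
    apply not_normalizer_le_centralizer hns P hPne
    rw [← hPN]
    intro x hx
    rw [Subgroup.mem_centralizer_iff]
    intro y hy
    have hcm : IsMulCommutative (P : Subgroup G) := hcyc.isMulCommutative
    have := hcm.is_comm.comm ⟨y, hy⟩ ⟨x, hx⟩
    exact congrArg Subtype.val this

variable {D : Type*} [Fintype D] [DecidableEq D]

/-- A non-solvable simple transitive group of degree 6 has order 60 or 360. -/
theorem card_deg6 (T : Subgroup (Perm D)) [IsSimpleGroup T] [IsPretransitive T D]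
    (hns : ¬ Group.IsSolvable T) (hD : Fintype.card D = 6) :
    Nat.card T = 60 ∨ Nat.card T = 360 := by
  haveI : Nontrivial D := Fintype.one_lt_card_iff_nontrivial.1 (by omega)
  haveI : Nonempty D := inferInstance
  have h6 : 6 ∣ Nat.card T := by rw [← hD]; exact card_dvd_card T
  have hA : Nat.card (alternatingGroup D) = 360 := by
    rw [nat_card_alternatingGroup, Nat.card_eq_fintype_card, hD]; rfl
  rcases card_eq_or_dvd_factorial T hns (by rw [Nat.card_eq_fintype_card, hD]; norm_num)
      (by rw [hA]; norm_num) with h | ⟨k, hk1, hk2⟩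
  · right; rw [h, hA]
  · rw [hA] at hk1 hk2
    have hk6 : 6 ≤ k := by
      by_contra hlt
      push Not at hlt
      have : k.factorial ∣ Nat.factorial 5 := Nat.factorial_dvd_factorial (by omega)
      have h720 : 2 * 360 ∣ Nat.factorial 5 := hk2.trans this
      norm_num [Nat.factorial] at h720
    have hTd : Nat.card T ∣ 360 := Dvd.intro _ hk1
    have hTle : Nat.card T ≤ 60 := by
      have : Nat.card T * 6 ≤ 360 := by rw [← hk1]; exact Nat.mul_le_mul_left _ hk6
      omega
    have key : ∀ t ≤ 60, t ∣ 360 → 6 ∣ t →
        t = 6 ∨ t = 12 ∨ t = 18 ∨ t = 24 ∨ t = 30 ∨ t = 36 ∨ t = 60 := by decide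
    rcases key _ hTle hTd h6 with h | h | h | h | h | h | h
    · exact absurd (Cfsg.Agent.S0144.result 2 3 1 1 (by norm_num) (by norm_num)
        (by rw [h]; norm_num)) hns
    · exact absurd (Cfsg.Agent.S0144.result 2 3 2 1 (by norm_num) (by norm_num)
        (by rw [h]; norm_num)) hns
    · exact absurd (Cfsg.Agent.S0144.result 2 3 1 2 (by norm_num) (by norm_num)
        (by rw [h]; norm_num)) hns
    · exact absurd (Cfsg.Agent.S0144.result 2 3 3 1 (by norm_num) (by norm_num)
        (by rw [h]; norm_num)) hns
    · -- order 30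
      exfalso
      haveI : Fact (Nat.Prime 5) := ⟨by norm_num⟩
      obtain ⟨hne1, hne2⟩ := sylow_count_ne hns 5 (by rw [h]; norm_num) (by rw [h]; norm_num)
      have hc := Cfsg.Agent.Helper17.sylow_count (G := T) (p := 5) (k := 1) (m := 6)
        (by rw [h]; norm_num) (by norm_num)
      rw [h] at hne2
      obtain ⟨hc1, hc2⟩ := hc
      have hle : Nat.card (Sylow 5 T) ≤ 6 := Nat.le_of_dvd (by norm_num) hc1
      interval_cases (Nat.card (Sylow 5 T)) <;> omega
    · exact absurd (Cfsg.Agent.S0144.result 2 3 2 2 (by norm_num) (by norm_num)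
        (by rw [h]; norm_num)) hns
    · left; exact h

end Cfsg.Agent.Helper71.SimpleDeg
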