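import Mathlib
import Cfsg.Agent.S0144
import Cfsg.Agent.Lib.Helper71.SimpleDegSix

/-!
# Simple transitive groups of degree 8
-/

set_option autoImplicit false

namespace Cfsg.Agent.Helper71.SimpleDeg

open Equiv MulAction

variable {D : Type*} [Fintype D] [DecidableEq D]

theorem not_comm_of_not_solvable {G : Type*} [Group G] [IsSimpleGroup G]
    (hns : ¬ Group.IsSolvable G) : ¬ IsMulCommutative G := by
  intro h
  exact hns (IsSimpleGroup.comm_iff_isSolvable.1 (fun a b => h.is_comm.comm a b))

/-- A non-solvable simple transitive group of degree 8 is primitive. -/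
theorem preprimitive_deg8 (T : Subgroup (Perm D)) [IsSimpleGroup T] [IsPretransitive T D]
    (hns : ¬ Group.IsSolvable T) (hD : Fintype.card D = 8) : IsPreprimitive T D := by
  haveI : Nontrivial D := Fintype.one_lt_card_iff_nontrivial.1 (by omega)
  obtain ⟨a⟩ : Nonempty D := inferInstance
  rw [← isCoatom_stabilizer_iff_preprimitive (G := T) a]
  have hidx : (stabilizer T a).index = 8 := by
    rw [MulAction.index_stabilizer_of_transitive, Nat.card_eq_fintype_card, hD]
  have h8 : 8 ∣ Nat.card T := by rw [← hidx]; exact Subgroup.index_dvd_card _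
  refine ⟨?_, ?_⟩
  · intro h
    rw [h, Subgroup.index_top] at hidx
    omega
  · intro M hM
    by_contra hMtop
    have h1 := Cfsg.Agent.Helper17.two_mul_card_dvd_factorial (not_comm_of_not_solvable hns) M hMtop
    have h2 : M.index ∣ 8 := by
      rw [← hidx]; exact Subgroup.index_dvd_of_le hM.le
    have h3 : M.index ≠ 8 := by
      intro h
      apply hM.ne
      apply Subgroup.eq_of_le_of_card_ge hM.le
      have e1 := Subgroup.card_mul_index M
      have e2 := Subgroup.card_mul_index (stabilizer T a)
      rw [h] at e1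
      rw [hidx] at e2
      omega
    have h4 : M.index ≤ 4 := by
      have : M.index ≤ 8 := Nat.le_of_dvd (by norm_num) h2
      interval_cases (M.index) <;> omega
    have h5 : (M.index).factorial ∣ Nat.factorial 4 := Nat.factorial_dvd_factorial h4
    have h6 : 2 * Nat.card T ∣ 24 := h1.trans h5
    obtain ⟨c, hc⟩ := h8
    rw [hc] at h6
    have : 16 ∣ 24 := Dvd.dvd.trans ⟨c, by ring⟩ h6
    omega

/-- Jordan: a non-solvable simple transitive group of degree 8 of order divisible by 5 is
4-fold transitive; in particular 1680 divides its order. -/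
theorem dvd_card_of_five_dvd (T : Subgroup (Perm D)) [IsSimpleGroup T] [IsPretransitive T D]
    (hns : ¬ Group.IsSolvable T) (hD : Fintype.card D = 8) (h5 : 5 ∣ Nat.card T) :
    1680 ∣ Nat.card T := by
  classical
  have hprim := preprimitive_deg8 T hns hD
  haveI : Fact (Nat.Prime 5) := ⟨by norm_num⟩
  obtain ⟨g, hg⟩ := exists_prime_orderOf_dvd_card' 5 h5
  have hg5 : orderOf (g : Perm D) = 5 := by rw [Subgroup.orderOf_coe, hg]
  have hcyc : (g : Perm D).IsCycle :=
    Perm.isCycle_of_prime_order' (by rw [hg5]; norm_num) (by rw [hg5, hD]; norm_num)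
  have hsupp : (g : Perm D).support.card = 5 := by rw [← hcyc.orderOf, hg5]
  have hcardD : Nat.card D = 8 := by rw [Nat.card_eq_fintype_card, hD]
  have h4 : IsMultiplyPreprimitive T D (2 + 2) := by
    apply hprim.isMultiplyPreprimitive (s := (((g : Perm D).support : Set D)ᶜ))
    · apply Nat.add_left_cancel (n := ((g : Perm D).support : Set D).ncard)
      rw [Set.ncard_add_ncard_compl, Set.ncard_coe_finset, hsupp, hcardD]
    · rw [hcardD]; norm_num
    have := Perm.isPretransitive_of_isCycle_mem hcyc g.2
    apply IsPreprimitive.of_prime_card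
    convert! Nat.prime_five
    rw [Nat.card_eq_fintype_card, Fintype.card_subtype, ← hsupp]
    apply congr_arg
    ext x
    simp [SubMulAction.mem_ofFixingSubgroup_iff]
  have h4t : IsMultiplyPretransitive T D 4 := IsMultiplyPreprimitive.isMultiplyPretransitive ..
  obtain ⟨s, _, hs⟩ :=
    Set.exists_subset_card_eq (s := (Set.univ : Set D)) (n := 4)
      (by rw [Set.ncard_univ, hcardD]; norm_num)
  have hidx := h4t.index_of_fixingSubgroup_mul hs
  rw [hcardD] at hidx
  have h1680 : (fixingSubgroup T s).index = 1680 := by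
    have e1 : Nat.factorial (8 - 4) = 24 := by decide
    have e2 : Nat.factorial 8 = 1680 * 24 := by decide
    rw [e1, e2] at hidx
    exact Nat.eq_of_mul_eq_mul_right (by norm_num) hidx
  rw [← h1680]
  exact Subgroup.index_dvd_card _

/-- A non-solvable simple transitive group of degree 8 has order 168, 1344 or 20160.
(The order 1344 of `AGL(3,2)` cannot be excluded by arithmetic.) -/
theorem card_deg8 (T : Subgroup (Perm D)) [IsSimpleGroup T] [IsPretransitive T D]
    (hns : ¬ Group.IsSolvable T) (hD : Fintype.card D = 8) :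
    Nat.card T = 168 ∨ Nat.card T = 1344 ∨ Nat.card T = 20160 := by
  haveI : Nontrivial D := Fintype.one_lt_card_iff_nontrivial.1 (by omega)
  haveI : Nonempty D := inferInstance
  haveI : Fact (Nat.Prime 7) := ⟨by norm_num⟩
  have h8 : 8 ∣ Nat.card T := by rw [← hD]; exact card_dvd_card T
  have hfac : (Fintype.card D).factorial = 40320 := by rw [hD]; rfl
  have hdvd := two_mul_card_dvd T hns
  rw [hfac] at hdvd
  have hTd : Nat.card T ∣ 20160 := by
    have : 2 * Nat.card T ∣ 2 * 20160 := by simpa using hdvd
    exact Nat.dvd_of_mul_dvd_mul_left (by norm_num) this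
  -- 7 divides the order
  have h7 : 7 ∣ Nat.card T := by
    by_cases h5 : 5 ∣ Nat.card T
    · exact (by norm_num : 7 ∣ 1680).trans (dvd_card_of_five_dvd T hns hD h5)
    · by_contra h7
      -- then `|T|` divides `2^6 * 3^2`
      have hc5 : Nat.Coprime (Nat.card T) 5 :=
        (Nat.Coprime.symm ((Nat.Prime.coprime_iff_not_dvd (by norm_num)).2 h5))
      have hc7 : Nat.Coprime (Nat.card T) 7 :=
        (Nat.Coprime.symm ((Nat.Prime.coprime_iff_not_dvd (by norm_num)).2 h7))
      have h576 : Nat.card T ∣ 576 := by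
        have e : (20160 : ℕ) = 576 * 7 * 5 := by norm_num
        rw [e] at hTd
        exact hc7.dvd_of_dvd_mul_right (hc5.dvd_of_dvd_mul_right hTd)
      have hle : Nat.card T ≤ 576 := Nat.le_of_dvd (by norm_num) h576
      have key : ∀ t ∈ Finset.range 577, t ∣ 576 →
          ∃ a ∈ Finset.range 7, ∃ b ∈ Finset.range 3, t = 2 ^ a * 3 ^ b := by
        decide +kernel
      obtain ⟨a, -, b, -, hab⟩ := key _ (Finset.mem_range.2 (by omega)) h576
      exact hns (Cfsg.Agent.S0144.result 2 3 a b (by norm_num) (by norm_num) hab)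
  obtain ⟨n, m, hn, hT, h7m, hm, hm7⟩ :=
    sylow_prime T hns 7 (by norm_num) (Or.inr hD) (by rw [hfac]; norm_num) h7
  have hm21 : m = 21 := by
    have h1 : m ∣ 21 := by
      have : 2 * m ∣ 2 * 21 := by simpa using hm
      exact Nat.dvd_of_mul_dvd_mul_left (by norm_num) this
    have h2 : m ≤ 21 := Nat.le_of_dvd (by norm_num) h1
    interval_cases m <;> omega
  subst hm21
  have hn1 : n ∣ 960 := by
    have : 21 * n ∣ 21 * 960 := by rw [← hT]; simpa using hTd
    exact Nat.dvd_of_mul_dvd_mul_left (by norm_num) this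
  have hn2 : 8 ∣ n := by
    have h : 8 ∣ 21 * n := by rw [← hT]; exact h8
    exact (Nat.Coprime.dvd_of_dvd_mul_left (by norm_num) h)
  have hnle : n ≤ 960 := Nat.le_of_dvd (by norm_num) hn1
  have key : ∀ k ∈ Finset.range 961, k ∣ 960 → k % 7 = 1 → 8 ∣ k →
      k = 8 ∨ k = 64 ∨ k = 120 ∨ k = 960 := by
    decide +kernel
  rcases key n (Finset.mem_range.2 (by omega)) hn1 hn hn2 with rfl | rfl | rfl | rfl
  · left; rw [hT]
  · right; left; rw [hT]
  · -- order 2520: divisible by 5 but not by 1680
    exfalso
    have h5 : 5 ∣ Nat.card T := by rw [hT]; norm_num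
    have := dvd_card_of_five_dvd T hns hD h5
    rw [hT] at this
    omega
  · right; right; rw [hT]

end Cfsg.Agent.Helper71.SimpleDeg
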