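import Mathlib
import Cfsg.Agent.Lib.Helper12.BurnsidePrime
import Cfsg.Agent.S0144
import Cfsg.Agent.Lib.Helper71.SimpleDegSylow

/-!
# Simple transitive groups of degree 5 and 7
-/

set_option autoImplicit false

namespace Cfsg.Agent.Helper71.SimpleDeg

open Equiv MulAction

variable {D : Type*} [Fintype D] [DecidableEq D]

/-- Burnside: a non-solvable transitive group of prime degree `p` is 2-transitive, so its order
is divisible by `p * (p - 1)`. -/
theorem prime_mul_pred_dvd (T : Subgroup (Perm D)) [IsPretransitive T D]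
    (hns : ¬ Group.IsSolvable T) (p : ℕ) [hp : Fact p.Prime] (hD : Fintype.card D = p) :
    p * (p - 1) ∣ Nat.card T := by
  classical
  have h2 : 1 < Fintype.card D := by rw [hD]; exact hp.out.one_lt
  obtain ⟨a, b, hab⟩ := Fintype.exists_pair_of_one_lt_card h2
  have hidx : (stabilizer T a).index = p := by
    rw [MulAction.index_stabilizer_of_transitive, Nat.card_eq_fintype_card, hD]
  have horb : orbit (stabilizer T a) b = {c | c ≠ a} := by
    ext c
    constructor
    · rintro ⟨g, rfl⟩ hc
      apply hab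
      have hg : (g : T) • a = a := g.2
      have h1 : (g : T) • b = (g : T) • a := by
        rw [hg]; exact hc
      exact (smul_left_cancel _ h1).symm
    · intro hc
      obtain ⟨g, hga, hgb⟩ :=
        Cfsg.Agent.Helper12.BurnsidePrime.two_transitive hD T hns hab (Ne.symm hc : a ≠ c)
      exact ⟨⟨g, hga⟩, hgb⟩
  have hidx2 : (stabilizer (stabilizer T a) b).index = p - 1 := by
    rw [MulAction.index_stabilizer, horb]
    have : ({c | c ≠ a} : Set D) = ({a} : Set D)ᶜ := by ext; simp
    rw [this, Set.ncard_compl, Set.ncard_singleton, Nat.card_eq_fintype_card, hD]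
  have h3 : (p - 1) ∣ Nat.card (stabilizer T a) := by
    rw [← hidx2]; exact Subgroup.index_dvd_card _
  have h4 := Subgroup.card_mul_index (stabilizer T a)
  rw [hidx] at h4
  rw [← h4, mul_comm]
  exact Nat.mul_dvd_mul_right h3 p

/-- A non-solvable simple transitive group of degree 7 has order 168 or 2520. -/
theorem card_deg7 (T : Subgroup (Perm D)) [IsSimpleGroup T] [IsPretransitive T D]
    (hns : ¬ Group.IsSolvable T) (hD : Fintype.card D = 7) :
    Nat.card T = 168 ∨ Nat.card T = 2520 := by
  haveI : Fact (Nat.Prime 7) := ⟨by norm_num⟩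
  haveI : Nontrivial D := Fintype.one_lt_card_iff_nontrivial.1 (by omega)
  have h42 : 7 * (7 - 1) ∣ Nat.card T := prime_mul_pred_dvd T hns 7 hD
  have h7 : 7 ∣ Nat.card T := (Dvd.intro _ rfl : 7 ∣ 7 * (7 - 1)).trans h42
  have hfac : (Fintype.card D).factorial = 5040 := by rw [hD]; rfl
  have hdvd := two_mul_card_dvd T hns
  rw [hfac] at hdvd
  obtain ⟨n, m, hn, hT, h7m, hm, hm7⟩ :=
    sylow_prime T hns 7 (by norm_num) (Or.inl hD) (by rw [hfac]; norm_num) h7
  -- m ∣ 21, 7 ∣ m, m ≠ 7 → m = 21
  have hm21 : m = 21 := by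
    have h1 : m ∣ 21 := by
      have : 2 * m ∣ 2 * 21 := by simpa using hm
      exact Nat.dvd_of_mul_dvd_mul_left (by norm_num) this
    have h2 : m ≤ 21 := Nat.le_of_dvd (by norm_num) h1
    interval_cases m <;> omega
  subst hm21
  have hn1 : n ∣ 120 := by
    have : 2 * (21 * n) ∣ 2 * 21 * 120 := by rw [← hT]; simpa using hdvd
    have : 42 * n ∣ 42 * 120 := by
      have e : 2 * (21 * n) = 42 * n := by ring
      rw [e] at this; simpa using this
    exact Nat.dvd_of_mul_dvd_mul_left (by norm_num) this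
  have hn2 : 2 ∣ n := by
    have : 42 ∣ 21 * n := by rw [← hT]; simpa using h42
    omega
  have hnle : n ≤ 120 := Nat.le_of_dvd (by norm_num) hn1
  have key : ∀ k ≤ 120, k ∣ 120 → k % 7 = 1 → 2 ∣ k → k = 8 ∨ k = 120 := by decide
  rcases key n hnle hn1 hn hn2 with rfl | rfl
  · left; rw [hT]
  · right; rw [hT]

/-- A non-solvable simple transitive group of degree 5 has order 60. -/
theorem card_deg5 (T : Subgroup (Perm D)) [IsSimpleGroup T] [IsPretransitive T D]
    (hns : ¬ Group.IsSolvable T) (hD : Fintype.card D = 5) :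
    Nat.card T = 60 := by
  haveI : Fact (Nat.Prime 5) := ⟨by norm_num⟩
  haveI : Nontrivial D := Fintype.one_lt_card_iff_nontrivial.1 (by omega)
  have h20 : 5 * (5 - 1) ∣ Nat.card T := prime_mul_pred_dvd T hns 5 hD
  have hfac : (Fintype.card D).factorial = 120 := by rw [hD]; rfl
  have hdvd := two_mul_card_dvd T hns
  rw [hfac] at hdvd
  have h1 : Nat.card T ∣ 60 := by
    have : 2 * Nat.card T ∣ 2 * 60 := by simpa using hdvd
    exact Nat.dvd_of_mul_dvd_mul_left (by norm_num) this
  have hle : Nat.card T ≤ 60 := Nat.le_of_dvd (by norm_num) h1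
  have h20' : 20 ∣ Nat.card T := by simpa using h20
  have key : ∀ k ≤ 60, k ∣ 60 → 20 ∣ k → k = 20 ∨ k = 60 := by decide
  rcases key _ hle h1 h20' with h | h
  · exfalso
    apply hns
    exact Cfsg.Agent.S0144.result 2 5 2 1 (by norm_num) (by norm_num) (by rw [h]; norm_num)
  · exact h

end Cfsg.Agent.Helper71.SimpleDeg
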