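import Mathlib
import Cfsg.Agent.Lib.Helper71.SimpleDegPrime
import Cfsg.Agent.Lib.Helper71.SimpleDegEight

/-!
# Orders of non-solvable simple groups acting faithfully and transitively on 5,...,8 points
-/

set_option autoImplicit false

namespace Cfsg.Agent.Helper71.SimpleDeg

open Equiv MulAction

/-- Summary for an abstract action: a non-solvable simple group `T` acting faithfully and
transitively on a set `D` with `5 ≤ |D| ≤ 8` has order `60` (`|D| = 5`), `60` or `360`
(`|D| = 6`), `168` or `2520` (`|D| = 7`), `168`, `1344` or `20160` (`|D| = 8`). -/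
theorem card_of_transitive (T D : Type*) [Group T] [IsSimpleGroup T]
    (hns : ¬ Group.IsSolvable T) [Fintype D] [DecidableEq D] [MulAction T D] [FaithfulSMul T D]
    [IsPretransitive T D] :
    (Fintype.card D = 5 → Nat.card T = 60) ∧
    (Fintype.card D = 6 → Nat.card T = 60 ∨ Nat.card T = 360) ∧
    (Fintype.card D = 7 → Nat.card T = 168 ∨ Nat.card T = 2520) ∧
    (Fintype.card D = 8 → Nat.card T = 168 ∨ Nat.card T = 1344 ∨ Nat.card T = 20160) := by
  have hinj : Function.Injective (MulAction.toPermHom T D) := MulAction.toPerm_injective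
  let T' : Subgroup (Perm D) := (MulAction.toPermHom T D).range
  let e : T ≃* T' := MonoidHom.ofInjective hinj
  haveI : IsSimpleGroup T' := e.symm.isSimpleGroup
  have hns' : ¬ Group.IsSolvable T' := by
    intro h
    exact hns (solvable_of_solvable_injective (f := e.toMonoidHom) e.injective)
  haveI : IsPretransitive T' D := by
    refine ⟨fun x y => ?_⟩
    obtain ⟨g, hg⟩ := exists_smul_eq T x y
    exact ⟨e g, hg⟩
  have hcard : Nat.card T = Nat.card T' := Nat.card_congr e.toEquiv
  rw [hcard]
  exact ⟨card_deg5 T' hns', card_deg6 T' hns', card_deg7 T' hns', card_deg8 T' hns'⟩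

end Cfsg.Agent.Helper71.SimpleDeg
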