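import Mathlib
import Cfsg.Agent.S0144
import Cfsg.Agent.Lib.Helper71.SimpleDeg

/-!
# Orbits of a non-solvable simple subgroup of `Sym(8)`
-/

set_option autoImplicit false

namespace Cfsg.Agent.Helper71.A8

open Equiv MulAction Cfsg.Agent.Helper71.SimpleDeg

/-- The eight points. -/
abbrev Ω := Fin 8

variable (T : Subgroup (Perm Ω))

theorem orbit_ncard_eq_one_iff (x : Ω) :
    (orbit T x).ncard = 1 ↔ ∀ t ∈ T, t x = x := by
  constructor
  · intro h t ht
    obtain ⟨a, ha⟩ := Set.ncard_eq_one.1 h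
    have hx : x ∈ orbit T x := mem_orbit_self x
    have htx : (⟨t, ht⟩ : T) • x ∈ orbit T x := mem_orbit x _
    rw [ha, Set.mem_singleton_iff] at hx htx
    change t x = a at htx
    rw [htx, hx]
  · intro h
    have : orbit T x = {x} := by
      ext y
      constructor
      · rintro ⟨t, rfl⟩
        exact h t.1 t.2
      · rintro rfl
        exact mem_orbit_self _
    rw [this, Set.ncard_singleton]

theorem orbit_ncard [IsSimpleGroup T] (hns : ¬ Group.IsSolvable T) (x : Ω) :
    (orbit T x).ncard = 1 ∨ 5 ≤ (orbit T x).ncard := by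
  by_cases h : stabilizer T x = ⊤
  · left
    rw [← MulAction.index_stabilizer, h, Subgroup.index_top]
  · right
    have h1 := Cfsg.Agent.Helper17.two_mul_card_dvd_factorial (not_comm_of_not_solvable hns) _ h
    rw [MulAction.index_stabilizer] at h1
    by_contra hlt
    push Not at hlt
    have h2 : ((orbit T x).ncard).factorial ∣ Nat.factorial 4 :=
      Nat.factorial_dvd_factorial (by omega)
    have h3 : 2 * Nat.card T ∣ 24 := h1.trans h2
    have h4 : Nat.card T ∣ 12 := by
      have : 2 * Nat.card T ∣ 2 * 12 := by simpa using h3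
      exact Nat.dvd_of_mul_dvd_mul_left (by norm_num) this
    have hle : Nat.card T ≤ 12 := Nat.le_of_dvd (by norm_num) h4
    have key : ∀ t ∈ Finset.range 13, t ∣ 12 →
        ∃ a ∈ Finset.range 3, ∃ b ∈ Finset.range 2, t = 2 ^ a * 3 ^ b := by decide
    obtain ⟨a, -, b, -, hab⟩ := key _ (Finset.mem_range.2 (by omega)) h4
    exact hns (Cfsg.Agent.S0144.result 2 3 a b (by norm_num) (by norm_num) hab)

theorem orbit_eq_of_moved [IsSimpleGroup T] (hns : ¬ Group.IsSolvable T) {x y : Ω}
    (hx : (orbit T x).ncard ≠ 1) (hy : (orbit T y).ncard ≠ 1) : orbit T x = orbit T y := by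
  by_contra hne
  have hdisj : Disjoint (orbit T x) (orbit T y) := by
    rw [Set.disjoint_left]
    intro z hz0 hz1
    apply hne
    rw [← MulAction.orbit_eq_iff] at hz0 hz1
    rw [← hz0, hz1]
  have h1 : (orbit T x ∪ orbit T y).ncard = (orbit T x).ncard + (orbit T y).ncard :=
    Set.ncard_union_eq hdisj (Set.toFinite _) (Set.toFinite _)
  have h2 : (orbit T x ∪ orbit T y).ncard ≤ (Set.univ : Set Ω).ncard :=
    Set.ncard_le_ncard (Set.subset_univ _) (Set.toFinite _)
  rw [Set.ncard_univ, Nat.card_eq_fintype_card, Fintype.card_fin] at h2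
  have := (orbit_ncard T hns x).resolve_left hx
  have := (orbit_ncard T hns y).resolve_left hy
  omega

/-- The orbit structure: there is a point `x0` moved by `T`, all moved points lie in its orbit,
and the order of `T` is determined up to few possibilities by the size of this orbit. -/
theorem orbit_structure [IsSimpleGroup T] (hns : ¬ Group.IsSolvable T) :
    ∃ x0 : Ω, (∃ t ∈ T, t x0 ≠ x0) ∧ (∀ y, (∃ t ∈ T, t y ≠ y) → y ∈ orbit T x0) ∧
      (((orbit T x0).ncard = 5 ∧ Nat.card T = 60) ∨
       ((orbit T x0).ncard = 6 ∧ (Nat.card T = 60 ∨ Nat.card T = 360)) ∨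
       ((orbit T x0).ncard = 7 ∧ (Nat.card T = 168 ∨ Nat.card T = 2520)) ∨
       ((orbit T x0).ncard = 8 ∧
          (Nat.card T = 168 ∨ Nat.card T = 1344 ∨ Nat.card T = 20160))) := by
  classical
  -- a moved point
  have hex : ∃ x0 : Ω, ∃ t ∈ T, t x0 ≠ x0 := by
    by_contra h
    push Not at h
    apply hns
    have : ∀ a b : T, a * b = b * a := by
      intro a b
      have ha : (a : Perm Ω) = 1 := Perm.ext (fun x => h x a.1 a.2)
      have hb : (b : Perm Ω) = 1 := Perm.ext (fun x => h x b.1 b.2)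
      apply Subtype.ext
      rw [Subgroup.coe_mul, Subgroup.coe_mul, ha, hb]
    exact IsSimpleGroup.comm_iff_isSolvable.1 this
  obtain ⟨x0, hx0⟩ := hex
  have hx0' : (orbit T x0).ncard ≠ 1 := by
    intro h
    obtain ⟨t, ht, htx⟩ := hx0
    exact htx ((orbit_ncard_eq_one_iff T x0).1 h t ht)
  have hall : ∀ y, (∃ t ∈ T, t y ≠ y) → y ∈ orbit T x0 := by
    intro y hy
    have hy' : (orbit T y).ncard ≠ 1 := by
      intro h
      obtain ⟨t, ht, hty⟩ := hy
      exact hty ((orbit_ncard_eq_one_iff T y).1 h t ht)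
    rw [orbit_eq_of_moved T hns hx0' hy']
    exact mem_orbit_self y
  refine ⟨x0, hx0, hall, ?_⟩
  -- the action on the orbit
  haveI : FaithfulSMul T (orbit T x0) := by
    refine ⟨fun {t1 t2} h => ?_⟩
    apply Subtype.ext
    apply Perm.ext
    intro y
    by_cases hy : y ∈ orbit T x0
    · have := h ⟨y, hy⟩
      exact congrArg Subtype.val this
    · have h1 : ∀ t ∈ T, t y = y := by
        intro t ht
        by_contra hne
        exact hy (hall y ⟨t, ht, hne⟩)
      rw [h1 t1.1 t1.2, h1 t2.1 t2.2]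
  have hcard : Fintype.card (orbit T x0) = (orbit T x0).ncard := by
    rw [← Nat.card_eq_fintype_card, Nat.card_coe_set_eq]
  have h5 : 5 ≤ (orbit T x0).ncard := (orbit_ncard T hns x0).resolve_left hx0'
  have h8 : (orbit T x0).ncard ≤ 8 := by
    have : (orbit T x0).ncard ≤ (Set.univ : Set Ω).ncard :=
      Set.ncard_le_ncard (Set.subset_univ _) (Set.toFinite _)
    rwa [Set.ncard_univ, Nat.card_eq_fintype_card, Fintype.card_fin] at this
  obtain ⟨c5, c6, c7, c8⟩ := card_of_transitive T (orbit T x0) hns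
  rw [hcard] at c5 c6 c7 c8
  have : (orbit T x0).ncard = 5 ∨ (orbit T x0).ncard = 6 ∨ (orbit T x0).ncard = 7 ∨
      (orbit T x0).ncard = 8 := by omega
  rcases this with h | h | h | h
  · exact Or.inl ⟨h, c5 h⟩
  · exact Or.inr (Or.inl ⟨h, c6 h⟩)
  · exact Or.inr (Or.inr (Or.inl ⟨h, c7 h⟩))
  · exact Or.inr (Or.inr (Or.inr ⟨h, c8 h⟩))

end Cfsg.Agent.Helper71.A8
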