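import Mathlib

/-!
# Minimal normal subgroups are simple when squares of orders are small

`NormIn H N` says that `N` is a normal subgroup of `H`, both being subgroups of an ambient finite
group `G`.  If every subgroup `M` of `G` with `|M|^2 ∣ |G|` is solvable and `H` has no nontrivial
solvable normal subgroup, then every nontrivial normal subgroup of `H` contains a normal subgroup
of `H` that is a non-solvable simple group.
-/

set_option autoImplicit false

namespace Cfsg.Agent.Helper71.MinNormal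

variable {G : Type*} [Group G]

/-- `N` is a normal subgroup of `H` (inside the ambient group). -/
def NormIn (H N : Subgroup G) : Prop := N ≤ H ∧ ∀ h ∈ H, ∀ n ∈ N, h * n * h⁻¹ ∈ N

/-- The conjugate subgroup `h M h⁻¹`. -/
def cj (h : G) (M : Subgroup G) : Subgroup G := M.map (MulAut.conj h).toMonoidHom

theorem mem_cj {h x : G} {M : Subgroup G} : x ∈ cj h M ↔ h⁻¹ * x * h ∈ M := by
  unfold cj
  rw [Subgroup.mem_map_equiv]
  simp [MulAut.conj_symm_apply]

theorem conj_mem_cj {h m : G} {M : Subgroup G} (hm : m ∈ M) : h * m * h⁻¹ ∈ cj h M := by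
  rw [mem_cj]
  have : h⁻¹ * (h * m * h⁻¹) * h = m := by group
  rw [this]; exact hm

theorem card_cj [Finite G] (h : G) (M : Subgroup G) : Nat.card (cj h M) = Nat.card M := by
  unfold cj
  exact Subgroup.card_map_of_injective (MulAut.conj h).injective

theorem cj_one (M : Subgroup G) : cj 1 M = M := by
  ext x; rw [mem_cj]; simp

theorem exists_min [Finite G] {P : Subgroup G → Prop} (h : ∃ N, P N) :
    ∃ N, P N ∧ ∀ N', P N' → N' ≤ N → N' = N := by
  classical
  have hex : ∃ k, ∃ N, P N ∧ Nat.card N = k := by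
    obtain ⟨N, hN⟩ := h
    exact ⟨_, N, hN, rfl⟩
  obtain ⟨N, hN, hk⟩ := Nat.find_spec hex
  refine ⟨N, hN, fun N' hN' hle => ?_⟩
  apply Subgroup.eq_of_le_of_card_ge hle
  rw [hk]
  exact Nat.find_min' hex ⟨N', hN', rfl⟩

theorem normIn_cj {H N M : Subgroup G} (hN : NormIn H N) (hM : NormIn N M) {h : G}
    (hh : h ∈ H) : NormIn N (cj h M) := by
  constructor
  · intro x hx
    rw [mem_cj] at hx
    have h1 : h⁻¹ * x * h ∈ N := hM.1 hx
    have h2 := hN.2 h hh _ h1
    have : h * (h⁻¹ * x * h) * h⁻¹ = x := by group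
    rwa [this] at h2
  · intro n hn x hx
    rw [mem_cj] at hx ⊢
    have h1 : h⁻¹ * n * h ∈ N := by
      have := hN.2 h⁻¹ (H.inv_mem hh) n hn
      simpa using this
    have h2 := hM.2 _ h1 _ hx
    have : h⁻¹ * (n * x * n⁻¹) * h = h⁻¹ * n * h * (h⁻¹ * x * h) * (h⁻¹ * n * h)⁻¹ := by group
    rw [this]; exact h2

theorem normIn_inf {N A B : Subgroup G} (hA : NormIn N A) (hB : NormIn N B) :
    NormIn N (A ⊓ B) :=
  ⟨inf_le_left.trans hA.1, fun n hn x hx => ⟨hA.2 n hn x hx.1, hB.2 n hn x hx.2⟩⟩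

/-- Two normal subgroups of `N` with trivial intersection commute elementwise. -/
theorem commute_of_inf_eq_bot {N A B : Subgroup G} (hA : NormIn N A) (hB : NormIn N B)
    (h : A ⊓ B = ⊥) {a b : G} (ha : a ∈ A) (hb : b ∈ B) : a * b = b * a := by
  have h1 : a * b * a⁻¹ * b⁻¹ ∈ A ⊓ B := by
    constructor
    · have := hA.2 b (hB.1 hb) a⁻¹ (A.inv_mem ha)
      have h2 := A.mul_mem ha this
      have e : a * (b * a⁻¹ * b⁻¹) = a * b * a⁻¹ * b⁻¹ := by group
      rwa [e] at h2
    · have := hB.2 a (hA.1 ha) b hb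
      exact B.mul_mem this (B.inv_mem hb)
  rw [h, Subgroup.mem_bot] at h1
  have : a * b = (a * b * a⁻¹ * b⁻¹) * (b * a) := by group
  rw [this, h1, one_mul]

/-- If two commuting subgroups of the same order intersect trivially, the square of the order
divides the order of the group. -/
theorem card_sq_dvd [Finite G] {A B : Subgroup G} (h : A ⊓ B = ⊥)
    (hc : ∀ a ∈ A, ∀ b ∈ B, a * b = b * a) :
    Nat.card A * Nat.card B ∣ Nat.card G := by
  let f : A × B →* G :=
    { toFun := fun p => (p.1 : G) * (p.2 : G)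
      map_one' := by simp
      map_mul' := by
        rintro ⟨a, b⟩ ⟨a', b'⟩
        show ((a * a' : A) : G) * ((b * b' : B) : G) = (a : G) * b * (a' * b')
        have := hc a' a'.2 b b.2
        rw [Subgroup.coe_mul, Subgroup.coe_mul]
        calc (a : G) * a' * (b * b') = a * (a' * b) * b' := by group
          _ = a * (b * a') * b' := by rw [this]
          _ = a * b * (a' * b') := by group }
  have hinj : Function.Injective f := by
    rw [injective_iff_map_eq_one]
    rintro ⟨a, b⟩ hab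
    change (a : G) * b = 1 at hab
    have h1 : (a : G) = (b : G)⁻¹ := eq_inv_of_mul_eq_one_left hab
    have h2 : (a : G) ∈ A ⊓ B := ⟨a.2, by rw [h1]; exact B.inv_mem b.2⟩
    rw [h, Subgroup.mem_bot] at h2
    have h3 : (b : G) = 1 := by rw [h2, one_mul] at hab; exact hab
    exact Prod.ext (Subtype.ext h2) (Subtype.ext h3)
  have := Subgroup.card_dvd_of_injective f hinj
  rwa [Nat.card_prod] at this

theorem map_conj_eq_of_normIn {N M : Subgroup G} (hM : NormIn N M) {n : G} (hn : n ∈ N) :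
    cj n M = M := by
  ext x
  rw [mem_cj]
  constructor
  · intro hx
    have := hM.2 n hn _ hx
    have e : n * (n⁻¹ * x * n) * n⁻¹ = x := by group
    rwa [e] at this
  · intro hx
    have := hM.2 n⁻¹ (N.inv_mem hn) x hx
    simpa using this

theorem comm_le_self (M : Subgroup G) : ⁅M, M⁆ ≤ M := by
  rw [Subgroup.commutator_le]
  intro a ha b hb
  rw [commutatorElement_def]
  exact M.mul_mem (M.mul_mem (M.mul_mem ha hb) (M.inv_mem ha)) (M.inv_mem hb)

theorem normIn_commutator {N M : Subgroup G} (hM : NormIn N M) : NormIn N ⁅M, M⁆ := by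
  refine ⟨(comm_le_self M).trans hM.1, fun n hn x hx => ?_⟩
  have h1 : (⁅M, M⁆).map (MulAut.conj n).toMonoidHom = ⁅M, M⁆ := by
    rw [Subgroup.map_commutator]
    have : M.map (MulAut.conj n).toMonoidHom = M := map_conj_eq_of_normIn hM hn
    rw [this]
  rw [← h1]
  exact ⟨x, hx, by simp [MulAut.conj_apply]⟩

/-- Main theorem: existence of a simple non-solvable normal subgroup inside any nontrivial normal
subgroup. -/
theorem exists_simple_normIn [Finite G] {H L : Subgroup G}
    (hsq : ∀ M : Subgroup G, Nat.card M * Nat.card M ∣ Nat.card G → Group.IsSolvable M)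
    (hsol : ∀ N : Subgroup G, NormIn H N → Group.IsSolvable N → N = ⊥)
    (hL : NormIn H L) (hL0 : L ≠ ⊥) :
    ∃ N : Subgroup G, N ≤ L ∧ NormIn H N ∧ IsSimpleGroup N ∧ ¬ Group.IsSolvable N := by
  classical
  obtain ⟨N0, ⟨hN0n, hN0ne, hN0L⟩, hmin0⟩ :=
    exists_min (P := fun N => NormIn H N ∧ N ≠ ⊥ ∧ N ≤ L) ⟨L, hL, hL0, le_rfl⟩
  have hns0 : ¬ Group.IsSolvable N0 := fun h => hN0ne (hsol N0 hN0n h)
  refine ⟨N0, hN0L, hN0n, ?_, hns0⟩
  have : Nontrivial N0 := (Subgroup.nontrivial_iff_ne_bot _).2 hN0ne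
  refine ⟨fun K hK => ?_⟩
  by_cases hK0 : K = ⊥
  · exact Or.inl hK0
  right
  set K' : Subgroup G := K.map N0.subtype with hK'
  have hK'n : NormIn N0 K' := by
    refine ⟨Subgroup.map_subtype_le K, fun n hn x hx => ?_⟩
    obtain ⟨k, hk, rfl⟩ := hx
    refine ⟨⟨n, hn⟩ * k * ⟨n, hn⟩⁻¹, hK.conj_mem k hk _, ?_⟩
    simp
  have hK'0 : K' ≠ ⊥ := by
    intro h
    apply hK0
    rw [hK'] at h
    exact (Subgroup.map_eq_bot_iff_of_injective K N0.subtype_injective).1 h
  obtain ⟨M, ⟨hMn, hM0, hMK⟩, hminM⟩ :=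
    exists_min (P := fun M => NormIn N0 M ∧ M ≠ ⊥ ∧ M ≤ K') ⟨K', hK'n, hK'0, le_rfl⟩
  -- the main claim
  have hinv : ∀ h ∈ H, cj h M = M := by
    by_contra hbad
    push Not at hbad
    obtain ⟨h0, hh0, hne0⟩ := hbad
    have F : ∀ h ∈ H, cj h M ≠ M → M ⊓ cj h M = ⊥ := by
      intro h hh hne
      by_contra hnb
      have h1 := hminM (M ⊓ cj h M)
        ⟨normIn_inf hMn (normIn_cj hN0n hMn hh), hnb,
          (inf_le_left : M ⊓ cj h M ≤ M).trans hMK⟩ inf_le_left
      have h2 : M ≤ cj h M := by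
        have h3 : M ⊓ cj h M ≤ cj h M := inf_le_right
        rwa [h1] at h3
      apply hne
      exact (Subgroup.eq_of_le_of_card_ge h2 (by rw [card_cj])).symm
    -- M is solvable
    have hMsol : Group.IsSolvable M := by
      apply hsq
      have h1 := card_sq_dvd (F h0 hh0 hne0)
        (fun a ha b hb => commute_of_inf_eq_bot hMn (normIn_cj hN0n hMn hh0) (F h0 hh0 hne0) ha hb)
      rwa [card_cj] at h1
    -- M is abelian
    have hMab : ∀ a ∈ M, ∀ b ∈ M, a * b = b * a := by
      have hc : ⁅M, M⁆ = ⊥ := by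
        by_contra hcb
        have h1 := hminM ⁅M, M⁆ ⟨normIn_commutator hMn, hcb,
          (comm_le_self M).trans hMK⟩ (comm_le_self M)
        have : Nontrivial M := (Subgroup.nontrivial_iff_ne_bot _).2 hM0
        have h2 := Group.IsSolvable.commutator_lt_top_of_nontrivial (G := M)
        have h3 : (commutator M).map M.subtype = ⁅M, M⁆ := Subgroup.map_subtype_commutator M
        have h4 : commutator M = ⊤ := by
          rw [eq_top_iff]
          intro x _
          have hx : (x : G) ∈ ⁅M, M⁆ := by rw [h1]; exact x.2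
          rw [← h3] at hx
          obtain ⟨y, hy, hyx⟩ := hx
          have : y = x := Subtype.ext hyx
          rwa [this] at hy
        exact h2.ne h4
      rw [Subgroup.commutator_eq_bot_iff_le_centralizer] at hc
      intro a ha b hb
      exact (Subgroup.mem_centralizer_iff.1 (hc ha) b hb).symm
    have C : ∀ h ∈ H, ∀ a ∈ M, ∀ b ∈ cj h M, a * b = b * a := by
      intro h hh a ha b hb
      by_cases he : cj h M = M
      · rw [he] at hb
        exact hMab a ha b hb
      · exact commute_of_inf_eq_bot hMn (normIn_cj hN0n hMn hh) (F h hh he) ha hb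
    -- the normal closure is abelian
    let S : Set G := {x | ∃ h ∈ H, x ∈ cj h M}
    have hScomm : ∀ x ∈ S, ∀ y ∈ S, x * y = y * x := by
      rintro x ⟨h1, hh1, hx⟩ y ⟨h2, hh2, hy⟩
      rw [mem_cj] at hx hy
      have hb : h1⁻¹ * y * h1 ∈ cj (h1⁻¹ * h2) M := by
        rw [mem_cj]
        have e : (h1⁻¹ * h2)⁻¹ * (h1⁻¹ * y * h1) * (h1⁻¹ * h2) = h2⁻¹ * y * h2 := by group
        rw [e]; exact hy
      have := C (h1⁻¹ * h2) (H.mul_mem (H.inv_mem hh1) hh2) _ hx _ hb
      have e1 : x * y = h1 * ((h1⁻¹ * x * h1) * (h1⁻¹ * y * h1)) * h1⁻¹ := by group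
      have e2 : y * x = h1 * ((h1⁻¹ * y * h1) * (h1⁻¹ * x * h1)) * h1⁻¹ := by group
      rw [e1, e2, this]
    have hN1sol : Group.IsSolvable (Subgroup.closure S) := by
      have hc : IsMulCommutative (Subgroup.closure S) := Subgroup.isMulCommutative_closure hScomm
      exact Group.isSolvable_of_comm (fun a b => hc.is_comm.comm a b)
    have hSH : S ⊆ H := by
      rintro x ⟨h, hh, hx⟩
      exact hN0n.1 ((normIn_cj hN0n hMn hh).1 hx)
    have hN1n : NormIn H (Subgroup.closure S) := by
      refine ⟨(Subgroup.closure_le H).2 hSH, fun g hg x hx => ?_⟩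
      induction hx using Subgroup.closure_induction with
      | mem x hx =>
        obtain ⟨h, hh, hxm⟩ := hx
        apply Subgroup.subset_closure
        refine ⟨g * h, H.mul_mem hg hh, ?_⟩
        rw [mem_cj] at hxm ⊢
        have e : (g * h)⁻¹ * (g * x * g⁻¹) * (g * h) = h⁻¹ * x * h := by group
        rw [e]; exact hxm
      | one => simp
      | mul x y _ _ hx hy =>
        have e : g * (x * y) * g⁻¹ = (g * x * g⁻¹) * (g * y * g⁻¹) := by group
        rw [e]; exact Subgroup.mul_mem _ hx hy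
      | inv x _ hx =>
        have e : g * x⁻¹ * g⁻¹ = (g * x * g⁻¹)⁻¹ := by group
        rw [e]; exact Subgroup.inv_mem _ hx
    have hN1 := hsol _ hN1n hN1sol
    apply hM0
    rw [eq_bot_iff, ← hN1]
    intro m hm
    apply Subgroup.subset_closure
    exact ⟨1, H.one_mem, by rw [cj_one]; exact hm⟩
  -- conclusion
  have hMH : NormIn H M := by
    refine ⟨hMn.1.trans hN0n.1, fun h hh m hm => ?_⟩
    rw [← hinv h hh]
    exact conj_mem_cj hm
  have hMN0 : M = N0 := hmin0 M ⟨hMH, hM0, hMn.1.trans hN0L⟩ hMn.1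
  rw [eq_top_iff]
  intro x _
  have hx : (x : G) ∈ K' := hMK (by rw [hMN0]; exact x.2)
  obtain ⟨k, hk, hkx⟩ := hx
  have : k = x := Subtype.ext hkx
  rwa [this] at hk

end Cfsg.Agent.Helper71.MinNormal
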