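import Mathlib
import Cfsg.Agent.S0144
import Cfsg.Agent.Lib.Helper71.A8Orbits
import Cfsg.Agent.Lib.Helper71.MinNormalSimple

/-!
# Subgroups of `Sym(8)` without solvable normal subgroups: the simple normal subgroup and its
centralizer
-/

set_option autoImplicit false

namespace Cfsg.Agent.Helper71.A8

open Equiv MulAction Cfsg.Agent.Helper71.MinNormal Cfsg.Agent.Helper71.SimpleDeg

theorem card_perm8 : Nat.card (Perm Ω) = 40320 := by
  rw [Nat.card_perm, Nat.card_eq_fintype_card, Fintype.card_fin]; rfl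

/-- A subgroup of `Sym(8)` whose squared order divides `8!` is solvable. -/
theorem hsq8 (M : Subgroup (Perm Ω)) (h : Nat.card M * Nat.card M ∣ Nat.card (Perm Ω)) :
    Group.IsSolvable M := by
  rw [card_perm8] at h
  have hle : Nat.card M * Nat.card M ≤ 40320 := Nat.le_of_dvd (by norm_num) h
  have hle2 : Nat.card M ≤ 200 := by nlinarith
  have key : ∀ m ∈ Finset.range 201, m * m ∣ 40320 →
      ∃ a ∈ Finset.range 4, ∃ b ∈ Finset.range 2, m = 2 ^ a * 3 ^ b := by decide +kernel
  obtain ⟨a, -, b, -, hab⟩ := key _ (Finset.mem_range.2 (by omega)) h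
  exact Cfsg.Agent.S0144.result 2 3 a b (by norm_num) (by norm_num) hab

theorem five_le_of_structure {T : Subgroup (Perm Ω)} {x0 : Ω}
    (h : ((orbit T x0).ncard = 5 ∧ Nat.card T = 60) ∨
       ((orbit T x0).ncard = 6 ∧ (Nat.card T = 60 ∨ Nat.card T = 360)) ∨
       ((orbit T x0).ncard = 7 ∧ (Nat.card T = 168 ∨ Nat.card T = 2520)) ∨
       ((orbit T x0).ncard = 8 ∧
          (Nat.card T = 168 ∨ Nat.card T = 1344 ∨ Nat.card T = 20160))) :
    5 ≤ (orbit T x0).ncard := by
  rcases h with h | h | h | h <;> omega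

/-- Two elementwise commuting non-solvable simple subgroups of `Sym(8)` cannot exist. -/
theorem no_commuting_pair (T N : Subgroup (Perm Ω)) [IsSimpleGroup T] [IsSimpleGroup N]
    (hT : ¬ Group.IsSolvable T) (hN : ¬ Group.IsSolvable N)
    (hc : ∀ t ∈ T, ∀ n ∈ N, t * n = n * t) : False := by
  obtain ⟨x1, hx1, hall1, hcard1⟩ := orbit_structure T hT
  obtain ⟨x2, hx2, hall2, hcard2⟩ := orbit_structure N hN
  have h51 := five_le_of_structure hcard1
  have h52 := five_le_of_structure hcard2
  -- T fixes points outside its big orbit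
  have hfix1 : ∀ y, y ∉ orbit T x1 → ∀ t ∈ T, t y = y := by
    intro y hy t ht
    by_contra hne
    exact hy (hall1 y ⟨t, ht, hne⟩)
  -- Step a
  have stepa : ∀ y, y ∉ orbit T x1 → ∀ n ∈ N, n y = y := by
    intro y hy n hn
    by_contra hne
    have hy2 : y ∈ orbit N x2 := hall2 y ⟨n, hn, hne⟩
    have horb : orbit N y = orbit N x2 := (MulAction.orbit_eq_iff).2 hy2
    have hsub : orbit N y ⊆ (orbit T x1)ᶜ := by
      rintro z ⟨n', rfl⟩ hz
      -- z = n' • y is T-moved? no: it is T-fixed, but lies in the T-orbit of x1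
      have hzfix : ∀ t ∈ T, t ((n' : Perm Ω) y) = (n' : Perm Ω) y := by
        intro t ht
        have h1 := hc t ht n' n'.2
        have h2 : (t * (n' : Perm Ω)) y = ((n' : Perm Ω) * t) y := by rw [h1]
        simp only [Perm.mul_apply] at h2
        rw [h2, hfix1 y hy t ht]
      -- but a point of the orbit of x1 is moved (orbit has ≥ 5 points)
      have hz' : (orbit T ((n' : Perm Ω) y)).ncard = 1 :=
        (orbit_ncard_eq_one_iff T _).2 hzfix
      have heq : orbit T ((n' : Perm Ω) y) = orbit T x1 := (MulAction.orbit_eq_iff).2 hz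
      rw [heq] at hz'
      omega
    have hdisj : Disjoint (orbit N y) (orbit T x1) := by
      rw [Set.disjoint_left]
      intro z hz1 hz2
      exact hsub hz1 hz2
    have h1 : (orbit N y ∪ orbit T x1).ncard = (orbit N y).ncard + (orbit T x1).ncard :=
      Set.ncard_union_eq hdisj (Set.toFinite _) (Set.toFinite _)
    have h2 : (orbit N y ∪ orbit T x1).ncard ≤ (Set.univ : Set Ω).ncard :=
      Set.ncard_le_ncard (Set.subset_univ _) (Set.toFinite _)
    rw [Set.ncard_univ, Nat.card_eq_fintype_card, Fintype.card_fin] at h2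
    have h52' : 5 ≤ (orbit N y).ncard := by rw [horb]; exact h52
    omega
  -- Step b
  have hx2mem : x2 ∈ orbit T x1 := by
    by_contra h
    obtain ⟨n, hn, hne⟩ := hx2
    exact hne (stepa x2 h n hn)
  have stepb : stabilizer N x2 = ⊥ := by
    rw [eq_bot_iff]
    intro n hn
    rw [mem_stabilizer_iff] at hn
    rw [Subgroup.mem_bot]
    apply Subtype.ext
    apply Perm.ext
    intro z
    by_cases hz : z ∈ orbit T x1
    · have hz' : z ∈ orbit T x2 := by
        rw [(MulAction.orbit_eq_iff).2 hx2mem]; exact hz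
      obtain ⟨t, rfl⟩ := hz'
      have h1 := hc t t.2 n n.2
      have h2 : ((t : Perm Ω) * (n : Perm Ω)) x2 = ((n : Perm Ω) * t) x2 := by rw [h1]
      simp only [Perm.mul_apply] at h2
      have hn' : (n : Perm Ω) x2 = x2 := hn
      rw [hn'] at h2
      exact h2.symm
    · exact stepa z hz n n.2
  -- Step c
  have hcardN : Nat.card N = (orbit N x2).ncard := by
    rw [← MulAction.index_stabilizer, stepb, Subgroup.index_bot]
  have h8 : (orbit N x2).ncard ≤ 8 := by
    have : (orbit N x2).ncard ≤ (Set.univ : Set Ω).ncard :=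
      Set.ncard_le_ncard (Set.subset_univ _) (Set.toFinite _)
    rwa [Set.ncard_univ, Nat.card_eq_fintype_card, Fintype.card_fin] at this
  apply hN
  have : Nat.card N = 5 ∨ Nat.card N = 6 ∨ Nat.card N = 7 ∨ Nat.card N = 8 := by omega
  rcases this with h | h | h | h
  · exact Cfsg.Agent.S0144.result 5 2 1 0 (by norm_num) (by norm_num) (by rw [h]; norm_num)
  · exact Cfsg.Agent.S0144.result 2 3 1 1 (by norm_num) (by norm_num) (by rw [h]; norm_num)
  · exact Cfsg.Agent.S0144.result 7 2 1 0 (by norm_num) (by norm_num) (by rw [h]; norm_num)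
  · exact Cfsg.Agent.S0144.result 2 3 3 0 (by norm_num) (by norm_num) (by rw [h]; norm_num)

theorem normIn_self (H : Subgroup (Perm Ω)) : NormIn H H :=
  ⟨le_rfl, fun h hh n hn => H.mul_mem (H.mul_mem hh hn) (H.inv_mem hh)⟩

/-- The centralizer in `H` of a simple non-solvable normal subgroup is trivial. -/
theorem centralizer_trivial {H T : Subgroup (Perm Ω)}
    (hsol : ∀ N : Subgroup (Perm Ω), NormIn H N → Group.IsSolvable N → N = ⊥)
    (hT : NormIn H T) [IsSimpleGroup T] (hTns : ¬ Group.IsSolvable T) :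
    H ⊓ Subgroup.centralizer (T : Set (Perm Ω)) = ⊥ := by
  by_contra hC0
  have hCn : NormIn H (H ⊓ Subgroup.centralizer (T : Set (Perm Ω))) := by
    refine ⟨inf_le_left, fun h hh c hc => ⟨H.mul_mem (H.mul_mem hh hc.1) (H.inv_mem hh), ?_⟩⟩
    show h * c * h⁻¹ ∈ Subgroup.centralizer (T : Set (Perm Ω))
    rw [Subgroup.mem_centralizer_iff]
    intro t ht
    have h1 : h⁻¹ * t * h ∈ T := by
      have := hT.2 h⁻¹ (H.inv_mem hh) t ht
      simpa using this
    have h2 := (Subgroup.mem_centralizer_iff.1 hc.2) _ h1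
    calc t * (h * c * h⁻¹) = h * ((h⁻¹ * t * h) * c) * h⁻¹ := by group
      _ = h * (c * (h⁻¹ * t * h)) * h⁻¹ := by rw [h2]
      _ = h * c * h⁻¹ * t := by group
  obtain ⟨N2, hN2C, -, hN2s, hN2ns⟩ := exists_simple_normIn hsq8 hsol hCn hC0
  have := hN2s
  apply no_commuting_pair T N2 hTns hN2ns
  intro t ht n hn
  exact (Subgroup.mem_centralizer_iff.1 (hN2C hn).2) t ht

end Cfsg.Agent.Helper71.A8
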