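import Mathlib
import Cfsg.Agent.Lib.Helper5.Order60
import Cfsg.Agent.S2119
import Cfsg.Agent.Lib.Helper71.A8Cent

/-!
# Subgroups of `Alt(8)` with a simple non-solvable normal subgroup with trivial centralizer:
the five cases
-/

set_option autoImplicit false

namespace Cfsg.Agent.Helper71.A8

open Equiv MulAction Cfsg.Agent.Helper71.MinNormal Cfsg.Agent.Helper71.SimpleDeg

theorem card_alt8 : Nat.card (alternatingGroup Ω) = 20160 := by
  rw [nat_card_alternatingGroup, Nat.card_eq_fintype_card, Fintype.card_fin]; rfl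

/-- The normalizer in `Alt(8)` of a subgroup of order 7 has order 21. -/
theorem card_normalizer_inf_alt (Q : Subgroup (Perm Ω)) (hQ : Nat.card Q = 7) :
    Nat.card (Subgroup.normalizer (Q : Set (Perm Ω)) ⊓ alternatingGroup Ω : Subgroup (Perm Ω))
      = 21 := by
  haveI : Fact (Nat.Prime 7) := ⟨by norm_num⟩
  have hQpg : IsPGroup 7 Q := IsPGroup.of_card (n := 1) (by rw [hQ, pow_one])
  have hQidx : ¬ 7 ∣ Q.index := by
    intro h
    have h1 := Subgroup.card_mul_index Q
    rw [card_perm8, hQ] at h1
    obtain ⟨c, hc⟩ := h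
    rw [hc] at h1
    omega
  let QS : Sylow 7 (Perm Ω) := hQpg.toSylow hQidx
  have hQS : (QS : Subgroup (Perm Ω)) = Q := IsPGroup.toSylow_coe hQpg hQidx
  have hN1 := Cfsg.Agent.Helper17.card_normalizer_sylow_perm (α := Ω) 7
    (Or.inr (by rw [Fintype.card_fin])) QS
  have hN2 := Cfsg.Agent.Helper17.two_mul_card_alt_normalizer (α := Ω)
    (by rw [Fintype.card_fin]; norm_num) 7 (by norm_num) QS
  have hQalt : Q ≤ alternatingGroup Ω := by
    rw [← hQS]
    exact Cfsg.Agent.Helper17.pgroup_le_alternating (by norm_num) _ QS.2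
  rw [hQS] at hN1 hN2
  rw [← Subgroup.subgroupOf_normalizer_eq hQalt, card_subgroupOf_eq, hN1] at hN2
  omega

variable {H T : Subgroup (Perm Ω)}

/-- Case `|T| = 20160`. -/
theorem case_20160 (hHalt : H ≤ alternatingGroup Ω) (hT : NormIn H T) [IsSimpleGroup T]
    (hTns : ¬ Group.IsSolvable T) (hcard : Nat.card T = 20160) :
    H = alternatingGroup Ω := by
  have h1 : T = alternatingGroup Ω :=
    Subgroup.eq_of_le_of_card_ge (le_alt T hTns) (by rw [hcard, card_alt8])
  exact le_antisymm hHalt (h1 ▸ hT.1)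

/-- Case `|T| = 2520`: then `H = T`. -/
theorem case_2520 (hHalt : H ≤ alternatingGroup Ω) (hT : NormIn H T) [IsSimpleGroup T]
    (hcard : Nat.card T = 2520) : H = T := by
  have hA : IsSimpleGroup (alternatingGroup Ω) :=
    alternatingGroup.isSimpleGroup (by rw [Nat.card_eq_fintype_card, Fintype.card_fin]; norm_num)
  have hAnc : ¬ IsMulCommutative (alternatingGroup Ω) :=
    Cfsg.Agent.Helper17.not_comm_of_not_prime (by rw [card_alt8]; norm_num)
  have hTH : Nat.card T ∣ Nat.card H := Subgroup.card_dvd_of_le hT.1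
  have hcH : Nat.card (H.subgroupOf (alternatingGroup Ω)) = Nat.card H :=
    Nat.card_congr (Subgroup.subgroupOfEquivOfLe hHalt).toEquiv
  by_cases htop : H.subgroupOf (alternatingGroup Ω) = ⊤
  · exfalso
    rw [Subgroup.subgroupOf_eq_top] at htop
    have hHA : H = alternatingGroup Ω := le_antisymm hHalt htop
    have hnorm : (T.subgroupOf (alternatingGroup Ω)).Normal := by
      refine ⟨fun n hn g => ?_⟩
      rw [Subgroup.mem_subgroupOf] at hn ⊢
      have hg : (g : Perm Ω) ∈ H := by rw [hHA]; exact g.2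
      have := hT.2 _ hg _ hn
      simpa using this
    have hTA : T ≤ alternatingGroup Ω := hT.1.trans hHalt
    have hcT : Nat.card (T.subgroupOf (alternatingGroup Ω)) = 2520 := by
      rw [← hcard]
      exact Nat.card_congr (Subgroup.subgroupOfEquivOfLe hTA).toEquiv
    rcases hnorm.eq_bot_or_eq_top with h | h
    · rw [h, Subgroup.card_bot] at hcT; omega
    · rw [h, Subgroup.card_top, card_alt8] at hcT; omega
  · have h1 := Cfsg.Agent.Helper17.two_mul_card_dvd_factorial hAnc _ htop
    have h2 := Subgroup.card_mul_index (H.subgroupOf (alternatingGroup Ω))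
    rw [card_alt8] at h1 h2
    rw [hcH] at h2
    rw [hcard] at hTH
    obtain ⟨j, hj⟩ := hTH
    set k := (H.subgroupOf (alternatingGroup Ω)).index with hk
    have hjk : j * k = 8 := by
      rw [hj] at h2
      have : 2520 * (j * k) = 2520 * 8 := by rw [← mul_assoc, h2]
      exact Nat.eq_of_mul_eq_mul_left (by norm_num) this
    have hk8 : k = 8 := by
      have hkd : k ∣ 8 := Dvd.intro_left _ hjk
      have hkle : k ≤ 8 := Nat.le_of_dvd (by norm_num) hkd
      by_contra hne
      have hk7 : k ≤ 7 := by omega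
      have h3 : k.factorial ∣ Nat.factorial 7 := Nat.factorial_dvd_factorial hk7
      have h4 : 2 * 20160 ∣ Nat.factorial 7 := h1.trans h3
      norm_num [Nat.factorial] at h4
    have hj1 : j = 1 := by
      rw [hk8] at hjk; omega
    apply (Subgroup.eq_of_le_of_card_ge hT.1 _).symm
    rw [hj, hj1, hcard]

/-- An injective homomorphism between finite groups of the same order is an isomorphism. -/
theorem nonempty_mulEquiv_of_injective {A B : Type*} [Group A] [Group B] [Finite B]
    (f : A →* B) (hf : Function.Injective f) (hc : Nat.card B ≤ Nat.card A) :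
    Nonempty (A ≃* B) :=
  ⟨MulEquiv.ofBijective f (hf.bijective_of_nat_card_le hc)⟩

/-- `T` is an alternating group when it has an orbit of size `d` and the order of `Alt(d)`. -/
theorem iso_alt_of_orbit [IsSimpleGroup T] (hTns : ¬ Group.IsSolvable T) (x0 : Ω) (d : ℕ)
    (hd : (orbit T x0).ncard = d) (hd1 : d ≠ 1)
    (hcard : Nat.card (alternatingGroup (Fin d)) ≤ Nat.card T) :
    Nonempty (T ≃* alternatingGroup (Fin d)) := by
  have hidx : (stabilizer T x0).index = d := by rw [MulAction.index_stabilizer, hd]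
  have hne : stabilizer T x0 ≠ ⊤ := by
    intro h
    rw [h, Subgroup.index_top] at hidx
    exact hd1 hidx.symm
  have h1 := Cfsg.Agent.Helper17.embed_alt (not_comm_of_not_solvable hTns) (stabilizer T x0) hne
  rw [hidx] at h1
  obtain ⟨f, hf⟩ := h1
  exact nonempty_mulEquiv_of_injective f hf hcard

/-- Case `|T| = 60`: `H` embeds in `Aut(A5) = S5`. -/
theorem case_60 (hT : NormIn H T) [IsSimpleGroup T]
    (hC : H ⊓ Subgroup.centralizer (T : Set (Perm Ω)) = ⊥) (hcard : Nat.card T = 60) :
    Nonempty (H ≃* alternatingGroup (Fin 5)) ∨ Nonempty (H ≃* Perm (Fin 5)) := by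
  obtain ⟨e⟩ := Cfsg.Agent.Helper5.simple_order_sixty hcard
  have hnorm : (T.subgroupOf H).Normal := by
    refine ⟨fun n hn g => ?_⟩
    rw [Subgroup.mem_subgroupOf] at hn ⊢
    have := hT.2 _ g.2 _ hn
    simpa using this
  let eN : T.subgroupOf H ≃* T := Subgroup.subgroupOfEquivOfLe hT.1
  let c : H →* MulAut (T.subgroupOf H) := MulAut.conjNormal
  have hcinj : Function.Injective c := by
    rw [injective_iff_map_eq_one]
    intro h hh
    have hmem : (h : Perm Ω) ∈ H ⊓ Subgroup.centralizer (T : Set (Perm Ω)) := by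
      refine ⟨h.2, ?_⟩
      show (h : Perm Ω) ∈ Subgroup.centralizer (T : Set (Perm Ω))
      rw [Subgroup.mem_centralizer_iff]
      intro t ht
      have h1 : c h ⟨⟨t, hT.1 ht⟩, ht⟩ = ⟨⟨t, hT.1 ht⟩, ht⟩ := by rw [hh]; rfl
      have h2 := congrArg (fun n : T.subgroupOf H => ((n : H) : Perm Ω)) h1
      simp only [c, MulAut.conjNormal_apply, Subgroup.coe_mul, Subgroup.coe_inv] at h2
      -- h2 : h * t * h⁻¹ = t
      calc t * (h : Perm Ω) = ((h : Perm Ω) * t * (h : Perm Ω)⁻¹) * h := by rw [h2]
        _ = h * t := by group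
    rw [hC, Subgroup.mem_bot] at hmem
    exact Subtype.ext hmem
  let φ : MulAut (T.subgroupOf H) ≃* MulAut (alternatingGroup (Fin 5)) := MulAut.congr (eN.trans e)
  let ψ : Perm (Fin 5) ≃* MulAut (alternatingGroup (Fin 5)) :=
    MulEquiv.ofBijective MulAut.conjNormal
      (Cfsg.Agent.S2119.main (α := Fin 5) (by simp) (by simp))
  let F : H →* Perm (Fin 5) := ψ.symm.toMonoidHom.comp (φ.toMonoidHom.comp c)
  have hF : Function.Injective F := by
    intro a b hab
    apply hcinj
    apply φ.injective
    apply ψ.symm.injective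
    exact hab
  have h120 : Nat.card (Perm (Fin 5)) = 120 := by
    rw [Nat.card_perm, Nat.card_eq_fintype_card, Fintype.card_fin]; rfl
  have hd1 : Nat.card H ∣ 120 := by
    rw [← h120]; exact Subgroup.card_dvd_of_injective F hF
  have hd2 : 60 ∣ Nat.card H := by
    rw [← hcard]; exact Subgroup.card_dvd_of_le hT.1
  have hle : Nat.card H ≤ 120 := Nat.le_of_dvd (by norm_num) hd1
  have : Nat.card H = 60 ∨ Nat.card H = 120 := by
    obtain ⟨j, hj⟩ := hd2
    have : j ≤ 2 := by omega
    have hpos : 0 < Nat.card H := Nat.card_pos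
    interval_cases j <;> omega
  rcases this with h | h
  · left
    have hHT : T = H := Subgroup.eq_of_le_of_card_ge hT.1 (by rw [h, hcard])
    exact ⟨(MulEquiv.subgroupCongr hHT).symm.trans e⟩
  · right
    exact nonempty_mulEquiv_of_injective F hF (by rw [h120, h])

/-- Case `|T| = 360`: `H` acts faithfully on the six points moved by `T`. -/
theorem case_360 (hT : NormIn H T) [IsSimpleGroup T] (hTns : ¬ Group.IsSolvable T)
    (hC : H ⊓ Subgroup.centralizer (T : Set (Perm Ω)) = ⊥) (x0 : Ω)
    (hall : ∀ y, (∃ t ∈ T, t y ≠ y) → y ∈ orbit T x0) (hd : (orbit T x0).ncard = 6)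
    (hcard : Nat.card T = 360) :
    Nonempty (H ≃* alternatingGroup (Fin 6)) ∨ Nonempty (H ≃* Perm (Fin 6)) := by
  classical
  -- the moved points form the orbit
  have hD : {y | ∃ t ∈ T, t y ≠ y} = orbit T x0 := by
    ext y
    constructor
    · exact hall y
    · intro hy
      have heq : orbit T y = orbit T x0 := (MulAction.orbit_eq_iff).2 hy
      by_contra hno
      have hno' : ∀ t ∈ T, t y = y := by
        intro t ht
        by_contra hne
        exact hno ⟨t, ht, hne⟩
      have := (orbit_ncard_eq_one_iff T y).2 hno'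
      rw [heq, hd] at this
      omega
  have hinvH : ∀ h ∈ H, ∀ y, (∃ t ∈ T, t y ≠ y) → ∃ t ∈ T, t (h y) ≠ h y := by
    rintro h hh y ⟨t, ht, hne⟩
    refine ⟨h * t * h⁻¹, hT.2 h hh t ht, ?_⟩
    simp only [Perm.mul_apply, Perm.coe_inv, Equiv.symm_apply_apply]
    intro h1
    exact hne (h.injective h1)
  let sub : SubMulAction H Ω :=
    { carrier := {y | ∃ t ∈ T, t y ≠ y}
      smul_mem' := fun h y hy => hinvH h.1 h.2 y hy }
  have hsubcard : Nat.card sub = 6 := by
    have : Nat.card sub = ({y | ∃ t ∈ T, t y ≠ y} : Set Ω).ncard := rfl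
    rw [this, hD, hd]
  have hρ : Function.Injective (MulAction.toPermHom H sub) := by
    rw [injective_iff_map_eq_one]
    intro h hh
    have hfix : ∀ y, (∃ t ∈ T, t y ≠ y) → (h : Perm Ω) y = y := by
      intro y hy
      have h1 := congrArg (fun σ : Perm sub => ((σ ⟨y, hy⟩ : sub) : Ω)) hh
      exact h1
    have hmem : (h : Perm Ω) ∈ H ⊓ Subgroup.centralizer (T : Set (Perm Ω)) := by
      refine ⟨h.2, ?_⟩
      show (h : Perm Ω) ∈ Subgroup.centralizer (T : Set (Perm Ω))
      rw [Subgroup.mem_centralizer_iff]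
      intro t ht
      apply Perm.ext
      intro z
      simp only [Perm.mul_apply]
      by_cases hz : ∃ t' ∈ T, t' z ≠ z
      · have hz2 : ∃ t' ∈ T, t' (t z) ≠ t z := by
          obtain ⟨t', ht', hne⟩ := hz
          refine ⟨t * t' * t⁻¹, T.mul_mem (T.mul_mem ht ht') (T.inv_mem ht), ?_⟩
          simp only [Perm.mul_apply, Perm.coe_inv, Equiv.symm_apply_apply]
          intro h1
          exact hne (t.injective h1)
        rw [hfix z hz, hfix (t z) hz2]
      · push Not at hz
        have hz3 : ¬ ∃ t' ∈ T, t' ((h : Perm Ω) z) ≠ (h : Perm Ω) z := by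
          intro hcon
          have := hinvH (h : Perm Ω)⁻¹ (H.inv_mem h.2) _ hcon
          simp only [Perm.coe_inv, Equiv.symm_apply_apply] at this
          obtain ⟨t', ht', hne⟩ := this
          exact hne (hz t' ht')
        push Not at hz3
        rw [hz t ht, hz3 t ht]
    rw [hC, Subgroup.mem_bot] at hmem
    exact Subtype.ext hmem
  have h720 : Nat.card (Perm sub) = 720 := by
    rw [Nat.card_perm, hsubcard]; rfl
  have hd1 : Nat.card H ∣ 720 := by
    rw [← h720]; exact Subgroup.card_dvd_of_injective _ hρ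
  have hd2 : 360 ∣ Nat.card H := by
    rw [← hcard]; exact Subgroup.card_dvd_of_le hT.1
  have hle : Nat.card H ≤ 720 := Nat.le_of_dvd (by norm_num) hd1
  have : Nat.card H = 360 ∨ Nat.card H = 720 := by
    obtain ⟨j, hj⟩ := hd2
    have : j ≤ 2 := by omega
    have hpos : 0 < Nat.card H := Nat.card_pos
    interval_cases j <;> omega
  have hA6 : Nat.card (alternatingGroup (Fin 6)) = 360 := by
    rw [nat_card_alternatingGroup, Nat.card_eq_fintype_card, Fintype.card_fin]; rfl
  rcases this with h | h
  · left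
    have hHT : T = H := Subgroup.eq_of_le_of_card_ge hT.1 (by rw [h, hcard])
    obtain ⟨e⟩ := iso_alt_of_orbit hTns x0 6 hd (by norm_num) (by rw [hA6, hcard])
    exact ⟨(MulEquiv.subgroupCongr hHT).symm.trans e⟩
  · right
    obtain ⟨e1⟩ := nonempty_mulEquiv_of_injective _ hρ (by rw [h720, h])
    have hfin : Finite sub := Nat.finite_of_card_ne_zero (by rw [hsubcard]; norm_num)
    have e2 : sub ≃ Fin 6 := Finite.equivFinOfCardEq hsubcard
    exact ⟨e1.trans (Equiv.permCongrHom e2)⟩

/-- Case `|T| = 168`: Frattini's argument with a Sylow 7-subgroup gives `H = T`. -/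
theorem case_168 (hHalt : H ≤ alternatingGroup Ω) (hT : NormIn H T) [IsSimpleGroup T]
    (hTns : ¬ Group.IsSolvable T) (hcard : Nat.card T = 168) : H = T := by
  haveI : Fact (Nat.Prime 7) := ⟨by norm_num⟩
  have hnorm : (T.subgroupOf H).Normal := by
    refine ⟨fun n hn g => ?_⟩
    rw [Subgroup.mem_subgroupOf] at hn ⊢
    have := hT.2 _ g.2 _ hn
    simpa using this
  let eN : T.subgroupOf H ≃* T := Subgroup.subgroupOfEquivOfLe hT.1
  haveI : IsSimpleGroup (T.subgroupOf H) := eN.isSimpleGroup
  have hNns : ¬ Group.IsSolvable (T.subgroupOf H) := by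
    intro h
    exact hTns (solvable_of_surjective (f := eN.toMonoidHom) eN.surjective)
  have hNcard : Nat.card (T.subgroupOf H) = 168 := by
    rw [← hcard]; exact Nat.card_congr eN.toEquiv
  obtain ⟨P⟩ : Nonempty (Sylow 7 (T.subgroupOf H)) := inferInstance
  have hPcard : Nat.card (P : Subgroup (T.subgroupOf H)) = 7 := by
    have := Cfsg.Agent.Helper17.sylow_card_eq P (k := 1) (m := 24)
      (by rw [hNcard]; norm_num) (by norm_num)
    simpa using this
  -- number of Sylow 7-subgroups is 8
  have hn7 : Nat.card (Sylow 7 (T.subgroupOf H)) = 8 := by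
    obtain ⟨h1, h2⟩ := Cfsg.Agent.Helper17.sylow_count (G := T.subgroupOf H) (p := 7) (k := 1)
      (m := 24) (by rw [hNcard]; norm_num) (by norm_num)
    obtain ⟨h3, -⟩ := sylow_count_ne hNns 7 (by rw [hNcard]; norm_num)
      (by rw [hNcard]; norm_num)
    have hle : Nat.card (Sylow 7 (T.subgroupOf H)) ≤ 24 := Nat.le_of_dvd (by norm_num) h1
    interval_cases (Nat.card (Sylow 7 (T.subgroupOf H))) <;> omega
  have hNPcard : Nat.card (Subgroup.normalizer ((P : Subgroup (T.subgroupOf H)) :
      Set (T.subgroupOf H))) = 21 := by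
    have h1 : (Subgroup.normalizer ((P : Subgroup (T.subgroupOf H)) :
      Set (T.subgroupOf H))).index = Nat.card (Sylow 7 (T.subgroupOf H)) :=
      (P.card_eq_index_normalizer).symm
    have h2 := Subgroup.card_mul_index (Subgroup.normalizer ((P : Subgroup (T.subgroupOf H)) :
      Set (T.subgroupOf H)))
    rw [h1, hn7, hNcard] at h2
    omega
  -- Frattini
  have hF := Sylow.normalizer_sup_eq_top P
  set A : Subgroup H := Subgroup.normalizer
    (((P : Subgroup (T.subgroupOf H)).map (T.subgroupOf H).subtype : Subgroup H) : Set H) with hA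
  set B : Subgroup H := (Subgroup.normalizer ((P : Subgroup (T.subgroupOf H)) :
      Set (T.subgroupOf H))).map (T.subgroupOf H).subtype with hB
  have hBA : B ≤ A := Subgroup.le_normalizer_map _
  have hBN : B ≤ T.subgroupOf H := Subgroup.map_subtype_le _
  have hBcard : Nat.card B = 21 := by
    rw [hB, Subgroup.card_map_of_injective (Subgroup.subtype_injective _), hNPcard]
  -- |A| divides 21
  set P2 : Subgroup (Perm Ω) :=
    ((P : Subgroup (T.subgroupOf H)).map (T.subgroupOf H).subtype).map H.subtype with hP2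
  have hP2card : Nat.card P2 = 7 := by
    rw [hP2, Subgroup.card_map_of_injective (Subgroup.subtype_injective _),
      Subgroup.card_map_of_injective (Subgroup.subtype_injective _), hPcard]
  have hAle : A.map H.subtype ≤
      Subgroup.normalizer (P2 : Set (Perm Ω)) ⊓ alternatingGroup Ω := by
    refine le_inf ?_ ((Subgroup.map_subtype_le A).trans hHalt)
    exact Subgroup.le_normalizer_map _
  have hAcard : Nat.card A ∣ 21 := by
    have h1 : Nat.card (A.map H.subtype) = Nat.card A :=
      Subgroup.card_map_of_injective (Subgroup.subtype_injective H)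
    rw [← card_normalizer_inf_alt P2 hP2card, ← h1]
    exact Subgroup.card_dvd_of_le hAle
  have hAB : B = A := by
    apply Subgroup.eq_of_le_of_card_ge hBA
    rw [hBcard]
    exact Nat.le_of_dvd (by norm_num) hAcard
  have hNtop : T.subgroupOf H = ⊤ := by
    rw [eq_top_iff, ← hF]
    exact sup_le (hAB ▸ hBN) le_rfl
  rw [Subgroup.subgroupOf_eq_top] at hNtop
  exact le_antisymm hNtop hT.1

end Cfsg.Agent.Helper71.A8
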