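import Mathlib
import Cfsg.Agent.Lib.Helper71.A8Cases

/-!
# Subgroups of `Alt(8)` without nontrivial solvable normal subgroups

If `H ≤ Alt(8)` is nontrivial, has no nontrivial solvable normal subgroup and no simple subgroup
of order 1344, then `H` is isomorphic to `A5, A6, A7, A8, S5, S6` or is simple of order 168.
-/

set_option autoImplicit false

namespace Cfsg.Agent.Helper71.A8

open Equiv MulAction Cfsg.Agent.Helper71.MinNormal Cfsg.Agent.Helper71.SimpleDeg

theorem card_alt7 : Nat.card (alternatingGroup (Fin 7)) = 2520 := by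
  rw [nat_card_alternatingGroup, Nat.card_eq_fintype_card, Fintype.card_fin]; rfl

theorem card_alt5 : Nat.card (alternatingGroup (Fin 5)) = 60 := by
  rw [nat_card_alternatingGroup, Nat.card_eq_fintype_card, Fintype.card_fin]; rfl

theorem card_alt6 : Nat.card (alternatingGroup (Fin 6)) = 360 := by
  rw [nat_card_alternatingGroup, Nat.card_eq_fintype_card, Fintype.card_fin]; rfl

/-- The classification of the subgroups of `Alt(8)` with trivial solvable radical, modulo the
non-existence of a simple subgroup of order 1344. -/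
theorem classify (H : Subgroup (Perm Ω)) (hHalt : H ≤ alternatingGroup Ω) (hH : H ≠ ⊥)
    (hsol : ∀ N : Subgroup (Perm Ω), NormIn H N → Group.IsSolvable N → N = ⊥)
    (h1344 : ∀ K : Subgroup (Perm Ω), K ≤ H → Nat.card K = 1344 → ¬ IsSimpleGroup K) :
    (∃ n : ℕ, 5 ≤ n ∧ n ≤ 8 ∧ Nonempty (H ≃* alternatingGroup (Fin n))) ∨
      Nonempty (H ≃* Perm (Fin 5)) ∨ Nonempty (H ≃* Perm (Fin 6)) ∨
      (IsSimpleGroup H ∧ Nat.card H = 168) := by
  obtain ⟨T, -, hT, hTs, hTns⟩ := exists_simple_normIn hsq8 hsol (normIn_self H) hH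
  haveI := hTs
  have hC := centralizer_trivial hsol hT hTns
  obtain ⟨x0, -, hall, hstr⟩ := orbit_structure T hTns
  -- the six possible orders
  have h60 : Nat.card T = 60 →
      (∃ n : ℕ, 5 ≤ n ∧ n ≤ 8 ∧ Nonempty (H ≃* alternatingGroup (Fin n))) ∨
      Nonempty (H ≃* Perm (Fin 5)) ∨ Nonempty (H ≃* Perm (Fin 6)) ∨
      (IsSimpleGroup H ∧ Nat.card H = 168) := by
    intro hc
    rcases case_60 hT hC hc with h | h
    · exact Or.inl ⟨5, le_rfl, by norm_num, h⟩
    · exact Or.inr (Or.inl h)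
  have h168 : Nat.card T = 168 →
      (∃ n : ℕ, 5 ≤ n ∧ n ≤ 8 ∧ Nonempty (H ≃* alternatingGroup (Fin n))) ∨
      Nonempty (H ≃* Perm (Fin 5)) ∨ Nonempty (H ≃* Perm (Fin 6)) ∨
      (IsSimpleGroup H ∧ Nat.card H = 168) := by
    intro hc
    have hHT : H = T := case_168 hHalt hT hTns hc
    refine Or.inr (Or.inr (Or.inr ?_))
    rw [hHT]
    exact ⟨hTs, hc⟩
  rcases hstr with ⟨-, hc⟩ | ⟨hd, hc | hc⟩ | ⟨hd, hc | hc⟩ | ⟨hd, hc | hc | hc⟩
  · exact h60 hc
  · exact h60 hc
  · rcases case_360 hT hTns hC x0 hall hd hc with h | h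
    · exact Or.inl ⟨6, by norm_num, by norm_num, h⟩
    · exact Or.inr (Or.inr (Or.inl h))
  · exact h168 hc
  · have hHT : H = T := case_2520 hHalt hT hc
    obtain ⟨e⟩ := iso_alt_of_orbit hTns x0 7 hd (by norm_num) (by rw [card_alt7, hc])
    refine Or.inl ⟨7, by norm_num, by norm_num, ?_⟩
    rw [hHT]
    exact ⟨e⟩
  · exact h168 hc
  · exact absurd hTs (h1344 T hT.1 hc)
  · have hHA : H = alternatingGroup Ω := case_20160 hHalt hT hTns hc
    refine Or.inl ⟨8, by norm_num, le_rfl, ?_⟩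
    rw [hHA]
    exact ⟨MulEquiv.refl _⟩

end Cfsg.Agent.Helper71.A8
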