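import Mathlib

/-!
Agreement counts `agr P b = #{x | P x = b x}` of two permutations and local moves
(conjugating `P` by a transposition or a 3-cycle) that strictly decrease them.
-/

set_option autoImplicit false
set_option linter.unusedSectionVars false

namespace Cfsg.Agent.Helper71.AgreeMoves

open Equiv Equiv.Perm

variable {α : Type*} [DecidableEq α] [Fintype α]

/-- number of points where two permutations agree -/
def agr (P b : Perm α) : ℕ := (Finset.univ.filter (fun x => P x = b x)).card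

theorem card_fixedPoints_mul (Q b : Perm α) :
    Nat.card (Function.fixedPoints ⇑(Q * b)) = agr Q⁻¹ b := by
  rw [agr, Nat.card_eq_fintype_card, ← Fintype.card_coe]
  apply Fintype.card_congr
  refine Equiv.subtypeEquivRight ?_
  intro x
  simp only [Function.mem_fixedPoints, Function.IsFixedPt, Perm.mul_apply, Finset.mem_filter,
    Finset.mem_univ, true_and]
  rw [Perm.inv_eq_iff_eq]
  exact eq_comm

omit [DecidableEq α] [Fintype α] in
theorem card_fixedPoints_mul_comm (x y : Perm α) :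
    Nat.card (Function.fixedPoints ⇑(x * y)) = Nat.card (Function.fixedPoints ⇑(y * x)) := by
  apply Nat.card_congr
  refine ⟨fun z => ⟨y z.1, ?_⟩, fun z => ⟨x z.1, ?_⟩, ?_, ?_⟩
  · have := z.2
    simp only [Function.mem_fixedPoints, Function.IsFixedPt, Perm.mul_apply] at this ⊢
    rw [this]
  · have := z.2
    simp only [Function.mem_fixedPoints, Function.IsFixedPt, Perm.mul_apply] at this ⊢
    rw [this]
  · intro z
    have := z.2
    simp only [Function.mem_fixedPoints, Function.IsFixedPt, Perm.mul_apply] at this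
    exact Subtype.ext this
  · intro z
    have := z.2
    simp only [Function.mem_fixedPoints, Function.IsFixedPt, Perm.mul_apply] at this
    exact Subtype.ext this

/-- conjugation leaves the number of fixed points unchanged -/
theorem card_fixedPoints_conj (c x : Perm α) :
    Nat.card (Function.fixedPoints ⇑(c * x * c⁻¹)) = Nat.card (Function.fixedPoints ⇑x) := by
  rw [mul_assoc, card_fixedPoints_mul_comm, mul_assoc, inv_mul_cancel, mul_one]

/-- **Transposition move.** -/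
theorem agr_swap_lt (P b : Perm α) (p q : α) (hp : P p = b p) (hq : q ≠ b p)
    (h2 : swap (b p) q (P q) ≠ b (b p)) (h3 : swap (b p) q (P (b p)) ≠ b q) :
    agr (swap (b p) q * P * swap (b p) q) b < agr P b := by
  unfold agr
  apply Finset.card_lt_card
  rw [Finset.ssubset_iff_of_subset]
  · refine ⟨p, by rw [Finset.mem_filter]; exact ⟨Finset.mem_univ _, hp⟩, ?_⟩
    rw [Finset.mem_filter]
    rintro ⟨-, hcon⟩
    simp only [Perm.mul_apply] at hcon
    by_cases h1 : p = b p
    · rw [← h1] at hcon h2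
      rw [swap_apply_left] at hcon
      rw [← h1] at h2
      exact h2 hcon
    by_cases h4 : p = q
    · rw [← h4] at hcon h3
      rw [swap_apply_right] at hcon
      exact h3 hcon
    · rw [swap_apply_of_ne_of_ne h1 h4, hp, swap_apply_left] at hcon
      exact hq hcon
  · intro x hx
    rw [Finset.mem_filter] at hx ⊢
    obtain ⟨-, hx⟩ := hx
    refine ⟨Finset.mem_univ _, ?_⟩
    simp only [Perm.mul_apply] at hx
    by_cases h1 : x = b p
    · exfalso
      rw [h1, swap_apply_left] at hx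
      exact h2 hx
    by_cases h4 : x = q
    · exfalso
      rw [h4, swap_apply_right] at hx
      exact h3 hx
    rw [swap_apply_of_ne_of_ne h1 h4] at hx
    by_cases h5 : P x = b p
    · exfalso
      have hxp : x = p := P.injective (h5.trans hp.symm)
      rw [h5, swap_apply_left, hxp] at hx
      exact hq hx
    by_cases h6 : P x = q
    · exfalso
      rw [h6, swap_apply_right] at hx
      have hxp : x = p := (b.injective hx).symm
      rw [hxp, hp] at h6
      exact hq h6.symm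
    rwa [swap_apply_of_ne_of_ne h5 h6] at hx

/-- the 3-cycle `u → v → w → u` -/
def cyc3 (u v w : α) : Perm α := swap u v * swap v w

theorem cyc3_apply_of_ne {u v w y : α} (h1 : y ≠ u) (h2 : y ≠ v) (h3 : y ≠ w) :
    cyc3 u v w y = y := by
  rw [cyc3, Perm.mul_apply, swap_apply_of_ne_of_ne h2 h3, swap_apply_of_ne_of_ne h1 h2]

theorem cyc3_apply_fst {u v w : α} (huv : u ≠ v) (huw : u ≠ w) : cyc3 u v w u = v := by
  rw [cyc3, Perm.mul_apply, swap_apply_of_ne_of_ne huv huw, swap_apply_left]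

theorem cyc3_apply_snd {u v w : α} (huw : u ≠ w) (hvw : v ≠ w) : cyc3 u v w v = w := by
  rw [cyc3, Perm.mul_apply, swap_apply_left, swap_apply_of_ne_of_ne huw.symm hvw.symm]

theorem cyc3_apply_thd {u v w : α} : cyc3 u v w w = u := by
  rw [cyc3, Perm.mul_apply, swap_apply_right, swap_apply_right]

theorem cyc3_inv_apply_of_ne {u v w y : α} (h1 : y ≠ u) (h2 : y ≠ v) (h3 : y ≠ w) :
    (cyc3 u v w)⁻¹ y = y := by
  rw [Perm.inv_eq_iff_eq, cyc3_apply_of_ne h1 h2 h3]

theorem cyc3_inv_apply_fst {u v w : α} : (cyc3 u v w)⁻¹ u = w := by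
  rw [Perm.inv_eq_iff_eq, cyc3_apply_thd]

theorem cyc3_inv_apply_snd {u v w : α} (huv : u ≠ v) (huw : u ≠ w) : (cyc3 u v w)⁻¹ v = u := by
  rw [Perm.inv_eq_iff_eq, cyc3_apply_fst huv huw]

theorem cyc3_inv_apply_thd {u v w : α} (huw : u ≠ w) (hvw : v ≠ w) : (cyc3 u v w)⁻¹ w = v := by
  rw [Perm.inv_eq_iff_eq, cyc3_apply_snd huw hvw]

theorem cyc3_mem_alternatingGroup {u v w : α} (huv : u ≠ v) (hvw : v ≠ w) :
    cyc3 u v w ∈ alternatingGroup α := by
  rw [mem_alternatingGroup, cyc3, Perm.sign_mul, Perm.sign_swap huv, Perm.sign_swap hvw]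
  decide

/-- **3-cycle move along an agreed path** `p₀ → p₁ → p₂` that closes up in neither
permutation. -/
theorem agr_cyc3_path_lt (P b : Perm α) (p₀ p₁ p₂ : α) (h01 : p₀ ≠ p₁) (h02 : p₀ ≠ p₂)
    (h12 : p₁ ≠ p₂) (hP0 : P p₀ = p₁) (hb0 : b p₀ = p₁) (hP1 : P p₁ = p₂) (hb1 : b p₁ = p₂)
    (hP2 : P p₂ ≠ p₀) (hb2 : b p₂ ≠ p₀) :
    agr (cyc3 p₀ p₁ p₂ * P * (cyc3 p₀ p₁ p₂)⁻¹) b < agr P b := by
  unfold agr
  apply Finset.card_lt_card
  rw [Finset.ssubset_iff_of_subset]
  · refine ⟨p₀, by rw [Finset.mem_filter]; exact ⟨Finset.mem_univ _, hP0.trans hb0.symm⟩, ?_⟩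
    rw [Finset.mem_filter]
    rintro ⟨-, hcon⟩
    simp only [Perm.mul_apply] at hcon
    rw [cyc3_inv_apply_fst, hb0] at hcon
    apply hP2
    have := Perm.eq_inv_iff_eq.2 hcon
    rwa [cyc3_inv_apply_snd h01 h02] at this
  · intro x hx
    rw [Finset.mem_filter] at hx ⊢
    obtain ⟨-, hx⟩ := hx
    refine ⟨Finset.mem_univ _, ?_⟩
    simp only [Perm.mul_apply] at hx
    by_cases hx0 : x = p₀
    · exfalso
      rw [hx0, cyc3_inv_apply_fst, hb0] at hx
      apply hP2
      have := Perm.eq_inv_iff_eq.2 hx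
      rwa [cyc3_inv_apply_snd h01 h02] at this
    by_cases hx1 : x = p₁
    · rw [hx1, hP1, hb1]
    by_cases hx2 : x = p₂
    · exfalso
      rw [hx2, cyc3_inv_apply_thd h02 h12, hP1, cyc3_apply_thd] at hx
      exact hb2 hx.symm
    rw [cyc3_inv_apply_of_ne hx0 hx1 hx2] at hx
    by_cases hy0 : P x = p₀
    · exfalso
      rw [hy0, cyc3_apply_fst h01 h02] at hx
      exact hx0 (b.injective (hx.symm.trans hb0.symm))
    by_cases hy1 : P x = p₁
    · exfalso
      exact hx0 (P.injective (hy1.trans hP0.symm))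
    by_cases hy2 : P x = p₂
    · exfalso
      exact hx1 (P.injective (hy2.trans hP1.symm))
    rwa [cyc3_apply_of_ne hy0 hy1 hy2] at hx

/-- **3-cycle move linking two 3-cycles of `P`.** -/
theorem agr_cyc3_two_lt (P b : Perm α) (a₁ a₂ a₃ c₁ c₂ c₃ : α)
    (hP1 : P a₁ = a₂) (hP2 : P a₂ = a₃) (hP3 : P a₃ = a₁)
    (hQ1 : P c₁ = c₂) (hQ2 : P c₂ = c₃) (hQ3 : P c₃ = c₁)
    (h12 : a₁ ≠ a₂) (h13 : a₁ ≠ a₃) (h23 : a₂ ≠ a₃)
    (h1c1 : a₁ ≠ c₁) (h2c1 : a₂ ≠ c₁) (h3c1 : a₃ ≠ c₁)
    (h1c2 : a₁ ≠ c₂) (h2c2 : a₂ ≠ c₂) (hc12 : c₁ ≠ c₂)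
    (hb1 : b a₁ = a₂) (hb2 : b a₂ = a₃) :
    agr (cyc3 a₁ a₂ c₁ * P * (cyc3 a₁ a₂ c₁)⁻¹) b < agr P b := by
  unfold agr
  set F := Finset.univ.filter (fun x => P x = b x) with hF
  set F' := Finset.univ.filter
    (fun x => (cyc3 a₁ a₂ c₁ * P * (cyc3 a₁ a₂ c₁)⁻¹) x = b x) with hF'
  have hsub : F' ⊆ insert c₃ ((F.erase a₁).erase a₂) := by
    intro x hx
    rw [hF', Finset.mem_filter] at hx
    obtain ⟨-, hx⟩ := hx
    simp only [Perm.mul_apply] at hx
    by_cases hxc3 : x = c₃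
    · rw [hxc3]; exact Finset.mem_insert_self _ _
    apply Finset.mem_insert_of_mem
    by_cases hx1 : x = a₁
    · exfalso
      rw [hx1, cyc3_inv_apply_fst, hQ1, cyc3_apply_of_ne h1c2.symm h2c2.symm hc12.symm, hb1] at hx
      exact h2c2 hx.symm
    by_cases hx2 : x = a₂
    · exfalso
      rw [hx2, cyc3_inv_apply_snd h12 h1c1, hP1, cyc3_apply_snd h1c1 h2c1, hb2] at hx
      exact h3c1 hx.symm
    by_cases hx3 : x = c₁
    · exfalso
      rw [hx3, cyc3_inv_apply_thd h1c1 h2c1, hP2,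
        cyc3_apply_of_ne h13.symm h23.symm h3c1] at hx
      exact h2c1 (b.injective (hb2.trans hx))
    by_cases hx4 : x = a₃
    · exfalso
      rw [hx4, cyc3_inv_apply_of_ne h13.symm h23.symm h3c1, hP3,
        cyc3_apply_fst h12 h1c1] at hx
      exact h13 (b.injective (hb1.trans hx))
    rw [cyc3_inv_apply_of_ne hx1 hx2 hx3] at hx
    have hy1 : P x ≠ a₁ := fun h => hx4 (P.injective (h.trans hP3.symm))
    have hy2 : P x ≠ a₂ := fun h => hx1 (P.injective (h.trans hP1.symm))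
    have hy3 : P x ≠ c₁ := fun h => hxc3 (P.injective (h.trans hQ3.symm))
    rw [cyc3_apply_of_ne hy1 hy2 hy3] at hx
    rw [Finset.mem_erase, Finset.mem_erase]
    exact ⟨hx2, hx1, by rw [hF, Finset.mem_filter]; exact ⟨Finset.mem_univ _, hx⟩⟩
  have h1F : a₁ ∈ F := by
    rw [hF, Finset.mem_filter]; exact ⟨Finset.mem_univ _, hP1.trans hb1.symm⟩
  have h2F : a₂ ∈ F.erase a₁ := by
    rw [Finset.mem_erase]
    exact ⟨h12.symm, by rw [hF, Finset.mem_filter]; exact ⟨Finset.mem_univ _, hP2.trans hb2.symm⟩⟩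
  have hc1 : (F.erase a₁).card + 1 = F.card := Finset.card_erase_add_one h1F
  have hc2 : ((F.erase a₁).erase a₂).card + 1 = (F.erase a₁).card := Finset.card_erase_add_one h2F
  have hle := (Finset.card_le_card hsub).trans (Finset.card_insert_le _ _)
  omega

end Cfsg.Agent.Helper71.AgreeMoves
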