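import Mathlib
import Cfsg.Agent.S2119

/-!
Automorphisms of alternating groups that preserve 3-cycles are induced by permutations
(generalising the degree `≠ 6` argument of `Cfsg.Agent.S2119`), and the square of every
automorphism of `A_6` preserves 3-cycles.
-/

set_option autoImplicit false
set_option linter.unusedSimpArgs false
set_option linter.unusedVariables false
set_option linter.unusedSectionVars false

namespace Cfsg.Agent.Helper71.AutAlt

open Equiv Equiv.Perm Cfsg.Agent.S2119

section General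

variable {α : Type*} [DecidableEq α] [Fintype α]

/-- `ψ` maps 3-cycles to 3-cycles. -/
def Pres (ψ : alternatingGroup α ≃* alternatingGroup α) : Prop :=
  ∀ a : alternatingGroup α, (a : Perm α).IsThreeCycle →
    ((ψ a : alternatingGroup α) : Perm α).IsThreeCycle

theorem exists_fixed_of_pres (h4 : 4 ≤ Fintype.card α)
    (ψ : alternatingGroup α ≃* alternatingGroup α) (hψ : Pres ψ) (x : α) :
    ∃ y : α, ∀ g : alternatingGroup α, (g : Perm α) x = x →
      ((ψ g : alternatingGroup α) : Perm α) y = y := by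
  obtain ⟨a, ha⟩ := exists_notMem {x} (by rw [Finset.card_singleton]; omega)
  obtain ⟨b, hb⟩ := exists_notMem {x, a} (by
    have := Finset.card_le_two (a := x) (b := a); omega)
  have hax : a ≠ x := by simpa using ha
  have hbx : b ≠ x := by
    intro h; apply hb; rw [h]; simp
  have hab : a ≠ b := by
    intro h; apply hb; rw [h]; simp
  set Z : Finset α := Finset.univ \ {a, b, x} with hZ
  have hZmem : ∀ z, z ∈ Z ↔ z ≠ a ∧ z ≠ b ∧ z ≠ x := by
    intro z; simp [hZ]
  have hZcard : Z.card = Fintype.card α - 3 := by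
    rw [hZ, Finset.card_sdiff_of_subset (Finset.subset_univ _), Finset.card_univ]
    congr 1
    rw [Finset.card_insert_of_notMem, Finset.card_insert_of_notMem, Finset.card_singleton]
    · simpa using hbx
    · simp only [Finset.mem_insert, Finset.mem_singleton, not_or]; exact ⟨hab, hax⟩
  set s : α → Perm α := fun z => extd ψ (tc a b z) with hs
  have hs3 : ∀ z ∈ Z, (s z).IsThreeCycle := by
    intro z hz
    rw [hZmem] at hz
    have hmem := tc_mem_alt hab hz.1.symm hz.2.1.symm
    rw [hs]
    simp only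
    rw [extd_eq ψ hmem]
    exact hψ ⟨_, hmem⟩ (tc_isThreeCycle hab hz.1.symm hz.2.1.symm)
  have hs2 : ∀ z ∈ Z, ∀ z' ∈ Z, z ≠ z' → (s z * s z') ^ 2 = 1 := by
    intro z hz z' hz' hne
    rw [hZmem] at hz hz'
    have hmem := tc_mem_alt hab hz.1.symm hz.2.1.symm
    have hmem' := tc_mem_alt hab hz'.1.symm hz'.2.1.symm
    rw [hs]
    simp only
    rw [← extd_mul ψ hmem hmem', ← extd_pow ψ (mul_mem hmem hmem'),
      I0 hab hz.1.symm hz'.1.symm hz.2.1.symm hz'.2.1.symm hne, extd_one]
  have hZne : Z.Nonempty := by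
    rw [← Finset.card_pos, hZcard]; omega
  obtain ⟨z0, hz0⟩ := hZne
  set U : Finset α := Z.biUnion (fun z => (s z).support) with hU
  have hUsub : U ⊆ (s z0).support ∪
      (Z.erase z0).biUnion (fun z => (s z).support \ (s z0).support) := by
    intro u hu
    rw [hU, Finset.mem_biUnion] at hu
    obtain ⟨z, hz, hzu⟩ := hu
    by_cases hu0 : u ∈ (s z0).support
    · exact Finset.mem_union_left _ hu0
    · apply Finset.mem_union_right
      rw [Finset.mem_biUnion]
      refine ⟨z, ?_, Finset.mem_sdiff.mpr ⟨hzu, hu0⟩⟩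
      rw [Finset.mem_erase]
      refine ⟨?_, hz⟩
      rintro rfl
      exact hu0 hzu
  have hUcard : U.card ≤ 3 + (Z.card - 1) := by
    refine (Finset.card_le_card hUsub).trans ?_
    refine (Finset.card_union_le _ _).trans ?_
    rw [(hs3 z0 hz0).card_support]
    apply Nat.add_le_add_left
    refine Finset.card_biUnion_le.trans ?_
    have : ∀ z ∈ Z.erase z0, ((s z).support \ (s z0).support).card ≤ 1 := by
      intro z hz
      rw [Finset.mem_erase] at hz
      exact card_sdiff_le_one (hs3 z hz.2) (hs2 z hz.2 z0 hz0 hz.1)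
    refine (Finset.sum_le_sum this).trans ?_
    rw [Finset.sum_const, Finset.card_erase_of_mem hz0]
    simp
  obtain ⟨y, hy⟩ := exists_notMem U (by omega)
  have hyfix : ∀ z ∈ Z, s z y = y := by
    intro z hz
    by_contra hcon
    apply hy
    rw [hU, Finset.mem_biUnion]
    exact ⟨z, hz, Perm.mem_support.mpr hcon⟩
  refine ⟨y, ?_⟩
  intro g hg
  have h1 : (g : Perm α) ∈ Subgroup.closure (chain a b x) := by
    have := mem_closure_threeCycles_fixing x (g : Perm α) g.2 hg
    refine (Subgroup.closure_le _).mpr ?_ this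
    rintro τ ⟨hτ, hτx⟩
    exact threeCycle_mem_closure_chain hab hax hbx hτ hτx
  have key : ∀ g : Perm α, g ∈ Subgroup.closure (chain a b x) →
      g ∈ alternatingGroup α ∧ extd ψ g y = y := by
    intro g hg
    induction hg using Subgroup.closure_induction with
    | mem g hg =>
      obtain ⟨z, hza, hzb, hzx, rfl⟩ := hg
      exact ⟨tc_mem_alt hab hza.symm hzb.symm, hyfix z ((hZmem z).mpr ⟨hza, hzb, hzx⟩)⟩
    | one => exact ⟨one_mem _, by rw [extd_one]; rfl⟩
    | mul g h _ _ ihg ihh =>
      refine ⟨mul_mem ihg.1 ihh.1, ?_⟩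
      rw [extd_mul ψ ihg.1 ihh.1, Perm.mul_apply, ihh.2, ihg.2]
    | inv g _ ihg =>
      refine ⟨inv_mem ihg.1, ?_⟩
      rw [extd_inv ψ ihg.1, Perm.inv_eq_iff_eq]
      exact ihg.2.symm
  have := (key _ h1).2
  rwa [extd_coe] at this

theorem exists_conj_of_pres (h4 : 4 ≤ Fintype.card α)
    (ψ : alternatingGroup α ≃* alternatingGroup α) (hψ : Pres ψ) (hψ' : Pres ψ.symm) :
    ∃ σ : Perm α, ∀ g : alternatingGroup α,
      ((ψ g : alternatingGroup α) : Perm α) = σ * g * σ⁻¹ := by
  choose f hf using exists_fixed_of_pres h4 ψ hψ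
  choose f' hf' using exists_fixed_of_pres h4 ψ.symm hψ'
  have h1 : ∀ x, f' (f x) = x := by
    intro x
    refine (eq_of_stab_le h4 x (f' (f x)) (fun g hg => ?_)).symm
    have := hf' (f x) (ψ g) (hf x g hg)
    simpa using this
  have h2 : ∀ y, f (f' y) = y := by
    intro y
    refine (eq_of_stab_le h4 y (f (f' y)) (fun g hg => ?_)).symm
    have := hf (f' y) (ψ.symm g) (hf' y g hg)
    simpa using this
  have hiff : ∀ (g : alternatingGroup α) (x : α),
      ((ψ g : alternatingGroup α) : Perm α) (f x) = f x → (g : Perm α) x = x := by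
    intro g x hg
    have := hf' (f x) (ψ g) hg
    simpa [h1] using this
  have hequiv : ∀ (g : alternatingGroup α) (x : α),
      ((ψ g : alternatingGroup α) : Perm α) (f x) = f ((g : Perm α) x) := by
    intro g x
    refine (eq_of_stab_le h4 (f ((g : Perm α) x)) _ (fun k hk => ?_)).symm
    obtain ⟨h, rfl⟩ := ψ.surjective k
    have e1 : (h : Perm α) ((g : Perm α) x) = (g : Perm α) x := hiff h _ hk
    have e2 : ((g⁻¹ * h * g : alternatingGroup α) : Perm α) x = x := by
      simp only [Subgroup.coe_mul, Subgroup.coe_inv, Perm.mul_apply, e1]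
      simp
    have e3 := hf x _ e2
    simp only [map_mul, map_inv, Subgroup.coe_mul, Subgroup.coe_inv, Perm.mul_apply] at e3
    rw [Perm.inv_eq_iff_eq] at e3
    exact e3
  refine ⟨⟨f, f', h1, h2⟩, fun g => ?_⟩
  ext y
  simp only [Perm.mul_apply]
  change _ = f ((g : Perm α) (f' y))
  rw [← hequiv, h2]

theorem mem_range_of_pres (h4 : 4 ≤ Fintype.card α)
    (ψ : MulAut (alternatingGroup α)) (hψ : Pres ψ) (hψ' : Pres ψ.symm) :
    ψ ∈ (MulAut.conjNormal : Perm α →* MulAut (alternatingGroup α)).range := by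
  obtain ⟨σ, hσ⟩ := exists_conj_of_pres h4 ψ hψ hψ'
  refine ⟨σ, ?_⟩
  ext g : 2
  rw [MulAut.conjNormal_apply, hσ]

theorem conjNormal_injective (h4 : 4 ≤ Fintype.card α) :
    Function.Injective (MulAut.conjNormal : Perm α →* MulAut (alternatingGroup α)) := by
  rw [injective_iff_map_eq_one]
  intro σ hσ
  apply eq_one_of_comm h4
  intro g
  rw [← MulAut.conjNormal_apply, hσ]
  rfl

end General

section Six

/-- the alternating group of degree six -/
abbrev A6 : Type := alternatingGroup (Fin 6)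

/-- the standard double 3-cycle -/
def d0 : Perm (Fin 6) := tc 0 1 2 * tc 3 4 5

/-- an odd permutation centralising `d0` -/
def t0 : Perm (Fin 6) := swap 0 3 * swap 1 4 * swap 2 5

theorem t0_comm : t0 * d0 * t0⁻¹ = d0 := by decide

theorem sign_t0 : Perm.sign t0 = -1 := by
  have h03 : (0 : Fin 6) ≠ 3 := by decide
  have h14 : (1 : Fin 6) ≠ 4 := by decide
  have h25 : (2 : Fin 6) ≠ 5 := by decide
  rw [t0, Perm.sign_mul, Perm.sign_mul, Perm.sign_swap h03, Perm.sign_swap h14, Perm.sign_swap h25]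
  decide

theorem cycleType_d0 : d0.cycleType = {3, 3} := by
  have hdis : (tc (0 : Fin 6) 1 2).Disjoint (tc 3 4 5) := by
    intro x
    fin_cases x <;> decide
  have h1 : (tc (0 : Fin 6) 1 2).IsThreeCycle := tc_isThreeCycle (by decide) (by decide) (by decide)
  have h2 : (tc (3 : Fin 6) 4 5).IsThreeCycle := tc_isThreeCycle (by decide) (by decide) (by decide)
  rw [d0, Equiv.Perm.Disjoint.cycleType_mul hdis, h1.cycleType, h2.cycleType]
  rfl

theorem d0_mem : d0 ∈ alternatingGroup (Fin 6) :=
  mul_mem (tc_mem_alt (by decide) (by decide) (by decide))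
    (tc_mem_alt (by decide) (by decide) (by decide))

theorem cycleType_of_orderOf_three (σ : Perm (Fin 6)) (h : orderOf σ = 3) :
    σ.cycleType = {3} ∨ σ.cycleType = {3, 3} := by
  obtain ⟨m, hm⟩ := cycleType_prime_order (σ := σ) (by rw [h]; exact Nat.prime_three)
  rw [h] at hm
  have hsum := sum_cycleType_le σ
  rw [hm, Multiset.sum_replicate, Fintype.card_fin] at hsum
  have hm1 : m ≤ 1 := by
    simp only [smul_eq_mul] at hsum
    omega
  interval_cases m
  · left; rw [hm]; rfl
  · right; rw [hm]; rfl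

theorem cycleType_eq_of_isConj {a b : A6} (h : IsConj a b) :
    (a : Perm (Fin 6)).cycleType = (b : Perm (Fin 6)).cycleType := by
  have := (Subgroup.subtype (alternatingGroup (Fin 6))).map_isConj h
  exact isConj_iff_cycleType_eq.1 this

theorem isConj_D0 (d : A6) (hd : (d : Perm (Fin 6)).cycleType = {3, 3}) :
    IsConj (⟨d0, d0_mem⟩ : A6) d := by
  have h1 : IsConj d0 (d : Perm (Fin 6)) :=
    isConj_iff_cycleType_eq.2 (by rw [cycleType_d0, hd])
  obtain ⟨σ, hσ⟩ := isConj_iff.1 h1
  rcases Int.units_eq_one_or (Perm.sign σ) with hs | hs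
  · rw [isConj_iff]
    exact ⟨⟨σ, mem_alternatingGroup.2 hs⟩, Subtype.ext (by simpa using hσ)⟩
  · rw [isConj_iff]
    refine ⟨⟨σ * t0, mem_alternatingGroup.2 (by rw [Perm.sign_mul, hs, sign_t0]; decide)⟩,
      Subtype.ext ?_⟩
    simp only [Subgroup.coe_mul, Subgroup.coe_inv, mul_inv_rev]
    calc σ * t0 * d0 * (t0⁻¹ * σ⁻¹) = σ * (t0 * d0 * t0⁻¹) * σ⁻¹ := by group
      _ = d := by rw [t0_comm, hσ]

theorem pres_of_one (ψ : MulAut A6) (c0 : A6) (h0 : (c0 : Perm (Fin 6)).IsThreeCycle)
    (h1 : ((ψ c0 : A6) : Perm (Fin 6)).IsThreeCycle) : Pres ψ := by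
  intro c hc
  have hconj : IsConj c0 c := alternatingGroup.isThreeCycle_isConj (by simp) h0 hc
  have := cycleType_eq_of_isConj (ψ.toMonoidHom.map_isConj hconj)
  rw [IsThreeCycle]
  exact this.symm.trans h1

theorem pres_sq (ψ : MulAut A6) : Pres (ψ * ψ) := by
  set c0 : A6 := ⟨tc 0 1 2, tc_mem_alt (by decide) (by decide) (by decide)⟩ with hc0
  have h0 : (c0 : Perm (Fin 6)).IsThreeCycle :=
    tc_isThreeCycle (by decide) (by decide) (by decide)
  have ho : ∀ (φ : MulAut A6) (a : A6), orderOf (a : Perm (Fin 6)) = 3 →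
      orderOf ((φ a : A6) : Perm (Fin 6)) = 3 := by
    intro φ a ha
    rw [Subgroup.orderOf_coe, MulEquiv.orderOf_eq, ← Subgroup.orderOf_coe, ha]
  rcases cycleType_of_orderOf_three _ (ho ψ c0 h0.orderOf) with h3 | h33
  · have hP := pres_of_one ψ c0 h0 h3
    intro a ha
    exact hP _ (hP a ha)
  · have hall : ∀ c : A6, (c : Perm (Fin 6)).IsThreeCycle →
        ((ψ c : A6) : Perm (Fin 6)).cycleType = {3, 3} := by
      intro c hc
      have hconj : IsConj c0 c := alternatingGroup.isThreeCycle_isConj (by simp) h0 hc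
      have h7 := cycleType_eq_of_isConj (ψ.toMonoidHom.map_isConj hconj)
      exact h7.symm.trans h33
    set D0 : A6 := ⟨d0, d0_mem⟩ with hD0def
    have hD0 : orderOf (D0 : Perm (Fin 6)) = 3 := by
      rw [← lcm_cycleType]
      show d0.cycleType.lcm = 3
      rw [cycleType_d0]
      rfl
    rcases cycleType_of_orderOf_three _ (ho ψ D0 hD0) with k3 | k33
    · intro a ha
      have h1 := hall a ha
      have hconj := isConj_D0 (ψ a) h1
      have := cycleType_eq_of_isConj (ψ.toMonoidHom.map_isConj hconj)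
      show ((ψ (ψ a) : A6) : Perm (Fin 6)).cycleType = {3}
      exact this.symm.trans k3
    · exfalso
      have hall' : ∀ e : A6, orderOf (e : Perm (Fin 6)) = 3 →
          ((ψ e : A6) : Perm (Fin 6)).cycleType = {3, 3} := by
        intro e he
        rcases cycleType_of_orderOf_three _ he with e3 | e33
        · exact hall e e3
        · have hconj := isConj_D0 e e33
          have h7 := cycleType_eq_of_isConj (ψ.toMonoidHom.map_isConj hconj)
          exact h7.symm.trans k33
      have h5 := hall' (ψ⁻¹ c0) (ho ψ⁻¹ c0 h0.orderOf)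
      rw [MulAut.apply_inv_self, h0.cycleType] at h5
      exact absurd h5 (by decide)

end Six

section Main

theorem sq_mem_range (n : ℕ) (hn : 5 ≤ n) (ψ : MulAut (alternatingGroup (Fin n))) :
    ψ * ψ ∈ (MulAut.conjNormal : Perm (Fin n) →* MulAut (alternatingGroup (Fin n))).range := by
  by_cases h6 : n = 6
  · subst h6
    apply mem_range_of_pres (by simp) _ (pres_sq ψ)
    have : (ψ * ψ).symm = ψ⁻¹ * ψ⁻¹ := rfl
    rw [this]
    exact pres_sq ψ⁻¹
  · exact (Cfsg.Agent.S2119.result n (by omega) h6).2 _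

theorem mem_range_of_odd_order (n : ℕ) (hn : 5 ≤ n) (ψ : MulAut (alternatingGroup (Fin n)))
    (hodd : Odd (orderOf ψ)) :
    ψ ∈ (MulAut.conjNormal : Perm (Fin n) →* MulAut (alternatingGroup (Fin n))).range := by
  obtain ⟨t, ht⟩ := hodd
  have h1 := Subgroup.pow_mem _ (sq_mem_range n hn ψ) (t + 1)
  have h2 : (ψ * ψ) ^ (t + 1) = ψ := by
    rw [← pow_two, ← pow_mul]
    have : 2 * (t + 1) = orderOf ψ + 1 := by omega
    rw [this, pow_succ, pow_orderOf_eq_one, one_mul]
  rwa [h2] at h1

end Main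

end Cfsg.Agent.Helper71.AutAlt
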