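import Mathlib
import Cfsg.Prelude.Def_OddOrder
import Cfsg.Prelude.Def_OddOrderLocal
import Cfsg.Agent.Lib.Helper71.BG142F2b

/-!
# (L8) CASE (F2) of helper54's proof of B-G 14.2, part (iii): the contradiction (helper71)

`F2_core`: two maximal subgroups `M`, `H` with `σ(M) ∩ σ(H) = ∅`, a subgroup `Z ≤ M ⊓ H` of prime
order `t` (`t ∉ α(M) ∪ α(H)`, `N_G(Z) ≰ M`, `N_G(Z) ≰ H`), acting fixed-point-freely on an abelian
`s`-subgroup `S ≤ M` not centralizing `M_β` and on an abelian `q`-subgroup `Xq ≤ H` not centralizing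
`H_β`, together with the two cross conditions
* `hbM`: no prime of `β(H)` divides `|C_M(Z)|`,
* `haH`: for `a ∈ β(M)` every `a`-subgroup of `C_H(Z)` is `C_G(Z)`-conjugate into `M ⊓ C_G(S)`,
is impossible.  This is the HALL TRICK of CASE (F2) in `BG142_PROOF.md` (L8).
-/

set_option autoImplicit false

namespace Cfsg.Agent.Helper71.BG142

open Subgroup Cfsg
open Cfsg.Agent.Helper84 (IsSylIn)

variable {G : Type*} [Group G]

/-- conjugating a subgroup of `C` by an element of `C` stays in `C`. -/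
theorem map_conj_le_of_mem {C P : Subgroup G} {g : G} (hg : g ∈ C) (hP : P ≤ C) :
    P.map (MulAut.conj g).toMonoidHom ≤ C := by
  rintro _ ⟨x, hx, rfl⟩
  exact C.mul_mem (C.mul_mem hg (hP hx)) (C.inv_mem hg)

/-- **CASE (F2), core form.** -/
theorem F2_core [Finite G] (hG : IsMinSimpleOddOrder G) (M H : Subgroup G)
    (hM : IsCoatom M) (hH : IsCoatom H)
    -- rows for `M`
    (h06M : ∀ X : Subgroup G, X ≤ M → (∀ p : ℕ, p.Prime → p ∣ Nat.card X → p ∉ alpha M) →
      ¬ RankLE 1 ↥(alphaCore M ⊓ centralizer (X : Set G)) →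
      InUniqueMaximal (M ⊓ centralizer (X : Set G)))
    (h14M : IsPiHallOf (beta M) (piCoreOf (beta M) M) M)
    (h23M : ∀ (p : ℕ) [Fact p.Prime], p ∈ sigma M → ∀ X : Subgroup G, X ≤ M → Nat.card X = p →
      p ∈ beta M → ∀ L : Subgroup G, IsCoatom L → centralizer (X : Set G) ≤ L → L = M)
    (hασM : ∀ p : ℕ, p ∈ alpha M → p ∈ sigma M)
    -- rows for `H`
    (h06H : ∀ X : Subgroup G, X ≤ H → (∀ p : ℕ, p.Prime → p ∣ Nat.card X → p ∉ alpha H) →
      ¬ RankLE 1 ↥(alphaCore H ⊓ centralizer (X : Set G)) →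
      InUniqueMaximal (H ⊓ centralizer (X : Set G)))
    (h14H : IsPiHallOf (beta H) (piCoreOf (beta H) H) H)
    (h23H : ∀ (p : ℕ) [Fact p.Prime], p ∈ sigma H → ∀ X : Subgroup G, X ≤ H → Nat.card X = p →
      p ∈ beta H → ∀ L : Subgroup G, IsCoatom L → centralizer (X : Set G) ≤ L → L = H)
    (hασH : ∀ p : ℕ, p ∈ alpha H → p ∈ sigma H)
    -- σ-partition
    (hσ : ∀ p : ℕ, p ∈ sigma M → p ∉ sigma H)
    (t s q : ℕ) [ht : Fact t.Prime] [hs : Fact s.Prime] [hq : Fact q.Prime]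
    (hst : s ≠ t) (hqt : q ≠ t)
    (Z S Xq : Subgroup G)
    (hZM : Z ≤ M) (hZH : Z ≤ H) (hZ : Nat.card Z = t)
    (htαM : t ∉ alpha M) (htαH : t ∉ alpha H)
    (hNZM : ¬ normalizer (Z : Set G) ≤ M) (hNZH : ¬ normalizer (Z : Set G) ≤ H)
    -- the kernel `S` on the `M`-side
    (hSM : S ≤ M) (hS : IsPGroup s S) (hSab : ∀ x ∈ S, ∀ y ∈ S, x * y = y * x)
    (hsβ : s ∉ beta M) (hZS : Z ≤ normalizer (S : Set G))
    (hfpfS : S ⊓ centralizer (Z : Set G) = ⊥)
    (hSβ : ¬ piCoreOf (beta M) M ≤ centralizer (S : Set G))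
    -- the kernel `Xq` on the `H`-side
    (hXH : Xq ≤ H) (hXq : IsPGroup q Xq) (hXab : ∀ x ∈ Xq, ∀ y ∈ Xq, x * y = y * x)
    (hqβ : q ∉ beta H) (hZX : Z ≤ normalizer (Xq : Set G))
    (hfpfX : Xq ⊓ centralizer (Z : Set G) = ⊥)
    (hXβ : ¬ piCoreOf (beta H) H ≤ centralizer (Xq : Set G))
    -- cross conditions
    (hbM : ∀ b : ℕ, b ∈ beta H → ¬ b ∣ Nat.card ↥(M ⊓ centralizer (Z : Set G)))
    (haH : ∀ a : ℕ, a ∈ beta M → ∀ P : Subgroup G, IsPGroup a P →
      P ≤ H ⊓ centralizer (Z : Set G) →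
      ∃ g ∈ centralizer (Z : Set G),
        P.map (MulAut.conj g).toMonoidHom ≤ M ⊓ centralizer (S : Set G)) :
    False := by
  classical
  have hsimple : IsSimpleGroup G := hG.2.1
  obtain ⟨a, haF, Ta, Ua, Xa, dM⟩ := side_core hG M hM h06M h14M h23M hασM t s hst htαM Z S hZM hZ
    hNZM hSM hS hSab hsβ hZS hfpfS hSβ
  obtain ⟨b, hbF, Tb, Ub, Xb, dH⟩ := side_core hG H hH h06H h14H h23H hασH t q hqt htαH Z Xq hZH hZ
    hNZH hXH hXq hXab hqβ hZX hfpfX hXβ
  have ha : a.Prime := haF.out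
  have hb : b.Prime := hbF.out
  have hab : a ≠ b := by
    intro h
    exact hσ a (hασM a dM.mem_beta.1) (h ▸ hασH b dH.mem_beta.1)
  -- `c = C_G(Z)` is solvable
  set c := centralizer (Z : Set G) with hc
  have hZ1 : Z ≠ ⊥ := by
    intro h
    rw [h, Subgroup.card_bot] at hZ
    exact ht.out.one_lt.ne hZ
  have hZtop : Z ≠ ⊤ := by
    intro h
    apply hM.1
    rw [eq_top_iff, ← h]
    exact hZM
  have hctop : c ≠ ⊤ := by
    intro h
    have hNtop : normalizer (Z : Set G) ≠ ⊤ :=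
      Cfsg.Agent.Helper54.normalizer_ne_top_of_isSimpleGroup Z hZ1 hZtop
    apply hNtop
    rw [eq_top_iff, ← h]
    exact Subgroup.centralizer_le_normalizer _
  have hcsol : Group.IsSolvable c := hG.2.2.2 c hctop
  rcases hall_trick c hcsol a b hab Ua Ub Xa Xb dM.sylU dH.sylU dM.cyc dH.cyc dM.XU dH.XU
    dM.cardX dH.cardX with ⟨g, hg, hle⟩ | ⟨g, hg, hle⟩
  · -- a conjugate of `Ub` lies in `C_M(Z)`, whose order is prime to `b`
    have h1 : Ub.map (MulAut.conj g).toMonoidHom ≤ M ⊓ c :=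
      le_inf (hle.trans dM.normX) (map_conj_le_of_mem hg dH.sylU.1)
    have h2 : b ∣ Nat.card Ub := by
      rw [← dH.cardX]
      exact Subgroup.card_dvd_of_le dH.XU
    have h3 : b ∣ Nat.card ↥(M ⊓ c) := by
      rw [← Cfsg.Agent.Helper84.card_map_conj Ub g] at h2
      exact h2.trans (Subgroup.card_dvd_of_le h1)
    exact hbM b dH.mem_beta h3
  · -- a conjugate of `Ua` lies in `C_H(Z)`, hence (after conjugation) in `C_{M_β}(S Z)`
    set P := Ua.map (MulAut.conj g).toMonoidHom with hP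
    have hPa : IsPGroup a P := dM.sylU.2.1.map _
    have hPH : P ≤ H ⊓ c := le_inf (hle.trans dH.normX) (map_conj_le_of_mem hg dM.sylU.1)
    obtain ⟨g', hg', hle'⟩ := haH a dM.mem_beta P hPa hPH
    set Y2 := P.map (MulAut.conj g').toMonoidHom with hY2
    have hY2a : IsPGroup a Y2 := hPa.map _
    have hY2c : Y2 ≤ c := map_conj_le_of_mem hg' (hPH.trans inf_le_right)
    have hY2card : Nat.card Y2 = Nat.card Ua := by
      rw [hY2, Cfsg.Agent.Helper84.card_map_conj, hP, Cfsg.Agent.Helper84.card_map_conj]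
    set N := piCoreOf (beta M) M with hN
    have hNM : N ≤ M := h14M.1
    have hMN : M ≤ normalizer (N : Set G) := Cfsg.Agent.Helper54.le_normalizer_piCoreOf _ _
    have hMsol : Group.IsSolvable M := hG.2.2.2 M hM.1
    have hNsol : Group.IsSolvable N :=
      Group.isSolvable_of_isSolvable_injective (Subgroup.inclusion_injective hNM)
    have hY2N : Y2 ≤ N :=
      pgroup_le_normal_hall hNM hMN (h14M.2.2 a ha dM.mem_beta) (hle'.trans inf_le_left) hY2a
    -- the acting group `A = S Z`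
    set A := S ⊔ Z with hA
    have hAM : A ≤ M := sup_le hSM hZM
    have hAT : A ≤ normalizer (Ta : Set G) := sup_le dM.KT dM.ZT
    have hY2A : Y2 ≤ centralizer (A : Set G) := by
      rw [Subgroup.le_centralizer_iff]
      refine sup_le ?_ ?_
      · rw [Subgroup.le_centralizer_iff]; exact hle'.trans inf_le_right
      · rw [Subgroup.le_centralizer_iff]; exact hY2c
    have hsyl := isSylIn_inf_centralizer A N Ta (hAM.trans hMN) dM.cop (Or.inr hNsol) a dM.sylT hAT
    have hcard := hsyl.card_le (le_inf hY2N hY2A) hY2a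
    have hAZ : centralizer (A : Set G) ≤ c :=
      Subgroup.centralizer_le (by exact_mod_cast (le_sup_right : Z ≤ A))
    have hAS : centralizer (A : Set G) ≤ centralizer (S : Set G) :=
      Subgroup.centralizer_le (by exact_mod_cast (le_sup_left : S ≤ A))
    have hsub : Ta ⊓ centralizer (A : Set G) ≤ Ua := by
      rw [dM.U_eq]
      exact inf_le_inf_left _ hAZ
    have heq : Ta ⊓ centralizer (A : Set G) = Ua :=
      Subgroup.eq_of_le_of_card_ge hsub (by rw [← hY2card]; exact hcard)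
    apply dM.not_le
    rw [← heq]
    exact inf_le_right.trans hAS

end Cfsg.Agent.Helper71.BG142
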