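import Mathlib
import Cfsg.Prelude.Def_OddOrder
import Cfsg.Prelude.Def_OddOrderLocal
import Cfsg.Agent.Lib.Helper71.BG142L4d
import Cfsg.Agent.Lib.Helper64.BG142End

/-!
# (L4) CONFIG A kill of B-G 14.2: the ASSEMBLY, core form (helper71; insurance copy)

`configA_core`: the CONFIG A kill from
* my step (1) (`omega_center_line`, `exists_invariant_sylow_of_line`),
* helper79's steps (2)+(3) `normalizer_A0_eq_of_h28` (hypothesis `h3`) and `exists_T` (hypothesis
  `hexT`),
* helper64's pure endgame `configA_endgame` (imported),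
* the rows S1350(1), S1408, S1411, S1413(e), S1414, S1417(b), S1418, S1419 as explicit hypotheses.
-/

set_option autoImplicit false

namespace Cfsg.Agent.Helper71.BG142L4

open Subgroup Cfsg
open Cfsg.Agent.Helper84 (IsSylIn)

variable {G : Type*} [Group G]

theorem configA_core [Finite G] (hG : IsMinSimpleOddOrder G) (M : Subgroup G) (hM : IsCoatom M)
    (E : Subgroup G) (hE : IsComplIn E (sigmaCore M) M)
    (r p : ℕ) [hr : Fact r.Prime] [hp : Fact p.Prime] (hpr : p ≠ r)
    (A X : Subgroup G) (hA : A ≤ E ∧ IsElementaryAbelian r A ∧ Nat.card A = r ^ 2)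
    (hSna : ∀ S : Sylow r G, ¬ IsMulCommutative (S : Subgroup G))
    (hXE : X ≤ E) (hX : Nat.card X = p)
    (hXA0 : X ≤ centralizer ((A ⊓ centralizer (sigmaCore M : Set G) : Subgroup G) : Set G))
    (hXA : ¬ X ≤ centralizer (A : Set G))
    -- S1408
    (hnotideal : ¬ IsIdealPrime r G)
    (hmax : ∀ B : Subgroup G, IsElementaryAbelian r B → A ≤ B → B = A)
    -- S1411
    (h11 : ∀ (P : Sylow r G) (V : Subgroup G),
      IsComplIn (P : Subgroup G) V (normalizer ((P : Subgroup G) : Set G)) →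
      (P : Subgroup G) = ⁅(P : Subgroup G), V⁆)
    -- S1413(e)
    (h13e : ∀ (P : Sylow r G) (R Q : Subgroup G), IsPGroup r R → Q ≤ (P : Subgroup G) ⊓ R →
      normalizer ((P : Subgroup G) : Set G) ≤ normalizer (Q : Set G) →
      normalizer (R : Set G) ≤ normalizer (Q : Set G))
    -- S1350(1), S1414
    (h50 : ∀ L : Subgroup G, IsCoatom L → IsPiHallOf (sigma L) (sigmaCore L) L)
    (h14 : ∀ L : Subgroup G, IsCoatom L → r ∣ Nat.card L → r ∉ beta L →
      HasNormalPComplement r ↥(sigmaCore L))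
    -- S1417(b)
    (h17b : ∀ P : Sylow r M, IsMulCommutative (P : Subgroup M) ∧
      (A ≤ (P : Subgroup M).map M.subtype →
        (∀ x ∈ (P : Subgroup M).map M.subtype, x ^ r = 1 ↔ x ∈ A) ∧
        ¬ normalizer ((((P : Subgroup M).map M.subtype : Subgroup G)) : Set G) ≤ M))
    -- S1418
    (h18a : E ≤ normalizer (A : Set G)) (hCA : centralizer (A : Set G) ≤ M)
    (hNA : ¬ normalizer (A : Set G) ≤ M)
    -- S1419
    (hA0c : Nat.card ↥(A ⊓ centralizer (sigmaCore M : Set G)) = r)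
    -- steps (2)+(3) (helper79 `normalizer_A0_eq_of_h28`)
    (h3 : normalizer ((A ⊓ centralizer (sigmaCore M : Set G) : Subgroup G) : Set G) = M ∧
      M ≤ centralizer ((A ⊓ centralizer (sigmaCore M : Set G) : Subgroup G) : Set G))
    -- helper79 `exists_T`
    (hexT : ∀ (S : Sylow r G), ¬ IsMulCommutative (S : Subgroup G) → ∀ (V : Subgroup G),
      A ≤ (S : Subgroup G) →
      (∀ B : Subgroup G, B ≤ (S : Subgroup G) → IsElementaryAbelian r B → A ≤ B → B = A) →
      ¬ (S : Subgroup G) ≤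
        centralizer ((A ⊓ centralizer (sigmaCore M : Set G) : Subgroup G) : Set G) →
      V ≤ normalizer ((S : Subgroup G) : Set G) →
      (Nat.card V).Coprime (Nat.card (S : Subgroup G)) →
      ∃ T : Subgroup G, T ≤ (S : Subgroup G) ∧ (S : Subgroup G) ≤ normalizer (T : Set G) ∧
        V ≤ normalizer (T : Set G) ∧ ⁅(S : Subgroup G), (S : Subgroup G)⁆ ≤ T ∧
        (∀ y ∈ (S : Subgroup G), y ^ r ∈ T) ∧
        (A ⊓ centralizer (sigmaCore M : Set G)) ⊓ T = ⊥ ∧
        ((S : Subgroup G) ≤ (A ⊓ centralizer (sigmaCore M : Set G)) ⊔ T ∨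
          ⁅V, V⁆ ≤ centralizer ((S : Subgroup G) : Set G))) :
    False := by
  classical
  have hrp : r.Prime := hr.out
  obtain ⟨hAE, hAel, hAc⟩ := hA
  set A0 : Subgroup G := A ⊓ centralizer (sigmaCore M : Set G) with hA0def
  have hA0A : A0 ≤ A := inf_le_left
  have hEM : E ≤ M := hE.1
  have hAM : A ≤ M := hAE.trans hEM
  have hAp : IsPGroup r A := IsPGroup.of_card hAc
  have hXNA : X ≤ normalizer (A : Set G) := hXE.trans h18a
  have hMA0 : M ≤ normalizer (A0 : Set G) := h3.1.ge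
  have hAab : ∀ a ∈ A, ∀ b ∈ A, a * b = b * a := by
    intro a ha b hb
    have := hAel.1.is_comm.comm ⟨a, ha⟩ ⟨b, hb⟩
    exact congrArg Subtype.val this
  -- `r`-subgroups of `M` are abelian; those containing `A` have `Ω₁ = A`
  have hMr : ∀ Q : Subgroup G, Q ≤ M → IsPGroup r Q →
      (∀ x ∈ Q, ∀ y ∈ Q, x * y = y * x) ∧ (A ≤ Q → ∀ x ∈ Q, x ^ r = 1 → x ∈ A) := by
    intro Q hQM hQ
    have hQ' : IsPGroup r (Q.subgroupOf M) :=
      hQ.comap_of_injective _ (Subgroup.subtype_injective _)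
    obtain ⟨P, hP⟩ := hQ'.exists_le_sylow
    have hQP : Q ≤ (P : Subgroup M).map M.subtype := by
      intro x hx
      exact ⟨⟨x, hQM hx⟩, hP (mem_subgroupOf.mpr hx), rfl⟩
    obtain ⟨hPab, hPA⟩ := h17b P
    refine ⟨?_, ?_⟩
    · intro x hx y hy
      have hx' : (⟨x, hQM hx⟩ : M) ∈ (P : Subgroup M) := hP (mem_subgroupOf.mpr hx)
      have hy' : (⟨y, hQM hy⟩ : M) ∈ (P : Subgroup M) := hP (mem_subgroupOf.mpr hy)
      have := hPab.is_comm.comm ⟨_, hx'⟩ ⟨_, hy'⟩
      exact congrArg (fun t : ↥(P : Subgroup M) => ((t : M) : G)) this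
    · intro hAQ x hx hxr
      exact ((hPA (hAQ.trans hQP)).1 x (hQP hx)).mp hxr
  -- (1b)
  obtain ⟨S', hAS'⟩ := hAp.exists_le_sylow
  obtain ⟨hZc, hZA, hZne, hNAZ⟩ := omega_center_line hG M hM r A A0 S' hAel hAc hAS' (hSna S')
    hmax (h13e S') (fun P => (h17b P).1) hCA hNA hA0A hA0c hMA0
  have hZ1 : omegaCenter r (S' : Subgroup G) ≠ ⊥ := by
    intro h
    rw [h, Subgroup.card_bot] at hZc
    exact hrp.one_lt.ne hZc
  -- (1c)
  obtain ⟨S, V, L, hAS, hXS, hXV, hcompl, -, -, -, -, -⟩ :=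
    exists_invariant_sylow_of_line hG r p hpr A X (omegaCenter r (S' : Subgroup G)) S' hAel hAc
      hAS' hZ1 hZA (normalizer_le_normalizer_omegaCenter r _) hNAZ hnotideal h50 h14 hXNA hX hXA
  have hSp : IsPGroup r (S : Subgroup G) := S.isPGroup'
  have hVN : V ≤ normalizer ((S : Subgroup G) : Set G) := hcompl.2.1
  -- `S = [S, V]`
  have hSV : (S : Subgroup G) ≤ ⁅(S : Subgroup G), V⁆ := (h11 S V hcompl).le
  -- coprimality
  have hcop : (Nat.card V).Coprime (Nat.card (S : Subgroup G)) := by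
    obtain ⟨n, hn⟩ := IsPGroup.iff_card.mp hSp
    rw [hn]
    apply Nat.Coprime.pow_right
    rw [Nat.coprime_comm, Nat.Prime.coprime_iff_not_dvd hrp]
    intro hd
    -- an element of order `r` in `V` generates, with `S`, an `r`-subgroup bigger than `S`
    obtain ⟨v, hv⟩ := exists_prime_orderOf_dvd_card' (G := V) r hd
    have hvN : (v : G) ∈ normalizer ((S : Subgroup G) : Set G) := hVN v.2
    have hvS : (v : G) ∉ (S : Subgroup G) := by
      intro h
      have : (v : G) ∈ (S : Subgroup G) ⊓ V := mem_inf.mpr ⟨h, v.2⟩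
      rw [hcompl.2.2.1, Subgroup.mem_bot] at this
      have h1 : v = 1 := Subtype.ext this
      rw [h1, orderOf_one] at hv
      exact hrp.one_lt.ne hv
    have hpg : IsPGroup r (Subgroup.zpowers (v : G)) := by
      apply IsPGroup.of_card (n := 1)
      rw [Nat.card_zpowers, Subgroup.orderOf_coe, hv, pow_one]
    have hzN : Subgroup.zpowers (v : G) ≤ normalizer ((S : Subgroup G) : Set G) := by
      rw [Subgroup.zpowers_le]; exact hvN
    have hsup : IsPGroup r ((S : Subgroup G) ⊔ Subgroup.zpowers (v : G) : Subgroup G) := by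
      have hdvd := Cfsg.Agent.Helper54.card_sup_dvd_of_le_normalizer (S : Subgroup G)
        (Subgroup.zpowers (v : G)) hzN
      obtain ⟨m, hm⟩ := IsPGroup.iff_card.mp hpg
      rw [hn, hm, ← pow_add] at hdvd
      obtain ⟨k, -, hk⟩ := (Nat.dvd_prime_pow hrp).mp hdvd
      exact IsPGroup.of_card hk
    have hle : (S : Subgroup G) ≤ (S : Subgroup G) ⊔ Subgroup.zpowers (v : G) := le_sup_left
    have heq := S.is_maximal' hsup hle
    apply hvS
    rw [← heq]
    exact (le_sup_right : Subgroup.zpowers (v : G) ≤ _) (Subgroup.mem_zpowers _)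
  -- `S ≰ C(A0)`
  have hCA0M : centralizer (A0 : Set G) ≤ M := by
    rw [← h3.1]; exact Subgroup.centralizer_le_normalizer _
  have hA0Z : ¬ (S : Subgroup G) ≤ centralizer (A0 : Set G) := by
    intro h
    apply hSna S
    have := (hMr (S : Subgroup G) (h.trans hCA0M) hSp).1
    exact ⟨⟨fun x y => Subtype.ext (this x x.2 y y.2)⟩⟩
  obtain ⟨T, hTS, hST, hTV, hTc, hTp, hA0T, h5⟩ :=
    hexT S (hSna S) V hAS (fun B _ hB hAB => hmax B hB hAB) hA0Z hVN hcop
  -- P0-facts
  have hP0M : (S : Subgroup G) ⊓ centralizer (A0 : Set G) ≤ M := inf_le_right.trans hCA0M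
  have hP0p : IsPGroup r ((S : Subgroup G) ⊓ centralizer (A0 : Set G) : Subgroup G) :=
    hSp.to_inf_left
  have hAP0 : A ≤ (S : Subgroup G) ⊓ centralizer (A0 : Set G) := by
    refine le_inf hAS ?_
    intro a ha
    rw [mem_centralizer_iff]
    intro b hb
    exact hAab b (hA0A hb) a ha
  obtain ⟨hP0c, hP0o⟩ := hMr _ hP0M hP0p
  -- `A ⊓ C(X) ≤ A0`
  have hAX : A ⊓ centralizer (X : Set G) ≤ A0 := by
    have hle : A0 ≤ A ⊓ centralizer (X : Set G) := by
      refine le_inf hA0A ?_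
      rw [Subgroup.le_centralizer_iff]
      exact hXA0
    have hd : Nat.card (A ⊓ centralizer (X : Set G) : Subgroup G) ∣ r ^ 2 :=
      hAc ▸ Subgroup.card_dvd_of_le inf_le_left
    obtain ⟨k, hk, hkc⟩ := (Nat.dvd_prime_pow hrp).mp hd
    interval_cases k
    · exfalso
      have h1 := Subgroup.card_dvd_of_le hle
      rw [hA0c, hkc, pow_zero] at h1
      exact hrp.one_lt.ne' (Nat.dvd_one.mp h1)
    · have : A0 = A ⊓ centralizer (X : Set G) :=
        Subgroup.eq_of_le_of_card_ge hle (by rw [hkc, hA0c, pow_one])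
      rw [this]
    · exfalso
      apply hXA
      have : A ⊓ centralizer (X : Set G) = A :=
        Subgroup.eq_of_le_of_card_ge inf_le_left (by rw [hkc, hAc])
      rw [Subgroup.le_centralizer_iff, ← this]
      exact inf_le_right
  -- `N(A0) ≤ C(A0)`
  have hN : ∀ v ∈ V, v ∈ normalizer (A0 : Set G) → v ∈ centralizer (A0 : Set G) := by
    intro v _ hvN
    exact h3.2 (h3.1 ▸ hvN)
  exact Cfsg.Agent.Helper64.BG142End.configA_endgame r (S : Subgroup G) V X A A0 T hSp hVN hcop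
    hSV hXV hAS hA0A hA0c hXA0 hAX hP0c (fun x hx hxr => hP0o hAP0 x hx hxr) hN hTS hST hTV hTc
    hTp hA0T h5

end Cfsg.Agent.Helper71.BG142L4
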