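import Mathlib
import Cfsg.Prelude.Def_OddOrder
import Cfsg.Prelude.Def_OddOrderLocal
import Cfsg.Agent.Lib.Helper45.CNMax
import Cfsg.Agent.Lib.Helper82.BG1215a
import Cfsg.Agent.Lib.Helper25.BGTypeIIB2
import Cfsg.Agent.Lib.Helper25.BGTypeIIAux
import Cfsg.Agent.Lib.Helper68.BGTypeIIB1
import Cfsg.Agent.Lib.Helper23.FittingHall
import Cfsg.Agent.Lib.Helper55.BGDecomp
import Cfsg.Agent.Lib.Helper55.BGFit

/-!
# B-G Theorem II: maximal subgroups of Type III / IV, the direction `(⇒)` of S1382 (helper71)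

Row-free (the rows S1350, S1355, S1381 enter as explicit hypotheses).

* `normalizer_compl_le`: two complements `U'`, `V` of a normal Hall subgroup `F` of a solvable
  `D ≤ M`: `N_G(U') ≤ M → N_G(V) ≤ M`.
* `forward`: `M` of Type III or IV with a `σ`-decomposition `(K, U)`: `K ≠ 1`, `U = 1`, `M_F ≠ M_σ`.
-/

set_option autoImplicit false

namespace Cfsg.Agent.Helper71.BGType34

open Cfsg
open scoped Pointwise

/-- Two complements `U'`, `V` of the normal Hall subgroup `F` of the solvable group `D ≤ M`: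
if `N_G(U') ≤ M` then `N_G(V) ≤ M`. -/
theorem normalizer_compl_le {G : Type*} [Group G] [Finite G] {M D F U' V : Subgroup G}
    (hsolv : Group.IsSolvable ↥D) (hDM : D ≤ M)
    (hFn : D ≤ Subgroup.normalizer (F : Set G))
    (hcop : (Nat.card F).Coprime (F.relIndex D))
    (hU' : Cfsg.IsComplIn F U' D) (hV : Cfsg.IsComplIn F V D)
    (hN : Subgroup.normalizer (U' : Set G) ≤ M) : Subgroup.normalizer (V : Set G) ≤ M := by
  have hc1 : Nat.card D = Nat.card F * Nat.card U' := Cfsg.Agent.Helper23.card_of_isComplIn hU'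
  have hc2 : Nat.card D = Nat.card F * Nat.card V := Cfsg.Agent.Helper23.card_of_isComplIn hV
  have hFpos : 0 < Nat.card F := Nat.card_pos
  have hcardUV : Nat.card V = Nat.card U' :=
    Nat.eq_of_mul_eq_mul_left hFpos (hc2.symm.trans hc1)
  have hrel : F.relIndex D = Nat.card V := by
    have h1 := Subgroup.relIndex_mul_relIndex ⊥ F D bot_le hV.1
    rw [Subgroup.relIndex_bot_left, Subgroup.relIndex_bot_left, hc2] at h1
    exact Nat.eq_of_mul_eq_mul_left hFpos h1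
  have hY : (Nat.card V).Coprime (Nat.card F) := by
    rw [← hrel]; exact hcop.symm
  have hdec : ∀ k ∈ D, ∃ b ∈ F, ∃ c ∈ U', k = b * c := hU'.2.2.2
  obtain ⟨k, hkD, hle⟩ := Cfsg.Agent.Helper82.BG1215.exists_conj_le_of_dec hsolv hU'.1 hFn
    hU'.2.1 hdec hcop hV.2.1 hY
  have heq : MulAut.conj k • V = U' := by
    apply Subgroup.eq_of_le_of_card_ge hle
    rw [← Nat.card_congr (Subgroup.equivSMul (MulAut.conj k) V).toEquiv, hcardUV]
  -- membership in `U'`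
  have hmem : ∀ y : G, y ∈ U' ↔ k⁻¹ * y * k ∈ V := by
    intro y
    rw [← heq, Subgroup.mem_pointwise_smul_iff_inv_smul_mem]
    simp [MulAut.smul_def]
  intro x hx
  rw [Subgroup.mem_normalizer_iff] at hx
  have hkx : k * x * k⁻¹ ∈ Subgroup.normalizer (U' : Set G) := by
    rw [Subgroup.mem_normalizer_iff]
    intro y
    rw [hmem y, hmem (k * x * k⁻¹ * y * (k * x * k⁻¹)⁻¹), hx (k⁻¹ * y * k)]
    have e : k⁻¹ * (k * x * k⁻¹ * y * (k * x * k⁻¹)⁻¹) * k = x * (k⁻¹ * y * k) * x⁻¹ := by group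
    rw [e]
  have hkM : k ∈ M := hDM hkD
  have h1 : k * x * k⁻¹ ∈ M := hN hkx
  have e : x = k⁻¹ * (k * x * k⁻¹) * k := by group
  rw [e]
  exact M.mul_mem (M.mul_mem (M.inv_mem hkM) h1) hkM

/-- The common part of the Type III / Type IV data. -/
theorem exists_data {G : Type*} [Group G] {M : Subgroup G}
    (h : Cfsg.IsOfTypeIII M ∨ Cfsg.IsOfTypeIV M) :
    ∃ W₁ U' W₂ : Subgroup G, Cfsg.IsTypePWith M W₁ U' W₂ ∧ U' ≠ ⊥ ∧ (Nat.card W₁).Prime ∧
      Cfsg.IsTISubset (Cfsg.fittingOf M : Set G) ∧ Subgroup.normalizer (U' : Set G) ≤ M := by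
  rcases h with ⟨W₁, U', W₂, hP, hU'1, hprime, hTI, -, hN⟩ | ⟨W₁, U', W₂, hP, hU'1, hprime, hTI, -, hN⟩
  · exact ⟨W₁, U', W₂, hP, hU'1, hprime, hTI, hN⟩
  · exact ⟨W₁, U', W₂, hP, hU'1, hprime, hTI, hN⟩

/-- **S1382 `(⇒)`** with the rows S1350, S1355, S1381 as hypotheses. -/
theorem forward {G : Type*} [Group G] [Finite G] (hG : Cfsg.IsMinSimpleOddOrder G)
    {M K U : Subgroup G} (hM : IsCoatom M) (hKU : Cfsg.IsSigmaDecomposition M K U)
    (h : Cfsg.IsOfTypeIII M ∨ Cfsg.IsOfTypeIV M)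
    (h50 : Cfsg.IsPiHallOf (Cfsg.sigma M) (Cfsg.sigmaCore M) M)
    (h55b : Cfsg.fittingHallOf M ≤ Cfsg.sigmaCore M) (h55c : Cfsg.sigmaCore M ≤ ⁅M, M⁆)
    (h81 : K ≠ ⊥ ∧ U ≠ ⊥ → Cfsg.IsOfTypeII M) :
    K ≠ ⊥ ∧ U = ⊥ ∧ Cfsg.fittingHallOf M ≠ Cfsg.sigmaCore M := by
  obtain ⟨W₁, U', W₂, hP, hU'1, hprime, -, hN⟩ := exists_data h
  -- `K ≠ 1`
  have hK1 : K ≠ ⊥ := by
    have hκ : Nat.card W₁ ∈ Cfsg.kappa M :=
      Cfsg.Agent.Helper68.BGTypeII.card_mem_kappa_of_typeP hP hprime h50 h55c h55b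
    intro hK0
    have hdvd : Nat.card W₁ ∣ Nat.card M := hκ.2.1
    have hrel : Nat.card K * K.relIndex M = Nat.card M :=
      Cfsg.Agent.Helper55.BGB.card_mul_relIndex hKU.hall.1
    rw [hK0, Subgroup.card_bot, one_mul] at hrel
    rw [← hrel] at hdvd
    exact hKU.hall.2.2 _ hprime hκ (hK0 ▸ hdvd)
  have hDM : ⁅M, M⁆ ≤ M := hP.W₁_compl.1
  -- `U = 1`
  have hU : U = ⊥ := by
    by_contra hU
    obtain ⟨V₁, V, V₂, hQ, -, -, -, -, hNV, -, -⟩ := h81 ⟨hK1, hU⟩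
    apply hNV
    have hMsolv : Group.IsSolvable ↥M := hG.2.2.2 M hM.1
    have hsolv : Group.IsSolvable ↥(⁅M, M⁆ : Subgroup G) := by
      have : Group.IsSolvable ↥M := hMsolv
      exact Group.isSolvable_of_isSolvable_injective (Subgroup.inclusion_injective hDM)
    have hFn : (⁅M, M⁆ : Subgroup G) ≤ Subgroup.normalizer (Cfsg.fittingHallOf M : Set G) :=
      hDM.trans (Cfsg.Agent.Helper45.CNMax.le_normalizer_fittingHallOf M)
    have hcop : (Nat.card (Cfsg.fittingHallOf M)).Coprime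
        ((Cfsg.fittingHallOf M).relIndex ⁅M, M⁆) := by
      have h1 := Cfsg.Agent.Helper25.BGTypeII.coprime_card_relIndex_fittingHallOf M
      have h2 := Subgroup.relIndex_mul_relIndex (Cfsg.fittingHallOf M) ⁅M, M⁆ M hP.U_compl.1 hDM
      rw [← h2] at h1
      exact Nat.Coprime.coprime_mul_right_right h1
    exact normalizer_compl_le hsolv hDM hFn hcop hP.U_compl hQ.U_compl hN
  refine ⟨hK1, hU, ?_⟩
  -- `M_F ≠ M_σ`
  intro heq
  have hKM : K ≤ M := hKU.hall.1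
  have hSn : M ≤ Subgroup.normalizer ((Cfsg.sigmaCore M : Subgroup G) : Set G) :=
    Cfsg.Agent.Helper55.BGB.le_normalizer_sigmaCore M
  have hdec : ∀ m ∈ M, ∃ k ∈ K, ∃ s ∈ Cfsg.sigmaCore M, m = k * s := by
    intro m hm
    obtain ⟨a, ha, b, hb, hab⟩ := hKU.compl.2.2.2 m hm
    rw [hU, Subgroup.mem_bot] at ha
    rw [ha, one_mul] at hab
    have hb' : b ∈ ((K ⊔ Cfsg.sigmaCore M : Subgroup G) : Set G) := hb
    rw [Subgroup.coe_mul_of_left_le_normalizer_right K (Cfsg.sigmaCore M) (hKM.trans hSn),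
      Set.mem_mul] at hb'
    obtain ⟨k, hk, s, hs, e⟩ := hb'
    exact ⟨k, hk, s, hs, by rw [hab, e]⟩
  have hKcomm : ∀ a ∈ K, ∀ b ∈ K, a * b = b * a := by
    intro a ha b hb
    have := hKU.cyclic
    have := (IsCyclic.isMulCommutative (α := K)).is_comm.comm ⟨a, ha⟩ ⟨b, hb⟩
    exact congrArg Subtype.val this
  have hD : ⁅M, M⁆ ≤ Cfsg.sigmaCore M :=
    Cfsg.Agent.Helper25.BGTypeII.commutator_le_of_mul hdec hKcomm hKM hSn
  apply hU'1
  rw [eq_bot_iff]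
  have h1 : U' ≤ Cfsg.fittingHallOf M ⊓ U' := by
    apply le_inf _ le_rfl
    rw [heq]
    exact hP.U_compl.2.1.trans hD
  rw [hP.U_compl.2.2.1] at h1
  exact h1

end Cfsg.Agent.Helper71.BGType34
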