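import Mathlib
import Cfsg.Prelude.Def_OddOrder
import Cfsg.Prelude.Def_OddOrderLocal
import Cfsg.Agent.Lib.Helper52.CoprimeHall
import Cfsg.Agent.Lib.Helper52.CoprimeSylow
import Cfsg.Agent.Lib.Helper15.BGV.Sigma
import Cfsg.Agent.Lib.Helper25.BGTypeIIAux
import Cfsg.Agent.Lib.Helper55.BGDecomp2
import Cfsg.Agent.Lib.Helper55.BGFit

/-!
# B-G Theorem II, Types III / IV: the `K`-invariant complement `U'` of `M_F` in `M_σ` (helper71)

Row-free piece for the direction `(⇐)` of S1382: for a maximal subgroup `M` with `M_F < M_σ`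
(`M_σ` a Hall `σ(M)`-subgroup of `M`) and a subgroup `K ≤ M` of order prime to `|M_σ|`, there is a
`K`-invariant complement `U' ≠ 1` of `M_F` in `M_σ` with `N_G(U') ≤ M`.
-/

set_option autoImplicit false

namespace Cfsg.Agent.Helper71.BGType34

open Cfsg Subgroup

variable {G : Type*} [Group G] [Finite G]

/-- Frattini: if `R ≤ U'` has the order of a Sylow `r`-subgroup of `U'` and `N_G(R) ≤ M`,
`U' ≤ M`, then `N_G(U') ≤ M`. -/
theorem normalizer_le_of_sylow {M U' R : Subgroup G} {r : ℕ} [Fact r.Prime] (hU'M : U' ≤ M)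
    (hRU : R ≤ U') (hRc : Nat.card R = Cfsg.Agent.Helper52.sylCard r U')
    (hNR : normalizer (R : Set G) ≤ M) : normalizer (U' : Set G) ≤ M := by
  intro g hg
  have hgU : U'.map (MulAut.conj g).toMonoidHom = U' :=
    Cfsg.Agent.Helper52.map_conj_eq_of_mem_normalizer hg
  have h2 : R.map (MulAut.conj g).toMonoidHom ≤ U' := by
    rw [← hgU]; exact Subgroup.map_mono hRU
  have c2 : Nat.card (R.map (MulAut.conj g).toMonoidHom) = Cfsg.Agent.Helper52.sylCard r U' := by
    rw [← hRc]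
    exact (Nat.card_congr (R.equivMapOfInjective _ (MulAut.conj g).injective).toEquiv).symm
  obtain ⟨k, hk, hkR⟩ := Cfsg.Agent.Helper52.exists_conj_of_card r U' R
    (R.map (MulAut.conj g).toMonoidHom) hRU h2 hRc c2
  -- `k⁻¹ g` normalizes `R`
  have hsub : ∀ x ∈ R, (k⁻¹ * g) * x * (k⁻¹ * g)⁻¹ ∈ R := by
    intro x hx
    have h3 : g * x * g⁻¹ ∈ R.map (MulAut.conj g).toMonoidHom := ⟨x, hx, by simp⟩
    rw [hkR, Cfsg.Agent.Helper52.mem_map_conj] at h3
    have e : (k⁻¹ * g) * x * (k⁻¹ * g)⁻¹ = k⁻¹ * (g * x * g⁻¹) * k := by group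
    rw [e]; exact h3
  have hmap : R.map (MulAut.conj (k⁻¹ * g)).toMonoidHom = R := by
    apply Subgroup.eq_of_le_of_card_ge
    · rintro _ ⟨x, hx, rfl⟩
      have h5 := hsub x hx
      have e : (MulAut.conj (k⁻¹ * g)).toMonoidHom x = (k⁻¹ * g) * x * (k⁻¹ * g)⁻¹ := rfl
      rw [e]; exact h5
    · exact le_of_eq
        (Nat.card_congr (R.equivMapOfInjective _ (MulAut.conj (k⁻¹ * g)).injective).toEquiv)
  have hn : k⁻¹ * g ∈ normalizer (R : Set G) :=
    Subgroup.mem_normalizer_iff_map_conj_eq.mpr hmap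
  have h4 : k⁻¹ * g ∈ M := hNR hn
  have e : g = k * (k⁻¹ * g) := by group
  rw [e]
  exact M.mul_mem (hU'M hk) h4

/-- **The `K`-invariant complement of `M_F` in `M_σ`** (`M_F < M_σ`), with `N_G(U') ≤ M`. -/
theorem exists_invariant_compl (hG : Cfsg.IsMinSimpleOddOrder G) {M K : Subgroup G}
    (hM : IsCoatom M) (hKM : K ≤ M)
    (hcop : (Nat.card K).Coprime (Nat.card (Cfsg.sigmaCore M)))
    (h50 : Cfsg.IsPiHallOf (Cfsg.sigma M) (Cfsg.sigmaCore M) M)
    (h55b : Cfsg.fittingHallOf M ≤ Cfsg.sigmaCore M)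
    (hne : Cfsg.fittingHallOf M ≠ Cfsg.sigmaCore M) :
    ∃ U' : Subgroup G, Cfsg.IsComplIn (Cfsg.fittingHallOf M) U' (Cfsg.sigmaCore M) ∧
      K ≤ normalizer (U' : Set G) ∧ U' ≠ ⊥ ∧ normalizer (U' : Set G) ≤ M := by
  classical
  set F := Cfsg.fittingHallOf M with hF
  set S := Cfsg.sigmaCore M with hS
  have hSM : S ≤ M := h50.1
  have hSn : M ≤ normalizer (S : Set G) := Cfsg.Agent.Helper55.BGB.le_normalizer_sigmaCore M
  have hMsolv : Group.IsSolvable ↥M := hG.2.2.2 M hM.1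
  have hSsolv : Group.IsSolvable ↥S := by
    have : Group.IsSolvable ↥M := hMsolv
    exact Group.isSolvable_of_isSolvable_injective (Subgroup.inclusion_injective hSM)
  -- orders
  have hcard : Nat.card S = F.relIndex S * Nat.card F := by
    have h1 := Subgroup.relIndex_mul_relIndex ⊥ F S bot_le h55b
    rw [Subgroup.relIndex_bot_left, Subgroup.relIndex_bot_left] at h1
    rw [← h1, mul_comm]
  have hcopmn : (F.relIndex S).Coprime (Nat.card F) := by
    have h1 := Cfsg.Agent.Helper25.BGTypeII.coprime_card_relIndex_fittingHallOf M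
    have h2 := Subgroup.relIndex_mul_relIndex F S M h55b hSM
    rw [← h2] at h1
    exact (Nat.Coprime.coprime_mul_right_right h1).symm
  obtain ⟨Q, hQS, hQc, -, hKQ⟩ := Cfsg.Agent.Helper52.exists_invariant_hall_ge K S ⊥
    (hKM.trans hSn) hcop hSsolv (F.relIndex S) (Nat.card F) hcard hcopmn bot_le
    (by
      intro k _
      rw [Subgroup.mem_normalizer_iff]
      intro x
      simp [Subgroup.mem_bot])
    (by rw [Subgroup.card_bot]; exact Nat.coprime_one_left _)
  have hdisj : F ⊓ Q = ⊥ :=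
    (Subgroup.disjoint_of_coprime_natCard (by rw [hQc]; exact hcopmn.symm)).eq_bot
  have hcompl : Cfsg.IsComplIn F Q S :=
    Cfsg.Agent.Helper55.BGB.isComplIn_of_card h55b hQS hdisj (by rw [hQc, hcard, mul_comm])
  -- `Q ≠ 1`
  have hQ1 : Q ≠ ⊥ := by
    intro hQ
    apply hne
    apply Subgroup.eq_of_le_of_card_ge h55b
    rw [hQ, Subgroup.card_bot] at hQc
    rw [hcard, ← hQc, one_mul]
  refine ⟨Q, hcompl, hKQ, hQ1, ?_⟩
  -- a prime `r` dividing `|Q|`
  have hQcard1 : Nat.card Q ≠ 1 := fun h => hQ1 (Subgroup.card_eq_one.mp h)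
  obtain ⟨r, hr, hrQ⟩ := Nat.exists_prime_and_dvd hQcard1
  have : Fact r.Prime := ⟨hr⟩
  have hrS : r ∣ Nat.card S := hrQ.trans (Subgroup.card_dvd_of_le hQS)
  have hrσ : r ∈ Cfsg.sigma M := h50.2.1 r hr hrS
  -- a Sylow `r`-subgroup `R` of `Q`
  obtain R₀ : Sylow r Q := default
  set R : Subgroup G := (R₀ : Subgroup Q).map Q.subtype with hR
  have hRQ : R ≤ Q := Subgroup.map_subtype_le _
  have hRc : Nat.card R = Cfsg.Agent.Helper52.sylCard r Q :=
    Cfsg.Agent.Helper52.card_sylow_map r Q R₀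
  -- `sylCard r Q = sylCard r M`
  have hrF : ¬ r ∣ Nat.card F := by
    intro hd
    have h1 : r ∣ Nat.gcd (F.relIndex S) (Nat.card F) := Nat.dvd_gcd (hQc ▸ hrQ) hd
    rw [hcopmn.gcd_eq_one] at h1
    exact hr.one_lt.ne' (Nat.dvd_one.mp h1)
  have hrI : ¬ r ∣ S.relIndex M := h50.2.2 r hr hrσ
  have hcardM : Nat.card M = Nat.card S * S.relIndex M :=
    (Cfsg.Agent.Helper55.BGB.card_mul_relIndex hSM).symm
  have hsyl : Cfsg.Agent.Helper52.sylCard r Q = Cfsg.Agent.Helper52.sylCard r M := by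
    unfold Cfsg.Agent.Helper52.sylCard
    congr 1
    have hS0 : Nat.card S ≠ 0 := Nat.card_pos.ne'
    have hI0 : S.relIndex M ≠ 0 := by
      intro h0
      rw [h0, mul_zero] at hcardM
      exact (Nat.card_pos (α := M)).ne' hcardM
    have hF0 : Nat.card F ≠ 0 := Nat.card_pos.ne'
    have hQ0 : Nat.card Q ≠ 0 := Nat.card_pos.ne'
    rw [hcardM, Nat.factorization_mul hS0 hI0, Finsupp.add_apply,
      Nat.factorization_eq_zero_of_not_dvd hrI, add_zero, hcard, hQc.symm,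
      Nat.factorization_mul hQ0 hF0, Finsupp.add_apply,
      Nat.factorization_eq_zero_of_not_dvd hrF, add_zero]
  have hRM : R ≤ M := hRQ.trans (hQS.trans hSM)
  have hNR : normalizer (R : Set G) ≤ M :=
    Cfsg.Agent.Helper15.BGV.normalizer_le_of_mem_sigma hrσ hRM (hRc.trans hsyl)
  exact normalizer_le_of_sylow (hQS.trans hSM) hRQ hRc hNR

end Cfsg.Agent.Helper71.BGType34
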