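import Mathlib
import Cfsg.Agent.Lib.Helper32.C3Defs
import Cfsg.Agent.Lib.Helper9.C3M3Defs

/-!
# C3 (M3) sub-split (helper9, S4415): piece (G) `card_R`
-/

set_option autoImplicit false

namespace Cfsg.Agent.Helper71.C3M3

open Cfsg.Agent.Helper32.C3 Cfsg.Agent.Helper9.C3M3

universe u v

set_option maxRecDepth 100000 in
theorem h71_card_V4 : Fintype.card {σ : Equiv.Perm (Fin 4) // InV4 σ} = 4 := by decide

section Perm

variable {G : Type u} [Group G] [Finite G] (R : Subgroup G) (b : G)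
  (π : G →* Equiv.Perm (Fin 4))

/-- (G) [M] `|R| = 4 |D|`.  `φ = π.comp R.subtype`; `φ.range` is in bijection with `{σ // InV4 σ}`
(card 4 by `decide`); `φ.ker` is in bijection with `↥(R ⊓ π.ker)`;
`Subgroup.card_eq_card_quotient_mul_card_subgroup` + `QuotientGroup.quotientKerEquivRange`. -/
theorem card_R (hV4 : ∀ r ∈ R, InV4 (π r))
    (hsurj : ∀ σ : Equiv.Perm (Fin 4), InV4 σ → ∃ r ∈ R, π r = σ) :
    Nat.card ↥R = 4 * Nat.card ↥(R ⊓ π.ker) := by
  classical
  have h1 := Subgroup.card_eq_card_quotient_mul_card_subgroup (π.comp R.subtype).ker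
  have h2 : Nat.card (↥R ⧸ (π.comp R.subtype).ker) = 4 := by
    rw [Nat.card_congr (QuotientGroup.quotientKerEquivRange (π.comp R.subtype)).toEquiv]
    have hmem : ∀ σ : Equiv.Perm (Fin 4), σ ∈ (π.comp R.subtype).range ↔ InV4 σ := by
      intro σ
      constructor
      · rintro ⟨r, rfl⟩
        exact hV4 r.1 r.2
      · intro hσ
        obtain ⟨r, hr, hrσ⟩ := hsurj σ hσ
        exact ⟨⟨r, hr⟩, hrσ⟩
    rw [Nat.card_congr (Equiv.subtypeEquivRight hmem), Nat.card_eq_fintype_card]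
    exact h71_card_V4
  have h3 : Nat.card ↥(π.comp R.subtype).ker = Nat.card ↥(R ⊓ π.ker) := by
    apply Nat.card_congr
    refine
      { toFun := fun x => ⟨x.1.1, Subgroup.mem_inf.2 ⟨x.1.2, x.2⟩⟩
        invFun := fun y => ⟨⟨y.1, (Subgroup.mem_inf.1 y.2).1⟩, (Subgroup.mem_inf.1 y.2).2⟩
        left_inv := fun x => rfl
        right_inv := fun y => rfl }
  rw [h1, h2, h3]

end Perm

end Cfsg.Agent.Helper71.C3M3
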