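import Mathlib
import Cfsg.Agent.Lib.Helper32.C3Defs
import Cfsg.Agent.Lib.Helper9.C3M3Defs

/-!
# C3 (M3) sub-split (helper9, S4415): piece (K1) `sq_comm_facts`
-/

set_option autoImplicit false

namespace Cfsg.Agent.Helper71.C3M3

open Cfsg.Agent.Helper32.C3 Cfsg.Agent.Helper9.C3M3

universe u v

set_option maxRecDepth 100000 in
theorem h71_unit_sq : ∀ u : (ZMod 3)ˣ, u * u = 1 := by decide

set_option maxRecDepth 100000 in
theorem h71_v4_comm : ∀ τ τ' : Equiv.Perm (Fin 4), InV4 τ → InV4 τ' → τ * τ' = τ' * τ := by decide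

set_option maxRecDepth 100000 in
theorem h71_sq_const : ∀ τ : Equiv.Perm (Fin 4), InV4 τ → ∀ ε : Fin 4 → (ZMod 3)ˣ, ∏ i, ε i = 1 →
    (∀ i, ε i * ε (τ i) = 1) ∨ (∀ i, ε i * ε (τ i) = -1) := by decide

/-- `ε (τ i) = ε i * c` from `ε i * ε (τ i) = c` -/
theorem h71_shift (ε : Fin 4 → (ZMod 3)ˣ) (τ : Equiv.Perm (Fin 4)) (c : (ZMod 3)ˣ)
    (h : ∀ i, ε i * ε (τ i) = c) (i : Fin 4) : ε (τ i) = ε i * c := by
  rw [← h i, ← mul_assoc, h71_unit_sq, one_mul]

section Mono2

variable {G : Type u} [Group G] [Finite G] {V : Type v} [AddCommGroup V] [Module (ZMod 3) V]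
  [Finite V] (ρ : Representation (ZMod 3) G V) (R Q : Subgroup G) (b : G)
  (e : Module.Basis (Fin 4) (ZMod 3) V) (π : G →* Equiv.Perm (Fin 4))
  (s : G → Fin 4 → (ZMod 3)ˣ)

/-- (K1) [M] squares and commutators.  `decide` lemmas over `ε ε' : Fin 4 → (ZMod 3)ˣ` (product one) and
`τ τ'` in `V_4`: `i ↦ ε i * ε (τ i)` is constant; `i ↦ ε' i * ε (τ' i) * (ε i * ε' (τ i))` is constant; `τ τ' = τ' τ`.
Then compare `Φ` of both sides (`hinj`, `hsm`; `s (z * x) i = s x i * s z (π x i) = - s x i`). -/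
theorem sq_comm_facts (hsm : ∀ g h i, s (g * h) i = s h i * s g (π h i)) (hs1 : ∀ i, s 1 i = 1)
    (hinj : ∀ g h : G, π g = π h → (∀ i, s g i = s h i) → g = h)
    (hV4 : ∀ r ∈ R, InV4 (π r)) (hprod : ∀ r ∈ R, ∏ i, s r i = 1)
    (z : G) (hzπ : π z = 1) (hzs : ∀ i, s z i = -1) :
    (∀ r ∈ R, r * r = 1 ∨ r * r = z) ∧ ∀ r ∈ R, ∀ r' ∈ R, r * r' = r' * r ∨ r * r' = z * (r' * r) := by
  constructor
  · intro r hr
    have hπ : π (r * r) = 1 := by rw [map_mul]; exact (hV4 r hr).1
    rcases h71_sq_const (π r) (hV4 r hr) (s r) (hprod r hr) with h | h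
    · left
      apply hinj
      · rw [hπ, map_one]
      · intro i
        rw [hsm, hs1]
        exact h i
    · right
      apply hinj
      · rw [hπ, hzπ]
      · intro i
        rw [hsm, hzs]
        exact h i
  · intro r hr r' hr'
    have hcomm : π r * π r' = π r' * π r := h71_v4_comm _ _ (hV4 r hr) (hV4 r' hr')
    -- the two constants
    have key : ∀ c1 c2 : (ZMod 3)ˣ, (∀ i, s r i * s r (π r' i) = c1) →
        (∀ i, s r' i * s r' (π r i) = c2) →
        ∀ i, s (r * r') i = s (r' * r) i * (c1 * c2) := by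
      intro c1 c2 h1 h2 i
      rw [hsm, hsm, h71_shift (s r) (π r') c1 h1 i, h71_shift (s r') (π r) c2 h2 i]
      have hc2 : c2 * c2 = 1 := h71_unit_sq c2
      calc s r' i * (s r i * c1) = s r i * (s r' i * (c2 * c2)) * c1 := by
            rw [hc2, mul_one]; ac_rfl
        _ = s r i * (s r' i * c2) * (c1 * c2) := by ac_rfl
    have hsame : (∀ i, s (r * r') i = s (r' * r) i) → r * r' = r' * r := by
      intro h
      apply hinj
      · rw [map_mul, map_mul, hcomm]
      · exact h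
    have hneg : (∀ i, s (r * r') i = s (r' * r) i * (-1)) → r * r' = z * (r' * r) := by
      intro h
      apply hinj
      · rw [map_mul, map_mul, map_mul, hzπ, one_mul, hcomm]
      · intro i
        rw [hsm z (r' * r) i, hzs]
        exact h i
    rcases h71_sq_const (π r') (hV4 r' hr') (s r) (hprod r hr) with h1 | h1 <;>
      rcases h71_sq_const (π r) (hV4 r hr) (s r') (hprod r' hr') with h2 | h2
    · left
      apply hsame
      intro i
      rw [key 1 1 h1 h2 i, mul_one, mul_one]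
    · right
      apply hneg
      intro i
      rw [key 1 (-1) h1 h2 i, one_mul]
    · right
      apply hneg
      intro i
      rw [key (-1) 1 h1 h2 i, mul_one]
    · left
      apply hsame
      intro i
      rw [key (-1) (-1) h1 h2 i, neg_mul_neg, mul_one, mul_one]

end Mono2

end Cfsg.Agent.Helper71.C3M3
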