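import Mathlib

/-!
# The faithful irreducible `F₂`-module of `3² : D₈`

Core computation for S4407: given a representation `ρ` of a group `S` over `ZMod 2`, an element
`a₁` of order dividing `3` in an abelian normal subgroup `A` inverted by `z = r ^ 2`, and dihedral
generators `t`, `r` with `t` centralizing `a₁`, if `ρ` is irreducible (tested on `a₁, t, r`),
`ρ a₁ ≠ 1` and `a₁` has a nonzero fixed vector, then `M` has `16` elements, `⟨t, z⟩` fixes at least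
three vectors, and `⟨t * r, z⟩` fixes exactly two.
-/

set_option autoImplicit false

namespace Cfsg.Agent.Helper71.D8Mod

section
variable {S : Type*} [Group S] {M : Type*} [AddCommGroup M] [Module (ZMod 2) M]
variable (ρ : Representation (ZMod 2) S M)

theorem act_mul (s s' : S) (m : M) : ρ (s * s') m = ρ s (ρ s' m) := by
  rw [map_mul]; rfl

theorem act_one (m : M) : ρ 1 m = m := by rw [map_one]; rfl

theorem act_inv_act (s : S) (m : M) : ρ s⁻¹ (ρ s m) = m := by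
  rw [← act_mul, inv_mul_cancel, act_one]

theorem act_act_inv (s : S) (m : M) : ρ s (ρ s⁻¹ m) = m := by
  rw [← act_mul, mul_inv_cancel, act_one]

theorem act_injective (s : S) : Function.Injective (ρ s) := by
  intro x y h
  have := congrArg (ρ s⁻¹) h
  rwa [act_inv_act, act_inv_act] at this

theorem act_eq_zero_iff (s : S) (m : M) : ρ s m = 0 ↔ m = 0 := by
  constructor
  · intro h
    apply act_injective ρ s
    rw [h, map_zero]
  · rintro rfl; exact map_zero _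

end

section
variable {S : Type*} [Group S] {M : Type*} [AddCommGroup M] [Module (ZMod 2) M]
variable (ρ : Representation (ZMod 2) S M)

theorem fix_inv {s : S} {m : M} (h : ρ s m = m) : ρ s⁻¹ m = m := by
  conv_lhs => rw [← h]
  exact act_inv_act ρ s m

/-- The fixed-point submodule of `s`. -/
def fixSub (s : S) : Submodule (ZMod 2) M := LinearMap.eqLocus (ρ s) LinearMap.id

@[simp] theorem mem_fixSub (s : S) (m : M) : m ∈ fixSub ρ s ↔ ρ s m = m := by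
  simp [fixSub, LinearMap.mem_eqLocus]

/-- Averaging over an involution inside an invariant submodule. -/
theorem exists_fixed_of_involution (s : S) (hs : s * s = 1) (N : Submodule (ZMod 2) M)
    (hN : ∀ m ∈ N, ρ s m ∈ N) (x : M) (hx : x ∈ N) (hx0 : x ≠ 0) :
    ∃ y ∈ N, y ≠ 0 ∧ ρ s y = y := by
  by_cases h : ρ s x = x
  · exact ⟨x, hx, hx0, h⟩
  · refine ⟨x + ρ s x, N.add_mem hx (hN x hx), ?_, ?_⟩
    · intro h0
      apply h
      have : ρ s x = -x := by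
        rw [eq_neg_iff_add_eq_zero, add_comm]; exact h0
      rw [this, ZModModule.neg_eq_self]
    · rw [map_add, ← act_mul, hs, act_one, add_comm]

end

/-- The group-theoretic relations used in the module computation. -/
theorem rels {S : Type*} [Group S] (A : Subgroup S) [A.Normal]
    (hAc : ∀ x ∈ A, ∀ y ∈ A, x * y = y * x)
    (t r : S) (hr4 : r ^ 4 = 1) (htr : t * r * t⁻¹ = r⁻¹)
    (hz : ∀ a ∈ A, r ^ 2 * a * (r ^ 2)⁻¹ = a⁻¹)
    (a₁ : S) (ha₁ : a₁ ∈ A) (hta : t * a₁ = a₁ * t) :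
    (a₁ * (r * a₁ * r⁻¹) = (r * a₁ * r⁻¹) * a₁) ∧
    (a₁ * r = r * (r * a₁ * r⁻¹)⁻¹) ∧
    (t * (r * a₁ * r⁻¹) = (r * a₁ * r⁻¹)⁻¹ * t) ∧
    (t * r = r⁻¹ * t) ∧
    (r ^ 2 * (r * a₁ * r⁻¹) = (r * a₁ * r⁻¹)⁻¹ * r ^ 2) ∧
    (r ^ 2 * t = t * r ^ 2) ∧
    (r⁻¹ = r * r ^ 2) := by
  have ha₂ : r * a₁ * r⁻¹ ∈ A := Subgroup.Normal.conj_mem inferInstance a₁ ha₁ r
  have I4 : t * r = r⁻¹ * t := by
    rw [← htr]; group
  have I5 : r⁻¹ = r * r ^ 2 := by
    have : r * r ^ 2 * r = 1 := by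
      rw [← hr4]; group
    exact (eq_inv_of_mul_eq_one_left this).symm
  have hzz : (r ^ 2)⁻¹ = r ^ 2 := by
    have : r ^ 2 * r ^ 2 = 1 := by rw [← hr4]; group
    exact (eq_inv_of_mul_eq_one_left this).symm
  have I2 : a₁ * r = r * (r * a₁ * r⁻¹)⁻¹ := by
    have h1 := hz a₁⁻¹ (A.inv_mem ha₁)
    rw [inv_inv] at h1
    -- r^2 * a₁⁻¹ * (r^2)⁻¹ = a₁
    calc a₁ * r = (r ^ 2 * a₁⁻¹ * (r ^ 2)⁻¹) * r := by rw [h1]
      _ = r * (r * a₁ * r⁻¹)⁻¹ := by rw [pow_two]; group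
  have I3 : t * (r * a₁ * r⁻¹) = (r * a₁ * r⁻¹)⁻¹ * t := by
    have h2 : r⁻¹ * a₁ * r = (r * a₁ * r⁻¹)⁻¹ := by
      have := congrArg (fun x => r⁻¹ * x) I2
      rw [← mul_assoc, ← mul_assoc, inv_mul_cancel, one_mul] at this
      exact this
    have h3 : t * r⁻¹ = r * t := by
      calc t * r⁻¹ = r * (r⁻¹ * t) * r⁻¹ := by group
        _ = r * (t * r) * r⁻¹ := by rw [I4]
        _ = r * t := by group
    calc t * (r * a₁ * r⁻¹) = (t * r) * a₁ * r⁻¹ := by group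
      _ = r⁻¹ * (t * a₁) * r⁻¹ := by rw [I4]; group
      _ = r⁻¹ * a₁ * (t * r⁻¹) := by rw [hta]; group
      _ = (r⁻¹ * a₁ * r) * t := by rw [h3]; group
      _ = (r * a₁ * r⁻¹)⁻¹ * t := by rw [h2]
  have I6 : r ^ 2 * (r * a₁ * r⁻¹) = (r * a₁ * r⁻¹)⁻¹ * r ^ 2 := by
    have := hz _ ha₂
    exact mul_inv_eq_iff_eq_mul.mp this
  have I8 : r ^ 2 * t = t * r ^ 2 := by
    calc r ^ 2 * t = (r ^ 2)⁻¹ * t := by rw [hzz]
      _ = r⁻¹ * (r⁻¹ * t) := by group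
      _ = r⁻¹ * (t * r) := by rw [I4]
      _ = (r⁻¹ * t) * r := by group
      _ = t * r * r := by rw [I4]
      _ = t * r ^ 2 := by rw [pow_two, mul_assoc]
  exact ⟨hAc _ ha₁ _ ha₂, I2, I3, I4, I6, I8, I5⟩

/-- Core module computation. -/
theorem core {S : Type*} [Group S] {M : Type*} [AddCommGroup M] [Module (ZMod 2) M]
    (ρ : Representation (ZMod 2) S M)
    (a₁ a₂ t r z : S)
    (ha3' : a₂ ^ 3 = 1) (ht2 : t ^ 2 = 1) (hzr : z = r * r)
    (I1 : a₁ * a₂ = a₂ * a₁)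
    (I2 : a₁ * r = r * a₂⁻¹)
    (Ir : r * a₁ = a₂ * r)
    (I3 : t * a₂ = a₂⁻¹ * t)
    (I4 : t * r = r⁻¹ * t)
    (I5 : r⁻¹ = r * z)
    (I6 : z * a₂ = a₂⁻¹ * z)
    (I8 : z * t = t * z)
    (hta : t * a₁ = a₁ * t)
    (hza : z * a₁ = a₁⁻¹ * z)
    (hirr : ∀ N : Submodule (ZMod 2) M, (∀ m ∈ N, ρ a₁ m ∈ N) → (∀ m ∈ N, ρ t m ∈ N) →
      (∀ m ∈ N, ρ r m ∈ N) → N = ⊥ ∨ N = ⊤)
    (hfa : ∃ m : M, ρ a₁ m ≠ m)
    (hM1 : ∃ m : M, m ≠ 0 ∧ ρ a₁ m = m) :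
    Nat.card M = 16 ∧
    (∃ x y : M, x ≠ 0 ∧ y ≠ 0 ∧ x ≠ y ∧ ρ t x = x ∧ ρ z x = x ∧ ρ t y = y ∧ ρ z y = y) ∧
    (∃ w : M, w ≠ 0 ∧ ρ z w = w ∧ ρ (t * r) w = w ∧
      ∀ x, ρ z x = x → ρ (t * r) x = x → x = 0 ∨ x = w) := by
  have hzz : z * z = 1 := by
    calc z * z = r * (r * z) := by rw [hzr]; group
      _ = 1 := by rw [← I5, mul_inv_cancel]
  have htt : t * t = 1 := by rw [← pow_two, ht2]
  have ha2inv : a₂⁻¹ = a₂ * a₂ := by
    have : a₂ * a₂ * a₂ = 1 := by rw [← ha3', pow_succ, pow_two]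
    exact (eq_inv_of_mul_eq_one_left this).symm
  have hzr' : z * r = r * z := by rw [hzr]; group
  -- operator relations
  have O1 : ∀ x, ρ a₁ (ρ a₂ x) = ρ a₂ (ρ a₁ x) := fun x => by
    rw [← act_mul, ← act_mul, I1]
  have O2 : ∀ x, ρ a₁ (ρ r x) = ρ r (ρ a₂⁻¹ x) := fun x => by
    rw [← act_mul, ← act_mul, I2]
  have O2' : ∀ x, ρ a₂ (ρ r x) = ρ r (ρ a₁ x) := fun x => by
    rw [← act_mul, ← act_mul, Ir]
  have O3 : ∀ x, ρ t (ρ a₂ x) = ρ a₂⁻¹ (ρ t x) := fun x => by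
    rw [← act_mul, ← act_mul, I3]
  have O3' : ∀ x, ρ a₂ (ρ t x) = ρ t (ρ a₂⁻¹ x) := fun x => by
    rw [← act_mul, ← act_mul]
    congr 2
    calc a₂ * t = a₂ * (a₂⁻¹ * t) * a₂⁻¹ := by rw [← I3]; group
      _ = t * a₂⁻¹ := by group
  have O4 : ∀ x, ρ t (ρ r x) = ρ r (ρ z (ρ t x)) := fun x => by
    rw [← act_mul, ← act_mul, ← act_mul, I4, I5]
  have O6 : ∀ x, ρ z (ρ a₂ x) = ρ a₂⁻¹ (ρ z x) := fun x => by
    rw [← act_mul, ← act_mul, I6]
  have O7 : ∀ x, ρ z (ρ r x) = ρ r (ρ z x) := fun x => by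
    rw [← act_mul, ← act_mul, hzr']
  have O8 : ∀ x, ρ z (ρ t x) = ρ t (ρ z x) := fun x => by
    rw [← act_mul, ← act_mul, I8]
  have O9 : ∀ x, ρ a₂⁻¹ x = ρ a₂ (ρ a₂ x) := fun x => by
    rw [← act_mul, ha2inv]
  have O10 : ∀ x, ρ r (ρ r x) = ρ z x := fun x => by
    rw [← act_mul, hzr]
  have O11 : ∀ x, ρ a₁ (ρ t x) = ρ t (ρ a₁ x) := fun x => by
    rw [← act_mul, ← act_mul, hta]
  have O12 : ∀ x, ρ a₁ (ρ z x) = ρ z (ρ a₁⁻¹ x) := fun x => by
    rw [← act_mul, ← act_mul]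
    congr 2
    calc a₁ * z = a₁ * (a₁⁻¹ * z) * a₁⁻¹ := by rw [← hza]; group
      _ = z * a₁⁻¹ := by group
  -- D0 : common fixed points of a₁ and a₂ vanish
  have D0 : ∀ m : M, ρ a₁ m = m → ρ a₂ m = m → m = 0 := by
    have key := hirr (fixSub ρ a₁ ⊓ fixSub ρ a₂)
      (by
        intro m hm
        simp only [Submodule.mem_inf, mem_fixSub] at hm ⊢
        rw [hm.1]; exact hm)
      (by
        intro m hm
        simp only [Submodule.mem_inf, mem_fixSub] at hm ⊢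
        exact ⟨by rw [O11, hm.1], by rw [O3', fix_inv ρ hm.2]⟩)
      (by
        intro m hm
        simp only [Submodule.mem_inf, mem_fixSub] at hm ⊢
        exact ⟨by rw [O2, fix_inv ρ hm.2], by rw [O2', hm.1]⟩)
    rcases key with h | h
    · intro m h1 h2
      have : m ∈ fixSub ρ a₁ ⊓ fixSub ρ a₂ := by
        simp [h1, h2]
      rw [h] at this
      simpa using this
    · exfalso
      obtain ⟨m, hm⟩ := hfa
      have : m ∈ fixSub ρ a₁ ⊓ fixSub ρ a₂ := by rw [h]; trivial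
      simp only [Submodule.mem_inf, mem_fixSub] at this
      exact hm this.1
  -- a nonzero vector fixed by a₁, t, z
  obtain ⟨m, hm0, F1, F2, F3⟩ : ∃ m : M, m ≠ 0 ∧ ρ a₁ m = m ∧ ρ t m = m ∧ ρ z m = m := by
    obtain ⟨m₀, hm₀, hf₀⟩ := hM1
    obtain ⟨m₁, hm₁N, hm₁, hf₁⟩ := exists_fixed_of_involution ρ t htt (fixSub ρ a₁)
      (by intro x hx; simp only [mem_fixSub] at hx ⊢; rw [O11, hx]) m₀ (by simpa using hf₀) hm₀
    obtain ⟨m₂, hm₂N, hm₂, hf₂⟩ := exists_fixed_of_involution ρ z hzz (fixSub ρ a₁ ⊓ fixSub ρ t)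
      (by
        intro x hx
        simp only [Submodule.mem_inf, mem_fixSub] at hx ⊢
        exact ⟨by rw [O12, fix_inv ρ hx.1], by rw [← O8, hx.2]⟩) m₁
      (by simp only [Submodule.mem_inf, mem_fixSub] at hm₁N ⊢; exact ⟨by simpa using hm₁N, hf₁⟩) hm₁
    simp only [Submodule.mem_inf, mem_fixSub] at hm₂N
    exact ⟨m₂, hm₂, hm₂N.1, hm₂N.2, hf₂⟩
  -- E2
  have E2 : ρ a₂ (ρ a₂ m) = m + ρ a₂ m := by
    have hy : m + ρ a₂ m + ρ a₂ (ρ a₂ m) = 0 := by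
      apply D0
      · rw [map_add, map_add, O1, O1, O1, F1]
      · rw [map_add, map_add]
        have : ρ a₂ (ρ a₂ (ρ a₂ m)) = m := by
          rw [← act_mul, ← act_mul, ← pow_two, ← pow_succ, ha3', act_one]
        rw [this]; abel
    have : ρ a₂ (ρ a₂ m) = -(m + ρ a₂ m) := by
      rw [eq_neg_iff_add_eq_zero, add_comm]; exact hy
    rw [this, ZModModule.neg_eq_self]
  have F4 : ρ a₂⁻¹ m = m + ρ a₂ m := by rw [O9, E2]
  have hv2 : ρ a₂ m ≠ m := by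
    intro h; exact hm0 (D0 m F1 h)
  -- action tables on v₁ = m, v₂ = a₂ m, v₃ = r m, v₄ = r a₂ m
  have A2 : ρ a₁ (ρ a₂ m) = ρ a₂ m := by rw [O1, F1]
  have A3 : ρ a₁ (ρ r m) = ρ r m + ρ r (ρ a₂ m) := by rw [O2, F4, map_add]
  have A4 : ρ a₁ (ρ r (ρ a₂ m)) = ρ r m := by rw [O2, act_inv_act]
  have T2 : ρ t (ρ a₂ m) = m + ρ a₂ m := by rw [O3, F2, F4]
  have T3 : ρ t (ρ r m) = ρ r m := by rw [O4, F2, F3]
  have Z2 : ρ z (ρ a₂ m) = m + ρ a₂ m := by rw [O6, F3, F4]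
  have Z3 : ρ z (ρ r m) = ρ r m := by rw [O7, F3]
  have Z4 : ρ z (ρ r (ρ a₂ m)) = ρ r m + ρ r (ρ a₂ m) := by rw [O7, Z2, map_add]
  have T4 : ρ t (ρ r (ρ a₂ m)) = ρ r (ρ a₂ m) := by
    rw [O4, T2, map_add, Z2, F3, ← add_assoc, ZModModule.add_self, zero_add]
  have R3 : ρ r (ρ r m) = m := by rw [O10, F3]
  have R4 : ρ r (ρ r (ρ a₂ m)) = m + ρ a₂ m := by rw [O10, Z2]
  -- the span
  set W : Submodule (ZMod 2) M :=
    Submodule.span (ZMod 2) {m, ρ a₂ m, ρ r m, ρ r (ρ a₂ m)} with hW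
  have w1 : m ∈ W := Submodule.subset_span (by simp)
  have w2 : ρ a₂ m ∈ W := Submodule.subset_span (by simp)
  have w3 : ρ r m ∈ W := Submodule.subset_span (by simp)
  have w4 : ρ r (ρ a₂ m) ∈ W := Submodule.subset_span (by simp)
  have inv_of : ∀ s : S, ρ s m ∈ W → ρ s (ρ a₂ m) ∈ W → ρ s (ρ r m) ∈ W →
      ρ s (ρ r (ρ a₂ m)) ∈ W → ∀ x ∈ W, ρ s x ∈ W := by
    intro s h1 h2 h3 h4
    have : W.map (ρ s) ≤ W := by
      rw [hW, Submodule.map_span_le]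
      intro x hx
      simp only [Set.mem_insert_iff, Set.mem_singleton_iff] at hx
      rcases hx with rfl | rfl | rfl | rfl
      · exact h1
      · exact h2
      · exact h3
      · exact h4
    exact fun x hx => this (Submodule.mem_map_of_mem hx)
  have Wtop : W = ⊤ := by
    rcases hirr W
      (inv_of a₁ (by rw [F1]; exact w1) (by rw [A2]; exact w2) (by rw [A3]; exact W.add_mem w3 w4)
        (by rw [A4]; exact w3))
      (inv_of t (by rw [F2]; exact w1) (by rw [T2]; exact W.add_mem w1 w2) (by rw [T3]; exact w3)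
        (by rw [T4]; exact w4))
      (inv_of r w3 w4 (by rw [R3]; exact w1) (by rw [R4]; exact W.add_mem w1 w2)) with h | h
    · exfalso
      rw [h] at w1
      exact hm0 (by simpa using w1)
    · exact h
  have hrep : ∀ x : M, ∃ c₁ c₂ c₃ c₄ : ZMod 2,
      x = c₁ • m + c₂ • ρ a₂ m + c₃ • ρ r m + c₄ • ρ r (ρ a₂ m) := by
    intro x
    have hx : x ∈ W := by rw [Wtop]; trivial
    rw [hW, Submodule.mem_span_insert] at hx
    obtain ⟨c₁, y₁, hy₁, rfl⟩ := hx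
    rw [Submodule.mem_span_insert] at hy₁
    obtain ⟨c₂, y₂, hy₂, rfl⟩ := hy₁
    rw [Submodule.mem_span_insert] at hy₂
    obtain ⟨c₃, y₃, hy₃, rfl⟩ := hy₂
    rw [Submodule.mem_span_singleton] at hy₃
    obtain ⟨c₄, rfl⟩ := hy₃
    exact ⟨c₁, c₂, c₃, c₄, by abel⟩
  have h01 : ∀ c : ZMod 2, c = 0 ∨ c = 1 := by decide
  have IND2 : ∀ c d : ZMod 2, c • m + d • ρ a₂ m = 0 → c = 0 ∧ d = 0 := by
    intro c d h
    rcases h01 c with rfl | rfl <;> rcases h01 d with rfl | rfl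
    · exact ⟨rfl, rfl⟩
    · exfalso
      rw [zero_smul, zero_add, one_smul, act_eq_zero_iff] at h
      exact hm0 h
    · exfalso
      rw [zero_smul, add_zero, one_smul] at h
      exact hm0 h
    · exfalso
      rw [one_smul, one_smul] at h
      apply hv2
      have : ρ a₂ m = -m := by rw [eq_neg_iff_add_eq_zero, add_comm]; exact h
      rw [this, ZModModule.neg_eq_self]
  have IND : ∀ c₁ c₂ c₃ c₄ : ZMod 2,
      c₁ • m + c₂ • ρ a₂ m + c₃ • ρ r m + c₄ • ρ r (ρ a₂ m) = 0 →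
      c₁ = 0 ∧ c₂ = 0 ∧ c₃ = 0 ∧ c₄ = 0 := by
    intro c₁ c₂ c₃ c₄ h
    have hq : c₃ • ρ r m + c₄ • ρ r (ρ a₂ m) = ρ r (c₃ • m + c₄ • ρ a₂ m) := by
      rw [map_add, map_smul, map_smul]
    have hpq : c₁ • m + c₂ • ρ a₂ m = ρ r (c₃ • m + c₄ • ρ a₂ m) := by
      rw [← hq]
      have : c₁ • m + c₂ • ρ a₂ m = -(c₃ • ρ r m + c₄ • ρ r (ρ a₂ m)) := by
        rw [eq_neg_iff_add_eq_zero, ← h]; abel
      rw [this, ZModModule.neg_eq_self]
    have hp1 : ρ a₁ (c₁ • m + c₂ • ρ a₂ m) = c₁ • m + c₂ • ρ a₂ m := by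
      rw [map_add, map_smul, map_smul, F1, A2]
    have hp2 : ρ a₂ (c₁ • m + c₂ • ρ a₂ m) = c₁ • m + c₂ • ρ a₂ m := by
      rw [hpq, O2', map_add, map_smul, map_smul, F1, A2]
    have hp0 := D0 _ hp1 hp2
    have hq0 : c₃ • m + c₄ • ρ a₂ m = 0 := by
      rw [hp0] at hpq
      exact (act_eq_zero_iff ρ r _).mp hpq.symm
    exact ⟨(IND2 _ _ hp0).1, (IND2 _ _ hp0).2, (IND2 _ _ hq0).1, (IND2 _ _ hq0).2⟩
  refine ⟨?_, ?_, ?_⟩
  · -- cardinality
    let f : ZMod 2 × ZMod 2 × ZMod 2 × ZMod 2 → M := fun c =>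
      c.1 • m + c.2.1 • ρ a₂ m + c.2.2.1 • ρ r m + c.2.2.2 • ρ r (ρ a₂ m)
    have hf : Function.Bijective f := by
      constructor
      · rintro ⟨c₁, c₂, c₃, c₄⟩ ⟨d₁, d₂, d₃, d₄⟩ h
        simp only [f] at h
        have h0 : (c₁ - d₁) • m + (c₂ - d₂) • ρ a₂ m + (c₃ - d₃) • ρ r m
            + (c₄ - d₄) • ρ r (ρ a₂ m) = 0 := by
          have := sub_eq_zero.mpr h
          rw [← this]
          simp only [sub_smul]; abel
        obtain ⟨e1, e2, e3, e4⟩ := IND _ _ _ _ h0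
        rw [sub_eq_zero] at e1 e2 e3 e4
        subst e1 e2 e3 e4
        rfl
      · intro x
        obtain ⟨c₁, c₂, c₃, c₄, hx⟩ := hrep x
        exact ⟨(c₁, c₂, c₃, c₄), hx.symm⟩
    rw [← Nat.card_congr (Equiv.ofBijective f hf)]
    simp
  · refine ⟨m, ρ r m, hm0, ?_, ?_, F2, F3, T3, Z3⟩
    · intro h
      exact hm0 ((act_eq_zero_iff ρ r m).mp h)
    · intro h
      have : (1 : ZMod 2) • m + (0 : ZMod 2) • ρ a₂ m + (1 : ZMod 2) • ρ r m
          + (0 : ZMod 2) • ρ r (ρ a₂ m) = 0 := by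
        rw [one_smul, zero_smul, zero_smul, one_smul, add_zero, add_zero, ← h,
          ZModModule.add_self]
      exact one_ne_zero (IND _ _ _ _ this).1
  · refine ⟨m + ρ r m, ?_, ?_, ?_, ?_⟩
    · intro h
      have : (1 : ZMod 2) • m + (0 : ZMod 2) • ρ a₂ m + (1 : ZMod 2) • ρ r m
          + (0 : ZMod 2) • ρ r (ρ a₂ m) = 0 := by
        rw [one_smul, zero_smul, zero_smul, one_smul, add_zero, add_zero, h]
      exact one_ne_zero (IND _ _ _ _ this).1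
    · rw [map_add, F3, Z3]
    · rw [act_mul, map_add, R3, map_add, T3, F2, add_comm]
    · intro x hzx htx
      obtain ⟨c₁, c₂, c₃, c₄, rfl⟩ := hrep x
      have h1 : c₂ • m + (0 : ZMod 2) • ρ a₂ m + c₄ • ρ r m + (0 : ZMod 2) • ρ r (ρ a₂ m) = 0 := by
        have := sub_eq_zero.mpr hzx
        rw [← this]
        simp only [map_add, map_smul, F3, Z2, Z3, Z4, smul_add, zero_smul]
        abel
      obtain ⟨-, -, -, -⟩ := IND _ _ _ _ h1
      obtain ⟨e2, -, e4, -⟩ := IND _ _ _ _ h1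
      subst e2 e4
      simp only [zero_smul, add_zero] at htx ⊢
      have htx' : c₁ • ρ r m + c₃ • m = c₁ • m + c₃ • ρ r m := by
        have := htx
        simp only [act_mul, map_add, map_smul, R3, T3, F2] at this
        exact this
      have h2 : (c₁ + c₃) • m + (0 : ZMod 2) • ρ a₂ m + (c₁ + c₃) • ρ r m
          + (0 : ZMod 2) • ρ r (ρ a₂ m) = 0 := by
        have e : (c₁ + c₃) • m + (0 : ZMod 2) • ρ a₂ m + (c₁ + c₃) • ρ r m
          + (0 : ZMod 2) • ρ r (ρ a₂ m) = (c₁ • m + c₃ • ρ r m) + (c₁ • ρ r m + c₃ • m) := by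
          simp only [add_smul, zero_smul]; abel
        rw [e, htx', ZModModule.add_self]
      obtain ⟨e1, -, -, -⟩ := IND _ _ _ _ h2
      have e1' : c₁ = c₃ := by
        have : c₃ = -c₁ := by rw [eq_neg_iff_add_eq_zero, add_comm]; exact e1
        rw [this]
        rcases h01 c₁ with rfl | rfl <;> decide
      subst e1'
      rcases h01 c₁ with rfl | rfl
      · left; simp
      · right; simp

end Cfsg.Agent.Helper71.D8Mod
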