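import Mathlib
import Cfsg.Agent.Lib.Helper92.G24Defs

/-!
# G24 kit (server of helper92, S1679): words in the six generator matrices, evaluated on packed vectors

A vector of `F4 ^ 14` is one natural number (base 4 digits).  For each generator `k`, column `j` and scalar
code `c` the scaled column is stored packed (`SN`), so `A k *ᵥ v` is a XOR of fourteen table entries.  The
tables are linked to `matL` / `xmL` of `G24Defs` by `decide +kernel`; XOR commutes with digit extraction
(`Nat.xor_div_two_pow`, `Nat.xor_mod_two_pow`).
-/

set_option autoImplicit false

namespace Cfsg.Agent.Helper71.G24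

open Matrix Cfsg.Agent.Helper92.G24

/-- multiplication table of `F4` on codes, packed base 4 at position `4 * a + b` -/
def mulTab : ℕ := 2625168384

/-- multiplication of `F4` on codes -/
def mulC (a b : ℕ) : ℕ := mulTab / 4 ^ (4 * (a % 4) + b % 4) % 4

/-- digit number `i` of the code `x` -/
def dg (x i : ℕ) : ℕ := x / 2 ^ (2 * i) % 2 ^ 2

/-- evaluate the natural number first (sharing in kernel evaluation) -/
def forceNat {α : Type} (n : ℕ) (f : ℕ → α) : α := Nat.casesOn n (f 0) (fun m => f (m + 1))

theorem forceNat_eq {α : Type} (n : ℕ) (f : ℕ → α) : forceNat n f = f n := by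
  cases n <;> rfl

/-- entry of a table -/
def ent (L : List (List ℕ)) (i j : ℕ) : ℕ := (L.getD i []).getD j 0

/-- the vector with code `x` -/
def vecOfCode (x : ℕ) : D.Idx → F := fun i => fc (dg x (ix i))

/-- scaled columns of the six generators, packed: field `4 * j + c` (28 bits) is `c` times column `j` -/
def SN : ℕ → ℕ
  | 0 => 0xc00000080000004000000000000030000002000000100000000000000c00000080000004000000000000030000002000000100000000000000c0000008000000400000000000c030000802000040100000000000300c0002008000100400000000000c030000802000040100000000000c00c0008008000400400000000003c0300028020001401000000000f0300cfa02008a50100450000000f00c033a00802250040110000000f00000ca000008500000400000003000003200000210000010000000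
  | 1 => 0xcffcabe8aa85694554fd70000000ff34561aa2cfd35518ab20000000d7ba963be657d269dfeb10000000ee7866199e4dd3779cbb2000000011082003304100220c300000000036fea712da95e31b57f9200000006a2cff2d518aa1bf345530000000f9cc63ea788d295e44b1700000005669bf3fdd76a2abbed51000000059a4df2f75cba1aef86530000000f5ed9c2af9b7815a76e430000000f5d0ffeafb0aa95a605570000000aba476a565ced5fdf89bf0000000c0c003e808002940400170000000
  | 2 => 0xc00000080000004000000000000030000002000000100000000000000c00000080000004000000000000030000002000000100000000000000c00000080000004000000000000030000002000000100000000000300c00020080001004000000000000030000002000000100000000000c00c00080080004004000000000030030002002000100100000000000300c0002008000100400000000c000033800002240000110000000c00000c8000008400000400000000000003000000200000010000000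
  | 3 => 0x3c00c002800800140040000000f03c00ca0280085014004000000003c00000280000014000000000000003c000002800000140000000000c03c00080280004014000000000003c0fc00280a800140540000000300c0ff20080aa1004055000000003c030002802000140100000000000c03000080200004010000000000c03000080200004010000000000f0300cfa02008a5010045000000030000cf200008a10000450000000f030003a02000250100010000000f03c0f0a0280a050140500000000
  | 4 => 0xc00000080000004000000000000030000002000000100000000000006c00000d800000b4000000000000d300000b20000061000000000000b0c00006080000d040000000000036300002d200001b100000000000f84c000a4c80005c840000000000db53002b6f20016da10030000000dac8c05b58480f6f4c40a0000000d2a430cb15c20863f81040000000e57f6c29fead817a95b4300000003ff2d362aa1b2d155361b0000000a18000c5340008f2c000400000004d00003cb0000286000010000000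
  | 5 => 0xc00000080000004000000000000030000002000000100000000000000c00000080000004000000000000030000002000000100000000000000c000000800000040000000000080300004020000c0100000000000200c000100800030040000000000080300004020000c0100000000000800c0004008000c0040000000000280300014020003c0100000000050200caf010085a03004f00000005008032f004021a00c0130000000a00000c5000008f00000400000002000003100000230000010000000
  | _ => 0

/-- the columns of the 36 root element tables, packed: field `j` (28 bits) is column `j` -/
def XCL : List ℕ := [0x40000111004000040040001001000040000001004000040000001000000040000001000000040000001000000140000001,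
  0x40000321008000040080001002000040000001008000040000001000000040000001000000040000001000000240000001,
  0x4000023100c0000400c000100300004000000100c000040000001000000040000001000000040000001000000340000001,
  0x40100001000045040100001000000040100001000000040100001000000040000001000000040000001000000440000041,
  0x402000010000ca040200001000000040200001000000040200001000000040000001000000040000001000000840000081,
  0x4030000100008f040300001000000040300001000000040300001000000040000001000000040000001000000c400000c1,
  0x41010401040410040010401000400040010001000000040000001040000041000001000000040000001000000040000101,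
  0x42030401080c10040030801000c00040030001000000040000001080000042000001000000040000001000000040000201,
  0x430204010c0810040020c010008000400200010000000400000010c0000043000001000000040000001000000040000301,
  0x44440001000000040400001004050044000001111000040000001010000040000001100000040000001000004040000401,
  0x48c40001000000040c0000100c0a0048000001231000040000001030000040000001200000040000001000008040000801,
  0x4c8400010000000408000010080f004c00000132100004000000102000004000000130000004000000100000c040000c01,
  0x40000001510000041000001100000041001001000000045400001000000044000001400000040000001000010040000001,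
  0x40000001b1000004300000120000004300200100000004b40000100000004c000001800000040000001000020040000001,
  0x40000001e1000004200000130000004200300100000004e400001000000048000001c00000040000001000030040000001,
  0x50000001000000040000001400000040000001400400040000001400000040000001000000050000001000000040004001,
  0x60000001000000040000001800000040000001c00800040000001800000040000001000000060000001000000040008001,
  0x70000001000000040000001c00000040000001800c00040000001c0000004000000100000007000000100000004000c001,
  0x40000005000000040000001000000140000001000000140040001000000140000001000000040000005000000040010001,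
  0x40000009000000040000001000000240000001000000340080001000000240000001000000040000009000000040020001,
  0x4000000d0000000400000010000003400000010000002400c000100000034000000100000004000000d000000040030001,
  0x40000001000000140000011000000040000151000000040000041001000440000041000004540000001000400040000001,
  0x400000010000002400000310000000400001e10000000400000c10020008400000c1000004e40000001000800040000001,
  0x400000010000003400000210000000400001b1000000040000081003000c40000081000004b40000001000c00040000001,
  0x40000001000000440000001000004040000001000044440000011000010040500101000000040001111001000040100001,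
  0x4000000100000084000000100000c04000000100004c840000021000030040a00301000000040001321002000040200001,
  0x40000001000000c40000001000008040000001000048c40000031000020040f00201000000040001231003000040300001,
  0x40000001000000040000041000001040000001000000040004001000100040004001044101040104041000000040400001,
  0x4000000100000004000008100000204000000100000004000c00100030004000c00108430204010c081000000040800001,
  0x400000010000000400000c10000030400000010000000400080010002000400080010c42030401080c1000000040c00001,
  0x40000001000000040000001000000040000401000000040000401000000040000401001000045000401010000041000001,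
  0x4000000100000004000000100000004000080100000004000080100000004000080100300004a000801020000042000001,
  0x40000001000000040000001000000040000c01000000040000c01000000040000c0100200004f000c01030000043000001,
  0x40000001000000040000001000000040000001000010040000001000040040001001000010040400001140000040000001,
  0x40000001000000040000001000000040000001000020040000001000080040002001000020040c00001280000040000001,
  0x400000010000000400000010000000400000010000300400000010000c00400030010000300408000013c0000040000001]

/-- `c` times column `j` of generator `k`, packed -/
def sc (k j c : ℕ) : ℕ := SN k / 2 ^ (28 * (4 * j + c)) % 2 ^ 28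

/-- column `j` of table `n`, packed -/
def xc (n j : ℕ) : ℕ := XCL.getD n 0 / 2 ^ (28 * j) % 2 ^ 28

def idx14 : List ℕ := [0, 1, 2, 3, 4, 5, 6, 7, 8, 9, 10, 11, 12, 13]

/-- generator `k` applied to the packed vector `v` -/
def mv (k v : ℕ) : ℕ :=
  forceNat v fun v => idx14.foldl (fun acc j => acc ^^^ sc k j (dg v j)) 0

/-- the word `w` applied to the packed vector `v` (last letter first) -/
def applyW (w : List ℕ) (v : ℕ) : ℕ := w.foldr (fun k acc => mv k acc) v

/-! ### arithmetic on codes -/

theorem dg_lt (x i : ℕ) : dg x i < 4 := Nat.mod_lt _ (by norm_num)

theorem dg_xor (x y i : ℕ) : dg (x ^^^ y) i = dg x i ^^^ dg y i := by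
  unfold dg
  rw [Nat.xor_div_two_pow, Nat.xor_mod_two_pow]

theorem xor_lt4 (a b : ℕ) (ha : a < 4) (hb : b < 4) : a ^^^ b < 4 :=
  Nat.xor_lt_two_pow (n := 2) ha hb

theorem fc_xor_small : ∀ a < 4, ∀ b < 4, fc (a ^^^ b) = fc a + fc b := by decide +kernel

theorem fc_mulC_small : ∀ a < 4, ∀ b < 4, fc (mulC a b) = fc a * fc b := by decide +kernel

theorem fc_zero : fc 0 = 0 := by decide +kernel

theorem fc_one : fc 1 = 1 := by decide +kernel

theorem dg_foldl_xor (f : ℕ → ℕ) (i : ℕ) (l : List ℕ) (a : ℕ) :
    dg (l.foldl (fun acc j => acc ^^^ f j) a) i
      = l.foldl (fun acc j => acc ^^^ dg (f j) i) (dg a i) := by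
  induction l generalizing a with
  | nil => rfl
  | cons x xs ih => rw [List.foldl_cons, List.foldl_cons, ih, dg_xor]

theorem fc_foldl_xor (g : ℕ → ℕ) (hg : ∀ j, g j < 4) (l : List ℕ) (a : ℕ) (ha : a < 4) :
    fc (l.foldl (fun acc j => acc ^^^ g j) a) = fc a + (l.map fun j => fc (g j)).sum := by
  induction l generalizing a with
  | nil => simp
  | cons x xs ih =>
    rw [List.foldl_cons, ih _ (xor_lt4 _ _ ha (hg x)), fc_xor_small _ ha _ (hg x), List.map_cons,
      List.sum_cons, add_assoc]

theorem sum_idx14 (g : ℕ → F) : (idx14.map g).sum = ∑ j ∈ Finset.range 14, g j := by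
  simp only [idx14, List.map_cons, List.map_nil, List.sum_cons, List.sum_nil, Finset.sum_range_succ,
    Finset.sum_range_zero]
  abel

theorem ix_lt (i : D.Idx) : ix i < 14 := by
  rcases i with a | s
  · have : a.val < 2 := a.isLt
    simp only [ix, Sum.elim_inl]
    omega
  · have : s.val < 12 := s.isLt
    simp only [ix, Sum.elim_inr]
    omega

theorem ix_inj (i j : D.Idx) (h : ix i = ix j) : i = j := by
  rcases i with a | s <;> rcases j with b | t
  · simp only [ix, Sum.elim_inl] at h
    rw [Fin.ext h]
  · have : a.val < 2 := a.isLt
    simp only [ix, Sum.elim_inl, Sum.elim_inr] at h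
    omega
  · have : b.val < 2 := b.isLt
    simp only [ix, Sum.elim_inl, Sum.elim_inr] at h
    omega
  · simp only [ix, Sum.elim_inr] at h
    have h' : s.val = t.val := by omega
    rw [Fin.ext h']

theorem sum_idx (g : ℕ → F) : ∑ k : D.Idx, g (ix k) = ∑ k ∈ Finset.range 14, g k := by
  have h1 : ∑ k : D.Idx, g (ix k) = ∑ a : Fin 2, g a.val + ∑ s : Fin 12, g (2 + s.val) :=
    Fintype.sum_sum_type _
  rw [h1, Fin.sum_univ_eq_sum_range (fun i => g i) 2,
    Fin.sum_univ_eq_sum_range (fun i => g (2 + i)) 12, show (14 : ℕ) = 2 + 12 from rfl,
    Finset.sum_range_add]

/-! ### the tables -/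

set_option maxRecDepth 1000000 in
theorem sc_table : ∀ k < 6, ∀ j < 14, ∀ c < 4, ∀ i < 14,
    dg (sc k j c) i = mulC (ent (matL k) i j) c := by decide +kernel

set_option maxRecDepth 1000000 in
theorem ent_lt : ∀ k < 6, ∀ j < 14, ∀ i < 14, ent (matL k) i j < 4 := by decide +kernel

set_option maxRecDepth 1000000 in
theorem xc_table : ∀ n < 36, ∀ j < 14, ∀ i < 14, dg (xc n j) i = ent (xmL.getD n []) i j := by
  decide +kernel

set_option maxRecDepth 1000000 in
theorem basis_table : ∀ m < 14, ∀ i < 14, dg (2 ^ (2 * m)) i = if i = m then 1 else 0 := by
  decide +kernel

/-! ### soundness -/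

theorem mv_apply (k : ℕ) (hk : k < 6) (v : ℕ) (i : D.Idx) :
    vecOfCode (mv k v) i = ∑ j ∈ Finset.range 14, fc (ent (matL k) (ix i) j) * fc (dg v j) := by
  unfold vecOfCode mv
  rw [forceNat_eq, dg_foldl_xor, show dg 0 (ix i) = 0 from by simp [dg],
    fc_foldl_xor (fun j => dg (sc k j (dg v j)) (ix i)) (fun j => dg_lt _ _) idx14 0 (by norm_num),
    fc_zero, zero_add, sum_idx14]
  apply Finset.sum_congr rfl
  intro j hj
  have hj' : j < 14 := Finset.mem_range.mp hj
  rw [sc_table k hk j hj' _ (dg_lt v j) _ (ix_lt i),
    fc_mulC_small _ (ent_lt k hk j hj' _ (ix_lt i)) _ (dg_lt v j)]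

theorem A_mulVec (k : ℕ) (hk : k < 6) (v : ℕ) : A k *ᵥ vecOfCode v = vecOfCode (mv k v) := by
  funext i
  rw [mv_apply k hk v i, ← sum_idx (fun j => fc (ent (matL k) (ix i) j) * fc (dg v j))]
  rfl

theorem word_mulVec (w : List ℕ) (hw : ∀ k ∈ w, k < 6) (v : ℕ) :
    (w.map A).prod *ᵥ vecOfCode v = vecOfCode (applyW w v) := by
  induction w with
  | nil => simp [applyW]
  | cons k ks ih =>
    have hk : k < 6 := hw k (List.mem_cons_self ..)
    have hks : ∀ k ∈ ks, k < 6 := fun x hx => hw x (List.mem_cons_of_mem _ hx)
    rw [List.map_cons, List.prod_cons, ← Matrix.mulVec_mulVec, ih hks]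
    show A k *ᵥ vecOfCode (applyW ks v) = vecOfCode (mv k (applyW ks v))
    exact A_mulVec k hk _

theorem basis_code (j : D.Idx) : vecOfCode (2 ^ (2 * ix j)) = Pi.single j 1 := by
  funext i
  unfold vecOfCode
  rw [basis_table _ (ix_lt j) _ (ix_lt i), Pi.single_apply]
  by_cases h : i = j
  · rw [if_pos h, if_pos (by rw [h]), fc_one]
  · rw [if_neg h, if_neg (fun h' => h (ix_inj _ _ h')), fc_zero]

/-- two matrices agreeing on the basis vectors are equal -/
theorem ext_basis (M N : Matrix D.Idx D.Idx F)
    (h : ∀ j : D.Idx, M *ᵥ Pi.single j 1 = N *ᵥ Pi.single j 1) : M = N := by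
  ext i j
  have h1 := congrFun (h j) i
  rw [Matrix.mulVec_single_one, Matrix.mulVec_single_one] at h1
  exact h1

/-- the word is the identity on all basis vectors -/
def chkOne (w : List ℕ) : Bool :=
  w.all (fun k => Nat.blt k 6) && idx14.all (fun j => Nat.beq (applyW w (2 ^ (2 * j))) (2 ^ (2 * j)))

/-- the word maps the basis vectors to the columns of table `n` -/
def chkTab (w : List ℕ) (n : ℕ) : Bool :=
  w.all (fun k => Nat.blt k 6) && idx14.all (fun j => Nat.beq (applyW w (2 ^ (2 * j))) (xc n j))

theorem mem_idx14 (j : ℕ) (hj : j < 14) : j ∈ idx14 := by
  interval_cases j <;> decide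

theorem word_lt_of_all (w : List ℕ) (h : w.all (fun k => Nat.blt k 6) = true) : ∀ k ∈ w, k < 6 := by
  intro k hk
  have := List.all_eq_true.mp h k hk
  simpa using this

theorem prod_eq_one_of_chk (w : List ℕ) (h : chkOne w = true) : (w.map A).prod = 1 := by
  unfold chkOne at h
  rw [Bool.and_eq_true] at h
  obtain ⟨h1, h2⟩ := h
  have hw := word_lt_of_all w h1
  apply ext_basis
  intro j
  have h3 := List.all_eq_true.mp h2 (ix j) (mem_idx14 _ (ix_lt j))
  have h4 : applyW w (2 ^ (2 * ix j)) = 2 ^ (2 * ix j) := Nat.eq_of_beq_eq_true h3
  rw [← basis_code j, word_mulVec w hw, h4, Matrix.one_mulVec]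

theorem table_eq_of_chk (w : List ℕ) (n : ℕ) (hn : n < 36) (h : chkTab w n = true) :
    (Matrix.of fun i j => fc (ent (xmL.getD n []) (ix i) (ix j)) : Matrix D.Idx D.Idx F)
      = (w.map A).prod := by
  unfold chkTab at h
  rw [Bool.and_eq_true] at h
  obtain ⟨h1, h2⟩ := h
  have hw := word_lt_of_all w h1
  apply ext_basis
  intro j
  have h3 := List.all_eq_true.mp h2 (ix j) (mem_idx14 _ (ix_lt j))
  have h4 : applyW w (2 ^ (2 * ix j)) = xc n (ix j) := Nat.eq_of_beq_eq_true h3
  rw [← basis_code j, word_mulVec w hw, h4, basis_code j, Matrix.mulVec_single_one]
  funext i
  unfold vecOfCode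
  rw [xc_table n hn _ (ix_lt j) _ (ix_lt i)]
  rfl

end Cfsg.Agent.Helper71.G24
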