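import Mathlib
import Cfsg.Agent.Lib.Helper92.G24Defs
import Cfsg.Agent.Lib.Helper71.G24Kit

/-!
# G24 (REL), server of helper92 for S1679: the six matrices satisfy the 18 relators

Each relator is pushed through the fourteen packed basis vectors (`G24Kit`), one `decide +kernel`.
-/

set_option autoImplicit false

namespace Cfsg.Agent.Helper71.G24

open Cfsg.Agent.Helper92.G24

set_option maxRecDepth 1000000 in
theorem rel_chk : ∀ r ∈ rel4, chkOne r = true := by decide +kernel

/-- (REL) the six matrices satisfy the 18 relators of the Suzuki presentation on `a..f`. -/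
theorem A_rel : ∀ r ∈ rel4, (r.map A).prod = 1 := by
  intro r hr
  exact prod_eq_one_of_chk r (rel_chk r hr)

end Cfsg.Agent.Helper71.G24
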