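import Mathlib
import Cfsg.Agent.Lib.Helper92.G24Defs
import Cfsg.Agent.Lib.Helper71.G24Kit

/-!
# G24 (XW), server of helper92 for S1679: every root element table is the product of its word

Each of the 36 words is pushed through the fourteen packed basis vectors (`G24Kit`) and compared with
the packed columns of the table, one `decide +kernel`.
-/

set_option autoImplicit false

namespace Cfsg.Agent.Helper71.G24

open Cfsg.Agent.Helper92.G24

set_option maxRecDepth 1000000 in
theorem word_chk : ∀ n < 36, chkTab (wdL.getD n []) n = true := by decide +kernel

/-- (XW) every root element table is the product of its word in the six matrices. -/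
theorem table_word : ∀ r < 12, ∀ t, 1 ≤ t → t ≤ 3 → XT r t = ((wd r t).map A).prod := by
  intro r hr t h1 h3
  have hn : 3 * r + (t - 1) < 36 := by omega
  exact table_eq_of_chk (wd r t) (3 * r + (t - 1)) hn (word_chk _ hn)

end Cfsg.Agent.Helper71.G24
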