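import Mathlib
import Cfsg.Agent.Lib.Helper17.Simple

/-!
# A subgroup of order 1344 of `GL(4,2)` is not simple

Such a subgroup is the stabilizer of a nonzero vector or of a hyperplane (`AGL(3,2)`).
We show: a simple subgroup `K` of order 1344 would fix a nonzero vector `u` (orbit counting on
the 15 nonzero vectors), and then act on the 7 nonzero functionals vanishing at `u`; the kernel
of this action consists of involutions, and its image has order dividing `7! = 5040`.
-/

set_option autoImplicit false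

namespace Cfsg.Agent.Helper71.GL42

open Matrix MulAction

/-- The natural module. -/
abbrev V := Fin 4 → ZMod 2

/-- The group. -/
abbrev G := GL (Fin 4) (ZMod 2)

/-- Nonzero vectors. -/
abbrev X := {v : V // v ≠ 0}

/-- Nonzero functionals (as vectors, via the dot product) vanishing at `u`. -/
abbrev Y (u : V) := {φ : V // φ ≠ 0 ∧ φ ⬝ᵥ u = 0}

theorem inv_mulVec_mulVec (g : G) (v : V) :
    ((g⁻¹ : G) : Matrix (Fin 4) (Fin 4) (ZMod 2)) *ᵥ ((g : Matrix (Fin 4) (Fin 4) (ZMod 2)) *ᵥ v)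
      = v := by
  rw [Matrix.mulVec_mulVec, ← Matrix.GeneralLinearGroup.coe_mul, inv_mul_cancel]
  simp

theorem mulVec_ne_zero (g : G) {v : V} (hv : v ≠ 0) :
    (g : Matrix (Fin 4) (Fin 4) (ZMod 2)) *ᵥ v ≠ 0 := by
  intro h
  apply hv
  rw [← inv_mulVec_mulVec g v, h, Matrix.mulVec_zero]

/-- The action on nonzero vectors. -/
@[reducible] def actX : MulAction G X where
  smul g v := ⟨(g : Matrix (Fin 4) (Fin 4) (ZMod 2)) *ᵥ v.1, mulVec_ne_zero g v.2⟩
  one_smul v := Subtype.ext (by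
    show ((1 : G) : Matrix (Fin 4) (Fin 4) (ZMod 2)) *ᵥ v.1 = v.1
    simp)
  mul_smul g h v := Subtype.ext (by
    show ((g * h : G) : Matrix (Fin 4) (Fin 4) (ZMod 2)) *ᵥ v.1
      = (g : Matrix (Fin 4) (Fin 4) (ZMod 2)) *ᵥ ((h : Matrix (Fin 4) (Fin 4) (ZMod 2)) *ᵥ v.1)
    rw [Matrix.mulVec_mulVec, Matrix.GeneralLinearGroup.coe_mul])

theorem card_X : Fintype.card X = 15 := by decide

theorem card_Y : ∀ u : V, u ≠ 0 → Fintype.card (Y u) = 7 := by decide

theorem double_orth : ∀ u w : V, (∀ φ : V, φ ⬝ᵥ u = 0 → φ ⬝ᵥ w = 0) → w = 0 ∨ w = u := by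
  decide

/-- Step 1: a simple subgroup of order 1344 fixes a nonzero vector. -/
theorem exists_fixed_vector (K : Subgroup G) [IsSimpleGroup K] (hK : Nat.card K = 1344) :
    ∃ u : V, u ≠ 0 ∧ ∀ k ∈ K, (k : Matrix (Fin 4) (Fin 4) (ZMod 2)) *ᵥ u = u := by
  classical
  letI : MulAction G X := actX
  have hna : ¬ IsMulCommutative K :=
    Cfsg.Agent.Helper17.not_comm_of_not_prime (by rw [hK]; norm_num)
  by_contra hno
  push Not at hno
  -- every orbit has at least 8 elements
  have horb : ∀ x : X, 8 ≤ (orbit K x).ncard := by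
    intro x
    obtain ⟨k, hkK, hk⟩ := hno x.1 x.2
    have hne : stabilizer K x ≠ ⊤ := by
      intro h
      have hmem : (⟨k, hkK⟩ : K) ∈ stabilizer K x := by rw [h]; trivial
      rw [mem_stabilizer_iff] at hmem
      apply hk
      exact congrArg Subtype.val hmem
    have h1 := Cfsg.Agent.Helper17.two_mul_card_dvd_factorial hna (stabilizer K x) hne
    rw [hK, MulAction.index_stabilizer] at h1
    by_contra hlt
    push Not at hlt
    have h2 : ((orbit K x).ncard).factorial ∣ Nat.factorial 7 :=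
      Nat.factorial_dvd_factorial (by omega)
    have h3 : 2 * 1344 ∣ Nat.factorial 7 := h1.trans h2
    norm_num [Nat.factorial] at h3
  have hx0 : Nonempty X := ⟨⟨fun _ => 1, by decide⟩⟩
  obtain ⟨x0⟩ := hx0
  by_cases hall : orbit K x0 = Set.univ
  · have h1 : (stabilizer K x0).index = 15 := by
      rw [MulAction.index_stabilizer, hall, Set.ncard_univ, Nat.card_eq_fintype_card, card_X]
    have h2 : 15 ∣ 1344 := by
      rw [← hK, ← h1]; exact Subgroup.index_dvd_card _
    omega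
  · obtain ⟨x1, hx1⟩ : ∃ x1, x1 ∉ orbit K x0 := by
      by_contra h
      push Not at h
      exact hall (Set.eq_univ_of_forall h)
    have hdisj : Disjoint (orbit K x0) (orbit K x1) := by
      rw [Set.disjoint_left]
      intro y hy0 hy1
      apply hx1
      rw [← MulAction.orbit_eq_iff] at hy0 hy1
      rw [← MulAction.orbit_eq_iff, ← hy1, hy0]
    have h1 : (orbit K x0 ∪ orbit K x1).ncard = (orbit K x0).ncard + (orbit K x1).ncard :=
      Set.ncard_union_eq hdisj (Set.toFinite _) (Set.toFinite _)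
    have h2 : (orbit K x0 ∪ orbit K x1).ncard ≤ (Set.univ : Set X).ncard :=
      Set.ncard_le_ncard (Set.subset_univ _) (Set.toFinite _)
    rw [Set.ncard_univ, Nat.card_eq_fintype_card, card_X] at h2
    have := horb x0
    have := horb x1
    omega

theorem vecMul_inv_vecMul (g : G) (φ : V) :
    (φ ᵥ* ((g⁻¹ : G) : Matrix (Fin 4) (Fin 4) (ZMod 2))) ᵥ* (g : Matrix (Fin 4) (Fin 4) (ZMod 2))
      = φ := by
  rw [Matrix.vecMul_vecMul, ← Matrix.GeneralLinearGroup.coe_mul, inv_mul_cancel]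
  simp

/-- The action of a subgroup fixing `u` on the nonzero functionals vanishing at `u`:
`k • φ = φ ∘ k⁻¹`. -/
@[reducible] def actY (K : Subgroup G) (u : V)
    (hu : ∀ k ∈ K, (k : Matrix (Fin 4) (Fin 4) (ZMod 2)) *ᵥ u = u) : MulAction K (Y u) where
  smul k φ := ⟨φ.1 ᵥ* (((k : G)⁻¹ : G) : Matrix (Fin 4) (Fin 4) (ZMod 2)), by
    constructor
    · intro h
      apply φ.2.1
      rw [← vecMul_inv_vecMul (k : G) φ.1, h, Matrix.zero_vecMul]
    · rw [← Matrix.dotProduct_mulVec, hu _ (K.inv_mem k.2)]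
      exact φ.2.2⟩
  one_smul φ := Subtype.ext (by
    show φ.1 ᵥ* ((((1 : K) : G)⁻¹ : G) : Matrix (Fin 4) (Fin 4) (ZMod 2)) = φ.1
    simp)
  mul_smul k k' φ := Subtype.ext (by
    show φ.1 ᵥ* ((((k * k' : K) : G)⁻¹ : G) : Matrix (Fin 4) (Fin 4) (ZMod 2))
      = (φ.1 ᵥ* (((k' : G)⁻¹ : G) : Matrix (Fin 4) (Fin 4) (ZMod 2)))
          ᵥ* (((k : G)⁻¹ : G) : Matrix (Fin 4) (Fin 4) (ZMod 2))
    rw [Matrix.vecMul_vecMul, ← Matrix.GeneralLinearGroup.coe_mul, Subgroup.coe_mul,
      _root_.mul_inv_rev])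

/-- An element acting trivially on `Y u` (and fixing `u`) is an involution. -/
theorem sq_eq_one_of_trivial (u : V) (h : G)
    (hu : (h : Matrix (Fin 4) (Fin 4) (ZMod 2)) *ᵥ u = u)
    (hφ : ∀ φ : V, φ ≠ 0 → φ ⬝ᵥ u = 0 →
      φ ᵥ* (h : Matrix (Fin 4) (Fin 4) (ZMod 2)) = φ) : h * h = 1 := by
  have key : ∀ v : V, (h : Matrix (Fin 4) (Fin 4) (ZMod 2)) *ᵥ v = v ∨
      (h : Matrix (Fin 4) (Fin 4) (ZMod 2)) *ᵥ v = v + u := by
    intro v
    have h1 : ∀ φ : V, φ ⬝ᵥ u = 0 →
        φ ⬝ᵥ ((h : Matrix (Fin 4) (Fin 4) (ZMod 2)) *ᵥ v - v) = 0 := by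
      intro φ hφu
      by_cases h0 : φ = 0
      · rw [h0, zero_dotProduct]
      · rw [dotProduct_sub, Matrix.dotProduct_mulVec, hφ φ h0 hφu, sub_self]
    rcases double_orth u _ h1 with h2 | h2
    · left; exact sub_eq_zero.1 h2
    · right; rw [← h2]; abel
  have hsq : ∀ v : V, ((h * h : G) : Matrix (Fin 4) (Fin 4) (ZMod 2)) *ᵥ v = v := by
    intro v
    rw [Matrix.GeneralLinearGroup.coe_mul, ← Matrix.mulVec_mulVec]
    rcases key v with h1 | h1
    · rw [h1, h1]
    · rw [h1, Matrix.mulVec_add, h1, hu]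
      have : u + u = 0 := by
        funext i
        exact CharTwo.add_self_eq_zero (u i)
      rw [add_assoc, this, add_zero]
  apply Units.ext
  apply Matrix.toLin'.injective
  apply LinearMap.ext
  intro v
  rw [Matrix.toLin'_apply, hsq v]
  simp

/-- A subgroup of order 1344 of `GL(4,2)` is not simple. -/
theorem not_simple_of_card_1344 (K : Subgroup G) (hK : Nat.card K = 1344) :
    ¬ IsSimpleGroup K := by
  classical
  intro hs
  have hna : ¬ IsMulCommutative K :=
    Cfsg.Agent.Helper17.not_comm_of_not_prime (by rw [hK]; norm_num)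
  obtain ⟨u, hu0, hu⟩ := exists_fixed_vector K hK
  letI : MulAction K (Y u) := actY K u hu
  rcases (MonoidHom.normal_ker (MulAction.toPermHom K (Y u))).eq_bot_or_eq_top with hk | hk
  · -- faithful: 1344 ∣ 7!
    have hinj : Function.Injective (MulAction.toPermHom K (Y u)) :=
      (MonoidHom.ker_eq_bot_iff _).1 hk
    have h1 := Subgroup.card_dvd_of_injective _ hinj
    rw [hK, Nat.card_perm, Nat.card_eq_fintype_card, card_Y u hu0] at h1
    norm_num [Nat.factorial] at h1
  · -- trivial: every element is an involution, so `K` is commutative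
    apply hna
    have hinv : ∀ k : K, k * k = 1 := by
      intro k
      have hmem : k⁻¹ ∈ (MulAction.toPermHom K (Y u)).ker := by rw [hk]; trivial
      rw [MonoidHom.mem_ker] at hmem
      have h2 : ∀ φ : V, φ ≠ 0 → φ ⬝ᵥ u = 0 →
          φ ᵥ* ((k : G) : Matrix (Fin 4) (Fin 4) (ZMod 2)) = φ := by
        intro φ h0 hφu
        have h3 := congrArg (fun σ : Equiv.Perm (Y u) => (σ ⟨φ, h0, hφu⟩).1) hmem
        have h4 : (k⁻¹ • (⟨φ, h0, hφu⟩ : Y u)).1
            = φ ᵥ* ((((k⁻¹ : K) : G)⁻¹ : G) : Matrix (Fin 4) (Fin 4) (ZMod 2)) := rfl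
        simp only [MulAction.toPermHom_apply, MulAction.toPerm_apply, Equiv.Perm.coe_one,
          id_eq] at h3
        rw [h4] at h3
        simpa using h3
      have := sq_eq_one_of_trivial u (k : G) (hu _ k.2) h2
      exact Subtype.ext this
    refine ⟨⟨fun a b => ?_⟩⟩
    have ha := hinv a
    have hb := hinv b
    have hab := hinv (a * b)
    calc a * b = a * (a * b * (a * b)) * b := by rw [hab, mul_one]
      _ = (a * a) * (b * a) * (b * b) := by group
      _ = b * a := by rw [ha, hb, one_mul, mul_one]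

end Cfsg.Agent.Helper71.GL42
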