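import Mathlib
import Cfsg.Agent.Lib.Helper31.H2Defs

set_option autoImplicit false

/-!
# H2 (ALG) `comm_ne_one` for helper31's S3786 server
-/

namespace Cfsg.Agent.Helper71.H2

open Cfsg Cfsg.Agent.Helper31.H2 Cfsg.Agent.Helper31.HHB Cfsg.Agent.Helper48.Wreath

/-- `(A - 1)^(2q - 1) = (A^q - 1) * ∑_{j<q} A^j` for `q = p^n` in a `ZMod p`-algebra. -/
theorem alg_two_step {p : ℕ} [Fact p.Prime] {E : Type*} [Ring E] [Algebra (ZMod p) E] (A : E) (n : ℕ) :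
    (A - 1) ^ (2 * p ^ n - 1) = (A ^ p ^ n - 1) * ∑ j ∈ Finset.range (p ^ n), A ^ j := by
  have hpos : 0 < p ^ n := pow_pos (Fact.out : p.Prime).pos n
  have hgeom : (∑ j ∈ Finset.range (p ^ n), A ^ j) = (A - 1) ^ (p ^ n - 1) :=
    Cfsg.Agent.Helper31.HH.alg_geom_eq (K := ZMod p) p n A
  have h1 : (A - 1) ^ p ^ n = A ^ p ^ n - 1 := by
    have h2 : (A - 1) ^ (p ^ n) = (A - 1) ^ (p ^ n - 1) * (A - 1) := by
      rw [← pow_succ, Nat.sub_add_cancel hpos]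
    rw [h2, ← hgeom, geom_sum_mul]
  have e : 2 * p ^ n - 1 = p ^ n + (p ^ n - 1) := by omega
  rw [e, pow_add, h1, hgeom]

/-- the norm computation: `∏_{j<m} (φ h)^j (cls u) = cls ((u h)^m (h^m)⁻¹)`. -/
theorem alg_norm {G : Type*} [Group G] {W : Type*} [CommGroup W]
    (P : Subgroup G) (hPn : P.Normal) (φ : G →* MulAut W) (cls : ↥P →* W)
    (heq : ∀ (g : G) (v : ↥P), φ g (cls v) = cls ⟨g * v * g⁻¹, hPn.conj_mem _ v.2 g⟩)
    (h : G) (u : ↥P) (m : ℕ) :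
    ∃ w : ↥P, (w : G) = ((u : G) * h) ^ m * (h ^ m)⁻¹ ∧
      ∏ j ∈ Finset.range m, ((φ h) ^ j) (cls u) = cls w := by
  induction m with
  | zero => exact ⟨1, by simp, by simp⟩
  | succ m ih =>
    obtain ⟨w, hw, hprod⟩ := ih
    refine ⟨w * ⟨h ^ m * u * (h ^ m)⁻¹, hPn.conj_mem _ u.2 _⟩, ?_, ?_⟩
    · rw [Subgroup.coe_mul, hw]
      show ((u : G) * h) ^ m * (h ^ m)⁻¹ * (h ^ m * (u : G) * (h ^ m)⁻¹) = _
      rw [pow_succ, pow_succ]
      group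
    · rw [Finset.prod_range_succ, hprod, map_mul, ← map_pow, heq]

/-- (ALG) -/
theorem comm_ne_one {G : Type*} [Group G] {p : ℕ} [Fact p.Prime] {W : Type*} [CommGroup W]
    [Module (ZMod p) (Additive W)] (P : Subgroup G) (hPn : P.Normal) (φ : G →* MulAut W) (cls : ↥P →* W)
    (heq : ∀ (g : G) (v : ↥P), φ g (cls v) = cls ⟨g * v * g⁻¹, hPn.conj_mem _ v.2 g⟩)
    (h : G) (n : ℕ) (u : ↥P)
    (hne : ((linRep p φ h - 1) ^ (2 * p ^ n - 1)) (Additive.ofMul (cls u)) ≠ 0) :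
    cmt (h ^ p ^ n) (((u : G) * h) ^ p ^ n) ≠ 1 := by
  intro hc
  apply hne
  obtain ⟨w, hw, hprod⟩ := alg_norm P hPn φ cls heq h u (p ^ n)
  rw [alg_two_step (linRep p φ h) n, Module.End.mul_apply]
  have hS : (∑ j ∈ Finset.range (p ^ n), (linRep p φ h) ^ j) (Additive.ofMul (cls u)) =
      Additive.ofMul (cls w) := by
    apply Additive.toMul.injective
    rw [linRep_sum_apply, hprod]
    rfl
  rw [hS, LinearMap.sub_apply, Module.End.one_apply, ← map_pow, sub_eq_zero]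
  apply Additive.toMul.injective
  rw [linRep_apply, heq]
  show cls _ = cls w
  congr 1
  apply Subtype.ext
  show h ^ p ^ n * (w : G) * (h ^ p ^ n)⁻¹ = (w : G)
  rw [hw]
  unfold cmt at hc
  have h3 : h ^ p ^ n * ((u : G) * h) ^ p ^ n = ((u : G) * h) ^ p ^ n * h ^ p ^ n := by
    calc h ^ p ^ n * ((u : G) * h) ^ p ^ n
        = (h ^ p ^ n * ((u : G) * h) ^ p ^ n * (h ^ p ^ n)⁻¹ * (((u : G) * h) ^ p ^ n)⁻¹) *
          (((u : G) * h) ^ p ^ n * h ^ p ^ n) := by group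
      _ = ((u : G) * h) ^ p ^ n * h ^ p ^ n := by rw [hc, one_mul]
  calc h ^ p ^ n * (((u : G) * h) ^ p ^ n * (h ^ p ^ n)⁻¹) * (h ^ p ^ n)⁻¹
      = (h ^ p ^ n * ((u : G) * h) ^ p ^ n) * (h ^ p ^ n)⁻¹ * (h ^ p ^ n)⁻¹ := by group
    _ = ((u : G) * h) ^ p ^ n * (h ^ p ^ n)⁻¹ := by rw [h3]; group

end Cfsg.Agent.Helper71.H2
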