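import Mathlib
import Cfsg.Agent.Lib.Helper31.H2Defs

set_option autoImplicit false

/-!
# H2 (D2) `pp_structure` for helper31's S3786 server
-/

namespace Cfsg.Agent.Helper71.H2

open Cfsg Cfsg.Agent.Helper31.H2 Cfsg.Agent.Helper31.HHB Cfsg.Agent.Helper48.Wreath

/-- In a finite `p`-group, a nontrivial normal subgroup contains a nontrivial central element
(same argument as `Helper23.FrobCoprime.exists_central_mem_normal`). -/
theorem d2_exists_central_mem_normal {P : Type*} [Group P] [Finite P] {p : ℕ} [Fact p.Prime]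
    (hP : IsPGroup p P) (Q : Subgroup P) [Q.Normal] (hQ : Q ≠ ⊥) :
    ∃ z ∈ Q, z ≠ 1 ∧ ∀ x : P, x * z = z * x := by
  classical
  have hQp : IsPGroup p Q := hP.to_subgroup Q
  obtain ⟨n, hn⟩ := IsPGroup.iff_card.mp hQp
  have hn0 : n ≠ 0 := by
    rintro rfl
    rw [pow_zero] at hn
    exact hQ ((Subgroup.card_eq_one).mp hn)
  have hdvd : p ∣ Nat.card Q := by
    rw [hn]; exact dvd_pow_self p hn0
  have hPc : IsPGroup p (ConjAct P) := hP
  have h1 : (1 : Q) ∈ MulAction.fixedPoints (ConjAct P) Q := by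
    intro g
    exact smul_one g
  obtain ⟨b, hb, hb1⟩ := hPc.exists_fixed_point_of_prime_dvd_card_of_fixed_point Q hdvd h1
  refine ⟨(b : P), b.2, ?_, ?_⟩
  · intro h
    exact hb1 (Subtype.ext h.symm)
  · intro x
    have h2 := hb (ConjAct.toConjAct x)
    have h3 : ((ConjAct.toConjAct x • b : Q) : P) = x * (b : P) * x⁻¹ := rfl
    rw [h2] at h3
    calc x * (b : P) = (x * (b : P) * x⁻¹) * x := by group
      _ = (b : P) * x := by rw [← h3]

/-- an integer power of an element of order dividing `p` is a `ZMod p`-power -/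
theorem d2_zpow_eq_pow_val {H : Type*} [Group H] {p : ℕ} [Fact p.Prime] (c : H) (hc : c ^ p = 1)
    (k : ℤ) : c ^ k = c ^ ((k : ZMod p).val) := by
  have hp : p.Prime := Fact.out
  have h1 : ((((k : ZMod p).val : ℕ)) : ℤ) = k % (p : ℤ) := ZMod.val_intCast k
  have h2 : k = (p : ℤ) * (k / (p : ℤ)) + k % (p : ℤ) := (Int.mul_ediv_add_emod k p).symm
  have h3 : c ^ k = c ^ ((p : ℤ) * (k / (p : ℤ)) + k % (p : ℤ)) := by rw [← h2]
  rw [h3, zpow_add, zpow_mul, zpow_natCast, hc, one_zpow, one_mul, ← h1, zpow_natCast]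

/-- (D2) Structure of a non-central normal subgroup of type `(p,p)` of a `p`-group. -/
theorem pp_structure {H : Type*} [Group H] [Finite H] {p : ℕ} [Fact p.Prime] (B M : Subgroup H)
    (hB : IsPGroup p B) (hMB : M ≤ B) (hMn : ∀ b ∈ B, ∀ m ∈ M, b * m * b⁻¹ ∈ M)
    (hMc : ∀ x ∈ M, ∀ y ∈ M, x * y = y * x) (hMp : ∀ x ∈ M, x ^ p = 1) (hMcard : Nat.card M = p ^ 2)
    (hnc : ∃ m ∈ M, ∃ b ∈ B, b * m ≠ m * b) :
    ∃ a ∈ M, ∃ c ∈ M, c ≠ 1 ∧ (∀ b ∈ B, b * c = c * b) ∧ (∃ b ∈ B, b * a ≠ a * b) ∧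
      ∀ b ∈ B, ∃ t : ZMod p, b * a * b⁻¹ = a * c ^ t.val := by
  classical
  have hp : p.Prime := Fact.out
  have hPp : IsPGroup p ↥B := hB
  set Q : Subgroup ↥B := M.subgroupOf B with hQ
  have hQn : Q.Normal := ⟨fun n hn g => by
    rw [hQ, Subgroup.mem_subgroupOf] at hn ⊢
    have := hMn g g.2 n hn
    simpa using this⟩
  have hQcard : Nat.card Q = p ^ 2 := by
    rw [← hMcard]
    exact Nat.card_congr (Subgroup.subgroupOfEquivOfLe hMB).toEquiv
  have hQne : Q ≠ ⊥ := by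
    intro h
    rw [h, Subgroup.card_bot] at hQcard
    have : 1 < p ^ 2 := Nat.one_lt_pow (by norm_num) hp.one_lt
    omega
  obtain ⟨z, hzQ, hz1, hzc⟩ := d2_exists_central_mem_normal hPp Q hQne
  set Z₀ : Subgroup ↥B := Q ⊓ Subgroup.center ↥B with hZ₀
  have hZ₀n : Z₀.Normal := by rw [hZ₀]; infer_instance
  have hzZ₀ : z ∈ Z₀ := by
    exact Subgroup.mem_inf.mpr ⟨hzQ, Subgroup.mem_center_iff.mpr hzc⟩
  have hZ₀Q : Z₀ ≠ Q := by
    intro h
    obtain ⟨m, hm, b, hb, hbm⟩ := hnc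
    have hmQ : (⟨m, hMB hm⟩ : ↥B) ∈ Q := by
      rw [hQ, Subgroup.mem_subgroupOf]; exact hm
    rw [← h] at hmQ
    have := (Subgroup.mem_center_iff.mp hmQ.2) ⟨b, hb⟩
    exact hbm (congrArg Subtype.val this)
  -- card Z₀ = p
  have hZ₀card : Nat.card Z₀ = p := by
    have hdvd : Nat.card Z₀ ∣ p ^ 2 := by
      rw [← hQcard]; exact Subgroup.card_dvd_of_le inf_le_left
    obtain ⟨i, hi, hci⟩ := (Nat.dvd_prime_pow hp).mp hdvd
    interval_cases i
    · exfalso
      rw [pow_zero] at hci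
      have := (Subgroup.card_eq_one).mp hci
      rw [this, Subgroup.mem_bot] at hzZ₀
      exact hz1 hzZ₀
    · simpa using hci
    · exfalso
      apply hZ₀Q
      apply Subgroup.eq_of_le_of_card_ge inf_le_left
      rw [hci, hQcard]
  -- Z₀ = zpowers z
  have hzp : z ^ p = 1 := by
    apply Subtype.ext
    have : (z : H) ∈ M := by
      rw [hQ, Subgroup.mem_subgroupOf] at hzQ; exact hzQ
    simpa using hMp _ this
  have hzord : orderOf z = p := by
    have h1 : orderOf z ∣ p := orderOf_dvd_of_pow_eq_one hzp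
    rcases (Nat.dvd_prime hp).mp h1 with h | h
    · exact absurd (orderOf_eq_one_iff.mp h) hz1
    · exact h
  have hzpow : Subgroup.zpowers z = Z₀ := by
    apply Subgroup.eq_of_le_of_card_ge
    · rw [Subgroup.zpowers_le]; exact hzZ₀
    · rw [Nat.card_zpowers, hzord, hZ₀card]
  -- the quotient
  have hPq : IsPGroup p (↥B ⧸ Z₀) := hPp.to_quotient Z₀
  set Zq : Subgroup (↥B ⧸ Z₀) := Q.map (QuotientGroup.mk' Z₀) with hZq
  have hZqn : Zq.Normal := Subgroup.Normal.map hQn _ (QuotientGroup.mk'_surjective Z₀)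
  have hZqne : Zq ≠ ⊥ := by
    intro h
    rw [hZq, Subgroup.map_eq_bot_iff, QuotientGroup.ker_mk'] at h
    exact hZ₀Q (le_antisymm inf_le_left h)
  obtain ⟨w, hwZq, hw1, hwc⟩ := d2_exists_central_mem_normal hPq Zq hZqne
  obtain ⟨x, hxQ, hxw⟩ := Subgroup.mem_map.mp hwZq
  have hxZ₀ : x ∉ Z₀ := by
    intro h
    apply hw1
    rw [← hxw]
    exact (QuotientGroup.eq_one_iff x).mpr h
  have hcomm : ∀ g : ↥B, g * x * g⁻¹ * x⁻¹ ∈ Z₀ := by
    intro g
    have h1 := hwc (QuotientGroup.mk' Z₀ g)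
    rw [← hxw] at h1
    rw [← QuotientGroup.eq_one_iff]
    have h2 : ((g * x * g⁻¹ * x⁻¹ : ↥B) : ↥B ⧸ Z₀) =
        (QuotientGroup.mk' Z₀ g) * (QuotientGroup.mk' Z₀ x) * (QuotientGroup.mk' Z₀ g)⁻¹ *
          (QuotientGroup.mk' Z₀ x)⁻¹ := by
      simp
    rw [h2, h1]
    group
  have hxM : (x : H) ∈ M := by
    rw [hQ, Subgroup.mem_subgroupOf] at hxQ; exact hxQ
  have hzM : (z : H) ∈ M := by
    rw [hQ, Subgroup.mem_subgroupOf] at hzQ; exact hzQ
  refine ⟨(x : H), hxM, (z : H), hzM, ?_, ?_, ?_, ?_⟩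
  · intro h
    exact hz1 (Subtype.ext h)
  · intro b hb
    exact congrArg Subtype.val (hzc ⟨b, hb⟩)
  · by_contra hcon
    push Not at hcon
    apply hxZ₀
    refine Subgroup.mem_inf.mpr ⟨hxQ, Subgroup.mem_center_iff.mpr ?_⟩
    intro g
    apply Subtype.ext
    exact hcon g g.2
  · intro b hb
    have h1 := hcomm ⟨b, hb⟩
    rw [← hzpow] at h1
    obtain ⟨k, hk⟩ := Subgroup.mem_zpowers_iff.mp h1
    have h2 : (z : H) ^ k = b * (x : H) * b⁻¹ * (x : H)⁻¹ := by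
      have := congrArg Subtype.val hk
      simpa using this
    have hzpH : (z : H) ^ p = 1 := hMp _ hzM
    refine ⟨(k : ZMod p), ?_⟩
    rw [← d2_zpow_eq_pow_val (z : H) hzpH k, h2]
    have h3 : b * (x : H) * b⁻¹ ∈ M := hMn b hb _ hxM
    have h4 := hMc _ hxM _ (M.mul_mem h3 (M.inv_mem hxM))
    rw [h4]
    group

end Cfsg.Agent.Helper71.H2
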