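import Mathlib
import Cfsg.Agent.Lib.Helper31.H2Defs

set_option autoImplicit false

/-!
# H2 (E5) `Rj_not_le` for helper31's S3786 server
-/

namespace Cfsg.Agent.Helper71.H2

open Cfsg Cfsg.Agent.Helper31.H2 Cfsg.Agent.Helper31.HHB Cfsg.Agent.Helper48.Wreath

/-- conjugation by `b ^ (n+1)` -/
theorem e5_conj_pow_succ {H : Type*} [Group H] (k x : H) (i : ℕ) :
    k * (k ^ i * x * (k ^ i)⁻¹) * k⁻¹ = k ^ (i + 1) * x * (k ^ (i + 1))⁻¹ := by
  rw [pow_succ']
  group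

/-- (E5) No piece `Rj j` lies in `R₁`. -/
theorem Rj_not_le {H : Type*} [Group H] [Finite H] {p : ℕ} [Fact p.Prime] (B R R₁ : Subgroup H) (a c : H)
    (h : DecHyp p B R R₁ a c) (hgen : R ≤ ⨆ j : ZMod p, Rj R a c j)
    (hperm : ∀ b ∈ B, ∀ t : ZMod p, b * a * b⁻¹ = a * c ^ t.val →
      ∀ j : ZMod p, ∀ g ∈ Rj R a c j, b * g * b⁻¹ ∈ Rj R a c (j + t)) :
    ∀ j : ZMod p, ¬ Rj R a c j ≤ R₁ := by
  intro j hj
  obtain ⟨b, hbB, hba⟩ := h.a_nc
  obtain ⟨t, hbt⟩ := h.conj b hbB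
  have ht : t ≠ 0 := by
    intro h0
    apply hba
    rw [h0, ZMod.val_zero, pow_zero, mul_one] at hbt
    calc b * a = (b * a * b⁻¹) * b := by group
      _ = a * b := by rw [hbt]
  have hloc : ∀ (i : ZMod p) (n : ℕ), ∀ g ∈ Rj R a c i,
      b ^ n * g * (b ^ n)⁻¹ ∈ Rj R a c (i + (n : ZMod p) * t) := by
    intro i n
    induction n with
    | zero =>
      intro g hg
      simpa using hg
    | succ n ih =>
      intro g hg
      have h1 := hperm b hbB t hbt _ _ (ih g hg)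
      rw [e5_conj_pow_succ] at h1
      have e : i + ((n + 1 : ℕ) : ZMod p) * t = i + (n : ZMod p) * t + t := by
        push_cast; ring
      rw [e]
      exact h1
  have hall : ∀ i : ZMod p, Rj R a c i ≤ R₁ := by
    intro i g hg
    set n : ℕ := ((j - i) * t⁻¹).val with hn
    have h1 := hloc i n g hg
    have e : i + (n : ZMod p) * t = j := by
      rw [hn, ZMod.natCast_zmod_val, mul_assoc, inv_mul_cancel₀ ht, mul_one]
      ring
    rw [e] at h1
    have h2 := hj h1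
    have hbn : (b ^ n)⁻¹ ∈ B := B.inv_mem (B.pow_mem hbB n)
    have h3 := h.cfg.invR₁ _ hbn _ h2
    have e2 : (b ^ n)⁻¹ * (b ^ n * g * (b ^ n)⁻¹) * ((b ^ n)⁻¹)⁻¹ = g := by group
    rw [e2] at h3
    exact h3
  have hR : R ≤ R₁ := hgen.trans (iSup_le hall)
  exact h.cfg.ne (le_antisymm h.cfg.le hR)

end Cfsg.Agent.Helper71.H2
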