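import Mathlib

/-!
# Half-transitive groups of automorphisms (Isaacs–Passman, elementary part)

Inside a finite group `G` let `H` be a subgroup and `N` a normal subgroup such that the
centralizers `H ∩ C_G(x)` of the non-identity elements `x` of `N` all have the same order `e > 1`,
and `H ∩ C_G(N) = 1`.  Then `N` is abelian and has no proper non-trivial `H`-invariant subgroup.
-/

set_option autoImplicit false

namespace Cfsg.Agent.Helper71.HalfTrans

section counting

/-- if all point stabilizers have order `e` then `|A|` divides `e * |X|` -/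
theorem card_dvd_of_card_stabilizer {A X : Type*} [Group A] [Finite A] [MulAction A X] [Finite X]
    (e : ℕ) (h : ∀ x : X, Nat.card (MulAction.stabilizer A x) = e) :
    Nat.card A ∣ e * Nat.card X := by
  classical
  have e1 : (Σ g : A, MulAction.fixedBy X g) ≃ Σ b : X, MulAction.stabilizer A b :=
    calc (Σ g : A, MulAction.fixedBy X g) ≃ { ab : A × X // ab.1 • ab.2 = ab.2 } :=
          (Equiv.subtypeProdEquivSigmaSubtype _).symm
      _ ≃ { ba : X × A // ba.2 • ba.1 = ba.1 } :=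
          (Equiv.prodComm A X).subtypeEquiv fun _ => Iff.rfl
      _ ≃ Σ b : X, MulAction.stabilizer A b :=
          Equiv.subtypeProdEquivSigmaSubtype fun (b : X) a => a ∈ MulAction.stabilizer A b
  have e2 := MulAction.sigmaFixedByEquivOrbitsProdGroup A X
  have c1 : Nat.card (Σ b : X, MulAction.stabilizer A b) = e * Nat.card X := by
    haveI := Fintype.ofFinite X
    rw [Nat.card_sigma]
    simp only [h, Finset.sum_const, Finset.card_univ, smul_eq_mul, Nat.card_eq_fintype_card,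
      mul_comm]
  have c2 : Nat.card (Σ g : A, MulAction.fixedBy X g) =
      Nat.card (Quotient (MulAction.orbitRel A X)) * Nat.card A := by
    rw [Nat.card_congr e2, Nat.card_prod]
  rw [← c1, ← Nat.card_congr e1, c2]
  exact Dvd.intro_left _ rfl

end counting

variable {G : Type*} [Group G]

/-- the action of a subgroup by conjugation on an invariant subset -/
def conjOn (A : Subgroup G) (S : Set G) (hS : ∀ a ∈ A, ∀ s ∈ S, a * s * a⁻¹ ∈ S) :
    MulAction A S where
  smul a s := ⟨a * s * a⁻¹, hS a a.2 s s.2⟩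
  one_smul s := by
    apply Subtype.ext
    show ((1 : A) : G) * s * ((1 : A) : G)⁻¹ = s
    simp
  mul_smul a b s := by
    apply Subtype.ext
    show ((a * b : A) : G) * s * ((a * b : A) : G)⁻¹ = a * (b * s * (b : G)⁻¹) * (a : G)⁻¹
    rw [Subgroup.coe_mul]
    group

theorem conjOn_smul_coe (A : Subgroup G) (S : Set G)
    (hS : ∀ a ∈ A, ∀ s ∈ S, a * s * a⁻¹ ∈ S) (a : A) (s : S) :
    (((conjOn A S hS).toSMul.smul a s : S) : G) = a * s * (a : G)⁻¹ := rfl

/-- the point stabilizers of `conjOn` are the centralizers -/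
theorem card_stabilizer_conjOn (A : Subgroup G) (S : Set G)
    (hS : ∀ a ∈ A, ∀ s ∈ S, a * s * a⁻¹ ∈ S) (s : S) :
    Nat.card (@MulAction.stabilizer A S _ (conjOn A S hS) s) =
      Nat.card (A ⊓ Subgroup.centralizer ({(s : G)} : Set G) : Subgroup G) := by
  letI := conjOn A S hS
  refine Nat.card_congr
    { toFun := fun a => ⟨(a.1 : G), ⟨a.1.2, ?_⟩⟩
      invFun := fun b => ⟨⟨b.1, b.2.1⟩, ?_⟩
      left_inv := fun a => rfl
      right_inv := fun b => rfl }
  · apply Subgroup.mem_centralizer_singleton_iff.mpr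
    have h1 : a.1 • s = s := a.2
    have h2 : ((a.1 • s : S) : G) = a.1 * s * (a.1 : G)⁻¹ := rfl
    have h3 : (a.1 : G) * s * (a.1 : G)⁻¹ = s := by rw [← h2, h1]
    calc (a.1 : G) * s = (a.1 : G) * s * (a.1 : G)⁻¹ * a.1 := by group
      _ = s * a.1 := by rw [h3]
  · have hb := Subgroup.mem_centralizer_singleton_iff.mp b.2.2
    show (⟨b.1, b.2.1⟩ : A) • s = s
    apply Subtype.ext
    show (b.1 : G) * s * (b.1 : G)⁻¹ = s
    rw [hb]
    group

/-- counting lemma for conjugation on an invariant subset -/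
theorem conj_count [Finite G] (A : Subgroup G) (S : Set G)
    (hS : ∀ a ∈ A, ∀ s ∈ S, a * s * a⁻¹ ∈ S) (e : ℕ)
    (he : ∀ s ∈ S, Nat.card (A ⊓ Subgroup.centralizer ({s} : Set G) : Subgroup G) = e) :
    Nat.card A ∣ e * Nat.card S := by
  letI := conjOn A S hS
  apply card_dvd_of_card_stabilizer
  intro s
  rw [card_stabilizer_conjOn A S hS s]
  exact he s s.2

/-- the size of an orbit under conjugation divides the group order -/
theorem card_orbit_dvd [Finite G] (A : Subgroup G) (x : G) :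
    Nat.card {y : G | ∃ n ∈ A, y = n * x * n⁻¹} ∣ Nat.card A := by
  set K : Set G := {y : G | ∃ n ∈ A, y = n * x * n⁻¹} with hK
  have hS : ∀ a ∈ A, ∀ s ∈ K, a * s * a⁻¹ ∈ K := by
    rintro a ha s ⟨n, hn, rfl⟩
    exact ⟨a * n, A.mul_mem ha hn, by group⟩
  letI := conjOn A K hS
  have hx : x ∈ K := ⟨1, A.one_mem, by simp⟩
  haveI : MulAction.IsPretransitive A K := by
    constructor
    rintro ⟨s, n, hn, rfl⟩ ⟨s', n', hn', rfl⟩
    refine ⟨⟨n' * n⁻¹, A.mul_mem hn' (A.inv_mem hn)⟩, ?_⟩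
    apply Subtype.ext
    show (n' * n⁻¹) * (n * x * n⁻¹) * (n' * n⁻¹)⁻¹ = n' * x * n'⁻¹
    group
  rw [← MulAction.index_stabilizer_of_transitive A (⟨x, hx⟩ : K)]
  exact Subgroup.index_dvd_card _

/-- setwise stabilizer of `S` under conjugation -/
def conjStab (S : Set G) : Subgroup G where
  carrier := {g | ∀ s, g * s * g⁻¹ ∈ S ↔ s ∈ S}
  one_mem' := by
    intro s
    simp
  mul_mem' := by
    intro a b ha hb s
    have h : a * b * s * (a * b)⁻¹ = a * (b * s * b⁻¹) * a⁻¹ := by group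
    rw [h, ha, hb]
  inv_mem' := by
    intro a ha s
    have h := ha (a⁻¹ * s * a⁻¹⁻¹)
    have h2 : a * (a⁻¹ * s * a⁻¹⁻¹) * a⁻¹ = s := by group
    rw [h2] at h
    exact h.symm

theorem mem_conjStab {S : Set G} {g : G} : g ∈ conjStab S ↔ ∀ s, g * s * g⁻¹ ∈ S ↔ s ∈ S :=
  Iff.rfl

theorem le_conjStab {S : Set G} (B : Subgroup G) (h : ∀ b ∈ B, ∀ s ∈ S, b * s * b⁻¹ ∈ S) :
    B ≤ conjStab S := by
  intro b hb s
  constructor
  · intro hs
    have := h b⁻¹ (B.inv_mem hb) _ hs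
    have h2 : b⁻¹ * (b * s * b⁻¹) * b⁻¹⁻¹ = s := by group
    rwa [h2] at this
  · exact h b hb s

section core

/-- `T H x = H ∩ C_G(x)` -/
abbrev T (H : Subgroup G) (x : G) : Subgroup G := H ⊓ Subgroup.centralizer ({x} : Set G)

theorem mem_T {H : Subgroup G} {x h : G} : h ∈ T H x ↔ h ∈ H ∧ h * x = x * h := by
  rw [T, Subgroup.mem_inf, Subgroup.mem_centralizer_singleton_iff]

/-- the hypotheses: all `H ∩ C(x)`, `1 ≠ x ∈ N`, have order `e > 1`, and `H ∩ C(N) = 1` -/
structure Hyp (H N : Subgroup G) (e : ℕ) : Prop where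
  one_lt : 1 < e
  card : ∀ x ∈ N, x ≠ 1 → Nat.card (T H x) = e
  faith : ∀ h ∈ H, (∀ x ∈ N, h * x = x * h) → h = 1

variable [Finite G] {H N : Subgroup G} {e : ℕ}

theorem Hyp.T_eq_of_le (hyp : Hyp H N e) {x y : G} (hx : x ∈ N) (hx1 : x ≠ 1) (hy : y ∈ N)
    (hy1 : y ≠ 1) (hle : T H x ≤ T H y) : T H x = T H y :=
  Subgroup.eq_of_le_of_card_ge hle (by rw [hyp.card y hy hy1, hyp.card x hx hx1])

theorem Hyp.T_eq_of_comm (hyp : Hyp H N e) {x y : G} (hx : x ∈ N) (hx1 : x ≠ 1) (hy : y ∈ N)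
    (hy1 : y ≠ 1) (hc : ∀ h ∈ T H x, h * y = y * h) : T H y = T H x := by
  refine (hyp.T_eq_of_le hx hx1 hy hy1 ?_).symm
  intro h hh
  exact mem_T.mpr ⟨(mem_T.mp hh).1, hc h hh⟩

theorem Hyp.T_ne_bot (hyp : Hyp H N e) {x : G} (hx : x ∈ N) (hx1 : x ≠ 1) : T H x ≠ ⊥ := by
  intro h
  have := hyp.card x hx hx1
  rw [h, Subgroup.card_bot] at this
  have := hyp.one_lt
  omega

/-- for an `H`-invariant subgroup `M ≤ N`, `|H|` divides `e (|M| - 1)` -/
theorem Hyp.exists_t (hyp : Hyp H N e) (M : Subgroup G) (hMN : M ≤ N)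
    (hM : ∀ h ∈ H, ∀ k ∈ M, h * k * h⁻¹ ∈ M) :
    ∃ t, Nat.card H ∣ e * t ∧ t + 1 = Nat.card M := by
  set S : Set G := (M : Set G) \ {1} with hSdef
  have hS : ∀ a ∈ H, ∀ s ∈ S, a * s * a⁻¹ ∈ S := by
    rintro a ha s ⟨hs, hs1⟩
    refine ⟨hM a ha s hs, ?_⟩
    intro h
    apply hs1
    rw [Set.mem_singleton_iff] at h ⊢
    calc s = a⁻¹ * (a * s * a⁻¹) * a := by group
      _ = 1 := by rw [h]; group
  have he : ∀ s ∈ S, Nat.card (H ⊓ Subgroup.centralizer ({s} : Set G) : Subgroup G) = e := by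
    rintro s ⟨hs, hs1⟩
    exact hyp.card s (hMN hs) (by simpa using hs1)
  refine ⟨Nat.card S, conj_count H S hS e he, ?_⟩
  rw [Nat.card_coe_set_eq, hSdef, Set.ncard_sdiff_singleton_add_one (M.one_mem) (Set.toFinite _),
    ← Nat.card_coe_set_eq]
  rfl

/-- rigidity: a subgroup `A ≤ H` stabilizing a set `S ⊆ N ∖ 1` of size coprime to `|H|/e` and
containing all `T s`, `s ∈ S`, equals each of them -/
theorem Hyp.rigid (hyp : Hyp H N e) (S : Set G) (A : Subgroup G) (hAH : A ≤ H)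
    (hSN : ∀ s ∈ S, s ∈ N ∧ s ≠ 1) (hAS : ∀ a ∈ A, ∀ s ∈ S, a * s * a⁻¹ ∈ S)
    (hTA : ∀ s ∈ S, T H s ≤ A) (t : ℕ) (ht : Nat.card H ∣ e * t)
    (hco : (Nat.card S).Coprime t) : ∀ s ∈ S, T H s = A := by
  intro s hs
  have he0 : 0 < e := by have := hyp.one_lt; omega
  have hinf : ∀ s' ∈ S, (A ⊓ Subgroup.centralizer ({s'} : Set G) : Subgroup G) = T H s' := by
    intro s' hs'
    apply le_antisymm
    · exact inf_le_inf_right _ hAH
    · exact le_inf (hTA s' hs') inf_le_right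
  have hcount : Nat.card A ∣ e * Nat.card S := by
    apply conj_count A S hAS e
    intro s' hs'
    rw [hinf s' hs']
    exact hyp.card s' (hSN s' hs').1 (hSN s' hs').2
  have hdvd : e ∣ Nat.card A := by
    rw [← hyp.card s (hSN s hs).1 (hSN s hs).2]
    exact Subgroup.card_dvd_of_le (hTA s hs)
  obtain ⟨j, hj⟩ := hdvd
  have h1 : j ∣ Nat.card S := by
    rw [hj] at hcount
    exact Nat.dvd_of_mul_dvd_mul_left he0 hcount
  have h2 : j ∣ t := by
    have : Nat.card A ∣ e * t := (Subgroup.card_dvd_of_le hAH).trans ht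
    rw [hj] at this
    exact Nat.dvd_of_mul_dvd_mul_left he0 this
  have h3 : j = 1 := Nat.eq_one_of_dvd_coprimes hco h1 h2
  apply Subgroup.eq_of_le_of_card_ge (hTA s hs)
  rw [hj, h3, mul_one, hyp.card s (hSN s hs).1 (hSN s hs).2]

variable [hN : N.Normal]

/-- conjugate elements of `N` have the same centralizer in `H` -/
theorem Hyp.T_conj (hyp : Hyp H N e) {x : G} (hx : x ∈ N) (hx1 : x ≠ 1) {n : G} (hn : n ∈ N) :
    T H (n * x * n⁻¹) = T H x := by
  set K : Set G := {y : G | ∃ n ∈ N, y = n * x * n⁻¹} with hK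
  obtain ⟨t, ht, ht1⟩ := hyp.exists_t N le_rfl (fun h _ k hk => hN.conj_mem k hk h)
  have hKN : ∀ s ∈ K, s ∈ N ∧ s ≠ 1 := by
    rintro s ⟨n, hn, rfl⟩
    refine ⟨hN.conj_mem x hx n, ?_⟩
    intro h
    apply hx1
    calc x = n⁻¹ * (n * x * n⁻¹) * n := by group
      _ = 1 := by rw [h]; group
  have hTK : ∀ s ∈ K, T H s ≤ H ⊓ conjStab K := by
    rintro s ⟨n, hn, rfl⟩
    refine le_inf inf_le_left ?_
    apply le_conjStab
    rintro b hb s' ⟨n', hn', rfl⟩
    have hb2 := (mem_T.mp hb).2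
    refine ⟨b * (n' * n⁻¹) * b⁻¹ * n, N.mul_mem (hN.conj_mem _ (N.mul_mem hn' (N.inv_mem hn)) b) hn,
      ?_⟩
    have e1 : b * (n' * x * n'⁻¹) * b⁻¹ =
        (b * (n' * n⁻¹) * b⁻¹) * (b * (n * x * n⁻¹) * b⁻¹) * (b * (n' * n⁻¹) * b⁻¹)⁻¹ := by group
    have e2 : b * (n * x * n⁻¹) * b⁻¹ = n * x * n⁻¹ := by
      rw [hb2]; group
    rw [e1, e2]
    group
  have hco : (Nat.card K).Coprime t := by
    have h1 : Nat.card K ∣ t + 1 := by
      rw [ht1]
      exact card_orbit_dvd N x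
    have h2 : (t + 1).Coprime t := by simp
    exact Nat.Coprime.coprime_dvd_left h1 h2
  have key := hyp.rigid K (H ⊓ conjStab K) inf_le_left hKN
    (fun a ha s hs => (mem_conjStab.mp ha.2 s).mpr hs) hTK t ht hco
  have hxK : x ∈ K := ⟨1, N.one_mem, by simp⟩
  have hnK : n * x * n⁻¹ ∈ K := ⟨n, hn, rfl⟩
  rw [key _ hnK, key _ hxK]

theorem Hyp.T_inv (hyp : Hyp H N e) {x : G} (hx : x ∈ N) (hx1 : x ≠ 1) :
    T H x⁻¹ = T H x := by
  apply hyp.T_eq_of_comm hx hx1 (N.inv_mem hx) (by simpa using hx1)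
  intro h hh
  have := (mem_T.mp hh).2
  calc h * x⁻¹ = x⁻¹ * (x * h) * x⁻¹ := by group
    _ = x⁻¹ * (h * x) * x⁻¹ := by rw [this]
    _ = x⁻¹ * h := by group

/-- elements with different centralizers in `H` commute -/
theorem Hyp.comm_of_ne (hyp : Hyp H N e) {x y : G} (hx : x ∈ N) (hx1 : x ≠ 1) (hy : y ∈ N)
    (hy1 : y ≠ 1) (hne : T H x ≠ T H y) : x * y = y * x := by
  by_contra hxy
  set c := x * y * x⁻¹ * y⁻¹ with hc
  have hcN : c ∈ N := N.mul_mem (N.mul_mem (N.mul_mem hx hy) (N.inv_mem hx)) (N.inv_mem hy)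
  have hc1 : c ≠ 1 := by
    intro h
    apply hxy
    calc x * y = (x * y * x⁻¹ * y⁻¹) * y * x := by group
      _ = y * x := by rw [← hc, h, one_mul]
  -- `c` is centralized by `T y`
  have h1 : T H c = T H y := by
    apply hyp.T_eq_of_comm hy hy1 hcN hc1
    intro h hh
    have hh' : h ∈ T H (x * y * x⁻¹) := by rw [hyp.T_conj hy hy1 hx]; exact hh
    have a1 := (mem_T.mp hh').2
    have a2 := (mem_T.mp hh).2
    have a3 : h * y⁻¹ = y⁻¹ * h := by
      calc h * y⁻¹ = y⁻¹ * (y * h) * y⁻¹ := by group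
        _ = y⁻¹ * (h * y) * y⁻¹ := by rw [a2]
        _ = y⁻¹ * h := by group
    calc h * c = (h * (x * y * x⁻¹)) * y⁻¹ := by rw [hc]; group
      _ = (x * y * x⁻¹) * (h * y⁻¹) := by rw [a1]; group
      _ = c * h := by rw [a3, hc]; group
  have h2 : T H c = T H x := by
    apply hyp.T_eq_of_comm hx hx1 hcN hc1
    intro h hh
    have hh' : h ∈ T H (y * x⁻¹ * y⁻¹) := by
      rw [hyp.T_conj (N.inv_mem hx) (by simpa using hx1) hy, hyp.T_inv hx hx1]; exact hh
    have a1 := (mem_T.mp hh').2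
    have a2 := (mem_T.mp hh).2
    calc h * c = (h * x) * (y * x⁻¹ * y⁻¹) := by rw [hc]; group
      _ = x * (h * (y * x⁻¹ * y⁻¹)) := by rw [a2]; group
      _ = c * h := by rw [a1, hc]; group
  exact hne (h2.symm.trans h1)

/-- `N` is abelian -/
theorem Hyp.comm (hyp : Hyp H N e) {x x' : G} (hx : x ∈ N) (hx' : x' ∈ N) :
    x * x' = x' * x := by
  by_cases hx1 : x = 1
  · rw [hx1]; simp
  by_cases hx'1 : x' = 1
  · rw [hx'1]; simp
  by_cases hT : T H x = T H x'
  swap
  · exact hyp.comm_of_ne hx hx1 hx' hx'1 hT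
  -- an element `y` of `N` not centralized by `T x`
  obtain ⟨y, hy, hyc⟩ : ∃ y ∈ N, ¬ ∀ h ∈ T H x, h * y = y * h := by
    by_contra hall
    push Not at hall
    apply hyp.T_ne_bot hx hx1
    rw [Subgroup.eq_bot_iff_forall]
    intro h hh
    exact hyp.faith h (mem_T.mp hh).1 (fun z hz => hall z hz h hh)
  have hy1 : y ≠ 1 := by
    intro h
    apply hyc
    intro g _
    rw [h]; simp
  have hTy : T H x ≠ T H y := by
    intro h
    apply hyc
    intro g hg
    rw [h] at hg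
    exact (mem_T.mp hg).2
  have hx'y1 : x' * y ≠ 1 := by
    intro h
    apply hyc
    intro g hg
    have hyx : y = x'⁻¹ := by
      calc y = x'⁻¹ * (x' * y) := by group
        _ = x'⁻¹ := by rw [h, mul_one]
    rw [hyx]
    rw [hT, ← hyp.T_inv hx' hx'1] at hg
    exact (mem_T.mp hg).2
  have hTx'y : T H x ≠ T H (x' * y) := by
    intro h
    apply hyc
    intro g hg
    have a1 : g * (x' * y) = (x' * y) * g := by
      rw [h] at hg
      exact (mem_T.mp hg).2
    have a2 : g * x' = x' * g := by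
      rw [hT] at hg
      exact (mem_T.mp hg).2
    calc g * y = x'⁻¹ * (x' * g) * y := by group
      _ = x'⁻¹ * (g * (x' * y)) := by rw [← a2]; group
      _ = y * g := by rw [a1]; group
  have c1 := hyp.comm_of_ne hx hx1 hy hy1 hTy
  have c2 := hyp.comm_of_ne hx hx1 (N.mul_mem hx' hy) hx'y1 hTx'y
  calc x * x' = x * (x' * y) * y⁻¹ := by group
    _ = (x' * y) * x * y⁻¹ := by rw [c2]
    _ = x' * (y * x) * y⁻¹ := by group
    _ = x' * (x * y) * y⁻¹ := by rw [c1]
    _ = x' * x := by group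

/-- `N` has no proper non-trivial `H`-invariant subgroup -/
theorem Hyp.no_invariant (hyp : Hyp H N e) (M : Subgroup G) (hMN : M ≤ N)
    (hM : ∀ h ∈ H, ∀ k ∈ M, h * k * h⁻¹ ∈ M) : M = ⊥ ∨ M = N := by
  by_contra hcon
  push Not at hcon
  obtain ⟨hMbot, hMN'⟩ := hcon
  obtain ⟨k₀, hk₀1⟩ := (Subgroup.ne_bot_iff_exists_ne_one.mp hMbot)
  have hk₀ : (k₀ : G) ∈ M := k₀.2
  have hk₀1' : (k₀ : G) ≠ 1 := by
    intro h
    apply hk₀1
    exact Subtype.ext h
  obtain ⟨x₀, hx₀N, hx₀M⟩ : ∃ x ∈ N, x ∉ M := by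
    by_contra hall
    push Not at hall
    exact hMN' (le_antisymm hMN hall)
  obtain ⟨t, ht, ht1⟩ := hyp.exists_t M hMN hM
  -- the centralizer of `M` in `H`
  set C : Subgroup G := H ⊓ Subgroup.centralizer (M : Set G) with hC
  -- for `x ∉ M`: `T x ≤ C`
  have hTxC : ∀ x ∈ N, x ∉ M → T H x ≤ C := by
    intro x hxN hxM
    have hx1 : x ≠ 1 := by
      intro h
      apply hxM
      rw [h]
      exact M.one_mem
    set S : Set G := {y : G | ∃ k ∈ M, y = x * k} with hS
    have hSN : ∀ s ∈ S, s ∈ N ∧ s ≠ 1 := by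
      rintro s ⟨k, hk, rfl⟩
      refine ⟨N.mul_mem hxN (hMN hk), ?_⟩
      intro h
      apply hxM
      have : x = k⁻¹ := by
        calc x = (x * k) * k⁻¹ := by group
          _ = k⁻¹ := by rw [h, one_mul]
      rw [this]
      exact M.inv_mem hk
    have hTS : ∀ s ∈ S, T H s ≤ H ⊓ conjStab S := by
      rintro s ⟨k, hk, rfl⟩
      refine le_inf inf_le_left ?_
      apply le_conjStab
      rintro b hb s' ⟨k', hk', rfl⟩
      have hb2 := (mem_T.mp hb).2
      have hbH := (mem_T.mp hb).1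
      refine ⟨k * (b * (k⁻¹ * k') * b⁻¹), M.mul_mem hk (hM b hbH _ (M.mul_mem (M.inv_mem hk) hk')),
        ?_⟩
      calc b * (x * k') * b⁻¹ = (b * (x * k)) * (k⁻¹ * k') * b⁻¹ := by group
        _ = (x * k) * b * (k⁻¹ * k') * b⁻¹ := by rw [hb2]
        _ = x * (k * (b * (k⁻¹ * k') * b⁻¹)) := by group
    have hcard : Nat.card S = Nat.card M := by
      refine Nat.card_congr
        { toFun := fun s => ⟨x⁻¹ * s, ?_⟩
          invFun := fun k => ⟨x * k, ⟨k, k.2, rfl⟩⟩
          left_inv := fun s => by apply Subtype.ext; simp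
          right_inv := fun k => by apply Subtype.ext; simp }
      obtain ⟨k, hk, hsk⟩ := s.2
      rw [hsk]
      simpa using hk
    have hco : (Nat.card S).Coprime t := by
      rw [hcard, ← ht1]
      simp
    have key := hyp.rigid S (H ⊓ conjStab S) inf_le_left hSN
      (fun a ha s hs => (mem_conjStab.mp ha.2 s).mpr hs) hTS t ht hco
    have hxS : x ∈ S := ⟨1, M.one_mem, by simp⟩
    intro h hh
    refine ⟨(mem_T.mp hh).1, ?_⟩
    apply Subgroup.mem_centralizer_iff.mpr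
    intro k hk
    have hxk : x * k ∈ S := ⟨k, hk, rfl⟩
    have hh2 : h ∈ T H (x * k) := by rw [key _ hxk, ← key _ hxS]; exact hh
    have a1 := (mem_T.mp hh).2
    have a2 := (mem_T.mp hh2).2
    calc k * h = x⁻¹ * ((x * k) * h) := by group
      _ = x⁻¹ * (h * (x * k)) := by rw [a2]
      _ = x⁻¹ * (h * x) * k := by group
      _ = h * k := by rw [a1]; group
  -- `C ≤ T k` for `k ∈ M`
  have hCT : ∀ k ∈ M, C ≤ T H k := by
    intro k hk h hh
    refine mem_T.mpr ⟨hh.1, ?_⟩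
    have := Subgroup.mem_centralizer_iff.mp hh.2 k hk
    exact this.symm
  have hTx₀ : T H x₀ = C := by
    have hx₀1 : x₀ ≠ 1 := by
      intro h
      apply hx₀M
      rw [h]
      exact M.one_mem
    apply Subgroup.eq_of_le_of_card_ge (hTxC x₀ hx₀N hx₀M)
    calc Nat.card C ≤ Nat.card (T H (k₀ : G)) := Nat.le_of_dvd Nat.card_pos
          (Subgroup.card_dvd_of_le (hCT _ hk₀))
      _ = e := hyp.card _ (hMN hk₀) hk₀1'
      _ = Nat.card (T H x₀) := (hyp.card x₀ hx₀N hx₀1).symm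
  have hCx : ∀ x ∈ N, x ∉ M → T H x = C := by
    intro x hxN hxM
    have hx1 : x ≠ 1 := by
      intro h
      apply hxM
      rw [h]
      exact M.one_mem
    apply Subgroup.eq_of_le_of_card_ge (hTxC x hxN hxM)
    rw [← hTx₀, hyp.card x hxN hx1, hyp.card x₀ hx₀N (by
      intro h
      apply hx₀M
      rw [h]
      exact M.one_mem)]
  -- `C` centralizes `N`
  have hCbot : C = ⊥ := by
    rw [Subgroup.eq_bot_iff_forall]
    intro h hh
    apply hyp.faith h hh.1
    intro x hxN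
    by_cases hxM : x ∈ M
    · exact (Subgroup.mem_centralizer_iff.mp hh.2 x hxM).symm
    · have : h ∈ T H x := by rw [hCx x hxN hxM]; exact hh
      exact (mem_T.mp this).2
  have hx₀1 : x₀ ≠ 1 := by
    intro h
    apply hx₀M
    rw [h]
    exact M.one_mem
  exact hyp.T_ne_bot hx₀N hx₀1 (hTx₀.trans hCbot)

end core

end Cfsg.Agent.Helper71.HalfTrans
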