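import Mathlib

/-!
# Involutions in symmetric groups: common neighbours in the odd-product graph

Tools for S3265: for two involutions `x y` of the same cycle type on a finite set
there is a third one `z` with `x * z` and `z * y` of odd order (apart from the
Klein four configuration on four points).  The proof is an induction on an
"active region" `S` with local reductions.
-/

set_option autoImplicit false
set_option linter.unusedSectionVars false

namespace Cfsg.Agent.Helper71.InvGraph

open Equiv Equiv.Perm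

variable {α : Type*} [DecidableEq α] [Fintype α]

/-- `w` has odd order. -/
def OddOrd (w : Perm α) : Prop := ∃ N : ℕ, Odd N ∧ w ^ N = 1

theorem oddOrd_iff (w : Perm α) : OddOrd w ↔ Odd (orderOf w) := by
  constructor
  · rintro ⟨N, hN, h⟩
    exact Odd.of_dvd_nat hN (orderOf_dvd_of_pow_eq_one h)
  · intro h
    exact ⟨orderOf w, h, pow_orderOf_eq_one w⟩

theorem oddOrd_one : OddOrd (1 : Perm α) := ⟨1, odd_one, one_pow 1⟩

theorem OddOrd.mul_of_commute {u v : Perm α} (h : Commute u v) (hu : OddOrd u) (hv : OddOrd v) :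
    OddOrd (u * v) := by
  obtain ⟨N, hN, h1⟩ := hu
  obtain ⟨M, hM, h2⟩ := hv
  refine ⟨N * M, hN.mul hM, ?_⟩
  rw [h.mul_pow, pow_mul, h1, one_pow, mul_comm N M, pow_mul, h2, one_pow, one_mul]

theorem pow_mul_apply_eq {w : Perm α} {p : α} {j : ℕ} (h : (w ^ j) p = p) (k : ℕ) :
    (w ^ (j * k)) p = p := by
  rw [pow_mul]
  exact Equiv.Perm.pow_apply_eq_self_of_apply_eq_self h k

theorem oddOrd_of_pointwise (w : Perm α) (h : ∀ p, ∃ j, Odd j ∧ (w ^ j) p = p) : OddOrd w := by
  choose j hj1 hj2 using h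
  refine ⟨∏ p, j p, ?_, ?_⟩
  · exact Finset.prod_induction _ Odd (fun a b ha hb => ha.mul hb) odd_one (fun p _ => hj1 p)
  · ext p
    obtain ⟨k, hk⟩ := Finset.dvd_prod_of_mem j (Finset.mem_univ p)
    rw [hk, one_apply]
    exact pow_mul_apply_eq (hj2 p) k

/-- First-return lemma: `w` is obtained from `w'` by inserting pairs of extra points
(from `E`) into its cycles. -/
theorem oddOrd_of_return (w w' : Perm α) (E : Finset α)
    (hE : ∀ e ∈ E, w' e = e)
    (h1 : ∀ p, p ∉ E → w p = w' p ∨ (w p ∈ E ∧ w (w p) ∈ E ∧ w (w (w p)) = w' p))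
    (h2 : ∀ e ∈ E, (∃ p, p ∉ E ∧ (e = w p ∨ e = w (w p))) ∨ ∃ j, Odd j ∧ (w ^ j) e = e)
    (hw' : OddOrd w') : OddOrd w := by
  obtain ⟨N, hN, hw'N⟩ := hw'
  have key : ∀ p, p ∉ E → ∀ i : ℕ, ∃ j : ℕ, j % 2 = i % 2 ∧ (w ^ j) p = (w' ^ i) p ∧
      (w' ^ i) p ∉ E := by
    intro p hp i
    induction i with
    | zero => exact ⟨0, rfl, rfl, hp⟩
    | succ i ih =>
      obtain ⟨j, hj1, hj2, hj3⟩ := ih
      have hne : (w' ^ (i + 1)) p ∉ E := by
        intro hmem
        rw [pow_succ', Perm.mul_apply] at hmem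
        have := hE _ hmem
        rw [(w').injective.eq_iff] at this
        rw [this] at hmem
        exact hj3 hmem
      rcases h1 _ hj3 with h | ⟨_, _, h⟩
      · refine ⟨j + 1, by omega, ?_, hne⟩
        rw [pow_succ', Perm.mul_apply, hj2, h, pow_succ', Perm.mul_apply]
      · refine ⟨j + 3, by omega, ?_, hne⟩
        rw [pow_succ', pow_succ', pow_succ', Perm.mul_apply, Perm.mul_apply, Perm.mul_apply, hj2, h,
          pow_succ' w' i, Perm.mul_apply]
  have hout : ∀ p, p ∉ E → ∃ j, Odd j ∧ (w ^ j) p = p := by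
    intro p hp
    obtain ⟨j, hj1, hj2, -⟩ := key p hp N
    refine ⟨j, ?_, ?_⟩
    · rw [Nat.odd_iff] at hN ⊢
      omega
    · rw [hj2, hw'N, one_apply]
  apply oddOrd_of_pointwise
  intro e
  by_cases he : e ∈ E
  · rcases h2 e he with ⟨p, hp, h | h⟩ | h
    · obtain ⟨j, hj1, hj2⟩ := hout p hp
      refine ⟨j, hj1, ?_⟩
      rw [h, ← Perm.mul_apply, ← pow_succ, pow_succ', Perm.mul_apply, hj2]
    · obtain ⟨j, hj1, hj2⟩ := hout p hp
      refine ⟨j, hj1, ?_⟩
      rw [h, ← Perm.mul_apply, ← Perm.mul_apply, ← pow_succ, ← pow_succ, pow_succ', pow_succ',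
        Perm.mul_apply, Perm.mul_apply, hj2]
    · exact h
  · exact hout e he


/-! ### Removing and adding a transposition -/

theorem sq_apply {x : Perm α} (hx : x * x = 1) (u : α) : x (x u) = u := by
  rw [← Perm.mul_apply, hx, one_apply]

theorem apply_eq_of_sq {x : Perm α} (hx : x * x = 1) {u v : α} (h : x u = v) : x v = u := by
  rw [← h, sq_apply hx]

theorem sq_of_apply {x : Perm α} (h : ∀ u, x (x u) = u) : x * x = 1 := by
  ext u
  rw [Perm.mul_apply, h, one_apply]

/-- Remove the transposition `(a, x a)` from the involution `x`. -/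
def rem (x : Perm α) (a : α) : Perm α := x * swap a (x a)

theorem rem_self {x : Perm α} (hx : x * x = 1) (a : α) : rem x a a = a := by
  rw [rem, Perm.mul_apply, swap_apply_left, sq_apply hx]

theorem rem_apply (x : Perm α) (a : α) : rem x a (x a) = x a := by
  rw [rem, Perm.mul_apply, swap_apply_right]

theorem rem_of_ne (x : Perm α) {a u : α} (h1 : u ≠ a) (h2 : u ≠ x a) : rem x a u = x u := by
  rw [rem, Perm.mul_apply, swap_apply_of_ne_of_ne h1 h2]

theorem rem_sq {x : Perm α} (hx : x * x = 1) (a : α) : rem x a * rem x a = 1 := by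
  apply sq_of_apply
  intro u
  by_cases h1 : u = a
  · rw [h1, rem_self hx, rem_self hx]
  by_cases h2 : u = x a
  · rw [h2, rem_apply, rem_apply]
  rw [rem_of_ne x h1 h2, rem_of_ne x, sq_apply hx]
  · intro h
    exact h2 (by rw [← h, sq_apply hx])
  · intro h
    exact h1 (x.injective h)

theorem support_rem {x : Perm α} (hx : x * x = 1) (a : α) :
    (rem x a).support = x.support \ {a, x a} := by
  ext u
  simp only [mem_support, Finset.mem_sdiff, Finset.mem_insert, Finset.mem_singleton, not_or]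
  by_cases h1 : u = a
  · simp [h1, rem_self hx]
  by_cases h2 : u = x a
  · simp [h2, rem_apply]
  rw [rem_of_ne x h1 h2]
  simp [h1, h2]

theorem card_support_rem {x : Perm α} (hx : x * x = 1) {a : α} (ha : x a ≠ a) :
    x.support.card = (rem x a).support.card + 2 := by
  rw [support_rem hx, Finset.card_sdiff_of_subset, Finset.card_pair (Ne.symm ha)]
  · have : ({a, x a} : Finset α).card ≤ x.support.card := by
      apply Finset.card_le_card
      intro u hu
      simp only [Finset.mem_insert, Finset.mem_singleton] at hu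
      rcases hu with rfl | rfl
      · exact mem_support.mpr ha
      · rw [mem_support, sq_apply hx]; exact Ne.symm ha
    rw [Finset.card_pair (Ne.symm ha)] at this
    omega
  · intro u hu
    simp only [Finset.mem_insert, Finset.mem_singleton] at hu
    rcases hu with rfl | rfl
    · exact mem_support.mpr ha
    · rw [mem_support, sq_apply hx]; exact Ne.symm ha

/-- Add the transposition `(a, b)` to `z`. -/
def add (z : Perm α) (a b : α) : Perm α := z * swap a b

theorem add_left {z : Perm α} {a b : α} (hb : z b = b) : add z a b a = b := by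
  rw [add, Perm.mul_apply, swap_apply_left, hb]

theorem add_right {z : Perm α} {a b : α} (ha : z a = a) : add z a b b = a := by
  rw [add, Perm.mul_apply, swap_apply_right, ha]

theorem add_of_ne (z : Perm α) {a b u : α} (h1 : u ≠ a) (h2 : u ≠ b) : add z a b u = z u := by
  rw [add, Perm.mul_apply, swap_apply_of_ne_of_ne h1 h2]

theorem add_sq {z : Perm α} (hz : z * z = 1) {a b : α} (ha : z a = a) (hb : z b = b) :
    add z a b * add z a b = 1 := by
  apply sq_of_apply
  intro u
  by_cases h1 : u = a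
  · rw [h1, add_left hb, add_right ha]
  by_cases h2 : u = b
  · rw [h2, add_right ha, add_left hb]
  rw [add_of_ne z h1 h2, add_of_ne z, sq_apply hz]
  · intro h
    exact h1 (by rw [← sq_apply hz u, h, ha])
  · intro h
    exact h2 (by rw [← sq_apply hz u, h, hb])

theorem support_add {z : Perm α} {a b : α} (hab : a ≠ b) (ha : z a = a) (hb : z b = b) :
    (add z a b).support = z.support ∪ {a, b} := by
  ext u
  simp only [mem_support, Finset.mem_union, Finset.mem_insert, Finset.mem_singleton]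
  by_cases h1 : u = a
  · simp [h1, add_left hb, hab.symm]
  by_cases h2 : u = b
  · simp [h2, add_right ha, hab]
  rw [add_of_ne z h1 h2]
  simp [h1, h2]

theorem card_support_add {z : Perm α} {a b : α} (hab : a ≠ b) (ha : z a = a) (hb : z b = b) :
    (add z a b).support.card = z.support.card + 2 := by
  rw [support_add hab ha hb, Finset.card_union_of_disjoint, Finset.card_pair hab]
  rw [Finset.disjoint_left]
  intro u hu
  simp only [Finset.mem_insert, Finset.mem_singleton, not_or]
  rw [mem_support] at hu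
  exact ⟨fun h => hu (h ▸ ha), fun h => hu (h ▸ hb)⟩

theorem apply_eq_self_of_notMem {z : Perm α} {S : Finset α} (hz : z.support ⊆ S) {u : α}
    (hu : u ∉ S) : z u = u := by
  by_contra h
  exact hu (hz (mem_support.mpr h))

theorem apply_mem_of_mem {z : Perm α} {S : Finset α} (hz : z.support ⊆ S) {u : α}
    (hu : u ∈ S) : z u ∈ S := by
  by_cases h : z u = u
  · rw [h]; exact hu
  · exact hz (by rw [mem_support]; intro h'; exact h (z.injective h'))


/-! ### Solutions and reductions -/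

/-- A common neighbour of `x` and `y` exists inside the active region `S`. -/
def Sol (S : Finset α) (x y : Perm α) : Prop :=
  ∃ z : Perm α, z * z = 1 ∧ z.support ⊆ S ∧ z.support.card = x.support.card ∧
    OddOrd (x * z) ∧ OddOrd (z * y)

/-- The Klein four configuration on four points: the only obstruction. -/
def Bad (S : Finset α) (x y : Perm α) : Prop := S.card = 4 ∧ x.support = S ∧ x ≠ y

theorem Sol.mono {S T : Finset α} {x y : Perm α} (h : S ⊆ T) (hs : Sol S x y) : Sol T x y := by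
  obtain ⟨z, h1, h2, h3, h4, h5⟩ := hs
  exact ⟨z, h1, h2.trans h, h3, h4, h5⟩

theorem sol_of_oddOrd {S : Finset α} {x y : Perm α} (hx : x * x = 1) (hxS : x.support ⊆ S)
    (h : OddOrd (x * y)) : Sol S x y :=
  ⟨x, hx, hxS, rfl, by rw [hx]; exact oddOrd_one, h⟩

theorem red_endpoint {S : Finset α} {x y : Perm α} (hx : x * x = 1) (hy : y * y = 1)
    (hxS : x.support ⊆ S) (hyS : y.support ⊆ S)
    {e q : α} (he : x e ≠ e) (he' : y e = e) (hq : y q ≠ q) (hq' : x q = q)
    (h : Sol (S \ {e, q}) (rem x e) (rem y q)) : Sol S x y := by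
  obtain ⟨z', hz', hz'S, hz'c, h1, h2⟩ := h
  have heq : e ≠ q := by rintro rfl; exact he hq'
  have hfq : x e ≠ q := by
    intro h
    have := apply_eq_of_sq hx h
    rw [hq'] at this
    exact heq this.symm
  have hre : y q ≠ e := by
    intro h
    have := apply_eq_of_sq hy h
    rw [he'] at this
    exact heq this
  have hz'e : z' e = e := apply_eq_self_of_notMem hz'S (by simp)
  have hz'q : z' q = q := apply_eq_self_of_notMem hz'S (by simp)
  have hxf : x (x e) = e := sq_apply hx e
  have hyr : y (y q) = q := sq_apply hy q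
  refine ⟨add z' e q, add_sq hz' hz'e hz'q, ?_, ?_, ?_, ?_⟩
  · rw [support_add heq hz'e hz'q]
    apply Finset.union_subset (hz'S.trans Finset.sdiff_subset)
    intro u hu
    simp only [Finset.mem_insert, Finset.mem_singleton] at hu
    rcases hu with rfl | rfl
    · exact hxS (mem_support.mpr he)
    · exact hyS (mem_support.mpr hq)
  · rw [card_support_add heq hz'e hz'q, hz'c, card_support_rem hx he]
  · -- x * z
    have hze : add z' e q e = q := add_left hz'q
    have hzq : add z' e q q = e := add_right hz'e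
    apply oddOrd_of_return (x * add z' e q) (rem x e * z') {e, q} _ _ _ h1
    · intro u hu
      simp only [Finset.mem_insert, Finset.mem_singleton] at hu
      rcases hu with rfl | rfl
      · rw [Perm.mul_apply, hz'e, rem_self hx]
      · rw [Perm.mul_apply, hz'q, rem_of_ne x heq.symm (Ne.symm hfq), hq']
    · intro p hp
      simp only [Finset.mem_insert, Finset.mem_singleton, not_or] at hp
      have hzp : add z' e q p = z' p := add_of_ne z' hp.1 hp.2
      have hu1 : z' p ≠ e := by
        intro h; apply hp.1; rw [← sq_apply hz' p, h, hz'e]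
      by_cases hu : z' p = x e
      · right
        have e1 : (x * add z' e q) p = e := by rw [Perm.mul_apply, hzp, hu, hxf]
        have e2 : (x * add z' e q) e = q := by rw [Perm.mul_apply, hze, hq']
        have e3 : (x * add z' e q) q = x e := by rw [Perm.mul_apply, hzq]
        rw [e1, e2, e3]
        refine ⟨by simp, by simp, ?_⟩
        rw [Perm.mul_apply, hu, rem_apply]
      · left
        rw [Perm.mul_apply, Perm.mul_apply, hzp, rem_of_ne x hu1 hu]
    · intro u hu
      left
      have hd1 : z' (x e) ≠ e := by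
        intro h; apply he; rw [← sq_apply hz' (x e), h, hz'e]
      have hd2 : z' (x e) ≠ q := by
        intro h; apply hfq; rw [← sq_apply hz' (x e), h, hz'q]
      have e1 : (x * add z' e q) (z' (x e)) = e := by
        rw [Perm.mul_apply, add_of_ne z' hd1 hd2, sq_apply hz', hxf]
      have e2 : (x * add z' e q) e = q := by rw [Perm.mul_apply, hze, hq']
      refine ⟨z' (x e), by simp [hd1, hd2], ?_⟩
      simp only [Finset.mem_insert, Finset.mem_singleton] at hu
      rcases hu with rfl | rfl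
      · left; exact e1.symm
      · right; rw [e1, e2]
  · -- z * y
    have hze : add z' e q e = q := add_left hz'q
    have hzq : add z' e q q = e := add_right hz'e
    apply oddOrd_of_return (add z' e q * y) (z' * rem y q) {e, q} _ _ _ h2
    · intro u hu
      simp only [Finset.mem_insert, Finset.mem_singleton] at hu
      rcases hu with rfl | rfl
      · rw [Perm.mul_apply, rem_of_ne y heq (Ne.symm hre), he', hz'e]
      · rw [Perm.mul_apply, rem_self hy, hz'q]
    · intro p hp
      simp only [Finset.mem_insert, Finset.mem_singleton, not_or] at hp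
      by_cases hpr : p = y q
      · right
        have e1 : (add z' e q * y) p = e := by rw [Perm.mul_apply, hpr, hyr, hzq]
        have e2 : (add z' e q * y) e = q := by rw [Perm.mul_apply, he', hze]
        have e3 : (add z' e q * y) q = z' (y q) := by
          rw [Perm.mul_apply, add_of_ne z' hre hq]
        rw [e1, e2, e3]
        refine ⟨by simp, by simp, ?_⟩
        rw [Perm.mul_apply, hpr, rem_apply]
      · left
        have h3 : y p ≠ e := by
          intro h; apply hp.1; rw [← sq_apply hy p, h, he']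
        have h4 : y p ≠ q := by
          intro h; apply hpr; rw [← sq_apply hy p, h]
        rw [Perm.mul_apply, Perm.mul_apply, add_of_ne z' h3 h4, rem_of_ne y hp.2 hpr]
    · intro u hu
      left
      have e1 : (add z' e q * y) (y q) = e := by rw [Perm.mul_apply, hyr, hzq]
      have e2 : (add z' e q * y) e = q := by rw [Perm.mul_apply, he', hze]
      refine ⟨y q, by simp [hre, hq], ?_⟩
      simp only [Finset.mem_insert, Finset.mem_singleton] at hu
      rcases hu with rfl | rfl
      · left; exact e1.symm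
      · right; rw [e1, e2]


theorem red_C1 {S : Finset α} {x y : Perm α} (hx : x * x = 1) (hy : y * y = 1)
    (hxS : x.support ⊆ S) {a : α} (ha : x a ≠ a) (hya : y a = x a)
    (h : Sol (S \ {a, x a}) (rem x a) (rem y a)) : Sol S x y := by
  obtain ⟨z', hz', hz'S, hz'c, h1, h2⟩ := h
  have hz'a : z' a = a := apply_eq_self_of_notMem hz'S (by simp)
  have hz'b : z' (x a) = x a := apply_eq_self_of_notMem hz'S (by simp)
  have hab : a ≠ x a := Ne.symm ha
  have hxb : x (x a) = a := sq_apply hx a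
  have hyb : y (x a) = a := by rw [← hya, sq_apply hy]
  refine ⟨add z' a (x a), add_sq hz' hz'a hz'b, ?_, ?_, ?_, ?_⟩
  · rw [support_add hab hz'a hz'b]
    apply Finset.union_subset (hz'S.trans Finset.sdiff_subset)
    intro u hu
    simp only [Finset.mem_insert, Finset.mem_singleton] at hu
    rcases hu with rfl | rfl
    · exact hxS (mem_support.mpr ha)
    · exact hxS (by rw [mem_support, hxb]; exact hab)
  · rw [card_support_add hab hz'a hz'b, hz'c, card_support_rem hx ha]
  · have : x * add z' a (x a) = rem x a * z' := by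
      ext u
      rw [Perm.mul_apply, Perm.mul_apply]
      by_cases h1 : u = a
      · rw [h1, add_left hz'b, hxb, hz'a, rem_self hx]
      by_cases h2 : u = x a
      · rw [h2, add_right hz'a, hz'b, rem_apply]
      rw [add_of_ne z' h1 h2, rem_of_ne x]
      · intro h; apply h1; rw [← sq_apply hz' u, h, hz'a]
      · intro h; apply h2; rw [← sq_apply hz' u, h, hz'b]
    rw [this]; exact h1
  · have : add z' a (x a) * y = z' * rem y a := by
      ext u
      rw [Perm.mul_apply, Perm.mul_apply]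
      by_cases h1 : u = a
      · rw [h1, hya, add_right hz'a, rem_self hy, hz'a]
      by_cases h2 : u = x a
      · rw [h2, hyb, add_left hz'b, ← hya, rem_apply, hya, hz'b]
      rw [rem_of_ne y h1 (by rw [hya]; exact h2), add_of_ne z']
      · intro h; apply h2; rw [← sq_apply hy u, h, hya]
      · intro h; apply h1; rw [← sq_apply hy u, h, hyb]
    rw [this]; exact h2

/-- A window of six consecutive points on an `x`-`y` path, starting with an `x`-edge. -/
structure Window (x y : Perm α) (p0 p1 p2 p3 p4 p5 : α) : Prop where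
  h01 : x p0 = p1
  h12 : y p1 = p2
  h23 : x p2 = p3
  h34 : y p3 = p4
  h45 : x p4 = p5
  nd : [p0, p1, p2, p3, p4, p5].Nodup

theorem Window.ne {x y : Perm α} {p0 p1 p2 p3 p4 p5 : α} (W : Window x y p0 p1 p2 p3 p4 p5) :
    (p0 ≠ p1 ∧ p0 ≠ p2 ∧ p0 ≠ p3 ∧ p0 ≠ p4 ∧ p0 ≠ p5) ∧ (p1 ≠ p2 ∧ p1 ≠ p3 ∧ p1 ≠ p4 ∧ p1 ≠ p5) ∧
      (p2 ≠ p3 ∧ p2 ≠ p4 ∧ p2 ≠ p5) ∧ (p3 ≠ p4 ∧ p3 ≠ p5) ∧ p4 ≠ p5 := by
  have := W.nd
  simp only [List.nodup_cons, List.mem_cons, List.not_mem_nil, or_false, not_or,
    List.nodup_nil, and_true, not_false_eq_true] at this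
  tauto

/-- The contracted `x`. -/
def cx (x : Perm α) (p0 p2 p4 p5 : α) : Perm α := add (rem (rem (rem x p0) p2) p4) p0 p5

/-- The contracted `y`. -/
def cy (y : Perm α) (p1 p3 : α) : Perm α := rem (rem y p1) p3

theorem cx_spec {x y : Perm α} (hx : x * x = 1) {p0 p1 p2 p3 p4 p5 : α}
    (W : Window x y p0 p1 p2 p3 p4 p5) :
    cx x p0 p2 p4 p5 * cx x p0 p2 p4 p5 = 1 ∧ x.support.card = (cx x p0 p2 p4 p5).support.card + 4 ∧
    cx x p0 p2 p4 p5 p0 = p5 ∧ cx x p0 p2 p4 p5 p5 = p0 ∧ cx x p0 p2 p4 p5 p1 = p1 ∧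
    cx x p0 p2 p4 p5 p2 = p2 ∧ cx x p0 p2 p4 p5 p3 = p3 ∧ cx x p0 p2 p4 p5 p4 = p4 ∧
    ∀ u, u ≠ p0 → u ≠ p1 → u ≠ p2 → u ≠ p3 → u ≠ p4 → u ≠ p5 → cx x p0 p2 p4 p5 u = x u := by
  obtain ⟨⟨n01, n02, n03, n04, n05⟩, ⟨n12, n13, n14, n15⟩, ⟨n23, n24, n25⟩, ⟨n34, n35⟩, n45⟩ := W.ne
  obtain ⟨h01, h12, h23, h34, h45, -⟩ := W
  -- first removal
  have a1 : rem x p0 * rem x p0 = 1 := rem_sq hx p0
  have a2 : rem x p0 p0 = p0 := rem_self hx p0
  have a3 : rem x p0 p1 = p1 := by have := rem_apply x p0; rwa [h01] at this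
  have a4 : ∀ u, u ≠ p0 → u ≠ p1 → rem x p0 u = x u := fun u h1 h2 =>
    rem_of_ne x h1 (by rw [h01]; exact h2)
  have a5 : x.support.card = (rem x p0).support.card + 2 :=
    card_support_rem hx (by rw [h01]; exact n01.symm)
  -- second removal
  have b0 : rem x p0 p2 = p3 := by rw [a4 p2 n02.symm n12.symm, h23]
  have b1 : rem (rem x p0) p2 * rem (rem x p0) p2 = 1 := rem_sq a1 p2
  have b2 : rem (rem x p0) p2 p2 = p2 := rem_self a1 p2
  have b3 : rem (rem x p0) p2 p3 = p3 := by have := rem_apply (rem x p0) p2; rwa [b0] at this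
  have b4 : ∀ u, u ≠ p2 → u ≠ p3 → rem (rem x p0) p2 u = rem x p0 u := fun u h1 h2 =>
    rem_of_ne _ h1 (by rw [b0]; exact h2)
  have b5 : (rem x p0).support.card = (rem (rem x p0) p2).support.card + 2 :=
    card_support_rem a1 (by rw [b0]; exact n23.symm)
  -- third removal
  have c0 : rem (rem x p0) p2 p4 = p5 := by
    rw [b4 p4 n24.symm n34.symm, a4 p4 n04.symm n14.symm, h45]
  have c1 : rem (rem (rem x p0) p2) p4 * rem (rem (rem x p0) p2) p4 = 1 := rem_sq b1 p4
  have c2 : rem (rem (rem x p0) p2) p4 p4 = p4 := rem_self b1 p4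
  have c3 : rem (rem (rem x p0) p2) p4 p5 = p5 := by
    have := rem_apply (rem (rem x p0) p2) p4; rwa [c0] at this
  have c4 : ∀ u, u ≠ p4 → u ≠ p5 → rem (rem (rem x p0) p2) p4 u = rem (rem x p0) p2 u :=
    fun u h1 h2 => rem_of_ne _ h1 (by rw [c0]; exact h2)
  have c5 : (rem (rem x p0) p2).support.card = (rem (rem (rem x p0) p2) p4).support.card + 2 :=
    card_support_rem b1 (by rw [c0]; exact n45.symm)
  have c6 : rem (rem (rem x p0) p2) p4 p0 = p0 := by
    rw [c4 p0 n04 n05, b4 p0 n02 n03, a2]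
  -- addition
  have d1 := add_sq c1 c6 c3
  have d2 := card_support_add n05 c6 c3
  refine ⟨d1, ?_, add_left c3, add_right c6, ?_, ?_, ?_, ?_, ?_⟩
  · rw [cx, d2]; omega
  · rw [cx, add_of_ne _ n01.symm n15, c4 p1 n14 n15, b4 p1 n12 n13, a3]
  · rw [cx, add_of_ne _ n02.symm n25, c4 p2 n24 n25, b2]
  · rw [cx, add_of_ne _ n03.symm n35, c4 p3 n34 n35, b3]
  · rw [cx, add_of_ne _ n04.symm n45, c2]
  · intro u u0 u1 u2 u3 u4 u5
    rw [cx, add_of_ne _ u0 u5, c4 u u4 u5, b4 u u2 u3, a4 u u0 u1]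

theorem cy_spec {x y : Perm α} (hy : y * y = 1) {p0 p1 p2 p3 p4 p5 : α}
    (W : Window x y p0 p1 p2 p3 p4 p5) :
    cy y p1 p3 * cy y p1 p3 = 1 ∧ y.support.card = (cy y p1 p3).support.card + 4 ∧
    cy y p1 p3 p1 = p1 ∧ cy y p1 p3 p2 = p2 ∧ cy y p1 p3 p3 = p3 ∧ cy y p1 p3 p4 = p4 ∧
    ∀ u, u ≠ p1 → u ≠ p2 → u ≠ p3 → u ≠ p4 → cy y p1 p3 u = y u := by
  obtain ⟨⟨n01, n02, n03, n04, n05⟩, ⟨n12, n13, n14, n15⟩, ⟨n23, n24, n25⟩, ⟨n34, n35⟩, n45⟩ := W.ne
  obtain ⟨h01, h12, h23, h34, h45, -⟩ := W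
  have a1 : rem y p1 * rem y p1 = 1 := rem_sq hy p1
  have a2 : rem y p1 p1 = p1 := rem_self hy p1
  have a3 : rem y p1 p2 = p2 := by have := rem_apply y p1; rwa [h12] at this
  have a4 : ∀ u, u ≠ p1 → u ≠ p2 → rem y p1 u = y u := fun u h1 h2 =>
    rem_of_ne y h1 (by rw [h12]; exact h2)
  have a5 : y.support.card = (rem y p1).support.card + 2 :=
    card_support_rem hy (by rw [h12]; exact n12.symm)
  have b0 : rem y p1 p3 = p4 := by rw [a4 p3 n13.symm n23.symm, h34]
  have b1 : rem (rem y p1) p3 * rem (rem y p1) p3 = 1 := rem_sq a1 p3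
  have b2 : rem (rem y p1) p3 p3 = p3 := rem_self a1 p3
  have b3 : rem (rem y p1) p3 p4 = p4 := by have := rem_apply (rem y p1) p3; rwa [b0] at this
  have b4 : ∀ u, u ≠ p3 → u ≠ p4 → rem (rem y p1) p3 u = rem y p1 u := fun u h1 h2 =>
    rem_of_ne _ h1 (by rw [b0]; exact h2)
  have b5 : (rem y p1).support.card = (rem (rem y p1) p3).support.card + 2 :=
    card_support_rem a1 (by rw [b0]; exact n34.symm)
  refine ⟨b1, ?_, ?_, ?_, b2, b3, ?_⟩
  · rw [cy]; omega
  · rw [cy, b4 p1 n13 n14, a2]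
  · rw [cy, b4 p2 n23 n24, a3]
  · intro u u1 u2 u3 u4
    rw [cy, b4 u u3 u4, a4 u u1 u2]


theorem red_contract {S : Finset α} {x y : Perm α} (hx : x * x = 1) (hy : y * y = 1)
    (hxS : x.support ⊆ S) {p0 p1 p2 p3 p4 p5 : α} (W : Window x y p0 p1 p2 p3 p4 p5)
    (h : Sol (S \ {p1, p2, p3, p4}) (cx x p0 p2 p4 p5) (cy y p1 p3)) : Sol S x y := by
  obtain ⟨z', hz', hz'S, hz'c, h1, h2⟩ := h
  obtain ⟨X1, X2, X3, X4, X5, X6, X7, X8, X9⟩ := cx_spec hx W
  obtain ⟨Y1, Y2, Y3, Y4, Y5, Y6, Y7⟩ := cy_spec hy W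
  obtain ⟨⟨n01, n02, n03, n04, n05⟩, ⟨n12, n13, n14, n15⟩, ⟨n23, n24, n25⟩, ⟨n34, n35⟩, n45⟩ := W.ne
  obtain ⟨h01, h12, h23, h34, h45, -⟩ := W
  have h10 : x p1 = p0 := apply_eq_of_sq hx h01
  have h21 : y p2 = p1 := apply_eq_of_sq hy h12
  have h32 : x p3 = p2 := apply_eq_of_sq hx h23
  have h43 : y p4 = p3 := apply_eq_of_sq hy h34
  have h54 : x p5 = p4 := apply_eq_of_sq hx h45
  have z1 : z' p1 = p1 := apply_eq_self_of_notMem hz'S (by simp)
  have z2 : z' p2 = p2 := apply_eq_self_of_notMem hz'S (by simp)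
  have z3 : z' p3 = p3 := apply_eq_self_of_notMem hz'S (by simp)
  have z4 : z' p4 = p4 := apply_eq_self_of_notMem hz'S (by simp)
  have zne : ∀ u, u ≠ p1 → u ≠ p2 → u ≠ p3 → u ≠ p4 →
      z' u ≠ p1 ∧ z' u ≠ p2 ∧ z' u ≠ p3 ∧ z' u ≠ p4 := by
    intro u u1 u2 u3 u4
    refine ⟨?_, ?_, ?_, ?_⟩
    · intro h; apply u1; rw [← sq_apply hz' u, h, z1]
    · intro h; apply u2; rw [← sq_apply hz' u, h, z2]
    · intro h; apply u3; rw [← sq_apply hz' u, h, z3]
    · intro h; apply u4; rw [← sq_apply hz' u, h, z4]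
  -- the new z
  have q1 : add z' p1 p2 * add z' p1 p2 = 1 := add_sq hz' z1 z2
  have q3 : add z' p1 p2 p3 = p3 := by rw [add_of_ne z' n13.symm n23.symm, z3]
  have q4 : add z' p1 p2 p4 = p4 := by rw [add_of_ne z' n14.symm n24.symm, z4]
  have hzz : add (add z' p1 p2) p3 p4 * add (add z' p1 p2) p3 p4 = 1 := add_sq q1 q3 q4
  have w1 : add (add z' p1 p2) p3 p4 p1 = p2 := by rw [add_of_ne _ n13 n14, add_left z2]
  have w2 : add (add z' p1 p2) p3 p4 p2 = p1 := by rw [add_of_ne _ n23 n24, add_right z1]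
  have w3 : add (add z' p1 p2) p3 p4 p3 = p4 := add_left q4
  have w4 : add (add z' p1 p2) p3 p4 p4 = p3 := add_right q3
  have w5 : ∀ u, u ≠ p1 → u ≠ p2 → u ≠ p3 → u ≠ p4 → add (add z' p1 p2) p3 p4 u = z' u := by
    intro u u1 u2 u3 u4
    rw [add_of_ne _ u3 u4, add_of_ne _ u1 u2]
  refine ⟨add (add z' p1 p2) p3 p4, hzz, ?_, ?_, ?_, ?_⟩
  · rw [support_add n34 q3 q4, support_add n12 z1 z2]
    apply Finset.union_subset (Finset.union_subset (hz'S.trans Finset.sdiff_subset) _)
    · intro u hu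
      simp only [Finset.mem_insert, Finset.mem_singleton] at hu
      rcases hu with h | h
      · rw [h]; exact hxS (by rw [mem_support, h32]; exact n23)
      · rw [h]; exact hxS (by rw [mem_support, h45]; exact n45.symm)
    · intro u hu
      simp only [Finset.mem_insert, Finset.mem_singleton] at hu
      rcases hu with h | h
      · rw [h]; exact hxS (by rw [mem_support, h10]; exact n01)
      · rw [h]; exact hxS (by rw [mem_support, h23]; exact n23.symm)
  · rw [card_support_add n34 q3 q4, card_support_add n12 z1 z2, hz'c, X2]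
  · -- x * z
    apply oddOrd_of_return (x * add (add z' p1 p2) p3 p4) (cx x p0 p2 p4 p5 * z') {p1, p2, p3, p4}
      _ _ _ h1
    · intro u hu
      simp only [Finset.mem_insert, Finset.mem_singleton] at hu
      rcases hu with rfl | rfl | rfl | rfl
      · rw [Perm.mul_apply, z1, X5]
      · rw [Perm.mul_apply, z2, X6]
      · rw [Perm.mul_apply, z3, X7]
      · rw [Perm.mul_apply, z4, X8]
    · intro p hp
      simp only [Finset.mem_insert, Finset.mem_singleton, not_or] at hp
      obtain ⟨hp1, hp2, hp3, hp4⟩ := hp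
      have hzp := w5 p hp1 hp2 hp3 hp4
      obtain ⟨u1, u2, u3, u4⟩ := zne p hp1 hp2 hp3 hp4
      by_cases hu0 : z' p = p0
      · right
        have e1 : (x * add (add z' p1 p2) p3 p4) p = p1 := by
          rw [Perm.mul_apply, hzp, hu0, h01]
        have e2 : (x * add (add z' p1 p2) p3 p4) p1 = p3 := by rw [Perm.mul_apply, w1, h23]
        have e3 : (x * add (add z' p1 p2) p3 p4) p3 = p5 := by rw [Perm.mul_apply, w3, h45]
        rw [e1, e2, e3]
        refine ⟨by simp, by simp, ?_⟩
        rw [Perm.mul_apply, hu0, X3]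
      by_cases hu5 : z' p = p5
      · right
        have e1 : (x * add (add z' p1 p2) p3 p4) p = p4 := by
          rw [Perm.mul_apply, hzp, hu5, h54]
        have e2 : (x * add (add z' p1 p2) p3 p4) p4 = p2 := by rw [Perm.mul_apply, w4, h32]
        have e3 : (x * add (add z' p1 p2) p3 p4) p2 = p0 := by rw [Perm.mul_apply, w2, h10]
        rw [e1, e2, e3]
        refine ⟨by simp, by simp, ?_⟩
        rw [Perm.mul_apply, hu5, X4]
      · left
        rw [Perm.mul_apply, Perm.mul_apply, hzp, X9 _ hu0 u1 u2 u3 u4 hu5]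
    · intro u hu
      left
      obtain ⟨a1, a2, a3, a4⟩ := zne p0 n01 n02 n03 n04
      obtain ⟨b1, b2, b3, b4⟩ := zne p5 n15.symm n25.symm n35.symm n45.symm
      have e1 : (x * add (add z' p1 p2) p3 p4) (z' p0) = p1 := by
        rw [Perm.mul_apply, w5 _ a1 a2 a3 a4, sq_apply hz', h01]
      have e2 : (x * add (add z' p1 p2) p3 p4) p1 = p3 := by rw [Perm.mul_apply, w1, h23]
      have f1 : (x * add (add z' p1 p2) p3 p4) (z' p5) = p4 := by
        rw [Perm.mul_apply, w5 _ b1 b2 b3 b4, sq_apply hz', h54]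
      have f2 : (x * add (add z' p1 p2) p3 p4) p4 = p2 := by rw [Perm.mul_apply, w4, h32]
      simp only [Finset.mem_insert, Finset.mem_singleton] at hu
      rcases hu with rfl | rfl | rfl | rfl
      · exact ⟨z' p0, by simp [a1, a2, a3, a4], Or.inl e1.symm⟩
      · exact ⟨z' p5, by simp [b1, b2, b3, b4], Or.inr (by rw [f1, f2])⟩
      · exact ⟨z' p0, by simp [a1, a2, a3, a4], Or.inr (by rw [e1, e2])⟩
      · exact ⟨z' p5, by simp [b1, b2, b3, b4], Or.inl f1.symm⟩
  · -- z * y
    have : add (add z' p1 p2) p3 p4 * y = z' * cy y p1 p3 := by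
      ext u
      rw [Perm.mul_apply, Perm.mul_apply]
      by_cases u1 : u = p1
      · rw [u1, h12, w2, Y3, z1]
      by_cases u2 : u = p2
      · rw [u2, h21, w1, Y4, z2]
      by_cases u3 : u = p3
      · rw [u3, h34, w4, Y5, z3]
      by_cases u4 : u = p4
      · rw [u4, h43, w3, Y6, z4]
      rw [Y7 u u1 u2 u3 u4, w5]
      · intro h; apply u2; rw [← sq_apply hy u, h, h12]
      · intro h; apply u1; rw [← sq_apply hy u, h, h21]
      · intro h; apply u4; rw [← sq_apply hy u, h, h34]
      · intro h; apply u3; rw [← sq_apply hy u, h, h43]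
    rw [this]; exact h2


/-! ### Explicit configurations through an embedding of `Fin m` -/

theorem eq_viaEmbedding {m : ℕ} (ι : Fin m ↪ α) (x : Perm α) (x₀ : Perm (Fin m))
    (h1 : ∀ i, x (ι i) = ι (x₀ i)) (h2 : ∀ u, u ∉ Set.range ι → x u = u) :
    x = x₀.viaEmbedding ι := by
  ext u
  by_cases hu : u ∈ Set.range ι
  · obtain ⟨i, rfl⟩ := hu
    rw [viaEmbedding_apply, h1]
  · rw [viaEmbedding_apply_of_notMem _ _ _ hu, h2 u hu]

theorem split_viaEmbedding {m : ℕ} (ι : Fin m ↪ α) {x : Perm α} (hx : x * x = 1)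
    (x₀ : Perm (Fin m)) (h1 : ∀ i, x (ι i) = ι (x₀ i)) (x'' : Perm α)
    (hfix : ∀ i, x'' (ι i) = ι i) (hout : ∀ u, u ∉ Set.range ι → x'' u = x u) :
    x = x₀.viaEmbedding ι * x'' := by
  ext u
  rw [Perm.mul_apply]
  by_cases hu : u ∈ Set.range ι
  · obtain ⟨i, rfl⟩ := hu
    rw [hfix, viaEmbedding_apply, h1]
  · rw [hout u hu, viaEmbedding_apply_of_notMem]
    rintro ⟨i, hi⟩
    apply hu
    refine ⟨x₀ i, ?_⟩
    rw [← h1, hi, sq_apply hx]

theorem support_viaEmbedding_subset {m : ℕ} (ι : Fin m ↪ α) (x₀ : Perm (Fin m)) {S : Finset α}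
    (hS : ∀ i, ι i ∈ S) : (x₀.viaEmbedding ι).support ⊆ S := by
  intro u hu
  rw [mem_support] at hu
  by_cases h : u ∈ Set.range ι
  · obtain ⟨i, rfl⟩ := h
    exact hS i
  · exact absurd (viaEmbedding_apply_of_notMem _ _ _ h) hu

theorem card_support_viaEmbedding {m : ℕ} (ι : Fin m ↪ α) (x₀ : Perm (Fin m)) :
    (x₀.viaEmbedding ι).support.card = x₀.support.card := by
  have : (x₀.viaEmbedding ι).support = x₀.support.map ι := by
    ext u
    simp only [mem_support, Finset.mem_map]
    constructor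
    · intro h
      by_cases hu : u ∈ Set.range ι
      · obtain ⟨i, rfl⟩ := hu
        rw [viaEmbedding_apply] at h
        exact ⟨i, fun hi => h (by rw [hi]), rfl⟩
      · exact absurd (viaEmbedding_apply_of_notMem _ _ _ hu) h
    · rintro ⟨i, hi, rfl⟩
      rw [viaEmbedding_apply]
      intro h
      exact hi (ι.injective h)
  rw [this, Finset.card_map]

theorem viaEmbedding_mul {m : ℕ} (ι : Fin m ↪ α) (a b : Perm (Fin m)) :
    a.viaEmbedding ι * b.viaEmbedding ι = (a * b).viaEmbedding ι := by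
  rw [← viaEmbeddingHom_apply, ← viaEmbeddingHom_apply, ← viaEmbeddingHom_apply, map_mul]

theorem viaEmbedding_pow_eq_one {m : ℕ} (ι : Fin m ↪ α) (a : Perm (Fin m)) {N : ℕ}
    (h : a ^ N = 1) : (a.viaEmbedding ι) ^ N = 1 := by
  rw [← viaEmbeddingHom_apply, ← map_pow, h, map_one]

theorem sol_of_embedding {m : ℕ} (ι : Fin m ↪ α) {S : Finset α} (hS : ∀ i, ι i ∈ S)
    (x₀ y₀ z₀ : Perm (Fin m)) (N M : ℕ) (hN : Odd N) (hM : Odd M) (hz : z₀ * z₀ = 1)
    (hc : z₀.support.card = x₀.support.card) (h1 : (x₀ * z₀) ^ N = 1) (h2 : (z₀ * y₀) ^ M = 1) :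
    Sol S (x₀.viaEmbedding ι) (y₀.viaEmbedding ι) := by
  refine ⟨z₀.viaEmbedding ι, ?_, support_viaEmbedding_subset ι z₀ hS, ?_, ?_, ?_⟩
  · rw [viaEmbedding_mul, hz, ← viaEmbeddingHom_apply, map_one]
  · rw [card_support_viaEmbedding, card_support_viaEmbedding, hc]
  · rw [viaEmbedding_mul]
    exact ⟨N, hN, viaEmbedding_pow_eq_one ι _ h1⟩
  · rw [viaEmbedding_mul]
    exact ⟨M, hM, viaEmbedding_pow_eq_one ι _ h2⟩

theorem commute_of_support {u v : Perm α} {S₁ S₂ : Finset α} (hd : Disjoint S₁ S₂)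
    (hu : u.support ⊆ S₁) (hv : v.support ⊆ S₂) : Commute u v := by
  apply Equiv.Perm.Disjoint.commute
  rw [Equiv.Perm.disjoint_iff_disjoint_support]
  exact Finset.disjoint_of_subset_left hu (Finset.disjoint_of_subset_right hv hd)

theorem disjoint_of_support {u v : Perm α} {S₁ S₂ : Finset α} (hd : Disjoint S₁ S₂)
    (hu : u.support ⊆ S₁) (hv : v.support ⊆ S₂) : Equiv.Perm.Disjoint u v := by
  rw [Equiv.Perm.disjoint_iff_disjoint_support]
  exact Finset.disjoint_of_subset_left hu (Finset.disjoint_of_subset_right hv hd)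

theorem Sol.union {S₁ S₂ : Finset α} {x₁ y₁ x₂ y₂ : Perm α} (hd : Disjoint S₁ S₂)
    (hx1 : x₁.support ⊆ S₁) (hy1 : y₁.support ⊆ S₁) (hx2 : x₂.support ⊆ S₂)
    (hy2 : y₂.support ⊆ S₂) (h1 : Sol S₁ x₁ y₁) (h2 : Sol S₂ x₂ y₂) :
    Sol (S₁ ∪ S₂) (x₁ * x₂) (y₁ * y₂) := by
  obtain ⟨z₁, a1, a2, a3, a4, a5⟩ := h1
  obtain ⟨z₂, b1, b2, b3, b4, b5⟩ := h2
  have hzz : Commute z₁ z₂ := commute_of_support hd a2 b2
  refine ⟨z₁ * z₂, ?_, ?_, ?_, ?_, ?_⟩
  · rw [hzz.symm.mul_mul_mul_comm, a1, b1, one_mul]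
  · exact (Equiv.Perm.support_mul_le z₁ z₂).trans (Finset.union_subset_union a2 b2)
  · rw [(disjoint_of_support hd a2 b2).card_support_mul, (disjoint_of_support hd hx1 hx2).card_support_mul,
      a3, b3]
  · have hc : Commute x₂ z₁ := (commute_of_support hd a2 hx2).symm
    have : x₁ * x₂ * (z₁ * z₂) = (x₁ * z₁) * (x₂ * z₂) := by
      rw [mul_assoc, ← mul_assoc x₂, hc.eq, mul_assoc, ← mul_assoc]
    rw [this]
    apply OddOrd.mul_of_commute _ a4 b4
    apply commute_of_support hd
    · exact (Equiv.Perm.support_mul_le x₁ z₁).trans (Finset.union_subset hx1 a2)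
    · exact (Equiv.Perm.support_mul_le x₂ z₂).trans (Finset.union_subset hx2 b2)
  · have hc : Commute z₂ y₁ := (commute_of_support hd hy1 b2).symm
    have : z₁ * z₂ * (y₁ * y₂) = (z₁ * y₁) * (z₂ * y₂) := by
      rw [mul_assoc, ← mul_assoc z₂, hc.eq, mul_assoc, ← mul_assoc]
    rw [this]
    apply OddOrd.mul_of_commute _ a5 b5
    apply commute_of_support hd
    · exact (Equiv.Perm.support_mul_le z₁ y₁).trans (Finset.union_subset a2 hy1)
    · exact (Equiv.Perm.support_mul_le z₂ y₂).trans (Finset.union_subset b2 hy2)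

/-- Removing two transpositions. -/
theorem rem2_spec {x : Perm α} (hx : x * x = 1) {a b c d : α} (hab : x a = b) (hcd : x c = d)
    (nab : a ≠ b) (nac : a ≠ c) (nad : a ≠ d) (nbc : b ≠ c) (nbd : b ≠ d) (ncd : c ≠ d) :
    rem (rem x a) c * rem (rem x a) c = 1 ∧
    x.support.card = (rem (rem x a) c).support.card + 4 ∧
    rem (rem x a) c a = a ∧ rem (rem x a) c b = b ∧ rem (rem x a) c c = c ∧
    rem (rem x a) c d = d ∧
    ∀ u, u ≠ a → u ≠ b → u ≠ c → u ≠ d → rem (rem x a) c u = x u := by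
  have a1 : rem x a * rem x a = 1 := rem_sq hx a
  have a2 : rem x a a = a := rem_self hx a
  have a3 : rem x a b = b := by have := rem_apply x a; rwa [hab] at this
  have a4 : ∀ u, u ≠ a → u ≠ b → rem x a u = x u := fun u h1 h2 =>
    rem_of_ne x h1 (by rw [hab]; exact h2)
  have a5 : x.support.card = (rem x a).support.card + 2 :=
    card_support_rem hx (by rw [hab]; exact nab.symm)
  have b0 : rem x a c = d := by rw [a4 c nac.symm nbc.symm, hcd]
  have b1 : rem (rem x a) c * rem (rem x a) c = 1 := rem_sq a1 c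
  have b2 : rem (rem x a) c c = c := rem_self a1 c
  have b3 : rem (rem x a) c d = d := by have := rem_apply (rem x a) c; rwa [b0] at this
  have b4 : ∀ u, u ≠ c → u ≠ d → rem (rem x a) c u = rem x a u := fun u h1 h2 =>
    rem_of_ne _ h1 (by rw [b0]; exact h2)
  have b5 : (rem x a).support.card = (rem (rem x a) c).support.card + 2 :=
    card_support_rem a1 (by rw [b0]; exact ncd.symm)
  refine ⟨b1, by omega, ?_, ?_, b2, b3, ?_⟩
  · rw [b4 a nac nad, a2]
  · rw [b4 b nbc nbd, a3]
  · intro u u1 u2 u3 u4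
    rw [b4 u u3 u4, a4 u u1 u2]


/-! ### The structure of the bad configuration -/

theorem bad_ne {T : Finset α} {x y : Perm α} (hx : x * x = 1) (hy : y * y = 1)
    (hyT : y.support ⊆ T) (hc : x.support.card = y.support.card) (hb : Bad T x y) :
    y.support = T ∧ ∀ u ∈ T, x u ≠ y u := by
  obtain ⟨hT4, hxT, hne⟩ := hb
  have hyT' : y.support = T := Finset.eq_of_subset_of_card_le hyT (by rw [← hc, hxT])
  refine ⟨hyT', ?_⟩
  have xm : ∀ u ∈ T, x u ≠ u := fun u hu => mem_support.mp (hxT ▸ hu)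
  have ym : ∀ u ∈ T, y u ≠ u := fun u hu => mem_support.mp (hyT' ▸ hu)
  have xT : ∀ u ∈ T, x u ∈ T := fun u hu => apply_mem_of_mem hxT.le hu
  have yT : ∀ u ∈ T, y u ∈ T := fun u hu => apply_mem_of_mem hyT hu
  intro u hu h
  apply hne
  ext t
  by_cases ht : t ∈ T
  · by_cases h1 : t = u
    · rw [h1, h]
    by_cases h2 : t = x u
    · rw [h2, sq_apply hx, h, sq_apply hy]
    have hsub : ({u, x u, t} : Finset α) ⊆ T := by
      intro v hv
      simp only [Finset.mem_insert, Finset.mem_singleton] at hv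
      rcases hv with hv | hv | hv <;> rw [hv]
      · exact hu
      · exact xT u hu
      · exact ht
    have hc3 : ({u, x u, t} : Finset α).card = 3 := by
      rw [Finset.card_insert_of_notMem, Finset.card_pair (Ne.symm h2)]
      simp only [Finset.mem_insert, Finset.mem_singleton, not_or]
      exact ⟨(xm u hu).symm, Ne.symm h1⟩
    have hc1 : (T \ {u, x u, t}).card ≤ 1 := by
      rw [Finset.card_sdiff_of_subset hsub, hc3, hT4]
    have m1 : x t ∈ T \ {u, x u, t} := by
      simp only [Finset.mem_sdiff, Finset.mem_insert, Finset.mem_singleton, not_or]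
      refine ⟨xT t ht, ?_, ?_, xm t ht⟩
      · intro h3; apply h2; rw [← h3, sq_apply hx]
      · intro h3; exact h1 (x.injective h3)
    have m2 : y t ∈ T \ {u, x u, t} := by
      simp only [Finset.mem_sdiff, Finset.mem_insert, Finset.mem_singleton, not_or]
      refine ⟨yT t ht, ?_, ?_, ym t ht⟩
      · intro h3; apply h2; rw [h, ← h3, sq_apply hy]
      · intro h3; rw [h] at h3; exact h1 (y.injective h3)
    exact Finset.card_le_one.mp hc1 _ m1 _ m2
  · rw [apply_eq_self_of_notMem hxT.le ht, apply_eq_self_of_notMem hyT ht]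

theorem bad_structure {T : Finset α} {x y : Perm α} (hx : x * x = 1) (hy : y * y = 1)
    (hyT : y.support ⊆ T) (hc : x.support.card = y.support.card) (hb : Bad T x y) {p : α}
    (hp : p ∈ T) :
    [p, x p, y (x p), x (y (x p))].Nodup ∧ T = {p, x p, y (x p), x (y (x p))} ∧
      y (x (y (x p))) = p := by
  obtain ⟨hyT', key⟩ := bad_ne hx hy hyT hc hb
  obtain ⟨hT4, hxT, hne⟩ := hb
  have xm : ∀ u ∈ T, x u ≠ u := fun u hu => mem_support.mp (hxT ▸ hu)
  have ym : ∀ u ∈ T, y u ≠ u := fun u hu => mem_support.mp (hyT' ▸ hu)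
  have xT : ∀ u ∈ T, x u ∈ T := fun u hu => apply_mem_of_mem hxT.le hu
  have yT : ∀ u ∈ T, y u ∈ T := fun u hu => apply_mem_of_mem hyT hu
  have ha : x p ∈ T := xT p hp
  have hb : y (x p) ∈ T := yT _ ha
  have hd : x (y (x p)) ∈ T := xT _ hb
  have n01 : p ≠ x p := (xm p hp).symm
  have n12 : x p ≠ y (x p) := (ym _ ha).symm
  have n23 : y (x p) ≠ x (y (x p)) := (xm _ hb).symm
  have n02 : p ≠ y (x p) := by
    intro h
    have h2 := congrArg y h
    rw [sq_apply hy] at h2
    exact key p hp h2.symm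
  have n13 : x p ≠ x (y (x p)) := by
    intro h; exact n02 (x.injective h)
  have n03 : p ≠ x (y (x p)) := by
    intro h
    have h2 := congrArg x h
    rw [sq_apply hx] at h2
    exact n12 h2
  have hnd : [p, x p, y (x p), x (y (x p))].Nodup := by
    simp only [List.nodup_cons, List.mem_cons, List.not_mem_nil, or_false, not_or,
      List.nodup_nil, and_true, not_false_eq_true]
    exact ⟨⟨n01, n02, n03⟩, ⟨n12, n13⟩, n23⟩
  have hT : T = {p, x p, y (x p), x (y (x p))} := by
    symm
    apply Finset.eq_of_subset_of_card_le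
    · intro v hv
      simp only [Finset.mem_insert, Finset.mem_singleton] at hv
      rcases hv with hv | hv | hv | hv <;> rw [hv] <;> assumption
    · rw [hT4]
      have := List.toFinset_card_of_nodup hnd
      simp only [List.toFinset_cons, List.toFinset_nil, insert_empty_eq, List.length_cons,
        List.length_nil] at this
      omega
  refine ⟨hnd, hT, ?_⟩
  -- y of the last point is p
  have hyd : y (x (y (x p))) ∈ T := yT _ hd
  rw [hT] at hyd
  simp only [Finset.mem_insert, Finset.mem_singleton] at hyd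
  rcases hyd with h | h | h | h
  · exact h
  · exfalso
    -- y d = x p = a, so d = y a = b, contradiction n23
    apply n23
    rw [← sq_apply hy (x (y (x p))), h]
  · exfalso
    -- y d = b = y a so d = a
    exact n13 (y.injective h).symm
  · exact absurd h (ym _ hd)

end Cfsg.Agent.Helper71.InvGraph
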