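import Mathlib
import Cfsg.Agent.Lib.Helper71.InvGraph

/-!
# Involution graph: explicit small configurations and the induction
-/

set_option autoImplicit false
set_option linter.unusedSectionVars false

namespace Cfsg.Agent.Helper71.InvGraph

open Equiv Equiv.Perm

variable {α : Type*} [DecidableEq α] [Fintype α]

/-- The embedding of `Fin l.length` given by a duplicate-free list. -/
def embOfList (l : List α) (h : l.Nodup) : Fin l.length ↪ α :=
  ⟨l.get, List.nodup_iff_injective_get.mp h⟩

theorem mem_range_embOfList {l : List α} (h : l.Nodup) {u : α} (hu : u ∈ l) :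
    u ∈ Set.range (embOfList l h) := by
  obtain ⟨i, hi⟩ := List.get_of_mem hu
  exact ⟨i, hi⟩

theorem embOfList_mem {l : List α} (h : l.Nodup) (i : Fin l.length) : embOfList l h i ∈ l :=
  List.get_mem l i

/-- E1: the Klein configuration plus a common fixed point. -/
theorem sol_E1 {S : Finset α} {x y : Perm α} (hx : x * x = 1) (hy : y * y = 1)
    (hxS : x.support ⊆ S) (hyS : y.support ⊆ S) (hc : x.support.card = y.support.card)
    {f : α} (hfS : f ∈ S) (hyf : y f = f) (hb : Bad (S \ {f}) x y) : Sol S x y := by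
  have hyS' : y.support ⊆ S \ {f} := by
    intro u hu
    rw [Finset.mem_sdiff, Finset.mem_singleton]
    refine ⟨hyS hu, ?_⟩
    rintro rfl
    exact (mem_support.mp hu) hyf
  have hne : (S \ {f}).Nonempty := by
    rw [← Finset.card_pos, hb.1]; norm_num
  obtain ⟨p, hp⟩ := hne
  obtain ⟨nd4, hT, hcl⟩ := bad_structure hx hy hyS' hc hb hp
  have hmem : ∀ u, u ∈ [p, x p, y (x p), x (y (x p))] → u ∈ S \ {f} := by
    intro u hu
    rw [hT]
    simpa using hu
  have hl : [p, x p, y (x p), x (y (x p)), f].Nodup := by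
    rw [show [p, x p, y (x p), x (y (x p)), f] = [p, x p, y (x p), x (y (x p))] ++ [f] from rfl,
      List.nodup_append]
    refine ⟨nd4, List.nodup_singleton f, ?_⟩
    intro a ha b hb'
    rw [List.mem_singleton] at hb'
    have := hmem a ha
    rw [Finset.mem_sdiff, Finset.mem_singleton] at this
    rw [hb']
    exact this.2
  have hSl : ∀ u, u ∈ S → u ∈ [p, x p, y (x p), x (y (x p)), f] := by
    intro u hu
    by_cases huf : u = f
    · simp [huf]
    · have : u ∈ S \ {f} := by simp [hu, huf]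
      rw [hT] at this
      simp only [Finset.mem_insert, Finset.mem_singleton] at this
      simp only [List.mem_cons]
      tauto
  have hxf : x f = f := by
    apply apply_eq_self_of_notMem (S := S \ {f}) (by rw [hb.2.1])
    simp
  set ι : Fin 5 ↪ α := embOfList _ hl with hι
  have hιS : ∀ i, ι i ∈ S := by
    intro i
    have := embOfList_mem hl i
    simp only [List.mem_cons, List.not_mem_nil, or_false] at this
    rcases this with h | h | h | h | h
    · rw [hι, h]; exact (Finset.mem_sdiff.mp hp).1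
    · rw [hι, h]; exact (Finset.mem_sdiff.mp (hmem _ (by simp))).1
    · rw [hι, h]; exact (Finset.mem_sdiff.mp (hmem _ (by simp))).1
    · rw [hι, h]; exact (Finset.mem_sdiff.mp (hmem _ (by simp))).1
    · rw [hι, h]; exact hfS
  have hout : ∀ (w : Perm α), w.support ⊆ S → ∀ u, u ∉ Set.range ι → w u = u := by
    intro w hw u hu
    apply apply_eq_self_of_notMem hw
    intro huS
    exact hu (mem_range_embOfList hl (hSl u huS))
  have ex : x = (swap (0 : Fin 5) 1 * swap 2 3).viaEmbedding ι := by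
    apply eq_viaEmbedding ι x _ _ (hout x hxS)
    intro i
    fin_cases i
    · show x p = x p; rfl
    · show x (x p) = p; exact sq_apply hx p
    · show x (y (x p)) = x (y (x p)); rfl
    · show x (x (y (x p))) = y (x p); exact sq_apply hx _
    · show x f = f; exact hxf
  have ey : y = (swap (1 : Fin 5) 2 * swap 3 0).viaEmbedding ι := by
    apply eq_viaEmbedding ι y _ _ (hout y hyS)
    intro i
    fin_cases i
    · show y p = x (y (x p)); exact apply_eq_of_sq hy hcl
    · show y (x p) = y (x p); rfl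
    · show y (y (x p)) = x p; exact sq_apply hy _
    · show y (x (y (x p))) = p; exact hcl
    · show y f = f; exact hyf
  rw [ex, ey]
  exact sol_of_embedding ι hιS _ _ (swap (0 : Fin 5) 1 * swap 3 4) 3 5 (by decide) (by decide)
    (by decide) (by decide) (by decide) (by decide)


theorem emb_facts {l : List α} (hl : l.Nodup) {S : Finset α} (h1 : ∀ u ∈ l, u ∈ S)
    (h2 : ∀ u ∈ S, u ∈ l) :
    (∀ i, embOfList l hl i ∈ S) ∧
      ∀ w : Perm α, w.support ⊆ S → ∀ u, u ∉ Set.range (embOfList l hl) → w u = u := by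
  refine ⟨fun i => h1 _ (embOfList_mem hl i), ?_⟩
  intro w hw u hu
  apply apply_eq_self_of_notMem hw
  intro huS
  exact hu (mem_range_embOfList hl (h2 u huS))

/-- E2: the Klein configuration plus a common transposition. -/
theorem sol_E2 {S : Finset α} {x y : Perm α} (hx : x * x = 1) (hy : y * y = 1)
    (hxS : x.support ⊆ S) (hyS : y.support ⊆ S) (hc : x.support.card = y.support.card)
    {a : α} (ha : x a ≠ a) (hya : y a = x a)
    (hb : Bad (S \ {a, x a}) (rem x a) (rem y a)) : Sol S x y := by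
  have hx' := rem_sq hx a
  have hy' := rem_sq hy a
  have hyS' : (rem y a).support ⊆ S \ {a, x a} := by
    rw [support_rem hy, hya]
    exact Finset.sdiff_subset_sdiff hyS (le_refl _)
  have hc' : (rem x a).support.card = (rem y a).support.card := by
    have h1 := card_support_rem hx ha
    have h2 := card_support_rem hy (a := a) (by rw [hya]; exact ha)
    omega
  have hne : (S \ {a, x a}).Nonempty := by
    rw [← Finset.card_pos, hb.1]; norm_num
  obtain ⟨p, hp⟩ := hne
  obtain ⟨nd4, hT, hcl⟩ := bad_structure hx' hy' hyS' hc' hb hp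
  have hmem : ∀ u, u ∈ S \ {a, x a} → u ∈ S ∧ u ≠ a ∧ u ≠ x a := by
    intro u hu
    simpa [Finset.mem_sdiff, not_or] using hu
  have ex' : ∀ u, u ∈ S \ {a, x a} → rem x a u = x u := fun u hu =>
    rem_of_ne x (hmem u hu).2.1 (hmem u hu).2.2
  have ey' : ∀ u, u ∈ S \ {a, x a} → rem y a u = y u := fun u hu =>
    rem_of_ne y (hmem u hu).2.1 (by rw [hya]; exact (hmem u hu).2.2)
  have e1 : rem x a p = x p := ex' p hp
  rw [e1] at nd4 hT hcl
  have m1 : x p ∈ S \ {a, x a} := by rw [hT]; simp
  have e2 : rem y a (x p) = y (x p) := ey' _ m1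
  rw [e2] at nd4 hT hcl
  have m2 : y (x p) ∈ S \ {a, x a} := by rw [hT]; simp
  have e3 : rem x a (y (x p)) = x (y (x p)) := ex' _ m2
  rw [e3] at nd4 hT hcl
  have m3 : x (y (x p)) ∈ S \ {a, x a} := by rw [hT]; simp
  have e4 : rem y a (x (y (x p))) = y (x (y (x p))) := ey' _ m3
  rw [e4] at hcl
  have hmem4 : ∀ u, u ∈ [p, x p, y (x p), x (y (x p))] → u ∈ S \ {a, x a} := by
    intro u hu
    simp only [List.mem_cons, List.not_mem_nil, or_false] at hu
    rcases hu with h | h | h | h <;> rw [h] <;> assumption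
  have hl : [p, x p, y (x p), x (y (x p)), a, x a].Nodup := by
    rw [show [p, x p, y (x p), x (y (x p)), a, x a] = [p, x p, y (x p), x (y (x p))] ++ [a, x a]
      from rfl, List.nodup_append]
    refine ⟨nd4, by simp [Ne.symm ha], ?_⟩
    intro u hu v hv
    have := hmem u (hmem4 u hu)
    simp only [List.mem_cons, List.not_mem_nil, or_false] at hv
    rcases hv with h | h <;> rw [h]
    · exact this.2.1
    · exact this.2.2
  have hxa : x a ∈ S := hxS (by rw [mem_support, sq_apply hx]; exact Ne.symm ha)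
  have haS : a ∈ S := hxS (mem_support.mpr ha)
  have h1 : ∀ u ∈ [p, x p, y (x p), x (y (x p)), a, x a], u ∈ S := by
    intro u hu
    simp only [List.mem_cons, List.not_mem_nil, or_false] at hu
    rcases hu with h | h | h | h | h | h <;> rw [h]
    · exact (hmem _ hp).1
    · exact (hmem _ m1).1
    · exact (hmem _ m2).1
    · exact (hmem _ m3).1
    · exact haS
    · exact hxa
  have h2 : ∀ u ∈ S, u ∈ [p, x p, y (x p), x (y (x p)), a, x a] := by
    intro u hu
    by_cases hua : u = a
    · simp [hua]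
    by_cases hub : u = x a
    · simp [hub]
    have : u ∈ S \ {a, x a} := by simp [hu, hua, hub]
    rw [hT] at this
    simp only [Finset.mem_insert, Finset.mem_singleton] at this
    simp only [List.mem_cons]
    tauto
  obtain ⟨hιS, hout⟩ := emb_facts hl h1 h2
  set ι : Fin 6 ↪ α := embOfList _ hl with hι
  have ex : x = (swap (0 : Fin 6) 1 * swap 2 3 * swap 4 5).viaEmbedding ι := by
    apply eq_viaEmbedding ι x _ _ (hout x hxS)
    intro i
    fin_cases i
    · show x p = x p; rfl
    · show x (x p) = p; exact sq_apply hx p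
    · show x (y (x p)) = x (y (x p)); rfl
    · show x (x (y (x p))) = y (x p); exact sq_apply hx _
    · show x a = x a; rfl
    · show x (x a) = a; exact sq_apply hx a
  have ey : y = (swap (1 : Fin 6) 2 * swap 3 0 * swap 4 5).viaEmbedding ι := by
    apply eq_viaEmbedding ι y _ _ (hout y hyS)
    intro i
    fin_cases i
    · show y p = x (y (x p)); exact apply_eq_of_sq hy hcl
    · show y (x p) = y (x p); rfl
    · show y (y (x p)) = x p; exact sq_apply hy _
    · show y (x (y (x p))) = p; exact hcl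
    · show y a = x a; exact hya
    · show y (x a) = a; exact apply_eq_of_sq hy hya
  rw [ex, ey]
  exact sol_of_embedding ι hιS _ _ (swap (0 : Fin 6) 2 * swap 1 4 * swap 3 5) 3 3 (by decide)
    (by decide) (by decide) (by decide) (by decide) (by decide)


/-- Preconditions of the contraction step. -/
theorem contract_pre {S : Finset α} {x y : Perm α} (hx : x * x = 1) (hy : y * y = 1)
    (hxS : x.support ⊆ S) (hyS : y.support ⊆ S) (hc : x.support.card = y.support.card)
    {p0 p1 p2 p3 p4 p5 : α} (W : Window x y p0 p1 p2 p3 p4 p5) :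
    (cx x p0 p2 p4 p5).support ⊆ S \ {p1, p2, p3, p4} ∧
    (cy y p1 p3).support ⊆ S \ {p1, p2, p3, p4} ∧
    (cx x p0 p2 p4 p5).support.card = (cy y p1 p3).support.card ∧
    (S \ {p1, p2, p3, p4}).card + 4 = S.card ∧ p0 ∈ S \ {p1, p2, p3, p4} := by
  obtain ⟨X1, X2, X3, X4, X5, X6, X7, X8, X9⟩ := cx_spec hx W
  obtain ⟨Y1, Y2, Y3, Y4, Y5, Y6, Y7⟩ := cy_spec hy W
  obtain ⟨⟨n01, n02, n03, n04, n05⟩, ⟨n12, n13, n14, n15⟩, ⟨n23, n24, n25⟩, ⟨n34, n35⟩, n45⟩ := W.ne
  obtain ⟨h01, h12, h23, h34, h45, -⟩ := W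
  have h10 : x p1 = p0 := apply_eq_of_sq hx h01
  have h32 : x p3 = p2 := apply_eq_of_sq hx h23
  have h54 : x p5 = p4 := apply_eq_of_sq hx h45
  have s0 : p0 ∈ S := hxS (by rw [mem_support, h01]; exact n01.symm)
  have s1 : p1 ∈ S := hxS (by rw [mem_support, h10]; exact n01)
  have s2 : p2 ∈ S := hxS (by rw [mem_support, h23]; exact n23.symm)
  have s3 : p3 ∈ S := hxS (by rw [mem_support, h32]; exact n23)
  have s4 : p4 ∈ S := hxS (by rw [mem_support, h45]; exact n45.symm)
  have s5 : p5 ∈ S := hxS (by rw [mem_support, h54]; exact n45)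
  refine ⟨?_, ?_, by omega, ?_, ?_⟩
  · intro u hu
    rw [mem_support] at hu
    have u1 : u ≠ p1 := by rintro rfl; exact hu X5
    have u2 : u ≠ p2 := by rintro rfl; exact hu X6
    have u3 : u ≠ p3 := by rintro rfl; exact hu X7
    have u4 : u ≠ p4 := by rintro rfl; exact hu X8
    simp only [Finset.mem_sdiff, Finset.mem_insert, Finset.mem_singleton, not_or]
    refine ⟨?_, u1, u2, u3, u4⟩
    by_cases u0 : u = p0
    · rw [u0]; exact s0
    by_cases u5 : u = p5
    · rw [u5]; exact s5
    rw [X9 u u0 u1 u2 u3 u4 u5] at hu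
    exact hxS (mem_support.mpr hu)
  · intro u hu
    rw [mem_support] at hu
    have u1 : u ≠ p1 := by rintro rfl; exact hu Y3
    have u2 : u ≠ p2 := by rintro rfl; exact hu Y4
    have u3 : u ≠ p3 := by rintro rfl; exact hu Y5
    have u4 : u ≠ p4 := by rintro rfl; exact hu Y6
    simp only [Finset.mem_sdiff, Finset.mem_insert, Finset.mem_singleton, not_or]
    refine ⟨?_, u1, u2, u3, u4⟩
    rw [Y7 u u1 u2 u3 u4] at hu
    exact hyS (mem_support.mpr hu)
  · have hsub : ({p1, p2, p3, p4} : Finset α) ⊆ S := by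
      intro u hu
      simp only [Finset.mem_insert, Finset.mem_singleton] at hu
      rcases hu with h | h | h | h <;> rw [h] <;> assumption
    have hc4 : ({p1, p2, p3, p4} : Finset α).card = 4 := by
      rw [Finset.card_insert_of_notMem, Finset.card_insert_of_notMem, Finset.card_pair n34]
      · simp [n23, n24]
      · simp [n12, n13, n14]
    have hle := Finset.card_le_card hsub
    rw [Finset.card_sdiff_of_subset hsub, hc4]
    omega
  · simp only [Finset.mem_sdiff, Finset.mem_insert, Finset.mem_singleton, not_or]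
    exact ⟨s0, n01, n02, n03, n04⟩

set_option maxRecDepth 20000 in
/-- E3: a single cycle with eight points. -/
theorem sol_E3 {S : Finset α} {x y : Perm α} (hx : x * x = 1) (hy : y * y = 1)
    (hxS : x.support ⊆ S) (hyS : y.support ⊆ S) (hc : x.support.card = y.support.card)
    {p0 p1 p2 p3 p4 p5 : α} (W : Window x y p0 p1 p2 p3 p4 p5)
    (hb : Bad (S \ {p1, p2, p3, p4}) (cx x p0 p2 p4 p5) (cy y p1 p3)) : Sol S x y := by
  obtain ⟨P1, P2, P3, P4, P5⟩ := contract_pre hx hy hxS hyS hc W
  obtain ⟨X1, X2, X3, X4, X5, X6, X7, X8, X9⟩ := cx_spec hx W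
  obtain ⟨Y1, Y2, Y3, Y4, Y5, Y6, Y7⟩ := cy_spec hy W
  obtain ⟨nd4, hT, hcl⟩ := bad_structure X1 Y1 P2 P3 hb P5
  obtain ⟨⟨n01, n02, n03, n04, n05⟩, ⟨n12, n13, n14, n15⟩, ⟨n23, n24, n25⟩, ⟨n34, n35⟩, n45⟩ := W.ne
  have hWnd := W.nd
  obtain ⟨h01, h12, h23, h34, h45, -⟩ := W
  have h10 : x p1 = p0 := apply_eq_of_sq hx h01
  have h21 : y p2 = p1 := apply_eq_of_sq hy h12
  have h32 : x p3 = p2 := apply_eq_of_sq hx h23
  have h43 : y p4 = p3 := apply_eq_of_sq hy h34
  have h54 : x p5 = p4 := apply_eq_of_sq hx h45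
  have hmem : ∀ u, u ∈ S \ {p1, p2, p3, p4} → u ∈ S ∧ u ≠ p1 ∧ u ≠ p2 ∧ u ≠ p3 ∧ u ≠ p4 := by
    intro u hu
    simpa [Finset.mem_sdiff, not_or] using hu
  rw [X3] at nd4 hT hcl
  have e1 : cy y p1 p3 p5 = y p5 := Y7 p5 n15.symm n25.symm n35.symm n45.symm
  rw [e1] at nd4 hT hcl
  have m6 : y p5 ∈ S \ {p1, p2, p3, p4} := by rw [hT]; simp
  have nd4' := nd4
  simp only [List.nodup_cons, List.mem_cons, List.not_mem_nil, or_false, not_or,
    List.nodup_nil, and_true, not_false_eq_true] at nd4'
  obtain ⟨⟨-, k06, -⟩, ⟨k56, -⟩, -⟩ := nd4'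
  obtain ⟨s6, k16, k26, k36, k46⟩ := hmem _ m6
  have e2 : cx x p0 p2 p4 p5 (y p5) = x (y p5) := X9 _ (Ne.symm k06) k16 k26 k36 k46 (Ne.symm k56)
  rw [e2] at nd4 hT hcl
  have m7 : x (y p5) ∈ S \ {p1, p2, p3, p4} := by rw [hT]; simp
  obtain ⟨s7, k17, k27, k37, k47⟩ := hmem _ m7
  have e3 : cy y p1 p3 (x (y p5)) = y (x (y p5)) := Y7 _ k17 k27 k37 k47
  rw [e3] at hcl
  have nd4' := nd4
  simp only [List.nodup_cons, List.mem_cons, List.not_mem_nil, or_false, not_or,
    List.nodup_nil, and_true, not_false_eq_true] at nd4'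
  obtain ⟨⟨-, -, k07⟩, ⟨-, k57⟩, k67⟩ := nd4'
  have hl : [p0, p1, p2, p3, p4, p5, y p5, x (y p5)].Nodup := by
    rw [show [p0, p1, p2, p3, p4, p5, y p5, x (y p5)] = [p0, p1, p2, p3, p4, p5] ++ [y p5, x (y p5)]
      from rfl, List.nodup_append]
    refine ⟨hWnd, by simp [k67], ?_⟩
    intro u hu v hv
    simp only [List.mem_cons, List.not_mem_nil, or_false] at hu hv
    rcases hv with h | h <;> rcases hu with h' | h' | h' | h' | h' | h' <;> rw [h, h']
    · exact k06
    · exact k16.symm
    · exact k26.symm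
    · exact k36.symm
    · exact k46.symm
    · exact k56
    · exact k07
    · exact k17.symm
    · exact k27.symm
    · exact k37.symm
    · exact k47.symm
    · exact k57
  have s0 : p0 ∈ S := (hmem _ P5).1
  have s5 : p5 ∈ S := by
    have : p5 ∈ S \ {p1, p2, p3, p4} := by rw [hT]; simp
    exact (hmem _ this).1
  have s1 : p1 ∈ S := hxS (by rw [mem_support, h10]; exact n01)
  have s2 : p2 ∈ S := hxS (by rw [mem_support, h23]; exact n23.symm)
  have s3 : p3 ∈ S := hxS (by rw [mem_support, h32]; exact n23)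
  have s4 : p4 ∈ S := hxS (by rw [mem_support, h45]; exact n45.symm)
  have h1 : ∀ u ∈ [p0, p1, p2, p3, p4, p5, y p5, x (y p5)], u ∈ S := by
    intro u hu
    simp only [List.mem_cons, List.not_mem_nil, or_false] at hu
    rcases hu with h | h | h | h | h | h | h | h <;> rw [h] <;> assumption
  have h2 : ∀ u ∈ S, u ∈ [p0, p1, p2, p3, p4, p5, y p5, x (y p5)] := by
    intro u hu
    by_cases u1 : u = p1
    · simp [u1]
    by_cases u2 : u = p2
    · simp [u2]
    by_cases u3 : u = p3
    · simp [u3]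
    by_cases u4 : u = p4
    · simp [u4]
    have : u ∈ S \ {p1, p2, p3, p4} := by simp [hu, u1, u2, u3, u4]
    rw [hT] at this
    simp only [Finset.mem_insert, Finset.mem_singleton] at this
    simp only [List.mem_cons]
    tauto
  obtain ⟨hιS, hout⟩ := emb_facts hl h1 h2
  set ι : Fin 8 ↪ α := embOfList _ hl with hι
  have ex : x = (swap (0 : Fin 8) 1 * swap 2 3 * swap 4 5 * swap 6 7).viaEmbedding ι := by
    apply eq_viaEmbedding ι x _ _ (hout x hxS)
    intro i
    fin_cases i
    · show x p0 = p1; exact h01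
    · show x p1 = p0; exact h10
    · show x p2 = p3; exact h23
    · show x p3 = p2; exact h32
    · show x p4 = p5; exact h45
    · show x p5 = p4; exact h54
    · show x (y p5) = x (y p5); rfl
    · show x (x (y p5)) = y p5; exact sq_apply hx _
  have ey : y = (swap (1 : Fin 8) 2 * swap 3 4 * swap 5 6 * swap 7 0).viaEmbedding ι := by
    apply eq_viaEmbedding ι y _ _ (hout y hyS)
    intro i
    fin_cases i
    · show y p0 = x (y p5); exact apply_eq_of_sq hy hcl
    · show y p1 = p2; exact h12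
    · show y p2 = p1; exact h21
    · show y p3 = p4; exact h34
    · show y p4 = p3; exact h43
    · show y p5 = y p5; rfl
    · show y (y p5) = p5; exact sq_apply hy _
    · show y (x (y p5)) = p0; exact hcl
  rw [ex, ey]
  exact sol_of_embedding ι hιS _ _ (swap (0 : Fin 8) 1 * swap 2 4 * swap 3 7 * swap 5 6) 3 3
    (by decide) (by decide) (by decide) (by decide) (by decide) (by decide)


/-! ### Peeling off an embedded invariant part -/

theorem peel {m : ℕ} {x : Perm α} (hx : x * x = 1) (ι : Fin m ↪ α) (x₀ : Perm (Fin m))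
    (hx₀ : x₀ * x₀ = 1) (h1 : ∀ i, x (ι i) = ι (x₀ i)) :
    (x₀.viaEmbedding ι * x) * (x₀.viaEmbedding ι * x) = 1 ∧
    (∀ i, (x₀.viaEmbedding ι * x) (ι i) = ι i) ∧
    (∀ u, u ∉ Set.range ι → (x₀.viaEmbedding ι * x) u = x u) ∧
    x = x₀.viaEmbedding ι * (x₀.viaEmbedding ι * x) ∧
    x.support.card = x₀.support.card + (x₀.viaEmbedding ι * x).support.card := by
  have hR : x₀.viaEmbedding ι * x₀.viaEmbedding ι = 1 := by
    rw [viaEmbedding_mul, hx₀, ← viaEmbeddingHom_apply, map_one]
  have hinv : ∀ u, u ∉ Set.range ι → x u ∉ Set.range ι := by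
    rintro u hu ⟨i, hi⟩
    apply hu
    refine ⟨x₀ i, ?_⟩
    rw [← h1, hi, sq_apply hx]
  have hfix : ∀ i, (x₀.viaEmbedding ι * x) (ι i) = ι i := by
    intro i
    rw [Perm.mul_apply, h1, viaEmbedding_apply, sq_apply hx₀]
  have hout : ∀ u, u ∉ Set.range ι → (x₀.viaEmbedding ι * x) u = x u := by
    intro u hu
    rw [Perm.mul_apply, viaEmbedding_apply_of_notMem _ _ _ (hinv u hu)]
  have hsplit : x = x₀.viaEmbedding ι * (x₀.viaEmbedding ι * x) := by
    rw [← mul_assoc, hR, one_mul]
  refine ⟨?_, hfix, hout, hsplit, ?_⟩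
  · apply sq_of_apply
    intro u
    by_cases hu : u ∈ Set.range ι
    · obtain ⟨i, rfl⟩ := hu
      rw [hfix, hfix]
    · rw [hout u hu, hout _ (hinv u hu), sq_apply hx]
  · have hdis : Equiv.Perm.Disjoint (x₀.viaEmbedding ι) (x₀.viaEmbedding ι * x) := by
      intro u
      by_cases hu : u ∈ Set.range ι
      · obtain ⟨i, rfl⟩ := hu
        right; exact hfix i
      · left; exact viaEmbedding_apply_of_notMem _ _ _ hu
    conv_lhs => rw [hsplit]
    rw [hdis.card_support_mul, card_support_viaEmbedding]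

end Cfsg.Agent.Helper71.InvGraph
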