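import Mathlib
import Cfsg.Agent.Lib.Helper71.InvGraph2

/-!
# Involution graph: two and three Klein configurations
-/

set_option autoImplicit false
set_option linter.unusedSectionVars false

namespace Cfsg.Agent.Helper71.InvGraph

open Equiv Equiv.Perm

variable {α : Type*} [DecidableEq α] [Fintype α]

/-- Two Klein configurations: the `x` part. -/
def X8 : Perm (Fin 8) := swap 0 1 * swap 2 3 * swap 4 5 * swap 6 7

/-- Two Klein configurations: the `y` part. -/
def Y8 : Perm (Fin 8) := swap 1 2 * swap 3 0 * swap 5 6 * swap 7 4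

/-- A common neighbour for two Klein configurations. -/
def Z8 : Perm (Fin 8) := swap 0 1 * swap 2 4 * swap 3 7 * swap 5 6

theorem mem_map_univ_iff {m : ℕ} (ι : Fin m ↪ α) (u : α) :
    u ∈ (Finset.univ : Finset (Fin m)).map ι ↔ u ∈ Set.range ι := by
  simp

/-- Preconditions after peeling off two Klein configurations. -/
theorem peel2_pre {S : Finset α} {x y : Perm α} (hx : x * x = 1) (hy : y * y = 1)
    (hxS : x.support ⊆ S) (hyS : y.support ⊆ S) (hc : x.support.card = y.support.card)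
    (ι : Fin 8 ↪ α) (hιS : ∀ i, ι i ∈ S)
    (tx : ∀ i, x (ι i) = ι (X8 i)) (ty : ∀ i, y (ι i) = ι (Y8 i)) :
    (X8.viaEmbedding ι * x).support ⊆ S \ Finset.univ.map ι ∧
    (Y8.viaEmbedding ι * y).support ⊆ S \ Finset.univ.map ι ∧
    (X8.viaEmbedding ι * x).support.card = (Y8.viaEmbedding ι * y).support.card ∧
    (S \ Finset.univ.map ι).card < S.card := by
  obtain ⟨P1, P2, P3, P4, P5⟩ := peel hx ι X8 (by decide) tx
  obtain ⟨Q1, Q2, Q3, Q4, Q5⟩ := peel hy ι Y8 (by decide) ty
  have key : ∀ (w w'' : Perm α), w.support ⊆ S → (∀ i, w'' (ι i) = ι i) →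
      (∀ u, u ∉ Set.range ι → w'' u = w u) → w''.support ⊆ S \ Finset.univ.map ι := by
    intro w w'' hw h1 h2 u hu
    rw [mem_support] at hu
    have hur : u ∉ Set.range ι := by
      rintro ⟨i, rfl⟩
      exact hu (h1 i)
    rw [Finset.mem_sdiff, mem_map_univ_iff]
    refine ⟨hw ?_, hur⟩
    rw [mem_support, ← h2 u hur]
    exact hu
  refine ⟨key x _ hxS P2 P3, key y _ hyS Q2 Q3, ?_, ?_⟩
  · have e1 : X8.support.card = 8 := by decide
    have e2 : Y8.support.card = 8 := by decide
    omega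
  · apply Finset.card_lt_card
    rw [Finset.ssubset_iff_of_subset Finset.sdiff_subset]
    refine ⟨ι 0, hιS 0, ?_⟩
    rw [Finset.mem_sdiff, mem_map_univ_iff]
    exact fun h => h.2 ⟨0, rfl⟩


set_option maxRecDepth 40000 in
/-- E5: three Klein configurations. -/
theorem sol_E5 {S : Finset α} {x y : Perm α} (hx : x * x = 1) (hy : y * y = 1)
    (hxS : x.support ⊆ S) (hyS : y.support ⊆ S) (hc : x.support.card = y.support.card)
    (ι : Fin 8 ↪ α) (hιS : ∀ i, ι i ∈ S)
    (tx : ∀ i, x (ι i) = ι (X8 i)) (ty : ∀ i, y (ι i) = ι (Y8 i))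
    (hb : Bad (S \ Finset.univ.map ι) (X8.viaEmbedding ι * x) (Y8.viaEmbedding ι * y)) :
    Sol S x y := by
  obtain ⟨P1, P2, P3, P4, P5⟩ := peel hx ι X8 (by decide) tx
  obtain ⟨Q1, Q2, Q3, Q4, Q5⟩ := peel hy ι Y8 (by decide) ty
  obtain ⟨R1, R2, R3, R4⟩ := peel2_pre hx hy hxS hyS hc ι hιS tx ty
  have hne : (S \ Finset.univ.map ι).Nonempty := by
    rw [← Finset.card_pos, hb.1]; norm_num
  obtain ⟨r, hr⟩ := hne
  obtain ⟨nd4, hT, hcl⟩ := bad_structure P1 Q1 R2 R3 hb hr
  have hmem : ∀ u, u ∈ S \ Finset.univ.map ι → u ∈ S ∧ u ∉ Set.range ι := by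
    intro u hu
    rw [Finset.mem_sdiff, mem_map_univ_iff] at hu
    exact hu
  have ex' : ∀ u, u ∈ S \ Finset.univ.map ι → (X8.viaEmbedding ι * x) u = x u :=
    fun u hu => P3 u (hmem u hu).2
  have ey' : ∀ u, u ∈ S \ Finset.univ.map ι → (Y8.viaEmbedding ι * y) u = y u :=
    fun u hu => Q3 u (hmem u hu).2
  have e1 := ex' r hr
  rw [e1] at nd4 hT hcl
  have m1 : x r ∈ S \ Finset.univ.map ι := by rw [hT]; simp
  have e2 := ey' _ m1
  rw [e2] at nd4 hT hcl
  have m2 : y (x r) ∈ S \ Finset.univ.map ι := by rw [hT]; simp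
  have e3 := ex' _ m2
  rw [e3] at nd4 hT hcl
  have m3 : x (y (x r)) ∈ S \ Finset.univ.map ι := by rw [hT]; simp
  have e4 := ey' _ m3
  rw [e4] at hcl
  have hmem4 : ∀ u, u ∈ [r, x r, y (x r), x (y (x r))] → u ∈ S \ Finset.univ.map ι := by
    intro u hu
    simp only [List.mem_cons, List.not_mem_nil, or_false] at hu
    rcases hu with h | h | h | h <;> rw [h] <;> assumption
  have hl8 : [ι 0, ι 1, ι 2, ι 3, ι 4, ι 5, ι 6, ι 7].Nodup := by
    have : [ι 0, ι 1, ι 2, ι 3, ι 4, ι 5, ι 6, ι 7] = (List.finRange 8).map ι := by rfl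
    rw [this]
    exact (List.nodup_finRange 8).map ι.injective
  have hl : [ι 0, ι 1, ι 2, ι 3, ι 4, ι 5, ι 6, ι 7, r, x r, y (x r), x (y (x r))].Nodup := by
    rw [show [ι 0, ι 1, ι 2, ι 3, ι 4, ι 5, ι 6, ι 7, r, x r, y (x r), x (y (x r))] =
      [ι 0, ι 1, ι 2, ι 3, ι 4, ι 5, ι 6, ι 7] ++ [r, x r, y (x r), x (y (x r))] from rfl,
      List.nodup_append]
    refine ⟨hl8, nd4, ?_⟩
    intro u hu v hv huv
    have := (hmem v (hmem4 v hv)).2
    apply this
    rw [← huv]
    simp only [List.mem_cons, List.not_mem_nil, or_false] at hu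
    rcases hu with h | h | h | h | h | h | h | h <;> rw [h] <;> exact ⟨_, rfl⟩
  have h1 : ∀ u ∈ [ι 0, ι 1, ι 2, ι 3, ι 4, ι 5, ι 6, ι 7, r, x r, y (x r), x (y (x r))],
      u ∈ S := by
    intro u hu
    simp only [List.mem_cons, List.not_mem_nil, or_false] at hu
    rcases hu with h | h | h | h | h | h | h | h | h | h | h | h <;> rw [h]
    · exact hιS 0
    · exact hιS 1
    · exact hιS 2
    · exact hιS 3
    · exact hιS 4
    · exact hιS 5
    · exact hιS 6
    · exact hιS 7
    · exact (hmem _ hr).1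
    · exact (hmem _ m1).1
    · exact (hmem _ m2).1
    · exact (hmem _ m3).1
  have h2 : ∀ u ∈ S, u ∈ [ι 0, ι 1, ι 2, ι 3, ι 4, ι 5, ι 6, ι 7, r, x r, y (x r), x (y (x r))] := by
    intro u hu
    by_cases hur : u ∈ Set.range ι
    · obtain ⟨i, rfl⟩ := hur
      fin_cases i <;> simp
    · have : u ∈ S \ Finset.univ.map ι := by
        rw [Finset.mem_sdiff, mem_map_univ_iff]; exact ⟨hu, hur⟩
      rw [hT] at this
      simp only [Finset.mem_insert, Finset.mem_singleton] at this
      simp only [List.mem_cons]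
      tauto
  obtain ⟨hιS', hout⟩ := emb_facts hl h1 h2
  set κ : Fin 12 ↪ α := embOfList _ hl with hκ
  have ex : x = (swap (0 : Fin 12) 1 * swap 2 3 * swap 4 5 * swap 6 7 * swap 8 9 *
      swap 10 11).viaEmbedding κ := by
    apply eq_viaEmbedding κ x _ _ (hout x hxS)
    intro i
    fin_cases i
    · show x (ι 0) = ι 1; exact (tx 0).trans (congrArg ι (by decide))
    · show x (ι 1) = ι 0; exact (tx 1).trans (congrArg ι (by decide))
    · show x (ι 2) = ι 3; exact (tx 2).trans (congrArg ι (by decide))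
    · show x (ι 3) = ι 2; exact (tx 3).trans (congrArg ι (by decide))
    · show x (ι 4) = ι 5; exact (tx 4).trans (congrArg ι (by decide))
    · show x (ι 5) = ι 4; exact (tx 5).trans (congrArg ι (by decide))
    · show x (ι 6) = ι 7; exact (tx 6).trans (congrArg ι (by decide))
    · show x (ι 7) = ι 6; exact (tx 7).trans (congrArg ι (by decide))
    · show x r = x r; rfl
    · show x (x r) = r; exact sq_apply hx r
    · show x (y (x r)) = x (y (x r)); rfl
    · show x (x (y (x r))) = y (x r); exact sq_apply hx _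
  have ey : y = (swap (1 : Fin 12) 2 * swap 3 0 * swap 5 6 * swap 7 4 * swap 9 10 *
      swap 11 8).viaEmbedding κ := by
    apply eq_viaEmbedding κ y _ _ (hout y hyS)
    intro i
    fin_cases i
    · show y (ι 0) = ι 3; exact (ty 0).trans (congrArg ι (by decide))
    · show y (ι 1) = ι 2; exact (ty 1).trans (congrArg ι (by decide))
    · show y (ι 2) = ι 1; exact (ty 2).trans (congrArg ι (by decide))
    · show y (ι 3) = ι 0; exact (ty 3).trans (congrArg ι (by decide))
    · show y (ι 4) = ι 7; exact (ty 4).trans (congrArg ι (by decide))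
    · show y (ι 5) = ι 6; exact (ty 5).trans (congrArg ι (by decide))
    · show y (ι 6) = ι 5; exact (ty 6).trans (congrArg ι (by decide))
    · show y (ι 7) = ι 4; exact (ty 7).trans (congrArg ι (by decide))
    · show y r = x (y (x r)); exact apply_eq_of_sq hy hcl
    · show y (x r) = y (x r); rfl
    · show y (y (x r)) = x r; exact sq_apply hy _
    · show y (x (y (x r))) = r; exact hcl
  rw [ex, ey]
  exact sol_of_embedding κ hιS' _ _
    (swap (0 : Fin 12) 1 * swap 2 4 * swap 3 7 * swap 5 8 * swap 6 10 * swap 9 11) 5 3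
    (by decide) (by decide) (by decide) (by decide) (by decide) (by decide)


/-- The induction hypothesis, as a predicate on the active region. -/
def IHyp (S : Finset α) : Prop :=
  ∀ S' : Finset α, S'.card < S.card → ∀ x' y' : Perm α, x' * x' = 1 → y' * y' = 1 →
    x'.support ⊆ S' → y'.support ⊆ S' → x'.support.card = y'.support.card →
    ¬ Bad S' x' y' → Sol S' x' y'

set_option maxRecDepth 20000 in
theorem step_C2C2 {S : Finset α} {x y : Perm α} (hx : x * x = 1) (hy : y * y = 1)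
    (hxS : x.support ⊆ S) (hyS : y.support ⊆ S) (hc : x.support.card = y.support.card)
    (IH : IHyp S) (ι : Fin 8 ↪ α) (hιS : ∀ i, ι i ∈ S)
    (tx : ∀ i, x (ι i) = ι (X8 i)) (ty : ∀ i, y (ι i) = ι (Y8 i)) : Sol S x y := by
  obtain ⟨P1, P2, P3, P4, P5⟩ := peel hx ι X8 (by decide) tx
  obtain ⟨Q1, Q2, Q3, Q4, Q5⟩ := peel hy ι Y8 (by decide) ty
  obtain ⟨R1, R2, R3, R4⟩ := peel2_pre hx hy hxS hyS hc ι hιS tx ty
  by_cases hb : Bad (S \ Finset.univ.map ι) (X8.viaEmbedding ι * x) (Y8.viaEmbedding ι * y)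
  · exact sol_E5 hx hy hxS hyS hc ι hιS tx ty hb
  · have h2 := IH _ R4 _ _ P1 Q1 R1 R2 R3 hb
    have hmem : ∀ i, ι i ∈ (Finset.univ : Finset (Fin 8)).map ι := fun i => by simp
    have h1 : Sol (Finset.univ.map ι) (X8.viaEmbedding ι) (Y8.viaEmbedding ι) :=
      sol_of_embedding ι hmem X8 Y8 Z8 3 3 (by decide) (by decide) (by decide) (by decide)
        (by decide) (by decide)
    have h3 := Sol.union Finset.disjoint_sdiff (support_viaEmbedding_subset ι X8 hmem)
      (support_viaEmbedding_subset ι Y8 hmem) R1 R2 h1 h2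
    rw [← P4, ← Q4] at h3
    apply h3.mono
    apply Finset.union_subset _ Finset.sdiff_subset
    intro u hu
    rw [mem_map_univ_iff] at hu
    obtain ⟨i, rfl⟩ := hu
    exact hιS i

end Cfsg.Agent.Helper71.InvGraph
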