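import Mathlib
import Cfsg.Agent.Lib.Helper71.InvGraph3

/-!
# Involution graph: the induction
-/

set_option autoImplicit false
set_option linter.unusedSectionVars false

namespace Cfsg.Agent.Helper71.InvGraph

open Equiv Equiv.Perm

variable {α : Type*} [DecidableEq α] [Fintype α]

theorem window_of {S : Finset α} {x y : Perm α} (hx : x * x = 1) (hy : y * y = 1)
    (xm : ∀ u ∈ S, x u ≠ u) (ym : ∀ u ∈ S, y u ≠ u) (xS : ∀ u ∈ S, x u ∈ S)
    (yS : ∀ u ∈ S, y u ∈ S) (h1 : ∀ p ∈ S, y (x p) ≠ p) {p0 : α} (hp0 : p0 ∈ S)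
    (h2 : y (x (y (x p0))) ≠ p0) :
    Window x y p0 (x p0) (y (x p0)) (x (y (x p0))) (y (x (y (x p0))))
      (x (y (x (y (x p0))))) := by
  refine ⟨rfl, rfl, rfl, rfl, rfl, ?_⟩
  have s1 := xS _ hp0
  have s2 := yS _ s1
  have s3 := xS _ s2
  have s4 := yS _ s3
  have n01 : p0 ≠ x p0 := (xm _ hp0).symm
  have n12 : x p0 ≠ y (x p0) := (ym _ s1).symm
  have n23 : y (x p0) ≠ x (y (x p0)) := (xm _ s2).symm
  have n34 : x (y (x p0)) ≠ y (x (y (x p0))) := (ym _ s3).symm
  have n45 : y (x (y (x p0))) ≠ x (y (x (y (x p0)))) := (xm _ s4).symm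
  have n02 : p0 ≠ y (x p0) := (h1 _ hp0).symm
  have n13 : x p0 ≠ x (y (x p0)) := fun h => n02 (x.injective h)
  have n24 : y (x p0) ≠ y (x (y (x p0))) := fun h => n13 (y.injective h)
  have n35 : x (y (x p0)) ≠ x (y (x (y (x p0)))) := fun h => n24 (x.injective h)
  have n03 : p0 ≠ x (y (x p0)) := by
    intro h
    have h' := congrArg x h
    rw [sq_apply hx] at h'
    exact n12 h'
  have n14 : x p0 ≠ y (x (y (x p0))) := by
    intro h
    have h' := congrArg y h
    rw [sq_apply hy] at h'
    exact n23 h'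
  have n25 : y (x p0) ≠ x (y (x (y (x p0)))) := by
    intro h
    have h' := congrArg x h
    rw [sq_apply hx] at h'
    exact n34 h'
  have n04 : p0 ≠ y (x (y (x p0))) := Ne.symm h2
  have n15 : x p0 ≠ x (y (x (y (x p0)))) := fun h => n04 (x.injective h)
  have n05 : p0 ≠ x (y (x (y (x p0)))) := by
    intro h
    have h' := congrArg x h
    rw [sq_apply hx] at h'
    exact n14 h'
  simp only [List.nodup_cons, List.mem_cons, List.not_mem_nil, or_false, not_or,
    List.nodup_nil, and_true, not_false_eq_true]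
  exact ⟨⟨n01, n02, n03, n04, n05⟩, ⟨n12, n13, n14, n15⟩, ⟨n23, n24, n25⟩, ⟨n34, n35⟩, n45⟩

/-- The four points of a Klein configuration through `p`. -/
theorem quad_of {S : Finset α} {x y : Perm α} (hx : x * x = 1)
    (xm : ∀ u ∈ S, x u ≠ u) (ym : ∀ u ∈ S, y u ≠ u) (xS : ∀ u ∈ S, x u ∈ S)
    (yS : ∀ u ∈ S, y u ∈ S) (h1 : ∀ p ∈ S, y (x p) ≠ p) {p : α} (hp : p ∈ S) :
    [p, x p, y (x p), x (y (x p))].Nodup := by
  have s1 := xS _ hp
  have s2 := yS _ s1
  have n01 : p ≠ x p := (xm _ hp).symm
  have n12 : x p ≠ y (x p) := (ym _ s1).symm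
  have n23 : y (x p) ≠ x (y (x p)) := (xm _ s2).symm
  have n02 : p ≠ y (x p) := (h1 _ hp).symm
  have n13 : x p ≠ x (y (x p)) := fun h => n02 (x.injective h)
  have n03 : p ≠ x (y (x p)) := by
    intro h
    have h' := congrArg x h
    rw [sq_apply hx] at h'
    exact n12 h'
  simp only [List.nodup_cons, List.mem_cons, List.not_mem_nil, or_false, not_or,
    List.nodup_nil, and_true, not_false_eq_true]
  exact ⟨⟨n01, n02, n03⟩, ⟨n12, n13⟩, n23⟩


theorem step_two_quads {S : Finset α} {x y : Perm α} (hx : x * x = 1) (hy : y * y = 1)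
    (hxS : x.support ⊆ S) (hyS : y.support ⊆ S) (hc : x.support.card = y.support.card)
    (IH : IHyp S)
    (xm : ∀ u ∈ S, x u ≠ u) (ym : ∀ u ∈ S, y u ≠ u) (xS : ∀ u ∈ S, x u ∈ S)
    (yS : ∀ u ∈ S, y u ∈ S) (h1 : ∀ p ∈ S, y (x p) ≠ p)
    (h2 : ∀ p ∈ S, y (x (y (x p))) = p)
    {p q : α} (hp : p ∈ S) (hq : q ∈ S) (hqA : q ∉ [p, x p, y (x p), x (y (x p))]) :
    Sol S x y := by
  have ndA := quad_of hx xm ym xS yS h1 hp
  have ndB := quad_of hx xm ym xS yS h1 hq
  have hAx : ∀ u, u ∈ [p, x p, y (x p), x (y (x p))] → x u ∈ [p, x p, y (x p), x (y (x p))] := by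
    intro u hu
    simp only [List.mem_cons, List.not_mem_nil, or_false] at hu
    rcases hu with h | h | h | h <;> rw [h]
    · simp
    · rw [sq_apply hx]; simp
    · simp
    · rw [sq_apply hx]; simp
  have hAy : ∀ u, u ∈ [p, x p, y (x p), x (y (x p))] → y u ∈ [p, x p, y (x p), x (y (x p))] := by
    intro u hu
    simp only [List.mem_cons, List.not_mem_nil, or_false] at hu
    rcases hu with h | h | h | h <;> rw [h]
    · rw [apply_eq_of_sq hy (h2 p hp)]; simp
    · simp
    · rw [sq_apply hy]; simp
    · rw [h2 p hp]; simp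
  have b1 : x q ∉ [p, x p, y (x p), x (y (x p))] := by
    intro h
    have := hAx _ h
    rw [sq_apply hx] at this
    exact hqA this
  have b2 : y (x q) ∉ [p, x p, y (x p), x (y (x p))] := by
    intro h
    have := hAy _ h
    rw [sq_apply hy] at this
    exact b1 this
  have b3 : x (y (x q)) ∉ [p, x p, y (x p), x (y (x p))] := by
    intro h
    have := hAx _ h
    rw [sq_apply hx] at this
    exact b2 this
  have hl : [p, x p, y (x p), x (y (x p)), q, x q, y (x q), x (y (x q))].Nodup := by
    rw [show [p, x p, y (x p), x (y (x p)), q, x q, y (x q), x (y (x q))] =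
      [p, x p, y (x p), x (y (x p))] ++ [q, x q, y (x q), x (y (x q))] from rfl,
      List.nodup_append]
    refine ⟨ndA, ndB, ?_⟩
    intro u hu v hv huv
    rw [huv] at hu
    simp only [List.mem_cons (a := v) (b := q), List.mem_cons (a := v) (b := x q),
      List.mem_cons (a := v) (b := y (x q)), List.mem_cons (a := v) (b := x (y (x q))),
      List.not_mem_nil, or_false] at hv
    rcases hv with h | h | h | h <;> rw [h] at hu
    · exact hqA hu
    · exact b1 hu
    · exact b2 hu
    · exact b3 hu
  have s1 := xS _ hp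
  have s2 := yS _ s1
  have s3 := xS _ s2
  have t1 := xS _ hq
  have t2 := yS _ t1
  have t3 := xS _ t2
  set ι : Fin 8 ↪ α := embOfList _ hl with hι
  have hιS : ∀ i, ι i ∈ S := by
    intro i
    fin_cases i
    · show p ∈ S; exact hp
    · show x p ∈ S; exact s1
    · show y (x p) ∈ S; exact s2
    · show x (y (x p)) ∈ S; exact s3
    · show q ∈ S; exact hq
    · show x q ∈ S; exact t1
    · show y (x q) ∈ S; exact t2
    · show x (y (x q)) ∈ S; exact t3
  have tx : ∀ i, x (ι i) = ι (X8 i) := by
    intro i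
    fin_cases i
    · show x p = x p; rfl
    · show x (x p) = p; exact sq_apply hx p
    · show x (y (x p)) = x (y (x p)); rfl
    · show x (x (y (x p))) = y (x p); exact sq_apply hx _
    · show x q = x q; rfl
    · show x (x q) = q; exact sq_apply hx q
    · show x (y (x q)) = x (y (x q)); rfl
    · show x (x (y (x q))) = y (x q); exact sq_apply hx _
  have ty : ∀ i, y (ι i) = ι (Y8 i) := by
    intro i
    fin_cases i
    · show y p = x (y (x p)); exact apply_eq_of_sq hy (h2 p hp)
    · show y (x p) = y (x p); rfl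
    · show y (y (x p)) = x p; exact sq_apply hy _
    · show y (x (y (x p))) = p; exact h2 p hp
    · show y q = x (y (x q)); exact apply_eq_of_sq hy (h2 q hq)
    · show y (x q) = y (x q); rfl
    · show y (y (x q)) = x q; exact sq_apply hy _
    · show y (x (y (x q))) = q; exact h2 q hq
  exact step_C2C2 hx hy hxS hyS hc IH ι hιS tx ty


theorem card_sdiff_lt {S T : Finset α} {e : α} (heS : e ∈ S) (heT : e ∈ T) :
    (S \ T).card < S.card := by
  apply Finset.card_lt_card
  rw [Finset.ssubset_iff_of_subset Finset.sdiff_subset]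
  exact ⟨e, heS, fun h => (Finset.mem_sdiff.mp h).2 heT⟩

theorem main_step (S : Finset α) (IH : IHyp S) (x y : Perm α) (hx : x * x = 1)
    (hy : y * y = 1) (hxS : x.support ⊆ S) (hyS : y.support ⊆ S)
    (hc : x.support.card = y.support.card) (hbad : ¬ Bad S x y) : Sol S x y := by
  by_cases hsupp : x.support = y.support
  swap
  · -- Case 1: an endpoint reduction
    have h1 : ∃ e, e ∈ x.support ∧ e ∉ y.support := by
      by_contra hcon
      push Not at hcon
      exact hsupp (Finset.eq_of_subset_of_card_le hcon hc.ge)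
    have h2 : ∃ q, q ∈ y.support ∧ q ∉ x.support := by
      by_contra hcon
      push Not at hcon
      exact hsupp (Finset.eq_of_subset_of_card_le hcon hc.le).symm
    obtain ⟨e, he, he'⟩ := h1
    obtain ⟨q, hq, hq'⟩ := h2
    have heS := hxS he
    have hqS := hyS hq
    rw [mem_support] at he hq
    rw [notMem_support] at he' hq'
    have heq : e ≠ q := by rintro rfl; exact he hq'
    apply red_endpoint hx hy hxS hyS he he' hq hq'
    apply IH
    · exact card_sdiff_lt heS (by simp)
    · exact rem_sq hx e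
    · exact rem_sq hy q
    · rw [support_rem hx]
      intro u hu
      simp only [Finset.mem_sdiff, Finset.mem_insert, Finset.mem_singleton, not_or] at hu ⊢
      refine ⟨hxS hu.1, hu.2.1, ?_⟩
      rintro rfl
      exact (mem_support.mp hu.1) hq'
    · rw [support_rem hy]
      intro u hu
      simp only [Finset.mem_sdiff, Finset.mem_insert, Finset.mem_singleton, not_or] at hu ⊢
      refine ⟨hyS hu.1, ?_, hu.2.1⟩
      rintro rfl
      exact (mem_support.mp hu.1) he'
    · have a1 := card_support_rem hx he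
      have a2 := card_support_rem hy hq
      omega
    · rintro ⟨-, hb, -⟩
      have hf : x e ∈ S \ {e, q} := by
        simp only [Finset.mem_sdiff, Finset.mem_insert, Finset.mem_singleton, not_or]
        refine ⟨hxS (by rw [mem_support, sq_apply hx]; exact Ne.symm he), he, ?_⟩
        intro h
        have := apply_eq_of_sq hx h
        rw [hq'] at this
        exact heq this.symm
      rw [← hb, mem_support] at hf
      exact hf (rem_apply x e)
  -- Case 2: equal supports
  by_cases hST : x.support = S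
  swap
  · have h1 : ∃ f ∈ S, f ∉ x.support := by
      by_contra hcon
      push Not at hcon
      exact hST (Finset.Subset.antisymm hxS hcon)
    obtain ⟨f, hfS, hf⟩ := h1
    have hf' : f ∉ y.support := hsupp ▸ hf
    have hyf : y f = f := notMem_support.mp hf'
    by_cases hb : Bad (S \ {f}) x y
    · exact sol_E1 hx hy hxS hyS hc hfS hyf hb
    · apply Sol.mono Finset.sdiff_subset
      apply IH _ (card_sdiff_lt hfS (by simp)) x y hx hy _ _ hc hb
      · intro u hu
        rw [Finset.mem_sdiff, Finset.mem_singleton]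
        exact ⟨hxS hu, fun h => hf (h ▸ hu)⟩
      · intro u hu
        rw [Finset.mem_sdiff, Finset.mem_singleton]
        exact ⟨hyS hu, fun h => hf' (h ▸ hu)⟩
  -- Case 2b: full supports
  have hyT : y.support = S := hsupp ▸ hST
  have xm : ∀ u ∈ S, x u ≠ u := fun u hu => mem_support.mp (hST ▸ hu)
  have ym : ∀ u ∈ S, y u ≠ u := fun u hu => mem_support.mp (hyT ▸ hu)
  have xS : ∀ u ∈ S, x u ∈ S := fun u hu => apply_mem_of_mem hxS hu
  have yS : ∀ u ∈ S, y u ∈ S := fun u hu => apply_mem_of_mem hyS hu
  by_cases h1 : ∃ a ∈ S, y (x a) = a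
  · obtain ⟨a, haS, ha⟩ := h1
    have hya : y a = x a := apply_eq_of_sq hy ha
    by_cases hb : Bad (S \ {a, x a}) (rem x a) (rem y a)
    · exact sol_E2 hx hy hxS hyS hc (xm a haS) hya hb
    · apply red_C1 hx hy hxS (xm a haS) hya
      apply IH _ (card_sdiff_lt haS (by simp)) _ _ (rem_sq hx a) (rem_sq hy a) _ _ _ hb
      · rw [support_rem hx]
        exact Finset.sdiff_subset_sdiff hxS (le_refl _)
      · rw [support_rem hy, hya]
        exact Finset.sdiff_subset_sdiff hyS (le_refl _)
      · have a1 := card_support_rem hx (xm a haS)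
        have a2 := card_support_rem hy (a := a) (by rw [hya]; exact xm a haS)
        omega
  push Not at h1
  by_cases h2 : ∃ p ∈ S, y (x (y (x p))) ≠ p
  · obtain ⟨p0, hp0, h2⟩ := h2
    have W := window_of hx hy xm ym xS yS h1 hp0 h2
    obtain ⟨P1, P2, P3, P4, P5⟩ := contract_pre hx hy hxS hyS hc W
    obtain ⟨X1, -⟩ := cx_spec hx W
    obtain ⟨Y1, -⟩ := cy_spec hy W
    by_cases hb : Bad (S \ {x p0, y (x p0), x (y (x p0)), y (x (y (x p0)))})
        (cx x p0 (y (x p0)) (y (x (y (x p0)))) (x (y (x (y (x p0)))))) (cy y (x p0) (x (y (x p0))))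
    · exact sol_E3 hx hy hxS hyS hc W hb
    · apply red_contract hx hy hxS W
      exact IH _ (by omega) _ _ X1 Y1 P1 P2 P3 hb
  push Not at h2
  -- only Klein configurations
  by_cases hS0 : S = ∅
  · have hx1 : x = 1 := by rw [← support_eq_empty_iff, hST, hS0]
    have hy1 : y = 1 := by rw [← support_eq_empty_iff, hyT, hS0]
    apply sol_of_oddOrd hx hxS
    rw [hx1, hy1, one_mul]
    exact oddOrd_one
  obtain ⟨p, hp⟩ := Finset.nonempty_iff_ne_empty.mpr hS0
  by_cases hq : ∃ q ∈ S, q ∉ [p, x p, y (x p), x (y (x p))]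
  · obtain ⟨q, hqS, hqA⟩ := hq
    exact step_two_quads hx hy hxS hyS hc IH xm ym xS yS h1 h2 hp hqS hqA
  · exfalso
    push Not at hq
    apply hbad
    have ndA := quad_of hx xm ym xS yS h1 hp
    have s1 := xS _ hp
    have s2 := yS _ s1
    have s3 := xS _ s2
    have hSA : S = [p, x p, y (x p), x (y (x p))].toFinset := by
      apply Finset.Subset.antisymm
      · intro u hu
        rw [List.mem_toFinset]
        exact hq u hu
      · intro u hu
        rw [List.mem_toFinset] at hu
        simp only [List.mem_cons, List.not_mem_nil, or_false] at hu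
        rcases hu with h | h | h | h <;> rw [h] <;> assumption
    refine ⟨?_, hST, ?_⟩
    · rw [hSA, List.toFinset_card_of_nodup ndA]
      rfl
    · intro hxy
      have h3 : y p = x (y (x p)) := apply_eq_of_sq hy (h2 p hp)
      have h4 : x p = x (y (x p)) := by rw [← h3, hxy]
      simp only [List.nodup_cons, List.mem_cons, List.not_mem_nil, or_false, not_or,
        List.nodup_nil, and_true, not_false_eq_true] at ndA
      exact ndA.2.1.2 h4

theorem main (n : ℕ) : ∀ S : Finset α, S.card = n → ∀ x y : Perm α, x * x = 1 → y * y = 1 →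
    x.support ⊆ S → y.support ⊆ S → x.support.card = y.support.card → ¬ Bad S x y →
    Sol S x y := by
  induction n using Nat.strong_induction_on with
  | _ n ih =>
    intro S hS x y hx hy hxS hyS hc hbad
    apply main_step S _ x y hx hy hxS hyS hc hbad
    intro S' hS' x' y' hx' hy' hxS' hyS' hc' hbad'
    exact ih S'.card (hS ▸ hS') S' rfl x' y' hx' hy' hxS' hyS' hc' hbad'

end Cfsg.Agent.Helper71.InvGraph
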