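import Mathlib
import Cfsg.Agent.Lib.Helper7.M11UDefs
import Cfsg.Agent.Lib.Helper7.NSEDefs

/-!
# NSE (G4): a normal subgroup of order divisible by 11 is the whole group  (helper71, for helper7's S3592 server)
-/

set_option autoImplicit false

namespace Cfsg.Agent.Helper71.NSE

open Subgroup Cfsg.Agent.Helper7.M11U Cfsg.Agent.Helper7.NSE
open scoped Pointwise

universe u

/-- the normalizer, inside `N`, of `P.subgroupOf N` (for `P ≤ N`) is `(normalizer P).subgroupOf N` -/
theorem g4_normalizer_subgroupOf {G : Type*} [Group G] (N P : Subgroup G) (hPN : P ≤ N) :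
    normalizer ((P.subgroupOf N : Subgroup N) : Set N) =
      (normalizer ((P : Subgroup G) : Set G)).subgroupOf N := by
  ext x
  rw [Subgroup.mem_normalizer_iff, Subgroup.mem_subgroupOf, Subgroup.mem_normalizer_iff]
  constructor
  · intro h y
    constructor
    · intro hy
      have := (h ⟨y, hPN hy⟩).1 (by rw [Subgroup.mem_subgroupOf]; exact hy)
      rw [Subgroup.mem_subgroupOf] at this
      simpa using this
    · intro hy
      have hyN : y ∈ N := by
        have h1 : (x : G)⁻¹ * ((x : G) * y * (x : G)⁻¹) * (x : G) ∈ N :=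
          N.mul_mem (N.mul_mem (N.inv_mem x.2) (hPN hy)) x.2
        have e : (x : G)⁻¹ * ((x : G) * y * (x : G)⁻¹) * (x : G) = y := by group
        rwa [e] at h1
      have := (h ⟨y, hyN⟩).2 (by rw [Subgroup.mem_subgroupOf]; simpa using hy)
      rw [Subgroup.mem_subgroupOf] at this
      exact this
  · intro h y
    rw [Subgroup.mem_subgroupOf, Subgroup.mem_subgroupOf]
    have := h (y : G)
    simpa using this

theorem normal_eleven {G : Type u} [Group G] [Finite G] (hc : Nat.card G = 7920)
    (h144 : Nat.card (Sylow 11 G) = 144)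
    (h1584 : ∀ (X : Type u) [Group X] [Finite X], Nat.card X = 1584 → ∀ P : Sylow 11 X,
      Nat.card (normalizer ((P : Subgroup X) : Set X)) = 11 → False)
    (N : Subgroup G) (hN : N.Normal) (h11 : 11 ∣ Nat.card N) : N = ⊤ := by
  have : Fact (Nat.Prime 11) := ⟨by norm_num⟩
  -- a Sylow 11-subgroup of `G` inside `N`
  obtain Q : Sylow 11 N := default
  have hQ11 : 11 ∣ Nat.card (Q : Subgroup N) := Q.dvd_card_of_dvd_card h11
  set Q' : Subgroup G := (Q : Subgroup N).map N.subtype with hQ'
  have hcQ : Nat.card Q' = Nat.card (Q : Subgroup N) :=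
    Subgroup.card_map_of_injective (Subgroup.subtype_injective N)
  obtain ⟨P, hQP⟩ := (Q.isPGroup'.map N.subtype).exists_le_sylow
  have hP11 : Nat.card (P : Subgroup G) = 11 := by
    have := P.card_eq_multiplicity
    rw [hc] at this
    have hf : Nat.factorization 7920 11 = 1 := by
      have : (7920 : ℕ) = 11 ^ 1 * 720 := by norm_num
      rw [this, Nat.factorization_mul (by norm_num) (by norm_num), Nat.factorization_pow]
      simp [Nat.Prime.factorization_self (show Nat.Prime 11 by norm_num)]
      rw [Nat.factorization_eq_zero_of_not_dvd (by norm_num)]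
    rw [this, hf, pow_one]
  have hQ'11 : Nat.card Q' = 11 := by
    have h1 : Nat.card Q' ∣ 11 := by rw [← hP11]; exact Subgroup.card_dvd_of_le hQP
    rw [← hcQ] at hQ11
    exact Nat.dvd_antisymm h1 hQ11
  have hQeqP : Q' = (P : Subgroup G) :=
    Subgroup.eq_of_le_of_card_ge hQP (by rw [hQ'11, hP11])
  have hPN : (P : Subgroup G) ≤ N := by
    rw [← hQeqP]; exact Subgroup.map_subtype_le _
  -- |N(P)| = 55
  set M : Subgroup G := normalizer ((P : Subgroup G) : Set G) with hM
  have hNP : Nat.card M = 55 := by
    have h1 : Nat.card (Sylow 11 G) = M.index := P.card_eq_index_normalizer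
    have h2 := Subgroup.index_mul_card M
    rw [← h1, h144, hc] at h2
    omega
  -- Frattini
  have hfr : M ⊔ N = ⊤ := Sylow.normalizer_sup_eq_top' P hPN
  -- index computation
  set L : Subgroup G := N ⊓ M with hL
  have hidx : N.index = L.relIndex M := by
    have h1 : N.relIndex (M ⊔ N) = N.relIndex M := Subgroup.relIndex_sup_right M N
    rw [hfr, Subgroup.relIndex_top_right] at h1
    rw [h1, hL, Subgroup.inf_relIndex_right]
  have hLM : L ≤ M := inf_le_right
  have hprod : Nat.card L * L.relIndex M = Nat.card M := by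
    have := Subgroup.relIndex_mul_relIndex (H := (⊥ : Subgroup G)) (K := L) (L := M) bot_le hLM
    rwa [Subgroup.relIndex_bot_left, Subgroup.relIndex_bot_left] at this
  have hNidx : N.index * Nat.card N = 7920 := by rw [← hc]; exact Subgroup.index_mul_card N
  have hPL : (P : Subgroup G) ≤ L := le_inf hPN Subgroup.le_normalizer
  have hL11 : 11 ∣ Nat.card L := by rw [← hP11]; exact Subgroup.card_dvd_of_le hPL
  have hL55 : Nat.card L ∣ 55 := by rw [← hNP]; exact Subgroup.card_dvd_of_le hLM
  rw [← hidx, hNP] at hprod
  -- |L| ∈ {11, 55}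
  have hLcases : Nat.card L = 11 ∨ Nat.card L = 55 := by
    have hle : Nat.card L ≤ 55 := Nat.le_of_dvd (by norm_num) hL55
    have hpos : 0 < Nat.card L := Nat.card_pos
    generalize Nat.card L = l at *
    interval_cases l <;> omega
  rcases hLcases with h | h
  · -- |L| = 11, |N| = 1584: contradiction with h1584
    exfalso
    rw [h] at hprod
    have hi5 : N.index = 5 := by omega
    have hN1584 : Nat.card N = 1584 := by rw [hi5] at hNidx; omega
    apply h1584 N hN1584 (P.subtype hPN)
    rw [Sylow.coe_subtype, g4_normalizer_subgroupOf N P hPN]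
    have h1 : Nat.card ((normalizer ((P : Subgroup G) : Set G)).subgroupOf N) =
        Nat.card (((normalizer ((P : Subgroup G) : Set G)).subgroupOf N).map N.subtype) :=
      (Subgroup.card_map_of_injective (Subgroup.subtype_injective N)).symm
    rw [h1, Subgroup.subgroupOf_map_subtype, ← hM, inf_comm, ← hL, h]
  · -- |L| = 55: index 1
    rw [h] at hprod
    have hi1 : N.index = 1 := by omega
    exact Subgroup.index_eq_one.mp hi1

end Cfsg.Agent.Helper71.NSE
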