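import Mathlib
import Cfsg.Agent.Lib.Helper66.Frobenius
import Cfsg.Agent.Lib.Helper17.PrimeSylow

set_option autoImplicit false
set_option linter.style.haveILetI false
set_option linter.unusedSectionVars false

/-!
# Counting elements by order (`nse`), abstract data

`cnt G m` is the number of elements of order `m`.  `Data s N` collects the arithmetic facts
about the function `s = cnt G` and `N = |G|` that are used in the `nse` characterisations of
small alternating groups.
-/

namespace Cfsg.Agent.Helper71.Nse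

/-- number of elements of order `m` -/
noncomputable def cnt (G : Type*) [Group G] (m : ℕ) : ℕ := Nat.card {g : G // orderOf g = m}

/-- The arithmetic facts about order counts. -/
structure Data (s : ℕ → ℕ) (N : ℕ) : Prop where
  N_pos : 0 < N
  s_one : s 1 = 1
  s_zero : s 0 = 0
  tot : ∀ m, Nat.totient m ∣ s m
  frob : ∀ m, m ∣ N → m ∣ ∑ d ∈ m.divisors, s d
  dvdN : ∀ m, s m ≠ 0 → m ∣ N
  down : ∀ m d, s m ≠ 0 → d ∣ m → s d ≠ 0
  total : ∀ T : Finset ℕ, (∀ m, s m ≠ 0 → m ∈ T) → N = ∑ d ∈ T, s d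
  cauchy : ∀ p, p.Prime → p ∣ N → s p ≠ 0
  cyc : ∀ p k, p.Prime → s (p ^ (k + 1)) ≠ 0 → ¬ p ^ (k + 2) ∣ N →
    s p * p ^ k ≤ s (p ^ (k + 1))
  syl : ∀ p, p.Prime → p ∣ N → ¬ p ^ 2 ∣ N → ∃ n, s p = n * (p - 1) ∧ n ∣ N ∧ n % p = 1

section Group

variable {G : Type*} [Group G] [Finite G]

theorem cnt_ne_zero_iff (m : ℕ) : cnt G m ≠ 0 ↔ ∃ g : G, orderOf g = m := by
  unfold cnt
  constructor
  · intro h
    by_contra hne
    apply h
    rw [Nat.card_eq_zero]
    left
    exact ⟨fun ⟨g, hg⟩ => hne ⟨g, hg⟩⟩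
  · rintro ⟨g, hg⟩ h
    rw [Nat.card_eq_zero] at h
    rcases h with h | h
    · exact h.false ⟨g, hg⟩
    · exact not_finite {g : G // orderOf g = m}

theorem cnt_orderOf_ne_zero (g : G) : cnt G (orderOf g) ≠ 0 :=
  (cnt_ne_zero_iff _).2 ⟨g, rfl⟩

theorem cnt_one : cnt G 1 = 1 := by
  unfold cnt
  have : Unique {g : G // orderOf g = 1} :=
    { default := ⟨1, orderOf_one⟩
      uniq := fun ⟨g, hg⟩ => Subtype.ext (orderOf_eq_one_iff.1 hg) }
  exact Nat.card_unique

theorem cnt_zero : cnt G 0 = 0 := by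
  by_contra h
  obtain ⟨g, hg⟩ := (cnt_ne_zero_iff 0).1 h
  exact (orderOf_pos g).ne' hg

/-- `s_d = φ(d) ·` (number of cyclic subgroups of order `d`). -/
theorem cnt_eq_totient_mul (d : ℕ) :
    cnt G d = Nat.totient d * Nat.card {C : Subgroup G // IsCyclic C ∧ Nat.card C = d} := by
  classical
  unfold cnt
  let f : {x : G // orderOf x = d} → {C : Subgroup G // IsCyclic C ∧ Nat.card C = d} := fun x =>
    ⟨Subgroup.zpowers x.1, ⟨inferInstance, by rw [Nat.card_zpowers, x.2]⟩⟩
  haveI : Fintype {C : Subgroup G // IsCyclic C ∧ Nat.card C = d} := Fintype.ofFinite _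
  rw [Nat.card_congr (Equiv.sigmaFiberEquiv f).symm, Nat.card_sigma]
  have hfib : ∀ C : {C : Subgroup G // IsCyclic C ∧ Nat.card C = d},
      Nat.card {x // f x = C} = Nat.totient d := by
    intro C
    haveI : IsCyclic C.1 := C.2.1
    have e : {x : {x : G // orderOf x = d} // f x = C} ≃ {y : C.1 // orderOf y = d} :=
      { toFun := fun x => ⟨⟨x.1.1, by
            have := congrArg Subtype.val x.2
            rw [← this]; exact Subgroup.mem_zpowers _⟩, by
            rw [Subgroup.orderOf_mk]; exact x.1.2⟩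
        invFun := fun y => ⟨⟨y.1.1, by rw [Subgroup.orderOf_coe]; exact y.2⟩, by
            apply Subtype.ext
            show Subgroup.zpowers (y.1 : G) = C.1
            apply Subgroup.eq_of_le_of_card_ge
            · rw [Subgroup.zpowers_le]; exact y.1.2
            · rw [Nat.card_zpowers, Subgroup.orderOf_coe, y.2, C.2.2]⟩
        left_inv := fun x => rfl
        right_inv := fun y => rfl }
    rw [Nat.card_congr e]
    haveI : Fintype C.1 := Fintype.ofFinite _
    have hdvd : d ∣ Fintype.card C.1 := by rw [← Nat.card_eq_fintype_card, C.2.2]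
    rw [Nat.card_eq_fintype_card, Fintype.card_subtype]
    exact IsCyclic.card_orderOf_eq_totient hdvd
  rw [Finset.sum_congr rfl (fun C _ => hfib C), Finset.sum_const, Finset.card_univ, smul_eq_mul,
    mul_comm, Nat.card_eq_fintype_card]

theorem sum_cnt_divisors (n : ℕ) (hn : n ≠ 0) :
    ∑ d ∈ n.divisors, cnt G d = Nat.card {g : G // g ^ n = 1} := by
  classical
  have : Fintype G := Fintype.ofFinite G
  have h := sum_card_orderOf_eq_card_pow_eq_one (G := G) hn
  rw [Nat.card_eq_fintype_card, Fintype.card_subtype, ← h]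
  apply Finset.sum_congr rfl
  intro d _
  unfold cnt
  rw [Nat.card_eq_fintype_card, Fintype.card_subtype]

theorem cnt_frob (m : ℕ) (hm : m ∣ Nat.card G) : m ∣ ∑ d ∈ m.divisors, cnt G d := by
  have hm0 : m ≠ 0 := by
    rintro rfl
    exact Nat.card_pos.ne' (Nat.eq_zero_of_zero_dvd hm)
  rw [sum_cnt_divisors m hm0]
  exact Cfsg.Agent.Helper66.frobenius_dvd m hm

theorem cnt_total (T : Finset ℕ) (h : ∀ m, cnt G m ≠ 0 → m ∈ T) :
    Nat.card G = ∑ d ∈ T, cnt G d := by
  classical
  have : Fintype G := Fintype.ofFinite G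
  rw [Nat.card_eq_fintype_card, ← Finset.card_univ,
    Finset.card_eq_sum_card_fiberwise (f := orderOf) (t := T)]
  · apply Finset.sum_congr rfl
    intro d _
    unfold cnt
    rw [Nat.card_eq_fintype_card, Fintype.card_subtype]
  · intro g _
    exact h _ (cnt_orderOf_ne_zero g)

theorem cnt_down (m d : ℕ) (h : cnt G m ≠ 0) (hd : d ∣ m) : cnt G d ≠ 0 := by
  obtain ⟨g, hg⟩ := (cnt_ne_zero_iff m).1 h
  rw [cnt_ne_zero_iff]
  refine ⟨g ^ (orderOf g / d), ?_⟩
  apply orderOf_pow_orderOf_div (orderOf_pos g).ne'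
  rw [hg]; exact hd


/-! ### Sylow counting -/

theorem card_sylow_eq (p k : ℕ) [hp : Fact p.Prime] (h1 : p ^ k ∣ Nat.card G)
    (h2 : ¬ p ^ (k + 1) ∣ Nat.card G) (Q : Sylow p G) : Nat.card (Q : Subgroup G) = p ^ k := by
  obtain ⟨n, hn⟩ := IsPGroup.iff_card.1 Q.2
  have h3 : p ^ k ∣ Nat.card (Q : Subgroup G) := Q.pow_dvd_card_of_pow_dvd_card h1
  have h4 : Nat.card (Q : Subgroup G) ∣ Nat.card G := Subgroup.card_subgroup_dvd_card _
  rw [hn] at h3 h4 ⊢
  have h5 : k ≤ n := (Nat.pow_dvd_pow_iff_le_right hp.out.one_lt).1 h3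
  have h6 : n ≤ k := by
    by_contra hlt
    push Not at hlt
    exact h2 ((pow_dvd_pow p hlt).trans h4)
  rw [le_antisymm h6 h5]

/-- If some element has order the full `p`-part `p ^ (k+1)` of `|G|`, all Sylow `p`-subgroups are
cyclic. -/
theorem sylow_cyclic (p k : ℕ) [hp : Fact p.Prime] (x : G) (hx : orderOf x = p ^ (k + 1))
    (h2 : ¬ p ^ (k + 2) ∣ Nat.card G) (Q : Sylow p G) : IsCyclic (Q : Subgroup G) := by
  have h1 : p ^ (k + 1) ∣ Nat.card G := hx ▸ orderOf_dvd_natCard x
  have hcard : ∀ Q : Sylow p G, Nat.card (Q : Subgroup G) = p ^ (k + 1) :=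
    card_sylow_eq p (k + 1) h1 h2
  have hpg : IsPGroup p (Subgroup.zpowers x) := by
    apply IsPGroup.of_card (n := k + 1)
    rw [Nat.card_zpowers, hx]
  obtain ⟨Q₀, hQ₀⟩ := hpg.exists_le_sylow
  have hx0 : x ∈ (Q₀ : Subgroup G) := hQ₀ (Subgroup.mem_zpowers x)
  obtain ⟨g, hg⟩ := MulAction.exists_smul_eq G Q₀ Q
  have hy : g * x * g⁻¹ ∈ (Q : Subgroup G) := by
    rw [← hg, Sylow.coe_subgroup_smul, Subgroup.mem_pointwise_smul_iff_inv_smul_mem]
    simp only [MulAut.smul_def, MulAut.conj_inv_apply]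
    have : g⁻¹ * (g * x * g⁻¹) * g = x := by group
    rw [this]; exact hx0
  have hord : orderOf (g * x * g⁻¹) = p ^ (k + 1) := by
    rw [← hx]
    have hs : SemiconjBy g x (g * x * g⁻¹) := by
      unfold SemiconjBy; group
    exact (hs.orderOf_eq).symm
  apply isCyclic_of_orderOf_eq_card (⟨g * x * g⁻¹, hy⟩ : (Q : Subgroup G))
  rw [Subgroup.orderOf_mk, hord, hcard Q]

theorem card_orderOf_in_cyclic (H : Subgroup G) [IsCyclic H] (d : ℕ) (hd : d ∣ Nat.card H) :
    Nat.card {y : H // orderOf y = d} = Nat.totient d := by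
  classical
  haveI : Fintype H := Fintype.ofFinite _
  rw [Nat.card_eq_fintype_card, Fintype.card_subtype]
  apply IsCyclic.card_orderOf_eq_totient
  rw [← Nat.card_eq_fintype_card]; exact hd

/-- Key counting lemma for cyclic Sylow subgroups. -/
theorem cnt_cyc (p k : ℕ) (hp : p.Prime) (h : cnt G (p ^ (k + 1)) ≠ 0)
    (h2 : ¬ p ^ (k + 2) ∣ Nat.card G) : cnt G p * p ^ k ≤ cnt G (p ^ (k + 1)) := by
  classical
  haveI : Fact p.Prime := ⟨hp⟩
  obtain ⟨x, hx⟩ := (cnt_ne_zero_iff _).1 h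
  have h1 : p ^ (k + 1) ∣ Nat.card G := hx ▸ orderOf_dvd_natCard x
  have hcard : ∀ Q : Sylow p G, Nat.card (Q : Subgroup G) = p ^ (k + 1) :=
    card_sylow_eq p (k + 1) h1 h2
  have hcyc : ∀ Q : Sylow p G, IsCyclic (Q : Subgroup G) := sylow_cyclic p k x hx h2
  haveI : Fintype (Sylow p G) := Fintype.ofFinite _
  -- Claim A
  have hA : cnt G p ≤ Nat.card (Sylow p G) * (p - 1) := by
    have hex : ∀ g : {g : G // orderOf g = p}, ∃ Q : Sylow p G, g.1 ∈ (Q : Subgroup G) :=
      fun g => Cfsg.Agent.Helper17.exists_sylow_mem_of_orderOf g.1 g.2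
    let f : {g : G // orderOf g = p} → Σ Q : Sylow p G, {y : (Q : Subgroup G) // orderOf y = p} :=
      fun g => ⟨Classical.choose (hex g), ⟨⟨g.1, Classical.choose_spec (hex g)⟩, by
        rw [Subgroup.orderOf_mk]; exact g.2⟩⟩
    have hf : Function.Injective f := by
      intro a b hab
      have h1 : (f a).2.1.1 = a.1 := rfl
      have h2 : (f b).2.1.1 = b.1 := rfl
      apply Subtype.ext
      rw [← h1, ← h2, hab]
    have hle := Nat.card_le_card_of_injective f hf
    rw [Nat.card_sigma] at hle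
    have hfib : ∀ Q : Sylow p G, Nat.card {y : (Q : Subgroup G) // orderOf y = p} = p - 1 := by
      intro Q
      haveI := hcyc Q
      rw [card_orderOf_in_cyclic _ p (by rw [hcard Q]; exact dvd_pow_self p (by omega)),
        Nat.totient_prime hp]
    simp only [hfib, Finset.sum_const, Finset.card_univ, smul_eq_mul,
      ← Nat.card_eq_fintype_card] at hle
    exact hle
  -- Claim B
  have hB : Nat.card (Sylow p G) * Nat.totient (p ^ (k + 1)) ≤ cnt G (p ^ (k + 1)) := by
    let f : (Σ Q : Sylow p G, {y : (Q : Subgroup G) // orderOf y = p ^ (k + 1)}) →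
        {g : G // orderOf g = p ^ (k + 1)} :=
      fun a => ⟨a.2.1.1, by rw [Subgroup.orderOf_coe]; exact a.2.2⟩
    have hf : Function.Injective f := by
      rintro ⟨Q, ⟨y, hy⟩⟩ ⟨Q', ⟨y', hy'⟩⟩ hab
      have hyy : (y : G) = (y' : G) := congrArg Subtype.val hab
      have hQ : ∀ (R : Sylow p G) (z : (R : Subgroup G)), orderOf z = p ^ (k + 1) →
          Subgroup.zpowers (z : G) = (R : Subgroup G) := by
        intro R z hz
        apply Subgroup.eq_of_le_of_card_ge
        · rw [Subgroup.zpowers_le]; exact z.2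
        · rw [Nat.card_zpowers, Subgroup.orderOf_coe, hz, hcard R]
      have hQQ : Q = Q' := by
        apply Sylow.ext
        rw [← hQ Q y hy, ← hQ Q' y' hy', hyy]
      subst hQQ
      have : y = y' := Subtype.ext hyy
      subst this
      rfl
    have hle := Nat.card_le_card_of_injective f hf
    rw [Nat.card_sigma] at hle
    have hfib : ∀ Q : Sylow p G,
        Nat.card {y : (Q : Subgroup G) // orderOf y = p ^ (k + 1)} = Nat.totient (p ^ (k + 1)) := by
      intro Q
      haveI := hcyc Q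
      rw [card_orderOf_in_cyclic _ _ (by rw [hcard Q])]
    simp only [hfib, Finset.sum_const, Finset.card_univ, smul_eq_mul,
      ← Nat.card_eq_fintype_card] at hle
    exact hle
  rw [Nat.totient_prime_pow_succ hp] at hB
  calc cnt G p * p ^ k ≤ Nat.card (Sylow p G) * (p - 1) * p ^ k := Nat.mul_le_mul_right _ hA
    _ = Nat.card (Sylow p G) * (p ^ k * (p - 1)) := by ring
    _ ≤ cnt G (p ^ (k + 1)) := hB

theorem cnt_syl (p : ℕ) (hp : p.Prime) (h1 : p ∣ Nat.card G) (h2 : ¬ p ^ 2 ∣ Nat.card G) :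
    ∃ n, cnt G p = n * (p - 1) ∧ n ∣ Nat.card G ∧ n % p = 1 := by
  haveI : Fact p.Prime := ⟨hp⟩
  have hcard : ∀ Q : Sylow p G, Nat.card (Q : Subgroup G) = p := by
    intro Q
    have := card_sylow_eq p 1 (by rwa [pow_one]) h2 Q
    rwa [pow_one] at this
  refine ⟨Nat.card (Sylow p G), Cfsg.Agent.Helper17.card_orderOf_eq_prime hcard, ?_, ?_⟩
  · obtain ⟨P⟩ : Nonempty (Sylow p G) := inferInstance
    exact (Sylow.card_dvd_index P).trans (Subgroup.index_dvd_card _)
  · have := card_sylow_modEq_one p G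
    unfold Nat.ModEq at this
    rw [this, Nat.mod_eq_of_lt hp.one_lt]

/-- The order counts of a finite group satisfy `Data`. -/
theorem data_of_group (G : Type*) [Group G] [Finite G] : Data (cnt G) (Nat.card G) where
  N_pos := Nat.card_pos
  s_one := cnt_one
  s_zero := cnt_zero
  tot := fun m => ⟨_, cnt_eq_totient_mul m⟩
  frob := cnt_frob
  dvdN := fun m h => by
    obtain ⟨g, hg⟩ := (cnt_ne_zero_iff m).1 h
    rw [← hg]; exact orderOf_dvd_natCard g
  down := cnt_down
  total := cnt_total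
  cauchy := fun p hp h => by
    haveI : Fact p.Prime := ⟨hp⟩
    obtain ⟨g, hg⟩ := exists_prime_orderOf_dvd_card' p h
    exact (cnt_ne_zero_iff p).2 ⟨g, hg⟩
  cyc := cnt_cyc
  syl := cnt_syl

end Group

end Cfsg.Agent.Helper71.Nse
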