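import Mathlib
import Cfsg.Agent.Lib.Helper71.NseBasic

set_option autoImplicit false

/-!
# Order statistics of `A₄`, `A₅`, `A₆`
-/

namespace Cfsg.Agent.Helper71.Nse

section Transfer

variable {G A : Type*} [Group G] [Finite G] [Group A] [Finite A]

theorem nse_transfer
    (h : ((fun m : ℕ => Nat.card {g : G // orderOf g = m}) '' Set.range (orderOf : G → ℕ)) =
      ((fun m : ℕ => Nat.card {g : A // orderOf g = m}) '' Set.range (orderOf : A → ℕ))) :
    (∀ m, cnt G m ≠ 0 → ∃ m', cnt A m' ≠ 0 ∧ cnt A m' = cnt G m) ∧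
      (∀ m', cnt A m' ≠ 0 → ∃ m, cnt G m = cnt A m') := by
  constructor
  · intro m hm
    obtain ⟨g, hg⟩ := (cnt_ne_zero_iff m).1 hm
    have h1 : cnt G m ∈ ((fun m : ℕ => Nat.card {g : G // orderOf g = m}) ''
        Set.range (orderOf : G → ℕ)) := ⟨m, ⟨g, hg⟩, rfl⟩
    rw [h] at h1
    obtain ⟨m', ⟨a, ha⟩, hm'⟩ := h1
    exact ⟨m', (cnt_ne_zero_iff m').2 ⟨a, ha⟩, hm'⟩
  · intro m' hm'
    obtain ⟨a, ha⟩ := (cnt_ne_zero_iff m').1 hm'
    have h1 : cnt A m' ∈ ((fun m : ℕ => Nat.card {g : A // orderOf g = m}) ''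
        Set.range (orderOf : A → ℕ)) := ⟨m', ⟨a, ha⟩, rfl⟩
    rw [← h] at h1
    obtain ⟨m, _, hm⟩ := h1
    exact ⟨m, hm⟩

theorem sum_cnt_eq_filter [Fintype A] [DecidableEq A] (n : ℕ) (hn : n ≠ 0) :
    ∑ d ∈ n.divisors, cnt A d = (Finset.univ.filter (fun g : A => g ^ n = 1)).card := by
  rw [sum_cnt_divisors n hn, Nat.card_eq_fintype_card, Fintype.card_subtype]

end Transfer

/-! ### `A₄` -/

set_option maxRecDepth 100000 in
theorem alt4_ord : ∀ g : alternatingGroup (Fin 4), g ^ 2 = 1 ∨ g ^ 3 = 1 := by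
  decide +kernel

set_option maxRecDepth 100000 in
theorem alt4_c2 :
    (Finset.univ.filter (fun g : alternatingGroup (Fin 4) => g ^ 2 = 1)).card = 4 := by
  decide +kernel

set_option maxRecDepth 100000 in
theorem alt4_c3 :
    (Finset.univ.filter (fun g : alternatingGroup (Fin 4) => g ^ 3 = 1)).card = 9 := by
  decide +kernel

theorem alt4_cnt2 : cnt (alternatingGroup (Fin 4)) 2 = 3 := by
  have h := sum_cnt_eq_filter (A := alternatingGroup (Fin 4)) 2 (by norm_num)
  rw [alt4_c2] at h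
  simp [Nat.divisors_ofNat, Finset.sum_insert] at h
  rw [cnt_one] at h
  omega

theorem alt4_cnt3 : cnt (alternatingGroup (Fin 4)) 3 = 8 := by
  have h := sum_cnt_eq_filter (A := alternatingGroup (Fin 4)) 3 (by norm_num)
  rw [alt4_c3] at h
  simp [Nat.divisors_ofNat, Finset.sum_insert] at h
  rw [cnt_one] at h
  omega

theorem alt4_supp (m : ℕ) (hm : cnt (alternatingGroup (Fin 4)) m ≠ 0) :
    m = 1 ∨ m = 2 ∨ m = 3 := by
  obtain ⟨g, hg⟩ := (cnt_ne_zero_iff m).1 hm
  rcases alt4_ord g with h | h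
  · have := orderOf_dvd_of_pow_eq_one h
    rw [hg] at this
    have hle := Nat.le_of_dvd (by norm_num) this
    interval_cases m <;> simp_all
  · have := orderOf_dvd_of_pow_eq_one h
    rw [hg] at this
    have hle := Nat.le_of_dvd (by norm_num) this
    interval_cases m <;> simp_all

/-! ### `A₅` -/

set_option maxRecDepth 100000 in
theorem alt5_ord : ∀ g : alternatingGroup (Fin 5), g ^ 2 = 1 ∨ g ^ 3 = 1 ∨ g ^ 5 = 1 := by
  decide +kernel

set_option maxRecDepth 100000 in
theorem alt5_c2 :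
    (Finset.univ.filter (fun g : alternatingGroup (Fin 5) => g ^ 2 = 1)).card = 16 := by
  decide +kernel

set_option maxRecDepth 100000 in
theorem alt5_c3 :
    (Finset.univ.filter (fun g : alternatingGroup (Fin 5) => g ^ 3 = 1)).card = 21 := by
  decide +kernel

set_option maxRecDepth 100000 in
theorem alt5_c5 :
    (Finset.univ.filter (fun g : alternatingGroup (Fin 5) => g ^ 5 = 1)).card = 25 := by
  decide +kernel

theorem alt5_cnt2 : cnt (alternatingGroup (Fin 5)) 2 = 15 := by
  have h := sum_cnt_eq_filter (A := alternatingGroup (Fin 5)) 2 (by norm_num)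
  rw [alt5_c2] at h
  simp [Nat.divisors_ofNat, Finset.sum_insert] at h
  rw [cnt_one] at h
  omega

theorem alt5_cnt3 : cnt (alternatingGroup (Fin 5)) 3 = 20 := by
  have h := sum_cnt_eq_filter (A := alternatingGroup (Fin 5)) 3 (by norm_num)
  rw [alt5_c3] at h
  simp [Nat.divisors_ofNat, Finset.sum_insert] at h
  rw [cnt_one] at h
  omega

theorem alt5_cnt5 : cnt (alternatingGroup (Fin 5)) 5 = 24 := by
  have h := sum_cnt_eq_filter (A := alternatingGroup (Fin 5)) 5 (by norm_num)
  rw [alt5_c5] at h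
  simp [Nat.divisors_ofNat, Finset.sum_insert] at h
  rw [cnt_one] at h
  omega

theorem alt5_supp (m : ℕ) (hm : cnt (alternatingGroup (Fin 5)) m ≠ 0) :
    m = 1 ∨ m = 2 ∨ m = 3 ∨ m = 5 := by
  obtain ⟨g, hg⟩ := (cnt_ne_zero_iff m).1 hm
  rcases alt5_ord g with h | h | h
  · have := orderOf_dvd_of_pow_eq_one h
    rw [hg] at this
    have hle := Nat.le_of_dvd (by norm_num) this
    interval_cases m <;> simp_all
  · have := orderOf_dvd_of_pow_eq_one h
    rw [hg] at this
    have hle := Nat.le_of_dvd (by norm_num) this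
    interval_cases m <;> simp_all
  · have := orderOf_dvd_of_pow_eq_one h
    rw [hg] at this
    have hle := Nat.le_of_dvd (by norm_num) this
    interval_cases m <;> simp_all

end Cfsg.Agent.Helper71.Nse
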