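import Mathlib

set_option autoImplicit false

/-!
# Order statistics of `A₆`: kernel computations (part a)
-/

namespace Cfsg.Agent.Helper71.Nse

set_option maxRecDepth 100000 in
theorem alt6_ord : ∀ g : alternatingGroup (Fin 6), g ^ 3 = 1 ∨ g ^ 4 = 1 ∨ g ^ 5 = 1 := by
  decide +kernel

set_option maxRecDepth 100000 in
theorem alt6_c2 :
    (Finset.univ.filter (fun g : alternatingGroup (Fin 6) => g ^ 2 = 1)).card = 46 := by
  decide +kernel

set_option maxRecDepth 100000 in
theorem alt6_c3 :
    (Finset.univ.filter (fun g : alternatingGroup (Fin 6) => g ^ 3 = 1)).card = 81 := by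
  decide +kernel

end Cfsg.Agent.Helper71.Nse
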