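import Mathlib
import Cfsg.Agent.Lib.Helper71.NseAlt
import Cfsg.Agent.Lib.Helper71.NseAlt6a
import Cfsg.Agent.Lib.Helper71.NseAlt6b

set_option autoImplicit false

/-!
# Order statistics of `A₆`
-/

namespace Cfsg.Agent.Helper71.Nse

theorem alt6_cnt2 : cnt (alternatingGroup (Fin 6)) 2 = 45 := by
  have h := sum_cnt_eq_filter (A := alternatingGroup (Fin 6)) 2 (by norm_num)
  rw [alt6_c2] at h
  simp [Nat.divisors_ofNat, Finset.sum_insert] at h
  rw [cnt_one] at h
  omega

theorem alt6_cnt3 : cnt (alternatingGroup (Fin 6)) 3 = 80 := by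
  have h := sum_cnt_eq_filter (A := alternatingGroup (Fin 6)) 3 (by norm_num)
  rw [alt6_c3] at h
  simp [Nat.divisors_ofNat, Finset.sum_insert] at h
  rw [cnt_one] at h
  omega

theorem alt6_cnt4 : cnt (alternatingGroup (Fin 6)) 4 = 90 := by
  have h := sum_cnt_eq_filter (A := alternatingGroup (Fin 6)) 4 (by norm_num)
  rw [alt6_c4] at h
  simp [Nat.divisors_ofNat, Finset.sum_insert] at h
  rw [cnt_one, alt6_cnt2] at h
  omega

theorem alt6_cnt5 : cnt (alternatingGroup (Fin 6)) 5 = 144 := by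
  have h := sum_cnt_eq_filter (A := alternatingGroup (Fin 6)) 5 (by norm_num)
  rw [alt6_c5] at h
  simp [Nat.divisors_ofNat, Finset.sum_insert] at h
  rw [cnt_one] at h
  omega

theorem alt6_supp (m : ℕ) (hm : cnt (alternatingGroup (Fin 6)) m ≠ 0) :
    m = 1 ∨ m = 2 ∨ m = 3 ∨ m = 4 ∨ m = 5 := by
  obtain ⟨g, hg⟩ := (cnt_ne_zero_iff m).1 hm
  rcases alt6_ord g with h | h | h
  · have := orderOf_dvd_of_pow_eq_one h
    rw [hg] at this
    have hle := Nat.le_of_dvd (by norm_num) this
    interval_cases m <;> simp_all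
  · have := orderOf_dvd_of_pow_eq_one h
    rw [hg] at this
    have hle := Nat.le_of_dvd (by norm_num) this
    interval_cases m <;> simp_all
  · have := orderOf_dvd_of_pow_eq_one h
    rw [hg] at this
    have hle := Nat.le_of_dvd (by norm_num) this
    interval_cases m <;> simp_all

end Cfsg.Agent.Helper71.Nse
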