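import Mathlib
import Cfsg.Agent.Lib.Helper71.NseBasic

set_option autoImplicit false

/-!
# Arithmetic consequences of `Nse.Data`
-/

namespace Cfsg.Agent.Helper71.Nse

namespace Data

variable {s : ℕ → ℕ} {N : ℕ}

theorem frob' (D : Data s N) (m : ℕ) (h : s m ≠ 0) : m ∣ ∑ d ∈ m.divisors, s d :=
  D.frob m (D.dvdN m h)

theorem even_of_three_le (D : Data s N) (m : ℕ) (hm : 3 ≤ m) : 2 ∣ s m :=
  (Nat.totient_even (by omega)).two_dvd.trans (D.tot m)

theorem prime_dvd (D : Data s N) (p : ℕ) (hp : p.Prime) (h : s p ≠ 0) : p ∣ 1 + s p := by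
  have := D.frob' p h
  rw [Nat.Prime.sum_divisors hp, D.s_one, add_comm] at this
  exact this

theorem prime_tot (D : Data s N) (p : ℕ) (hp : p.Prime) : (p - 1) ∣ s p := by
  have := D.tot p
  rwa [Nat.totient_prime hp] at this

/-- the support divides `E` provided, for each prime `p` in the support, some `p ^ k ∣ E` with
`s (p ^ (k+1)) = 0`. -/
theorem supp_dvd (D : Data s N) (E : ℕ)
    (hpp : ∀ p, p.Prime → s p ≠ 0 → ∃ k, p ^ k ∣ E ∧ s (p ^ (k + 1)) = 0) :
    ∀ m, s m ≠ 0 → m ∣ E := by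
  intro m hm
  rw [Nat.dvd_iff_prime_pow_dvd_dvd]
  intro p j hp hpj
  rcases Nat.eq_zero_or_pos j with rfl | hj
  · simp
  have h1 : s (p ^ j) ≠ 0 := D.down m _ hm hpj
  have h2 : s p ≠ 0 := D.down _ p h1 (dvd_pow_self p hj.ne')
  obtain ⟨k, hk1, hk2⟩ := hpp p hp h2
  have hjk : j ≤ k := by
    by_contra hlt
    push Not at hlt
    exact D.down _ _ h1 (pow_dvd_pow p hlt) hk2
  exact (pow_dvd_pow p hjk).trans hk1

/-- same for `N`. -/
theorem N_dvd (D : Data s N) (E : ℕ)
    (hpp : ∀ p, p.Prime → s p ≠ 0 → ∃ k, p ^ k ∣ E ∧ ¬ p ^ (k + 1) ∣ N) : N ∣ E := by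
  rw [Nat.dvd_iff_prime_pow_dvd_dvd]
  intro p j hp hpj
  rcases Nat.eq_zero_or_pos j with rfl | hj
  · simp
  have h2 : s p ≠ 0 := D.cauchy p hp ((dvd_pow_self p hj.ne').trans hpj)
  obtain ⟨k, hk1, hk2⟩ := hpp p hp h2
  have hjk : j ≤ k := by
    by_contra hlt
    push Not at hlt
    exact hk2 ((pow_dvd_pow p hlt).trans hpj)
  exact (pow_dvd_pow p hjk).trans hk1

end Data

/-! ### `A₄` -/

section A4

variable {s : ℕ → ℕ} {N : ℕ}

theorem arith4 (D : Data s N) (hV : ∀ m, s m ≠ 0 → s m = 1 ∨ s m = 3 ∨ s m = 8)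
    (h3 : ∃ m, s m = 3) (h8 : ∃ m, s m = 8) :
    N = 12 ∧ s 3 = 8 ∧ ∀ m, s m ≠ 0 → m = 1 ∨ m = 2 ∨ m = 3 := by
  have s1 := D.s_one
  have s0 := D.s_zero
  have hbig : ∀ m, 3 ≤ m → s m = 0 ∨ s m = 8 := by
    intro m hm
    have h2 := D.even_of_three_le m hm
    by_cases h : s m = 0
    · left; exact h
    · rcases hV m h with h | h | h <;> omega
  -- s 2 = 3
  have s2 : s 2 = 3 := by
    obtain ⟨m, hm⟩ := h3
    have : m < 3 := by
      by_contra hlt
      push Not at hlt
      rcases hbig m hlt with h | h <;> omega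
    interval_cases m
    · omega
    · omega
    · exact hm
  -- primes
  have hprimes : ∀ p, p.Prime → s p ≠ 0 → p = 2 ∨ p = 3 := by
    intro p hp h
    by_cases hp2 : p = 2
    · left; exact hp2
    right
    have hp3 : 3 ≤ p := by
      have := hp.two_le
      omega
    have h9 : p ∣ 9 := by
      have := D.prime_dvd p hp h
      rcases hbig p hp3 with h' | h'
      · exact absurd h' h
      · rw [h'] at this; exact this
    have : p ∣ 3 := by
      have h9' : p ∣ 3 ^ 2 := by norm_num; exact h9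
      exact hp.dvd_of_dvd_pow h9'
    exact (Nat.prime_dvd_prime_iff_eq hp (by norm_num)).1 this
  have s8 : s 8 = 0 := by
    by_contra h
    have f := D.frob' 8 h
    simp [Nat.divisors_ofNat, Finset.sum_insert] at f
    have h4 := D.down 8 4 h (by norm_num)
    rcases hbig 4 (by norm_num) with h4' | h4'
    · exact h4 h4'
    rcases hbig 8 (by norm_num) with h8' | h8'
    · exact h h8'
    omega
  have s9 : s 9 = 0 := by
    by_contra h
    have f := D.frob' 9 h
    simp [Nat.divisors_ofNat, Finset.sum_insert] at f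
    have h3 := D.down 9 3 h (by norm_num)
    rcases hbig 3 (by norm_num) with h3' | h3'
    · exact h3 h3'
    rcases hbig 9 (by norm_num) with h9' | h9'
    · exact h h9'
    omega
  have s6 : s 6 = 0 := by
    by_contra h
    have f := D.frob' 6 h
    simp [Nat.divisors_ofNat, Finset.sum_insert] at f
    have h3 := D.down 6 3 h (by norm_num)
    rcases hbig 3 (by norm_num) with h3' | h3'
    · exact h3 h3'
    rcases hbig 6 (by norm_num) with h6' | h6'
    · exact h h6'
    omega
  have hsupp : ∀ m, s m ≠ 0 → m ∣ 12 := by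
    apply D.supp_dvd
    intro p hp h
    rcases hprimes p hp h with rfl | rfl
    · exact ⟨2, by norm_num, s8⟩
    · exact ⟨1, by norm_num, s9⟩
  have s12 : s 12 = 0 := by
    by_contra h
    exact D.down 12 6 h (by norm_num) s6
  have hsupp' : ∀ m, s m ≠ 0 → m = 1 ∨ m = 2 ∨ m = 3 ∨ m = 4 := by
    intro m hm
    have := hsupp m hm
    have hmem : m ∈ Nat.divisors 12 := Nat.mem_divisors.2 ⟨this, by norm_num⟩
    simp [Nat.divisors_ofNat] at hmem
    rcases hmem with rfl | rfl | rfl | rfl | rfl | rfl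
    · simp
    · simp
    · simp
    · simp
    · exact absurd s6 hm
    · exact absurd s12 hm
  have hN := D.total {1, 2, 3, 4} (by
    intro m hm
    have := hsupp' m hm
    simp only [Finset.mem_insert, Finset.mem_singleton]
    exact this)
  simp [Finset.sum_insert] at hN
  have c3 := hbig 3 (by norm_num)
  have c4 := hbig 4 (by norm_num)
  -- 8 attained
  obtain ⟨m8, hm8⟩ := h8
  have hm8' : s m8 ≠ 0 := by omega
  have c34 : s 3 = 8 ∨ s 4 = 8 := by
    rcases hsupp' m8 hm8' with rfl | rfl | rfl | rfl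
    · omega
    · omega
    · left; exact hm8
    · right; exact hm8
  have three_dvd : 3 ∣ N → s 3 ≠ 0 := D.cauchy 3 (by norm_num)
  have three_dvd' : s 3 ≠ 0 → 3 ∣ N := D.dvdN 3
  have hfinal : N = 12 ∧ s 3 = 8 ∧ s 4 = 0 := by
    rcases c3 with c3 | c3 <;> rcases c4 with c4 | c4
    · omega
    · have : 3 ∣ N := by omega
      exact absurd c3 (three_dvd this)
    · omega
    · have : 3 ∣ N := three_dvd' (by omega)
      omega
  refine ⟨hfinal.1, hfinal.2.1, ?_⟩
  intro m hm
  rcases hsupp' m hm with h | h | h | rfl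
  · left; exact h
  · right; left; exact h
  · right; right; exact h
  · exact absurd hfinal.2.2 hm

end A4

end Cfsg.Agent.Helper71.Nse
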