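import Mathlib
import Cfsg.Agent.Lib.Helper71.NseArith

set_option autoImplicit false

/-!
# Arithmetic of `nse = {1, 15, 20, 24}` (the case of `A₅`)
-/

namespace Cfsg.Agent.Helper71.Nse.A5

variable {s : ℕ → ℕ} {N : ℕ}

/-- hypotheses for the `A₅` case -/
structure Hyp (s : ℕ → ℕ) (N : ℕ) : Prop where
  D : Data s N
  hV : ∀ m, s m ≠ 0 → s m = 1 ∨ s m = 15 ∨ s m = 20 ∨ s m = 24
  h15 : ∃ m, s m = 15
  h20 : ∃ m, s m = 20

theorem hbig (H : Hyp s N) : ∀ m, 3 ≤ m → s m = 0 ∨ s m = 20 ∨ s m = 24 := by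
  intro m hm
  have h2 := H.D.even_of_three_le m hm
  by_cases h : s m = 0
  · left; exact h
  · rcases H.hV m h with h | h | h | h <;> omega

theorem s2 (H : Hyp s N) : s 2 = 15 := by
  obtain ⟨m, hm⟩ := H.h15
  have s1 := H.D.s_one
  have s0 := H.D.s_zero
  have : m < 3 := by
    by_contra hlt
    push Not at hlt
    rcases hbig H m hlt with h | h | h <;> omega
  interval_cases m
  · omega
  · omega
  · exact hm

theorem z (H : Hyp s N) (a b : ℕ) (ha : s a = 0) (hab : a ∣ b) : s b = 0 := by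
  by_contra h
  exact H.D.down b a h hab ha

theorem hprimes (H : Hyp s N) :
    ∀ p, p.Prime → s p ≠ 0 → p = 2 ∨ (p = 3 ∧ s 3 = 20) ∨ (p = 5 ∧ s 5 = 24) := by
  intro p hp h
  by_cases hp2 : p = 2
  · left; exact hp2
  right
  have hp3 : 3 ≤ p := by
    have := hp.two_le
    omega
  have hd := H.D.prime_dvd p hp h
  have ht := H.D.prime_tot p hp
  rcases hbig H p hp3 with h' | h' | h'
  · exact absurd h' h
  · left
    rw [h'] at hd ht
    have h21 : p ∣ 3 * 7 := by norm_num; exact hd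
    rcases (Nat.Prime.dvd_mul hp).1 h21 with h3 | h7
    · have := (Nat.prime_dvd_prime_iff_eq hp (by norm_num)).1 h3
      subst this
      exact ⟨rfl, h'⟩
    · have := (Nat.prime_dvd_prime_iff_eq hp (by norm_num)).1 h7
      subst this
      omega
  · right
    rw [h'] at hd
    have h25 : p ∣ 5 ^ 2 := by norm_num; exact hd
    have := (Nat.prime_dvd_prime_iff_eq hp (by norm_num)).1 (hp.dvd_of_dvd_pow h25)
    subst this
    exact ⟨rfl, h'⟩

theorem c3 (H : Hyp s N) : s 3 = 0 ∨ s 3 = 20 := by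
  by_cases h : s 3 = 0
  · left; exact h
  · rcases hprimes H 3 (by norm_num) h with h' | h' | h'
    · omega
    · right; exact h'.2
    · omega

theorem c5 (H : Hyp s N) : s 5 = 0 ∨ s 5 = 24 := by
  by_cases h : s 5 = 0
  · left; exact h
  · rcases hprimes H 5 (by norm_num) h with h' | h' | h'
    · omega
    · omega
    · right; exact h'.2

theorem c8 (H : Hyp s N) (h : s 8 ≠ 0) : (s 4 = 20 ∧ s 8 = 20) ∨ (s 4 = 24 ∧ s 8 = 24) := by
  have f := H.D.frob' 8 h
  simp [Nat.divisors_ofNat, Finset.sum_insert] at f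
  rw [H.D.s_one, s2 H] at f
  have h4 := H.D.down 8 4 h (by norm_num)
  rcases hbig H 8 (by norm_num) with h8' | h8' | h8' <;>
    rcases hbig H 4 (by norm_num) with h4' | h4' | h4' <;> omega

theorem c16 (H : Hyp s N) (h : s 16 ≠ 0) : s 4 = 20 ∧ s 8 = 20 ∧ s 16 = 24 := by
  have f := H.D.frob' 16 h
  simp [Nat.divisors_ofNat, Finset.sum_insert] at f
  rw [H.D.s_one, s2 H] at f
  have t16 : 8 ∣ s 16 := by
    have := H.D.tot 16
    rwa [show Nat.totient 16 = 8 from by decide] at this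
  have h8 := H.D.down 16 8 h (by norm_num)
  rcases c8 H h8 with h8' | h8' <;> rcases hbig H 16 (by norm_num) with h16 | h16 | h16 <;> omega

theorem s32 (H : Hyp s N) : s 32 = 0 := by
  have t32 : 16 ∣ s 32 := by
    have := H.D.tot 32
    rwa [show Nat.totient 32 = 16 from by decide] at this
  rcases hbig H 32 (by norm_num) with h | h | h <;> omega

theorem k4 (H : Hyp s N) (h : s 4 ≠ 0) : 8 ∣ N := by
  by_contra h8
  have := H.D.cyc 2 1 Nat.prime_two (by norm_num; exact h) (by norm_num; exact h8)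
  norm_num at this
  rw [s2 H] at this
  rcases hbig H 4 (by norm_num) with h4' | h4' | h4' <;> omega

theorem k8 (H : Hyp s N) (h : s 8 ≠ 0) : 16 ∣ N := by
  by_contra h8
  have := H.D.cyc 2 2 Nat.prime_two (by norm_num; exact h) (by norm_num; exact h8)
  norm_num at this
  rw [s2 H] at this
  rcases c8 H h with h' | h' <;> omega

theorem k16 (H : Hyp s N) (h : s 16 ≠ 0) : 32 ∣ N := by
  by_contra h8
  have := H.D.cyc 2 3 Nat.prime_two (by norm_num; exact h) (by norm_num; exact h8)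
  norm_num at this
  rw [s2 H] at this
  have := c16 H h
  omega

theorem f8 (H : Hyp s N) (h : 8 ∣ N) : 8 ∣ 16 + s 4 + s 8 := by
  have f := H.D.frob 8 h
  simp [Nat.divisors_ofNat, Finset.sum_insert] at f
  rw [H.D.s_one, s2 H] at f
  omega

theorem f16 (H : Hyp s N) (h : 16 ∣ N) : 16 ∣ 16 + s 4 + s 8 + s 16 := by
  have f := H.D.frob 16 h
  simp [Nat.divisors_ofNat, Finset.sum_insert] at f
  rw [H.D.s_one, s2 H] at f
  omega

theorem f32 (H : Hyp s N) (h : 32 ∣ N) : 32 ∣ 16 + s 4 + s 8 + s 16 := by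
  have f := H.D.frob 32 h
  simp [Nat.divisors_ofNat, Finset.sum_insert] at f
  rw [H.D.s_one, s2 H, s32 H] at f
  omega

theorem s16 (H : Hyp s N) : s 16 = 0 := by
  by_contra h
  have h1 := c16 H h
  have h2 := f32 H (k16 H h)
  omega

theorem T2 (H : Hyp s N) :
    (s 4 = 0 ∧ s 8 = 0) ∨ (s 4 = 24 ∧ s 8 = 0 ∧ ¬ 16 ∣ N) ∨ (s 4 = 24 ∧ s 8 = 24) := by
  by_cases h8 : s 8 = 0
  · by_cases h4 : s 4 = 0
    · left; exact ⟨h4, h8⟩
    · right; left
      have h1 := f8 H (k4 H h4)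
      have h4' : s 4 = 24 := by
        rcases hbig H 4 (by norm_num) with h4' | h4' | h4' <;> omega
      refine ⟨h4', h8, ?_⟩
      intro h16
      have := f16 H h16
      have := s16 H
      omega
  · right; right
    have h1 := f16 H (k8 H h8)
    have := s16 H
    rcases c8 H h8 with h' | h' <;> omega

theorem s9 (H : Hyp s N) : s 9 = 0 := by
  by_contra h
  have f := H.D.frob' 9 h
  simp [Nat.divisors_ofNat, Finset.sum_insert] at f
  rw [H.D.s_one] at f
  have h3 := H.D.down 9 3 h (by norm_num)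
  have h3' : s 3 = 20 := by
    rcases c3 H with h' | h'
    · exact absurd h' h3
    · exact h'
  have h9' : s 9 = 24 := by
    rcases hbig H 9 (by norm_num) with h9' | h9' | h9' <;> omega
  have n27 : ¬ 27 ∣ N := by
    intro h27
    have f := H.D.frob 27 h27
    simp [Nat.divisors_ofNat, Finset.sum_insert] at f
    rw [H.D.s_one] at f
    have t27 : 18 ∣ s 27 := by
      have := H.D.tot 27
      rwa [show Nat.totient 27 = 18 from by decide] at this
    rcases hbig H 27 (by norm_num) with h' | h' | h' <;> omega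
  have := H.D.cyc 3 1 Nat.prime_three (by norm_num; exact h) (by norm_num; exact n27)
  norm_num at this
  omega

theorem n9 (H : Hyp s N) : ¬ 9 ∣ N := by
  intro h9
  have f := H.D.frob 9 h9
  simp [Nat.divisors_ofNat, Finset.sum_insert] at f
  rw [H.D.s_one, s9 H] at f
  rcases c3 H with h | h <;> omega

theorem s25 (H : Hyp s N) : s 25 = 0 := by
  by_contra h
  have f := H.D.frob' 25 h
  simp [Nat.divisors_ofNat, Finset.sum_insert] at f
  rw [H.D.s_one] at f
  have t25 : 20 ∣ s 25 := by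
    have := H.D.tot 25
    rwa [show Nat.totient 25 = 20 from by decide] at this
  have h5 := H.D.down 25 5 h (by norm_num)
  rcases hbig H 25 (by norm_num) with h' | h' | h' <;> rcases c5 H with h5' | h5' <;> omega

theorem s15 (H : Hyp s N) : s 15 = 0 := by
  by_contra h
  have f := H.D.frob' 15 h
  simp [Nat.divisors_ofNat, Finset.sum_insert] at f
  rw [H.D.s_one] at f
  have h5 := H.D.down 15 5 h (by norm_num)
  have h3 := H.D.down 15 3 h (by norm_num)
  rcases hbig H 15 (by norm_num) with h' | h' | h' <;> rcases c5 H with h5' | h5' <;>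
    rcases c3 H with h3' | h3' <;> omega

theorem c6 (H : Hyp s N) : s 6 = 0 ∨ s 6 = 24 := by
  by_cases h : s 6 = 0
  · left; exact h
  right
  have f := H.D.frob' 6 h
  simp [Nat.divisors_ofNat, Finset.sum_insert] at f
  rw [H.D.s_one, s2 H] at f
  have h3 := H.D.down 6 3 h (by norm_num)
  rcases hbig H 6 (by norm_num) with h' | h' | h' <;> rcases c3 H with h3' | h3' <;> omega

theorem c10 (H : Hyp s N) : s 10 = 0 ∨ s 10 = 20 := by
  by_cases h : s 10 = 0
  · left; exact h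
  right
  have f := H.D.frob' 10 h
  simp [Nat.divisors_ofNat, Finset.sum_insert] at f
  rw [H.D.s_one, s2 H] at f
  have h5 := H.D.down 10 5 h (by norm_num)
  rcases hbig H 10 (by norm_num) with h' | h' | h' <;> rcases c5 H with h5' | h5' <;> omega

theorem c12 (H : Hyp s N) (h : s 12 ≠ 0) : s 4 = 24 ∧ s 6 = 24 ∧ s 12 = 24 := by
  have f := H.D.frob' 12 h
  simp [Nat.divisors_ofNat, Finset.sum_insert] at f
  rw [H.D.s_one, s2 H] at f
  have h6 := H.D.down 12 6 h (by norm_num)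
  have h4 := H.D.down 12 4 h (by norm_num)
  have h3 := H.D.down 12 3 h (by norm_num)
  rcases hbig H 12 (by norm_num) with h' | h' | h' <;>
    rcases hbig H 4 (by norm_num) with h4' | h4' | h4' <;>
    rcases c3 H with h3' | h3' <;> rcases c6 H with h6' | h6' <;> omega

theorem c12' (H : Hyp s N) : s 12 = 0 ∨ s 12 = 24 := by
  by_cases h : s 12 = 0
  · left; exact h
  · right; exact (c12 H h).2.2

theorem s20 (H : Hyp s N) : s 20 = 0 := by
  by_contra h
  have f := H.D.frob' 20 h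
  simp [Nat.divisors_ofNat, Finset.sum_insert] at f
  rw [H.D.s_one, s2 H] at f
  have t20 : 8 ∣ s 20 := by
    have := H.D.tot 20
    rwa [show Nat.totient 20 = 8 from by decide] at this
  have h10 := H.D.down 20 10 h (by norm_num)
  have h4 := H.D.down 20 4 h (by norm_num)
  have h5 := H.D.down 20 5 h (by norm_num)
  rcases hbig H 20 (by norm_num) with h' | h' | h' <;>
    rcases hbig H 4 (by norm_num) with h4' | h4' | h4' <;>
    rcases c5 H with h5' | h5' <;> rcases c10 H with h10' | h10' <;> omega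

theorem s24 (H : Hyp s N) : s 24 = 0 := by
  by_contra h
  have f := H.D.frob' 24 h
  simp [Nat.divisors_ofNat, Finset.sum_insert] at f
  rw [H.D.s_one, s2 H] at f
  have h12 := H.D.down 24 12 h (by norm_num)
  have h8 := H.D.down 24 8 h (by norm_num)
  have h3 := H.D.down 24 3 h (by norm_num)
  have h1 := c12 H h12
  rcases hbig H 24 (by norm_num) with h' | h' | h' <;> rcases c8 H h8 with h8' | h8' <;>
    rcases c3 H with h3' | h3' <;> omega

theorem hsupp (H : Hyp s N) : ∀ m, s m ≠ 0 → m ∣ 240 := by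
  apply H.D.supp_dvd
  intro p hp h
  rcases hprimes H p hp h with rfl | ⟨rfl, _⟩ | ⟨rfl, _⟩
  · exact ⟨4, by norm_num, s32 H⟩
  · exact ⟨1, by norm_num, s9 H⟩
  · exact ⟨1, by norm_num, s25 H⟩

theorem hsupp' (H : Hyp s N) : ∀ m, s m ≠ 0 →
    m = 1 ∨ m = 2 ∨ m = 3 ∨ m = 4 ∨ m = 5 ∨ m = 6 ∨ m = 8 ∨ m = 10 ∨ m = 12 := by
  intro m hm
  have := hsupp H m hm
  have hmem : m ∈ Nat.divisors 240 := Nat.mem_divisors.2 ⟨this, by norm_num⟩
  simp [Nat.divisors_ofNat] at hmem
  have s30 := z H 15 30 (s15 H) (by norm_num)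
  have s60 := z H 15 60 (s15 H) (by norm_num)
  have s120 := z H 15 120 (s15 H) (by norm_num)
  have s240 := z H 15 240 (s15 H) (by norm_num)
  have s40 := z H 20 40 (s20 H) (by norm_num)
  have s80 := z H 20 80 (s20 H) (by norm_num)
  have s48 := z H 24 48 (s24 H) (by norm_num)
  have s15 := s15 H
  have s20 := s20 H
  have s24 := s24 H
  have s16 := s16 H
  rcases hmem with rfl | rfl | rfl | rfl | rfl | rfl | rfl | rfl | rfl | rfl | rfl | rfl | rfl
    | rfl | rfl | rfl | rfl | rfl | rfl | rfl <;> first | (exfalso; apply hm; assumption) | simp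

theorem hN (H : Hyp s N) : N = 16 + s 3 + s 4 + s 5 + s 6 + s 8 + s 10 + s 12 := by
  have hN := H.D.total {1, 2, 3, 4, 5, 6, 8, 10, 12} (by
    intro m hm
    have := hsupp' H m hm
    simp only [Finset.mem_insert, Finset.mem_singleton]
    exact this)
  simp [Finset.sum_insert] at hN
  rw [H.D.s_one, s2 H] at hN
  omega

theorem y3 (H : Hyp s N) (h : s 3 ≠ 0) : s 5 ≠ 0 := by
  have h3 : 3 ∣ N := H.D.dvdN 3 h
  obtain ⟨n, hn1, hn2, hn3⟩ := H.D.syl 3 Nat.prime_three h3 (by norm_num; exact n9 H)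
  have hn : n = 10 := by
    rcases c3 H with h' | h' <;> omega
  subst hn
  exact H.D.cauchy 5 (by norm_num) (Dvd.dvd.trans (by norm_num) hn2)

theorem y5 (H : Hyp s N) (h : s 5 ≠ 0) (h25 : ¬ 25 ∣ N) : s 3 ≠ 0 := by
  have h5 : 5 ∣ N := H.D.dvdN 5 h
  obtain ⟨n, hn1, hn2, hn3⟩ := H.D.syl 5 (by norm_num) h5 (by norm_num; exact h25)
  have hn : n = 6 := by
    rcases c5 H with h' | h' <;> omega
  subst hn
  exact H.D.cauchy 3 (by norm_num) (Dvd.dvd.trans (by norm_num) hn2)

/-- the case `s 3 = 0` is impossible -/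
theorem no3 (H : Hyp s N) (h3 : s 3 = 0) : False := by
  have d3 : 3 ∣ N → s 3 ≠ 0 := H.D.cauchy 3 (by norm_num)
  have d5 : 5 ∣ N → s 5 ≠ 0 := H.D.cauchy 5 (by norm_num)
  have n3 : ¬ 3 ∣ N := fun h => d3 h h3
  have h6 : s 6 = 0 := z H 3 6 h3 (by norm_num)
  have h12 : s 12 = 0 := z H 3 12 h3 (by norm_num)
  have hN := hN H
  have s1 := H.D.s_one
  have s2 := s2 H
  rcases c5 H with h5 | h5
  · have h10 : s 10 = 0 := z H 5 10 h5 (by norm_num)
    have n5 : ¬ 5 ∣ N := fun h => d5 h h5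
    obtain ⟨m, hm⟩ := H.h20
    have hm' : s m ≠ 0 := by omega
    rcases T2 H with h | h | h <;>
      rcases hsupp' H m hm' with rfl | rfl | rfl | rfl | rfl | rfl | rfl | rfl | rfl <;> omega
  · have h25 : 25 ∣ N := by
      by_contra h25
      exact y5 H (by omega) h25 h3
    rcases T2 H with h | h | h <;> rcases c10 H with h10 | h10 <;> omega

/-- bounds on the remaining unknowns, in a form suited to `omega` -/
theorem bnds (H : Hyp s N) :
    (24 ∣ s 4 ∧ s 4 ≤ 24) ∧ (24 ∣ s 8 ∧ s 8 ≤ s 4) ∧ (24 ∣ s 6 ∧ s 6 ≤ 24) ∧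
    (20 ∣ s 10 ∧ s 10 ≤ 20) ∧ (24 ∣ s 12 ∧ s 12 ≤ s 4) := by
  refine ⟨?_, ?_, ?_, ?_, ?_⟩
  · rcases T2 H with h | h | h <;> omega
  · rcases T2 H with h | h | h <;> omega
  · rcases c6 H with h | h <;> omega
  · rcases c10 H with h | h <;> omega
  · by_cases h : s 12 = 0
    · rw [h]; simp
    · have := c12 H h
      omega

theorem key (H : Hyp s N) :
    N = 60 ∧ s 3 = 20 ∧ s 5 = 24 ∧ s 4 = 0 ∧ s 6 = 0 ∧ s 8 = 0 ∧ s 10 = 0 ∧ s 12 = 0 := by
  have h3 : s 3 = 20 := by
    rcases c3 H with h3 | h3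
    · exact (no3 H h3).elim
    · exact h3
  have h5 : s 5 = 24 := by
    have := y3 H (by omega)
    rcases c5 H with h | h
    · exact absurd h this
    · exact h
  have h3N : 3 ∣ N := H.D.dvdN 3 (by omega)
  have h5N : 5 ∣ N := H.D.dvdN 5 (by omega)
  have d2 : 2 ∣ N := H.D.dvdN 2 (by rw [s2 H]; norm_num)
  have hN := hN H
  rw [h3, h5] at hN
  have n9 := n9 H
  obtain ⟨⟨a1, a2⟩, ⟨b1, b2⟩, ⟨c1, c2⟩, ⟨d1, d2'⟩, ⟨e1, e2⟩⟩ := bnds H
  have hNle : N ≤ 176 := by linarith
  have hNge : 60 ≤ N := by linarith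
  have n25 : ¬ 25 ∣ N := by
    intro h25
    have h150 : N = 150 := by
      clear a1 b1 c1 d1 e1 a2 b2 c2 d2' e2 hN n9
      omega
    have ha0 : s 4 = 0 := by
      by_contra h
      have := k4 H h
      clear a1 b1 c1 d1 e1 a2 b2 c2 d2' e2 hN n9 h3N h5N d2 h25
      omega
    linarith
  have n64 : ¬ 64 ∣ N := by
    intro h64
    clear a1 b1 c1 d1 e1 a2 b2 c2 d2' e2 hN n9 h5N d2
    omega
  have hdvd : N ∣ 480 := by
    apply H.D.N_dvd
    intro p hp h
    rcases hprimes H p hp h with rfl | ⟨rfl, _⟩ | ⟨rfl, _⟩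
    · exact ⟨5, by norm_num, by norm_num; exact n64⟩
    · exact ⟨1, by norm_num, by norm_num; exact n9⟩
    · exact ⟨1, by norm_num, by norm_num; exact n25⟩
  have hN60 : N = 60 ∨ N = 120 := by
    obtain ⟨t, ht⟩ := hdvd
    have ht1 : 3 ≤ t := by
      by_contra hlt
      push Not at hlt
      clear a1 b1 c1 d1 e1 a2 b2 c2 d2' e2 hN n9 h5N d2 h3N
      interval_cases t <;> omega
    have ht2 : t ≤ 8 := by
      by_contra hlt
      push Not at hlt
      have : 480 ≥ N * 9 := by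
        rw [ht]; exact Nat.mul_le_mul_left N hlt
      linarith
    clear a1 a2 b1 b2 c1 c2 d1 d2' e1 e2 hN n9 n25 n64 d2
    interval_cases t <;> omega
  rcases hN60 with hN60 | hN120
  · refine ⟨hN60, h3, h5, ?_⟩
    clear a1 b1 c1 d1 e1 n9 n25 n64 d2 h3N h5N hdvd
    omega
  · exfalso
    have h8 : s 8 = 0 := by
      by_contra h8
      have := k8 H h8
      clear a1 b1 c1 d1 e1 a2 b2 c2 d2' e2 hN n9 h5N d2 h3N n25 n64 hdvd
      omega
    have h24 : 24 ∣ s 4 + s 6 + s 12 := dvd_add (dvd_add a1 c1) e1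
    clear a1 b1 c1 e1 n9 n25 n64 d2 h3N h5N hdvd
    rcases c10 H with h10 | h10
    · omega
    · omega

theorem main (H : Hyp s N) :
    N = 60 ∧ s 3 = 20 ∧ s 5 = 24 ∧ ∀ m, s m ≠ 0 → m = 1 ∨ m = 2 ∨ m = 3 ∨ m = 5 := by
  obtain ⟨k1, k2, k3, k4', k6, k8', k10, k12⟩ := key H
  refine ⟨k1, k2, k3, ?_⟩
  intro m hm
  rcases hsupp' H m hm with rfl | rfl | rfl | rfl | rfl | rfl | rfl | rfl | rfl <;> omega

end Cfsg.Agent.Helper71.Nse.A5
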