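import Mathlib
import Cfsg.Agent.Lib.Helper71.NseArith

set_option autoImplicit false

/-!
# Arithmetic of `nse = {1, 45, 80, 90, 144}` (the case of `A₆`)
-/

namespace Cfsg.Agent.Helper71.Nse.A6

variable {s : ℕ → ℕ} {N : ℕ}

/-- hypotheses for the `A₆` case -/
structure Hyp (s : ℕ → ℕ) (N : ℕ) : Prop where
  D : Data s N
  hV : ∀ m, s m ≠ 0 → s m = 1 ∨ s m = 45 ∨ s m = 80 ∨ s m = 90 ∨ s m = 144
  h45 : ∃ m, s m = 45
  h144 : ∃ m, s m = 144

theorem hbig (H : Hyp s N) : ∀ m, 3 ≤ m → s m = 0 ∨ s m = 80 ∨ s m = 90 ∨ s m = 144 := by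
  intro m hm
  have h2 := H.D.even_of_three_le m hm
  by_cases h : s m = 0
  · left; exact h
  · rcases H.hV m h with h | h | h | h | h <;> omega

theorem s2 (H : Hyp s N) : s 2 = 45 := by
  obtain ⟨m, hm⟩ := H.h45
  have s1 := H.D.s_one
  have s0 := H.D.s_zero
  have : m < 3 := by
    by_contra hlt
    push Not at hlt
    rcases hbig H m hlt with h | h | h | h <;> omega
  interval_cases m
  · omega
  · omega
  · exact hm

theorem z (H : Hyp s N) (a b : ℕ) (ha : s a = 0) (hab : a ∣ b) : s b = 0 := by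
  by_contra h
  exact H.D.down b a h hab ha

theorem hprimes (H : Hyp s N) :
    ∀ p, p.Prime → s p ≠ 0 →
      p = 2 ∨ (p = 3 ∧ s 3 = 80) ∨ (p = 5 ∧ s 5 = 144) ∨ (p = 7 ∧ s 7 = 90) := by
  intro p hp h
  by_cases hp2 : p = 2
  · left; exact hp2
  right
  have hp3 : 3 ≤ p := by
    have := hp.two_le
    omega
  have hd := H.D.prime_dvd p hp h
  have ht := H.D.prime_tot p hp
  rcases hbig H p hp3 with h' | h' | h' | h'
  · exact absurd h' h
  · left
    rw [h'] at hd
    have h81 : p ∣ 3 ^ 4 := by norm_num; exact hd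
    have := (Nat.prime_dvd_prime_iff_eq hp (by norm_num)).1 (hp.dvd_of_dvd_pow h81)
    subst this
    exact ⟨rfl, h'⟩
  · right; right
    rw [h'] at hd ht
    have h91 : p ∣ 7 * 13 := by norm_num; exact hd
    rcases (Nat.Prime.dvd_mul hp).1 h91 with h7 | h13
    · have := (Nat.prime_dvd_prime_iff_eq hp (by norm_num)).1 h7
      subst this
      exact ⟨rfl, h'⟩
    · have := (Nat.prime_dvd_prime_iff_eq hp (by norm_num)).1 h13
      subst this
      omega
  · right; left
    rw [h'] at hd ht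
    have h145 : p ∣ 5 * 29 := by norm_num; exact hd
    rcases (Nat.Prime.dvd_mul hp).1 h145 with h5 | h29
    · have := (Nat.prime_dvd_prime_iff_eq hp (by norm_num)).1 h5
      subst this
      exact ⟨rfl, h'⟩
    · have := (Nat.prime_dvd_prime_iff_eq hp (by norm_num)).1 h29
      subst this
      omega

theorem c3 (H : Hyp s N) : s 3 = 0 ∨ s 3 = 80 := by
  by_cases h : s 3 = 0
  · left; exact h
  · rcases hprimes H 3 (by norm_num) h with h' | h' | h' | h'
    · omega
    · right; exact h'.2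
    · omega
    · omega

theorem c5 (H : Hyp s N) : s 5 = 0 ∨ s 5 = 144 := by
  by_cases h : s 5 = 0
  · left; exact h
  · rcases hprimes H 5 (by norm_num) h with h' | h' | h' | h'
    · omega
    · omega
    · right; exact h'.2
    · omega

theorem c7 (H : Hyp s N) : s 7 = 0 ∨ s 7 = 90 := by
  by_cases h : s 7 = 0
  · left; exact h
  · rcases hprimes H 7 (by norm_num) h with h' | h' | h' | h'
    · omega
    · omega
    · omega
    · right; exact h'.2

theorem c4 (H : Hyp s N) : s 4 = 0 ∨ s 4 = 90 := by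
  by_cases h : s 4 = 0
  · left; exact h
  right
  have f := H.D.frob' 4 h
  simp [Nat.divisors_ofNat, Finset.sum_insert] at f
  rw [H.D.s_one, s2 H] at f
  rcases hbig H 4 (by norm_num) with h' | h' | h' | h' <;> omega

theorem s8 (H : Hyp s N) : s 8 = 0 := by
  by_contra h
  have h4 := H.D.down 8 4 h (by norm_num)
  have h4' : s 4 = 90 := by
    rcases c4 H with h' | h'
    · exact absurd h' h4
    · exact h'
  have t8 : 4 ∣ s 8 := by
    have := H.D.tot 8
    rwa [show Nat.totient 8 = 4 from by decide] at this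
  have t16 : 8 ∣ s 16 := by
    have := H.D.tot 16
    rwa [show Nat.totient 16 = 8 from by decide] at this
  have h16 : 16 ∣ N := by
    by_contra h16
    have := H.D.cyc 2 2 Nat.prime_two (by norm_num; exact h) (by norm_num; exact h16)
    norm_num at this
    rw [s2 H] at this
    rcases hbig H 8 (by norm_num) with h' | h' | h' | h' <;> omega
  have f := H.D.frob 16 h16
  simp [Nat.divisors_ofNat, Finset.sum_insert] at f
  rw [H.D.s_one, s2 H, h4'] at f
  rcases hbig H 8 (by norm_num) with h' | h' | h' | h' <;>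
    rcases hbig H 16 (by norm_num) with h'' | h'' | h'' | h'' <;> omega

theorem n16 (H : Hyp s N) : ¬ 16 ∣ N := by
  intro h16
  have f := H.D.frob 16 h16
  simp [Nat.divisors_ofNat, Finset.sum_insert] at f
  rw [H.D.s_one, s2 H, s8 H, z H 8 16 (s8 H) (by norm_num)] at f
  rcases c4 H with h' | h' <;> omega

theorem f4 (H : Hyp s N) (h : 4 ∣ N) : s 4 = 90 := by
  have f := H.D.frob 4 h
  simp [Nat.divisors_ofNat, Finset.sum_insert] at f
  rw [H.D.s_one, s2 H] at f
  rcases c4 H with h' | h' <;> omega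

theorem s9 (H : Hyp s N) : s 9 = 0 := by
  by_contra h
  have h3 := H.D.down 9 3 h (by norm_num)
  have h3' : s 3 = 80 := by
    rcases c3 H with h' | h'
    · exact absurd h' h3
    · exact h'
  have t9 : 6 ∣ s 9 := by
    have := H.D.tot 9
    rwa [show Nat.totient 9 = 6 from by decide] at this
  have n27 : ¬ 27 ∣ N := by
    intro h27
    have f := H.D.frob 27 h27
    simp [Nat.divisors_ofNat, Finset.sum_insert] at f
    rw [H.D.s_one, h3'] at f
    have t27 : 18 ∣ s 27 := by
      have := H.D.tot 27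
      rwa [show Nat.totient 27 = 18 from by decide] at this
    rcases hbig H 9 (by norm_num) with h' | h' | h' | h' <;>
      rcases hbig H 27 (by norm_num) with h'' | h'' | h'' | h'' <;> omega
  have := H.D.cyc 3 1 Nat.prime_three (by norm_num; exact h) (by norm_num; exact n27)
  norm_num at this
  rcases hbig H 9 (by norm_num) with h' | h' | h' | h' <;> omega

theorem s25 (H : Hyp s N) : s 25 = 0 := by
  by_contra h
  have h5 := H.D.down 25 5 h (by norm_num)
  have h5' : s 5 = 144 := by
    rcases c5 H with h' | h'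
    · exact absurd h' h5
    · exact h'
  have t25 : 20 ∣ s 25 := by
    have := H.D.tot 25
    rwa [show Nat.totient 25 = 20 from by decide] at this
  have n125 : ¬ 125 ∣ N := by
    intro h125
    have f := H.D.frob 125 h125
    simp [Nat.divisors_ofNat, Finset.sum_insert] at f
    rw [H.D.s_one, h5'] at f
    have t125 : 100 ∣ s 125 := by
      have := H.D.tot 125
      rwa [show Nat.totient 125 = 100 from by decide] at this
    rcases hbig H 25 (by norm_num) with h' | h' | h' | h' <;>
      rcases hbig H 125 (by norm_num) with h'' | h'' | h'' | h'' <;> omega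
  have := H.D.cyc 5 1 (by norm_num) (by norm_num; exact h) (by norm_num; exact n125)
  norm_num at this
  rcases hbig H 25 (by norm_num) with h' | h' | h' | h' <;> omega

theorem n25 (H : Hyp s N) : ¬ 25 ∣ N := by
  intro h25
  have f := H.D.frob 25 h25
  simp [Nat.divisors_ofNat, Finset.sum_insert] at f
  rw [H.D.s_one, s25 H] at f
  rcases c5 H with h' | h' <;> omega

theorem s49 (H : Hyp s N) : s 49 = 0 := by
  have t49 : 42 ∣ s 49 := by
    have := H.D.tot 49
    rwa [show Nat.totient 49 = 42 from by decide] at this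
  rcases hbig H 49 (by norm_num) with h' | h' | h' | h' <;> omega

theorem n49 (H : Hyp s N) : ¬ 49 ∣ N := by
  intro h49
  have f := H.D.frob 49 h49
  simp [Nat.divisors_ofNat, Finset.sum_insert] at f
  rw [H.D.s_one, s49 H] at f
  rcases c7 H with h' | h' <;> omega

theorem y5 (H : Hyp s N) (h : s 5 ≠ 0) : 36 ∣ N := by
  have h5 : 5 ∣ N := H.D.dvdN 5 h
  obtain ⟨n, hn1, hn2, hn3⟩ := H.D.syl 5 (by norm_num) h5 (by norm_num; exact n25 H)
  have hn : n = 36 := by
    rcases c5 H with h' | h' <;> omega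
  subst hn
  exact hn2

theorem y7 (H : Hyp s N) (h : s 7 ≠ 0) : 15 ∣ N := by
  have h7 : 7 ∣ N := H.D.dvdN 7 h
  obtain ⟨n, hn1, hn2, hn3⟩ := H.D.syl 7 (by norm_num) h7 (by norm_num; exact n49 H)
  have hn : n = 15 := by
    rcases c7 H with h' | h' <;> omega
  subst hn
  exact hn2

theorem hsupp (H : Hyp s N) : ∀ m, s m ≠ 0 → m ∣ 420 := by
  apply H.D.supp_dvd
  intro p hp h
  rcases hprimes H p hp h with rfl | ⟨rfl, _⟩ | ⟨rfl, _⟩ | ⟨rfl, _⟩
  · exact ⟨2, by norm_num, s8 H⟩
  · exact ⟨1, by norm_num, s9 H⟩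
  · exact ⟨1, by norm_num, s25 H⟩
  · exact ⟨1, by norm_num, s49 H⟩

theorem c6 (H : Hyp s N) : s 6 = 0 ∨ s 6 = 90 ∨ s 6 = 144 := by
  by_cases h : s 6 = 0
  · left; exact h
  right
  have f := H.D.frob' 6 h
  simp [Nat.divisors_ofNat, Finset.sum_insert] at f
  rw [H.D.s_one, s2 H] at f
  have h3 := H.D.down 6 3 h (by norm_num)
  rcases hbig H 6 (by norm_num) with h' | h' | h' | h' <;> rcases c3 H with h3' | h3' <;> omega

theorem c10 (H : Hyp s N) : s 10 = 0 ∨ s 10 = 80 := by
  by_cases h : s 10 = 0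
  · left; exact h
  right
  have f := H.D.frob' 10 h
  simp [Nat.divisors_ofNat, Finset.sum_insert] at f
  rw [H.D.s_one, s2 H] at f
  have t10 : 4 ∣ s 10 := by
    have := H.D.tot 10
    rwa [show Nat.totient 10 = 4 from by decide] at this
  have h5 := H.D.down 10 5 h (by norm_num)
  rcases hbig H 10 (by norm_num) with h' | h' | h' | h' <;> rcases c5 H with h5' | h5' <;> omega

theorem c12 (H : Hyp s N) (h : s 12 ≠ 0) : s 6 = 144 ∧ s 12 = 144 ∧ s 4 = 90 ∧ s 3 = 80 := by
  have f := H.D.frob' 12 h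
  simp [Nat.divisors_ofNat, Finset.sum_insert] at f
  rw [H.D.s_one, s2 H] at f
  have t12 : 4 ∣ s 12 := by
    have := H.D.tot 12
    rwa [show Nat.totient 12 = 4 from by decide] at this
  have h6 := H.D.down 12 6 h (by norm_num)
  have h4 := H.D.down 12 4 h (by norm_num)
  have h3 := H.D.down 12 3 h (by norm_num)
  have h4' : s 4 = 90 := by
    rcases c4 H with h' | h'
    · exact absurd h' h4
    · exact h'
  have h3' : s 3 = 80 := by
    rcases c3 H with h' | h'
    · exact absurd h' h3
    · exact h'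
  rw [h4', h3'] at f
  rcases hbig H 12 (by norm_num) with h' | h' | h' | h' <;>
    rcases c6 H with h6' | h6' | h6' <;> omega

theorem c12' (H : Hyp s N) : s 12 = 0 ∨ s 12 = 144 := by
  by_cases h : s 12 = 0
  · left; exact h
  · right; exact (c12 H h).2.1

theorem c14 (H : Hyp s N) : s 14 = 0 ∨ s 14 = 144 := by
  by_cases h : s 14 = 0
  · left; exact h
  right
  have f := H.D.frob' 14 h
  simp [Nat.divisors_ofNat, Finset.sum_insert] at f
  rw [H.D.s_one, s2 H] at f
  have t14 : 6 ∣ s 14 := by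
    have := H.D.tot 14
    rwa [show Nat.totient 14 = 6 from by decide] at this
  have h7 := H.D.down 14 7 h (by norm_num)
  rcases hbig H 14 (by norm_num) with h' | h' | h' | h' <;> rcases c7 H with h7' | h7' <;> omega

theorem s15 (H : Hyp s N) : s 15 = 0 := by
  by_contra h
  have f := H.D.frob' 15 h
  simp [Nat.divisors_ofNat, Finset.sum_insert] at f
  rw [H.D.s_one] at f
  have t15 : 8 ∣ s 15 := by
    have := H.D.tot 15
    rwa [show Nat.totient 15 = 8 from by decide] at this
  have h5 := H.D.down 15 5 h (by norm_num)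
  have h3 := H.D.down 15 3 h (by norm_num)
  rcases hbig H 15 (by norm_num) with h' | h' | h' | h' <;> rcases c5 H with h5' | h5' <;>
    rcases c3 H with h3' | h3' <;> omega

theorem c20 (H : Hyp s N) : s 20 = 0 ∨ s 20 = 80 := by
  by_cases h : s 20 = 0
  · left; exact h
  right
  have f := H.D.frob' 20 h
  simp [Nat.divisors_ofNat, Finset.sum_insert] at f
  rw [H.D.s_one, s2 H] at f
  have t20 : 8 ∣ s 20 := by
    have := H.D.tot 20
    rwa [show Nat.totient 20 = 8 from by decide] at this
  have h10 := H.D.down 20 10 h (by norm_num)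
  have h4 := H.D.down 20 4 h (by norm_num)
  have h5 := H.D.down 20 5 h (by norm_num)
  rcases hbig H 20 (by norm_num) with h' | h' | h' | h' <;>
    rcases c4 H with h4' | h4' <;>
    rcases c5 H with h5' | h5' <;> rcases c10 H with h10' | h10' <;> omega

theorem c21 (H : Hyp s N) : s 21 = 0 ∨ s 21 = 144 := by
  have t21 : 12 ∣ s 21 := by
    have := H.D.tot 21
    rwa [show Nat.totient 21 = 12 from by decide] at this
  rcases hbig H 21 (by norm_num) with h' | h' | h' | h' <;> omega

theorem s28 (H : Hyp s N) : s 28 = 0 := by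
  by_contra h
  have f := H.D.frob' 28 h
  simp [Nat.divisors_ofNat, Finset.sum_insert] at f
  rw [H.D.s_one, s2 H] at f
  have t28 : 12 ∣ s 28 := by
    have := H.D.tot 28
    rwa [show Nat.totient 28 = 12 from by decide] at this
  have h14 := H.D.down 28 14 h (by norm_num)
  have h4 := H.D.down 28 4 h (by norm_num)
  have h7 := H.D.down 28 7 h (by norm_num)
  rcases hbig H 28 (by norm_num) with h' | h' | h' | h' <;>
    rcases c4 H with h4' | h4' <;>
    rcases c7 H with h7' | h7' <;> rcases c14 H with h14' | h14' <;> omega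

theorem s35 (H : Hyp s N) : s 35 = 0 := by
  by_contra h
  have f := H.D.frob' 35 h
  simp [Nat.divisors_ofNat, Finset.sum_insert] at f
  rw [H.D.s_one] at f
  have t35 : 24 ∣ s 35 := by
    have := H.D.tot 35
    rwa [show Nat.totient 35 = 24 from by decide] at this
  have h5 := H.D.down 35 5 h (by norm_num)
  have h7 := H.D.down 35 7 h (by norm_num)
  rcases hbig H 35 (by norm_num) with h' | h' | h' | h' <;>
    rcases c5 H with h5' | h5' <;>
    rcases c7 H with h7' | h7' <;> omega

theorem s42 (H : Hyp s N) : s 42 = 0 := by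
  by_contra h
  have f := H.D.frob' 42 h
  simp [Nat.divisors_ofNat, Finset.sum_insert] at f
  rw [H.D.s_one, s2 H] at f
  have t42 : 12 ∣ s 42 := by
    have := H.D.tot 42
    rwa [show Nat.totient 42 = 12 from by decide] at this
  have h14 := H.D.down 42 14 h (by norm_num)
  have h21 := H.D.down 42 21 h (by norm_num)
  have h6 := H.D.down 42 6 h (by norm_num)
  have h3 := H.D.down 42 3 h (by norm_num)
  have h7 := H.D.down 42 7 h (by norm_num)
  have h3' : s 3 = 80 := by
    rcases c3 H with h' | h'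
    · exact absurd h' h3
    · exact h'
  have h7' : s 7 = 90 := by
    rcases c7 H with h' | h'
    · exact absurd h' h7
    · exact h'
  have h14' : s 14 = 144 := by
    rcases c14 H with h' | h'
    · exact absurd h' h14
    · exact h'
  have h21' : s 21 = 144 := by
    rcases c21 H with h' | h'
    · exact absurd h' h21
    · exact h'
  rw [h3', h7', h14', h21'] at f
  rcases hbig H 42 (by norm_num) with h' | h' | h' | h' <;>
    rcases c6 H with h6' | h6' | h6' <;> omega

theorem hsupp' (H : Hyp s N) : ∀ m, s m ≠ 0 →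
    m = 1 ∨ m = 2 ∨ m = 3 ∨ m = 4 ∨ m = 5 ∨ m = 6 ∨ m = 7 ∨ m = 10 ∨ m = 12 ∨ m = 14 ∨ m = 20
      ∨ m = 21 := by
  intro m hm
  have := hsupp H m hm
  have hmem : m ∈ Nat.divisors 420 := Nat.mem_divisors.2 ⟨this, by norm_num⟩
  simp [Nat.divisors_ofNat] at hmem
  have s30 := z H 15 30 (s15 H) (by norm_num)
  have s60 := z H 15 60 (s15 H) (by norm_num)
  have s105 := z H 15 105 (s15 H) (by norm_num)
  have s210 := z H 15 210 (s15 H) (by norm_num)
  have s420 := z H 15 420 (s15 H) (by norm_num)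
  have s70 := z H 35 70 (s35 H) (by norm_num)
  have s140 := z H 35 140 (s35 H) (by norm_num)
  have s84 := z H 28 84 (s28 H) (by norm_num)
  have s15 := s15 H
  have s28 := s28 H
  have s35 := s35 H
  have s42 := s42 H
  rcases hmem with rfl | rfl | rfl | rfl | rfl | rfl | rfl | rfl | rfl | rfl | rfl | rfl | rfl
    | rfl | rfl | rfl | rfl | rfl | rfl | rfl | rfl | rfl | rfl | rfl <;>
    first | (exfalso; apply hm; assumption) | simp

theorem hN (H : Hyp s N) :
    N = 46 + s 3 + s 4 + s 5 + s 6 + s 7 + s 10 + s 12 + s 14 + s 20 + s 21 := by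
  have hN := H.D.total {1, 2, 3, 4, 5, 6, 7, 10, 12, 14, 20, 21} (by
    intro m hm
    have := hsupp' H m hm
    simp only [Finset.mem_insert, Finset.mem_singleton]
    exact this)
  simp [Finset.sum_insert] at hN
  rw [H.D.s_one, s2 H] at hN
  omega

theorem bnds (H : Hyp s N) :
    s 3 ≤ 80 ∧ s 4 ≤ 90 ∧ s 5 ≤ 144 ∧ s 6 ≤ 144 ∧ s 7 ≤ 90 ∧ s 10 ≤ 80 ∧ s 12 ≤ 144 ∧
      s 14 ≤ 144 ∧ s 20 ≤ 80 ∧ s 21 ≤ 144 := by
  refine ⟨?_, ?_, ?_, ?_, ?_, ?_, ?_, ?_, ?_, ?_⟩
  · rcases c3 H with h | h <;> omega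
  · rcases c4 H with h | h <;> omega
  · rcases c5 H with h | h <;> omega
  · rcases c6 H with h | h | h <;> omega
  · rcases c7 H with h | h <;> omega
  · rcases c10 H with h | h <;> omega
  · rcases c12' H with h | h <;> omega
  · rcases c14 H with h | h <;> omega
  · rcases c20 H with h | h <;> omega
  · rcases c21 H with h | h <;> omega

theorem s7 (H : Hyp s N) : s 7 = 0 := by
  by_contra h
  have h15 := y7 H h
  have h7 : 7 ∣ N := H.D.dvdN 7 h
  have h5 : s 5 ≠ 0 := H.D.cauchy 5 (by norm_num) (Dvd.dvd.trans (by norm_num) h15)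
  have h36 := y5 H h5
  have hN := hN H
  obtain ⟨b3, b4, b5, b6, b7, b10, b12, b14, b20, b21⟩ := bnds H
  have hNle : N ≤ 1186 := by linarith
  have hpos := H.D.N_pos
  clear hN b3 b4 b5 b6 b7 b10 b12 b14 b20 b21 h5 h
  omega

theorem key5 (H : Hyp s N) (h5 : s 5 ≠ 0) :
    N = 360 ∧ s 3 = 80 ∧ s 4 = 90 ∧ s 5 = 144 ∧ s 6 = 0 ∧ s 10 = 0 ∧ s 12 = 0 ∧ s 20 = 0 := by
  have h36 := y5 H h5
  have h5' : s 5 = 144 := by
    rcases c5 H with h' | h'
    · exact absurd h' h5
    · exact h'
  have h5N : 5 ∣ N := H.D.dvdN 5 h5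
  have h3 : s 3 = 80 := by
    have : s 3 ≠ 0 := H.D.cauchy 3 (by norm_num) (Dvd.dvd.trans (by norm_num) h36)
    rcases c3 H with h' | h'
    · exact absurd h' this
    · exact h'
  have h4 : s 4 = 90 := f4 H (Dvd.dvd.trans (by norm_num) h36)
  have h7 := s7 H
  have h14 := z H 7 14 h7 (by norm_num)
  have h21 := z H 7 21 h7 (by norm_num)
  have hN := hN H
  rw [h3, h4, h5', h7, h14, h21] at hN
  obtain ⟨b3, b4, b5, b6, b7, b10, b12, b14, b20, b21⟩ := bnds H
  have n16 := n16 H
  have hN3 : N = 360 ∨ N = 540 := by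
    have hNle : N ≤ 808 := by linarith
    have hNge : 360 ≤ N := by linarith
    clear hN b3 b4 b5 b6 b7 b10 b12 b14 b20 b21
    omega
  rcases hN3 with hN3 | hN3
  · refine ⟨hN3, h3, h4, h5', ?_⟩
    clear b3 b4 b5 b6 b7 b10 b12 b14 b20 b21 n16 h36 h5N
    omega
  · exfalso
    have e : s 6 + s 10 + s 12 + s 20 = 180 := by
      clear b3 b4 b5 b6 b7 b10 b12 b14 b20 b21 n16 h36 h5N
      omega
    clear hN b3 b4 b5 b6 b7 b10 b12 b14 b20 b21 n16 h36 h5N
    by_cases h12 : s 12 = 0
    · rcases c6 H with h6 | h6 | h6 <;> rcases c10 H with h10 | h10 <;>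
        rcases c20 H with h20 | h20 <;> omega
    · have := c12 H h12
      omega

theorem key0 (H : Hyp s N) (h5 : s 5 = 0) : False := by
  have n5 : ¬ 5 ∣ N := fun h => H.D.cauchy 5 (by norm_num) h h5
  have h7 := s7 H
  have n7 : ¬ 7 ∣ N := fun h => H.D.cauchy 7 (by norm_num) h h7
  have h14 := z H 7 14 h7 (by norm_num)
  have h21 := z H 7 21 h7 (by norm_num)
  have h10 := z H 5 10 h5 (by norm_num)
  have h20 := z H 5 20 h5 (by norm_num)
  have h6 : s 6 = 144 := by
    obtain ⟨m, hm⟩ := H.h144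
    have hm' : s m ≠ 0 := by omega
    have s1 := H.D.s_one
    have s2 := s2 H
    rcases hsupp' H m hm' with rfl | rfl | rfl | rfl | rfl | rfl | rfl | rfl | rfl | rfl | rfl | rfl
    · omega
    · omega
    · rcases c3 H with h | h <;> omega
    · rcases c4 H with h | h <;> omega
    · omega
    · exact hm
    · omega
    · omega
    · exact (c12 H hm').1
    · omega
    · omega
    · omega
  have h3 : s 3 = 80 := by
    have : s 3 ≠ 0 := H.D.down 6 3 (by omega) (by norm_num)
    rcases c3 H with h' | h'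
    · exact absurd h' this
    · exact h'
  have hN := hN H
  rw [h3, h5, h6, h7, h10, h14, h20, h21] at hN
  by_cases h12 : s 12 = 0
  · rcases c4 H with h4 | h4 <;> omega
  · have := c12 H h12
    omega

theorem main (H : Hyp s N) :
    N = 360 ∧ s 3 = 80 ∧ s 5 = 144 ∧
      ∀ m, s m ≠ 0 → m = 1 ∨ m = 2 ∨ m = 3 ∨ m = 4 ∨ m = 5 := by
  have h5 : s 5 ≠ 0 := fun h => key0 H h
  obtain ⟨k1, k3, k4, k5, k6, k10, k12, k20⟩ := key5 H h5
  refine ⟨k1, k3, k5, ?_⟩
  intro m hm
  have h7 := s7 H
  have h14 := z H 7 14 h7 (by norm_num)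
  have h21 := z H 7 21 h7 (by norm_num)
  rcases hsupp' H m hm with rfl | rfl | rfl | rfl | rfl | rfl | rfl | rfl | rfl | rfl | rfl | rfl <;>
    first | (exfalso; apply hm; assumption) | simp

end Cfsg.Agent.Helper71.Nse.A6
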