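import Mathlib
import Cfsg.Agent.Lib.Helper71.NseBasic

set_option autoImplicit false
set_option linter.style.haveILetI false
set_option linter.unusedSectionVars false

/-!
# Simplicity from order statistics (orders 60 and 360)
-/

namespace Cfsg.Agent.Helper71.Nse

section

variable {G : Type*} [Group G] [Finite G]

theorem sum_cnt_le (S : Finset ℕ) : ∑ d ∈ S, cnt G d ≤ Nat.card G := by
  classical
  have h := cnt_total (G := G) (S ∪ (Nat.card G).divisors) (by
    intro m hm
    apply Finset.mem_union_right
    rw [Nat.mem_divisors]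
    refine ⟨?_, Nat.card_pos.ne'⟩
    obtain ⟨g, hg⟩ := (cnt_ne_zero_iff m).1 hm
    rw [← hg]; exact orderOf_dvd_natCard g)
  rw [h]
  exact Finset.sum_le_sum_of_subset Finset.subset_union_left

/-- If all elements of order `d` lie in `K`, the count in `K` equals the count in `G`. -/
theorem cnt_subgroup_eq (K : Subgroup G) (d : ℕ) (h : ∀ g : G, orderOf g = d → g ∈ K) :
    cnt K d = cnt G d := by
  unfold cnt
  apply Nat.card_congr
  exact
    { toFun := fun k => ⟨k.1.1, by rw [Subgroup.orderOf_coe]; exact k.2⟩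
      invFun := fun g => ⟨⟨g.1, h g.1 g.2⟩, by rw [Subgroup.orderOf_mk]; exact g.2⟩
      left_inv := fun k => rfl
      right_inv := fun g => rfl }

theorem cnt_subgroup_ne_zero (K : Subgroup G) (d : ℕ) (h : cnt K d ≠ 0) : cnt G d ≠ 0 := by
  obtain ⟨k, hk⟩ := (cnt_ne_zero_iff d).1 h
  exact (cnt_ne_zero_iff d).2 ⟨k.1, by rw [Subgroup.orderOf_coe]; exact hk⟩

/-- A normal subgroup of order divisible by `p`, where `p² ∤ |G|`, contains all elements of
order `p`. -/
theorem mem_of_orderOf_eq_prime (p : ℕ) [hp : Fact p.Prime] (h2 : ¬ p ^ 2 ∣ Nat.card G)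
    (K : Subgroup G) [hK : K.Normal] (hpK : p ∣ Nat.card K) (g : G) (hg : orderOf g = p) :
    g ∈ K := by
  obtain ⟨y, hy⟩ := exists_prime_orderOf_dvd_card' p hpK
  have hyG : orderOf (y : G) = p := by rw [Subgroup.orderOf_coe]; exact hy
  have hpG : p ^ 1 ∣ Nat.card G := by
    rw [pow_one, ← hg]; exact orderOf_dvd_natCard g
  obtain ⟨Q, hQ⟩ := Cfsg.Agent.Helper17.exists_sylow_mem_of_orderOf g hg
  obtain ⟨Q', hQ'⟩ := Cfsg.Agent.Helper17.exists_sylow_mem_of_orderOf (y : G) hyG
  have hcQ' : Nat.card (Q' : Subgroup G) = p := by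
    have := card_sylow_eq p 1 hpG h2 Q'
    rwa [pow_one] at this
  have hy1 : (y : G) ≠ 1 := by
    intro h
    rw [h, orderOf_one] at hyG
    exact hp.out.one_lt.ne hyG
  have hz := (Cfsg.Agent.Helper17.zpowers_eq_of_card_prime _ hcQ' (y : G) hQ' hy1).1
  obtain ⟨c, hc⟩ := MulAction.exists_smul_eq G Q' Q
  have hmem : c⁻¹ * g * c ∈ (Q' : Subgroup G) := by
    rw [← hc, Sylow.coe_subgroup_smul, Subgroup.mem_pointwise_smul_iff_inv_smul_mem] at hQ
    simpa [MulAut.smul_def, MulAut.conj_inv_apply] using hQ
  have hK' : c⁻¹ * g * c ∈ K := by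
    rw [← hz] at hmem
    exact (Subgroup.zpowers_le.2 y.2) hmem
  have := hK.conj_mem _ hK' c
  have e : c * (c⁻¹ * g * c) * c⁻¹ = g := by group
  rwa [e] at this

/-- If elements of order `p` are self-centralising (no element of order `p·m`, `m > 1`), then
in a normal `p'`-subgroup the number of elements of each order `d ≠ 1` is divisible by `p`. -/
theorem dvd_cnt_of_normal (p : ℕ) [hp : Fact p.Prime] (x : G) (hx : orderOf x = p)
    (hC : ∀ g : G, p ∣ orderOf g → orderOf g = p)
    (K : Subgroup G) [hK : K.Normal] (hpK : ¬ p ∣ Nat.card K) (d : ℕ) (hd : d ≠ 1) :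
    p ∣ cnt K d := by
  classical
  unfold cnt
  haveI : Fintype {k : K // orderOf k = d} := Fintype.ofFinite _
  rw [Nat.card_eq_fintype_card]
  by_contra hnd
  let c : G → {k : K // orderOf k = d} → {k : K // orderOf k = d} := fun y k =>
    ⟨⟨y * k.1.1 * y⁻¹, hK.conj_mem _ k.1.2 y⟩, by
      have hs : SemiconjBy y (k.1 : G) (y * k.1.1 * y⁻¹) := by
        unfold SemiconjBy; group
      rw [Subgroup.orderOf_mk, ← hs.orderOf_eq, Subgroup.orderOf_coe]
      exact k.2⟩
  have c_mul : ∀ y z k, c y (c z k) = c (y * z) k := by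
    intro y z k
    apply Subtype.ext; apply Subtype.ext
    simp only [c]
    group
  have c_one : ∀ k, c 1 k = k := by
    intro k
    apply Subtype.ext; apply Subtype.ext
    simp [c]
  let σ : Equiv.Perm {k : K // orderOf k = d} :=
    { toFun := c x
      invFun := c x⁻¹
      left_inv := fun k => by rw [c_mul, inv_mul_cancel, c_one]
      right_inv := fun k => by rw [c_mul, mul_inv_cancel, c_one] }
  have hσ1 : ∀ k, σ k = c x k := fun k => rfl
  have hpow : ∀ n : ℕ, ∀ k, (σ ^ n) k = c (x ^ n) k := by
    intro n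
    induction n with
    | zero => intro k; simp [c_one]
    | succ n ih =>
      intro k
      rw [pow_succ', Equiv.Perm.mul_apply, ih, hσ1, c_mul, ← pow_succ']
  have hσ : σ ^ p ^ 1 = 1 := by
    ext k
    rw [pow_one, hpow, ← hx, pow_orderOf_eq_one, c_one]
    rfl
  obtain ⟨k, hk⟩ := Equiv.Perm.exists_fixed_point_of_prime hnd hσ
  have hk' : x * (k.1 : G) * x⁻¹ = (k.1 : G) := by
    have := congrArg (fun z => ((z.1 : K) : G)) hk
    simpa [hσ1, c] using this
  have hcomm : Commute x (k.1 : G) := by
    unfold Commute SemiconjBy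
    calc x * (k.1 : G) = x * (k.1 : G) * x⁻¹ * x := by group
      _ = (k.1 : G) * x := by rw [hk']
  have hordk : orderOf (k.1 : G) = d := by rw [Subgroup.orderOf_coe]; exact k.2
  have hdK : d ∣ Nat.card K := by rw [← k.2]; exact orderOf_dvd_natCard _
  have hcop : Nat.Coprime (orderOf x) (orderOf (k.1 : G)) := by
    rw [hx, hordk]
    apply (Nat.Prime.coprime_iff_not_dvd hp.out).2
    intro h
    exact hpK (h.trans hdK)
  have hmul := hcomm.orderOf_mul_eq_mul_orderOf_of_coprime hcop
  rw [hx, hordk] at hmul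
  have h1 := hC (x * (k.1 : G)) (by rw [hmul]; exact dvd_mul_right p d)
  rw [hmul] at h1
  have hp0 := hp.out.pos
  have : d = 1 := by
    have h2 : p * d = p * 1 := by rw [mul_one]; exact h1
    exact Nat.eq_of_mul_eq_mul_left hp0 h2
  exact hd this

theorem mem_of_index_two_of_odd (K : Subgroup G) (h : K.index = 2) (g : G)
    (hodd : Odd (orderOf g)) : g ∈ K := by
  obtain ⟨k, hk⟩ := hodd
  have h1 : g ^ (2 * (k + 1)) = g := by
    rw [show 2 * (k + 1) = (2 * k + 1) + 1 by ring, pow_succ, ← hk, pow_orderOf_eq_one, one_mul]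
  rw [← h1, pow_mul]
  exact K.pow_mem (Subgroup.sq_mem_of_index_two h g) _


theorem simple60 (hN : Nat.card G = 60) (h3 : cnt G 3 = 20) (h5 : cnt G 5 = 24)
    (hsupp : ∀ m, cnt G m ≠ 0 → m = 1 ∨ m = 2 ∨ m = 3 ∨ m = 5) : IsSimpleGroup G := by
  haveI : Fact (Nat.Prime 5) := ⟨by norm_num⟩
  haveI : Nontrivial G := by
    rw [← Finite.one_lt_card_iff_nontrivial, hN]; norm_num
  obtain ⟨x, hx⟩ := (cnt_ne_zero_iff 5).1 (by rw [h5]; norm_num)
  have hC : ∀ g : G, 5 ∣ orderOf g → orderOf g = 5 := by
    intro g hg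
    rcases hsupp _ (cnt_orderOf_ne_zero g) with h | h | h | h
    · rw [h] at hg; omega
    · rw [h] at hg; omega
    · rw [h] at hg; omega
    · exact h
  have h25 : ¬ 5 ^ 2 ∣ Nat.card G := by rw [hN]; norm_num
  refine @IsSimpleGroup.mk G _ inferInstance (fun K hK => ?_)
  haveI := hK
  by_cases h5K : 5 ∣ Nat.card K
  · right
    have hmem5 : ∀ g : G, orderOf g = 5 → g ∈ K := mem_of_orderOf_eq_prime 5 h25 K h5K
    have c5 : cnt K 5 = 24 := by rw [cnt_subgroup_eq K 5 hmem5, h5]
    have hidx := K.card_mul_index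
    rw [hN] at hidx
    have hle : 25 ≤ Nat.card K := by
      have := sum_cnt_le (G := K) {1, 5}
      simp [Finset.sum_insert] at this
      rw [cnt_one, c5] at this; omega
    have hidx2 : K.index = 1 ∨ K.index = 2 := by
      have h1 : K.index ≤ 2 := by
        by_contra h; push Not at h; nlinarith
      have h2 : K.index ≠ 0 := by
        intro h; rw [h] at hidx; omega
      omega
    rcases hidx2 with h1 | h2
    · exact Subgroup.index_eq_one.1 h1
    · exfalso
      have hmem3 : ∀ g : G, orderOf g = 3 → g ∈ K :=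
        fun g hg => mem_of_index_two_of_odd K h2 g (by rw [hg]; decide)
      have c3 : cnt K 3 = 20 := by rw [cnt_subgroup_eq K 3 hmem3, h3]
      have := sum_cnt_le (G := K) {1, 3, 5}
      simp [Finset.sum_insert] at this
      rw [cnt_one, c3, c5] at this
      have : Nat.card K = 30 := by rw [h2] at hidx; omega
      omega
  · left
    have DK := data_of_group K
    have hsuppK : ∀ m, cnt K m ≠ 0 → m = 1 ∨ m = 2 ∨ m = 3 := by
      intro m hm
      rcases hsupp m (cnt_subgroup_ne_zero K m hm) with h | h | h | h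
      · left; exact h
      · right; left; exact h
      · right; right; exact h
      · exfalso; apply h5K; rw [← h]; exact DK.dvdN m hm
    have a2 := dvd_cnt_of_normal 5 x hx hC K h5K 2 (by norm_num)
    have a3 := dvd_cnt_of_normal 5 x hx hC K h5K 3 (by norm_num)
    have htot := DK.total {1, 2, 3} (by
      intro m hm
      have := hsuppK m hm
      simp only [Finset.mem_insert, Finset.mem_singleton]
      exact this)
    simp [Finset.sum_insert] at htot
    rw [cnt_one] at htot
    have hdvd60 : Nat.card K ∣ 12 * 5 := by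
      have := Subgroup.card_subgroup_dvd_card K
      rw [hN] at this
      exact this
    have hdvd12 : Nat.card K ∣ 12 := by
      have hc : Nat.Coprime (Nat.card K) 5 :=
        ((Nat.Prime.coprime_iff_not_dvd (by norm_num)).2 h5K).symm
      exact hc.dvd_of_dvd_mul_right hdvd60
    have e2 : 2 ∣ Nat.card K → cnt K 2 ≠ 0 := DK.cauchy 2 Nat.prime_two
    have e3 : 3 ∣ Nat.card K → cnt K 3 ≠ 0 := DK.cauchy 3 Nat.prime_three
    have hmem : Nat.card K ∈ Nat.divisors 12 := Nat.mem_divisors.2 ⟨hdvd12, by norm_num⟩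
    simp [Nat.divisors_ofNat] at hmem
    have hone : K = ⊥ := by
      rcases hmem with h | h | h | h | h | h
      · exact h
      · omega
      · omega
      · omega
      · have := e2 (by rw [h]; norm_num)
        have := e3 (by rw [h]; norm_num)
        omega
      · omega
    exact hone

theorem simple360 (hN : Nat.card G = 360) (h3 : cnt G 3 = 80) (h5 : cnt G 5 = 144)
    (hsupp : ∀ m, cnt G m ≠ 0 → m = 1 ∨ m = 2 ∨ m = 3 ∨ m = 4 ∨ m = 5) : IsSimpleGroup G := by
  haveI : Fact (Nat.Prime 5) := ⟨by norm_num⟩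
  haveI : Nontrivial G := by
    rw [← Finite.one_lt_card_iff_nontrivial, hN]; norm_num
  obtain ⟨x, hx⟩ := (cnt_ne_zero_iff 5).1 (by rw [h5]; norm_num)
  have hC : ∀ g : G, 5 ∣ orderOf g → orderOf g = 5 := by
    intro g hg
    rcases hsupp _ (cnt_orderOf_ne_zero g) with h | h | h | h | h
    · rw [h] at hg; omega
    · rw [h] at hg; omega
    · rw [h] at hg; omega
    · rw [h] at hg; omega
    · exact h
  have h25 : ¬ 5 ^ 2 ∣ Nat.card G := by rw [hN]; norm_num
  refine @IsSimpleGroup.mk G _ inferInstance (fun K hK => ?_)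
  haveI := hK
  by_cases h5K : 5 ∣ Nat.card K
  · right
    have hmem5 : ∀ g : G, orderOf g = 5 → g ∈ K := mem_of_orderOf_eq_prime 5 h25 K h5K
    have c5 : cnt K 5 = 144 := by rw [cnt_subgroup_eq K 5 hmem5, h5]
    have hidx := K.card_mul_index
    rw [hN] at hidx
    have hle : 145 ≤ Nat.card K := by
      have := sum_cnt_le (G := K) {1, 5}
      simp [Finset.sum_insert] at this
      rw [cnt_one, c5] at this; omega
    have hidx2 : K.index = 1 ∨ K.index = 2 := by
      have h1 : K.index ≤ 2 := by
        by_contra h; push Not at h; nlinarith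
      have h2 : K.index ≠ 0 := by
        intro h; rw [h] at hidx; omega
      omega
    rcases hidx2 with h1 | h2
    · exact Subgroup.index_eq_one.1 h1
    · exfalso
      have hmem3 : ∀ g : G, orderOf g = 3 → g ∈ K :=
        fun g hg => mem_of_index_two_of_odd K h2 g (by rw [hg]; decide)
      have c3 : cnt K 3 = 80 := by rw [cnt_subgroup_eq K 3 hmem3, h3]
      have := sum_cnt_le (G := K) {1, 3, 5}
      simp [Finset.sum_insert] at this
      rw [cnt_one, c3, c5] at this
      have : Nat.card K = 180 := by rw [h2] at hidx; omega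
      omega
  · left
    have DK := data_of_group K
    have hsuppK : ∀ m, cnt K m ≠ 0 → m = 1 ∨ m = 2 ∨ m = 3 ∨ m = 4 := by
      intro m hm
      rcases hsupp m (cnt_subgroup_ne_zero K m hm) with h | h | h | h | h
      · left; exact h
      · right; left; exact h
      · right; right; left; exact h
      · right; right; right; exact h
      · exfalso; apply h5K; rw [← h]; exact DK.dvdN m hm
    have a2 := dvd_cnt_of_normal 5 x hx hC K h5K 2 (by norm_num)
    have a3 := dvd_cnt_of_normal 5 x hx hC K h5K 3 (by norm_num)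
    have a4 := dvd_cnt_of_normal 5 x hx hC K h5K 4 (by norm_num)
    have htot := DK.total {1, 2, 3, 4} (by
      intro m hm
      have := hsuppK m hm
      simp only [Finset.mem_insert, Finset.mem_singleton]
      exact this)
    simp [Finset.sum_insert] at htot
    rw [cnt_one] at htot
    have hdvd360 : Nat.card K ∣ 72 * 5 := by
      have := Subgroup.card_subgroup_dvd_card K
      rw [hN] at this
      exact this
    have hdvd72 : Nat.card K ∣ 72 := by
      have hc : Nat.Coprime (Nat.card K) 5 :=
        ((Nat.Prime.coprime_iff_not_dvd (by norm_num)).2 h5K).symm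
      exact hc.dvd_of_dvd_mul_right hdvd360
    have e2 : 2 ∣ Nat.card K → cnt K 2 ≠ 0 := DK.cauchy 2 Nat.prime_two
    have e3 : 3 ∣ Nat.card K → cnt K 3 ≠ 0 := DK.cauchy 3 Nat.prime_three
    have t3 : 2 ∣ cnt K 3 := by
      have := DK.tot 3
      rwa [show Nat.totient 3 = 2 from by decide] at this
    have f9 : 9 ∣ Nat.card K → 9 ∣ 1 + cnt K 3 := by
      intro h9
      have f := DK.frob 9 h9
      simp [Nat.divisors_ofNat, Finset.sum_insert] at f
      have h9' : cnt K 9 = 0 := by
        by_contra h
        have := hsuppK 9 h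
        omega
      rw [cnt_one, h9'] at f
      omega
    have hmem : Nat.card K ∈ Nat.divisors 72 := Nat.mem_divisors.2 ⟨hdvd72, by norm_num⟩
    simp [Nat.divisors_ofNat] at hmem
    have hone : K = ⊥ := by
      rcases hmem with h | h | h | h | h | h | h | h | h | h | h | h
      · exact h
      · omega
      · omega
      · omega
      · have := e2 (by rw [h]; norm_num)
        have := e3 (by rw [h]; norm_num)
        omega
      · omega
      · omega
      · omega
      · omega
      · omega
      · have := f9 (by rw [h]; norm_num)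
        omega
      · omega
    exact hone

end

end Cfsg.Agent.Helper71.Nse
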