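import Mathlib
import Cfsg.Prelude.Def_Blocks
import Cfsg.Agent.Lib.Helper55.O2520Defs

/-!
# O2520 / S3C sub-split (helper86), pieces (K2) and (K3): generic counting of classes

`conjUnion l` is the set of elements conjugate to a member of the list `l`; for pairwise non-conjugate
members the class sizes add up to at most its cardinality (`sum_le_card_conjUnion`).  (K2) embeds it into
the elements of order `d`; (K3) maps pairs `(z, j)` (`z` in the union, `j` an involution commuting with
`z`) injectively to elements of order 6 by `(z, j) ↦ j * z`.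
-/

set_option autoImplicit false

namespace Cfsg.Agent.Helper71.O2520

open Cfsg Cfsg.Agent.Helper55.O2520
open scoped Classical

universe u

/-- the elements conjugate to a member of the list -/
def conjUnion {G : Type u} [Group G] (l : List G) : Type u := {g : G // ∃ z ∈ l, IsConj z g}

theorem mem_carrier_iff {G : Type u} [Group G] (z g : G) :
    g ∈ (ConjClasses.mk z).carrier ↔ IsConj z g := by
  rw [ConjClasses.mem_carrier_iff_mk_eq, ConjClasses.mk_eq_mk_iff_isConj]
  exact ⟨fun h => h.symm, fun h => h.symm⟩

theorem sum_le_card_conjUnion {G : Type u} [Group G] [Finite G] (l : List G)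
    (hl : l.Pairwise (fun a b => ¬ IsConj a b)) :
    (l.map (fun z => Nat.card (ConjClasses.mk z).carrier)).sum ≤ Nat.card (conjUnion l) := by
  induction l with
  | nil => simp
  | cons z l ih =>
    rw [List.pairwise_cons] at hl
    obtain ⟨hz, hl'⟩ := hl
    have ih' := ih hl'
    rw [List.map_cons, List.sum_cons]
    let f : (ConjClasses.mk z).carrier ⊕ conjUnion l → conjUnion (z :: l) := fun s =>
      match s with
      | Sum.inl g => ⟨g.1, z, List.mem_cons_self .., (mem_carrier_iff z g.1).mp g.2⟩
      | Sum.inr g => ⟨g.1, by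
          obtain ⟨z', hz', h⟩ := g.2
          exact ⟨z', List.mem_cons_of_mem _ hz', h⟩⟩
    have hf : Function.Injective f := by
      intro s t hst
      have hval : (f s).1 = (f t).1 := congrArg Subtype.val hst
      rcases s with g | g <;> rcases t with g' | g'
      · have h1 : g.1 = g'.1 := hval
        rw [Subtype.ext h1]
      · exfalso
        have h1 : g.1 = g'.1 := hval
        obtain ⟨z', hz', h⟩ := g'.2
        have h2 : IsConj z g.1 := (mem_carrier_iff z g.1).mp g.2
        rw [h1] at h2
        exact hz z' hz' (h2.trans h.symm)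
      · exfalso
        have h1 : g.1 = g'.1 := hval
        obtain ⟨z', hz', h⟩ := g.2
        have h2 : IsConj z g'.1 := (mem_carrier_iff z g'.1).mp g'.2
        rw [← h1] at h2
        exact hz z' hz' (h2.trans h.symm)
      · have h1 : g.1 = g'.1 := hval
        rw [Subtype.ext h1]
    have : Finite (conjUnion (z :: l)) := Subtype.finite
    have : Finite (conjUnion l) := Subtype.finite
    have h3 := Nat.card_le_card_of_injective f hf
    rw [Nat.card_sum] at h3
    omega

/-- (K2) -/
theorem card_order_ge_classes {G : Type u} [Group G] [Finite G] (d : ℕ) (l : List G)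
    (hl : l.Pairwise (fun a b => ¬ IsConj a b)) (hd : ∀ z ∈ l, orderOf z = d) :
    (l.map (fun z => Nat.card (ConjClasses.mk z).carrier)).sum ≤ Nat.card {g : G // orderOf g = d} := by
  refine le_trans (sum_le_card_conjUnion l hl) ?_
  let f : conjUnion l → {g : G // orderOf g = d} := fun g => ⟨g.1, by
    obtain ⟨z, hz, h⟩ := g.2
    obtain ⟨c, hc⟩ := isConj_iff.mp h
    rw [← hc, ← hd z hz]
    have : c * z * c⁻¹ = (MulAut.conj c).toMonoidHom z := by simp
    rw [this, orderOf_injective _ (MulAut.conj c).injective]⟩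
  have hf : Function.Injective f := by
    intro s t hst
    have hval : (f s).1 = (f t).1 := congrArg Subtype.val hst
    exact Subtype.ext hval
  exact Nat.card_le_card_of_injective f hf

/-- the involutions commuting with `z` -/
def invComm {G : Type u} [Group G] (z : G) : Type u := {j : G // orderOf j = 2 ∧ j * z = z * j}

theorem orderOf_conj {G : Type u} [Group G] (c z : G) : orderOf (c * z * c⁻¹) = orderOf z := by
  have : c * z * c⁻¹ = (MulAut.conj c).toMonoidHom z := by simp
  rw [this, orderOf_injective _ (MulAut.conj c).injective]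

theorem card_invComm_conj {G : Type u} [Group G] [Finite G] (c z : G) :
    Nat.card (invComm z) ≤ Nat.card (invComm (c * z * c⁻¹)) := by
  let f : invComm z → invComm (c * z * c⁻¹) := fun j => ⟨c * j.1 * c⁻¹, by
    refine ⟨by rw [orderOf_conj]; exact j.2.1, ?_⟩
    have h := j.2.2
    calc c * j.1 * c⁻¹ * (c * z * c⁻¹) = c * (j.1 * z) * c⁻¹ := by group
      _ = c * (z * j.1) * c⁻¹ := by rw [h]
      _ = c * z * c⁻¹ * (c * j.1 * c⁻¹) := by group⟩
  have hf : Function.Injective f := by
    intro s t hst
    have hval : c * s.1 * c⁻¹ = c * t.1 * c⁻¹ := congrArg Subtype.val hst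
    apply Subtype.ext
    have := mul_left_cancel (mul_right_cancel hval)
    exact this
  have : Finite (invComm (c * z * c⁻¹)) := Subtype.finite
  exact Nat.card_le_card_of_injective f hf

/-- (K3) -/
theorem card_order_six_ge {G : Type u} [Group G] [Finite G] (m : ℕ) (l : List G)
    (hl : l.Pairwise (fun a b => ¬ IsConj a b)) (h3 : ∀ z ∈ l, orderOf z = 3)
    (hm : ∀ z ∈ l, m ≤ Nat.card {j : G // orderOf j = 2 ∧ j * z = z * j}) :
    m * (l.map (fun z => Nat.card (ConjClasses.mk z).carrier)).sum ≤ Nat.card {g : G // orderOf g = 6} := by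
  have hT : Finite (conjUnion l) := Subtype.finite
  have hTF : Fintype (conjUnion l) := Fintype.ofFinite _
  have hJ : ∀ z : conjUnion l, Finite (invComm z.1) := fun z => Subtype.finite
  -- every member of the union has order 3 and at least `m` commuting involutions
  have ho3 : ∀ z : conjUnion l, orderOf z.1 = 3 := by
    intro z
    obtain ⟨z0, hz0, h⟩ := z.2
    obtain ⟨c, hc⟩ := isConj_iff.mp h
    rw [← hc, orderOf_conj]
    exact h3 z0 hz0
  have hmJ : ∀ z : conjUnion l, m ≤ Nat.card (invComm z.1) := by
    intro z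
    obtain ⟨z0, hz0, h⟩ := z.2
    obtain ⟨c, hc⟩ := isConj_iff.mp h
    have h1 := card_invComm_conj c z0
    rw [hc] at h1
    exact le_trans (hm z0 hz0) h1
  -- the pairs
  have hcard : m * Nat.card (conjUnion l) ≤ Nat.card (Σ z : conjUnion l, invComm z.1) := by
    rw [Nat.card_sigma]
    calc m * Nat.card (conjUnion l) = ∑ _z : conjUnion l, m := by
          rw [Finset.sum_const, Finset.card_univ, Nat.card_eq_fintype_card, smul_eq_mul, mul_comm]
      _ ≤ ∑ z : conjUnion l, Nat.card (invComm z.1) := Finset.sum_le_sum (fun z _ => hmJ z)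
  let f : (Σ z : conjUnion l, invComm z.1) → {g : G // orderOf g = 6} := fun p => ⟨p.2.1 * p.1.1, by
    have hc : Commute p.2.1 p.1.1 := p.2.2.2
    have h := hc.orderOf_mul_eq_mul_orderOf_of_coprime (by rw [p.2.2.1, ho3 p.1]; decide)
    rw [h, p.2.2.1, ho3 p.1]⟩
  have hpow : ∀ p : (Σ z : conjUnion l, invComm z.1), (p.2.1 * p.1.1) ^ 4 = p.1.1 := by
    intro p
    have hc : Commute p.2.1 p.1.1 := p.2.2.2
    have hj : p.2.1 ^ 2 = 1 := by
      have h0 := pow_orderOf_eq_one p.2.1
      rwa [p.2.2.1] at h0
    have hz : p.1.1 ^ 3 = 1 := by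
      have h0 := pow_orderOf_eq_one p.1.1
      rwa [ho3 p.1] at h0
    rw [hc.mul_pow]
    have h1 : p.2.1 ^ 4 = 1 := by
      rw [show (4 : ℕ) = 2 * 2 from rfl, pow_mul, hj, one_pow]
    have h2 : p.1.1 ^ 4 = p.1.1 := by
      rw [show (4 : ℕ) = 3 + 1 from rfl, pow_add, hz, one_mul, pow_one]
    rw [h1, h2, one_mul]
  have hf : Function.Injective f := by
    intro p q hpq
    have hval : p.2.1 * p.1.1 = q.2.1 * q.1.1 := congrArg Subtype.val hpq
    have hz : p.1.1 = q.1.1 := by rw [← hpow p, ← hpow q, hval]
    have hz' : p.1 = q.1 := Subtype.ext hz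
    obtain ⟨p1, p2⟩ := p
    obtain ⟨q1, q2⟩ := q
    simp only at hz' hval hz
    subst hz'
    have hj : p2.1 = q2.1 := mul_right_cancel hval
    rw [Subtype.ext hj]
  have h6 := Nat.card_le_card_of_injective f hf
  have h7 := sum_le_card_conjUnion l hl
  calc m * (l.map (fun z => Nat.card (ConjClasses.mk z).carrier)).sum
      ≤ m * Nat.card (conjUnion l) := Nat.mul_le_mul_left m h7
    _ ≤ Nat.card (Σ z : conjUnion l, invComm z.1) := hcard
    _ ≤ Nat.card {g : G // orderOf g = 6} := h6

end Cfsg.Agent.Helper71.O2520
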