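import Mathlib

/-!
# O2520 server, S3C sub-lemma (KLEIN): `klein_struct`

Piece for helper44's S3C assembly (board #8186) of helper55's O2520 server (S0984).
Mathlib only.  Written by helper71.
-/

universe u

namespace Cfsg.Agent.Helper71.O2520

private lemma h71k_eq_one {G : Type u} [Group G] (g : G) (h2 : g * g = 1) (h3 : g ^ 3 = 1) :
    g = 1 := by
  have h : g ^ 3 = g * g * g := by rw [pow_succ, pow_two]
  rw [h, h2, one_mul] at h3
  exact h3

private lemma h71k_three {G : Type u} [Group G] [Finite G] (P H : Subgroup G)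
    (hP9 : Nat.card P = 9) (hHP : H ≤ P) (x z : G) (hx : x ∈ H) (hx1 : x ≠ 1)
    (hx3 : x ^ 3 = 1) (hz : z ∈ P) (hzH : z ∉ H) (y : G) (hy : y ∈ H) :
    y = 1 ∨ y = x ∨ y = x⁻¹ := by
  have hord : orderOf x = 3 := by
    have : Fact (Nat.Prime 3) := ⟨by norm_num⟩
    exact orderOf_eq_prime hx3 hx1
  have hdvd : Nat.card H ∣ 9 := hP9 ▸ Subgroup.card_dvd_of_le hHP
  have hne9 : Nat.card H ≠ 9 := by
    intro h9
    have h : H = P := Subgroup.eq_of_le_of_card_ge hHP (by rw [h9, hP9])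
    exact hzH (h ▸ hz)
  have hzle : Subgroup.zpowers x ≤ H := by
    rw [Subgroup.zpowers_le]; exact hx
  have hcz : Nat.card (Subgroup.zpowers x) = 3 := by rw [Nat.card_zpowers, hord]
  have h3dvd : 3 ∣ Nat.card H := hcz ▸ Subgroup.card_dvd_of_le hzle
  have hH3 : Nat.card H = 3 := by
    have hle : Nat.card H ≤ 9 := Nat.le_of_dvd (by norm_num) hdvd
    obtain ⟨k, hk⟩ : ∃ k, Nat.card H = k := ⟨_, rfl⟩
    rw [hk] at hdvd hne9 h3dvd hle ⊢
    interval_cases k <;> omega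
  have heq : Subgroup.zpowers x = H :=
    Subgroup.eq_of_le_of_card_ge hzle (by rw [hcz, hH3])
  rw [← heq] at hy
  obtain ⟨k, rfl⟩ := Subgroup.mem_zpowers_iff.mp hy
  have hk := zpow_mod_orderOf x k
  rw [hord] at hk
  have h0 : 0 ≤ k % 3 := Int.emod_nonneg _ (by norm_num)
  have h3 : k % 3 < 3 := Int.emod_lt_of_pos _ (by norm_num)
  have hx2 : x * x = x⁻¹ := by
    apply eq_inv_of_mul_eq_one_left
    rw [← hx3, pow_succ, pow_two]
  have hc : k % 3 = 0 ∨ k % 3 = 1 ∨ k % 3 = 2 := by omega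
  push_cast at hk
  rw [← hk]
  rcases hc with h | h | h
  · left; rw [h, zpow_zero]
  · right; left; rw [h, zpow_one]
  · right; right; rw [h, zpow_two, hx2]

theorem klein_struct {G : Type u} [Group G] [Finite G] (P : Subgroup G)
    (hP9 : Nat.card P = 9) (hexp : ∀ x ∈ P, x ^ 3 = 1)
    (hC : Subgroup.centralizer (P : Set G) = P)
    (hN36 : Nat.card (Subgroup.normalizer (P : Set G)) = 36)
    (hno4 : ¬ ∃ u ∈ Subgroup.normalizer (P : Set G), orderOf u = 4) :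
    ∃ x x' a b : G, x ∈ P ∧ x' ∈ P ∧ x ≠ 1 ∧ x' ≠ 1 ∧
      a ∈ Subgroup.normalizer (P : Set G) ∧ b ∈ Subgroup.normalizer (P : Set G) ∧
      a * a = 1 ∧ b * b = 1 ∧ a * x * a⁻¹ = x ∧ a * x' * a⁻¹ = x'⁻¹ ∧
      b * x * b⁻¹ = x⁻¹ ∧ b * x' * b⁻¹ = x' := by
  classical
  -- a Sylow 2-subgroup of the normalizer
  obtain ⟨T0, hT0⟩ := Sylow.exists_subgroup_card_pow_prime
    (G := Subgroup.normalizer (P : Set G)) 2 (n := 2) (by rw [hN36]; norm_num)
  let T : Subgroup G := T0.map (Subgroup.normalizer (P : Set G)).subtype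
  have hT4 : Nat.card T = 4 := by
    have h := Subgroup.card_subtype (Subgroup.normalizer (P : Set G)) T0
    rw [h, hT0]; norm_num
  have hTN : T ≤ Subgroup.normalizer (P : Set G) := Subgroup.map_subtype_le T0
  -- exponent two
  have hsq : ∀ t ∈ T, t * t = 1 := by
    intro t ht
    have hd : orderOf t ∣ 4 := hT4 ▸ Subgroup.orderOf_dvd_natCard T ht
    have hne : orderOf t ≠ 4 := fun h => hno4 ⟨t, hTN ht, h⟩
    have hle : orderOf t ≤ 4 := Nat.le_of_dvd (by norm_num) hd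
    have hpos : 0 < orderOf t := orderOf_pos t
    have h2 : orderOf t ∣ 2 := by
      obtain ⟨k, hk⟩ : ∃ k, orderOf t = k := ⟨_, rfl⟩
      rw [hk] at hd hne hle hpos ⊢
      interval_cases k <;> omega
    rw [← pow_two]
    exact orderOf_dvd_iff_pow_eq_one.mp h2
  have hinv : ∀ t ∈ T, t⁻¹ = t := fun t ht => inv_eq_of_mul_eq_one_right (hsq t ht)
  have hcomm : ∀ s ∈ T, ∀ t ∈ T, s * t = t * s := by
    intro s hs t ht
    have h := hinv (s * t) (mul_mem hs ht)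
    rw [mul_inv_rev, hinv s hs, hinv t ht] at h
    exact h.symm
  -- three distinct elements
  have hfT : Fintype T := Fintype.ofFinite T
  have h24 : 2 < Fintype.card T := by
    rw [← Nat.card_eq_fintype_card, hT4]; norm_num
  obtain ⟨u, v, w, huv, huw, hvw⟩ := Fintype.two_lt_card_iff.mp h24
  have hs : (u : G)⁻¹ * v ∈ T := mul_mem (inv_mem u.2) v.2
  have ht : (u : G)⁻¹ * w ∈ T := mul_mem (inv_mem u.2) w.2
  have hs1 : (u : G)⁻¹ * v ≠ 1 := fun h => huv (Subtype.ext (inv_mul_eq_one.mp h))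
  have ht1 : (u : G)⁻¹ * w ≠ 1 := fun h => huw (Subtype.ext (inv_mul_eq_one.mp h))
  have hst : (u : G)⁻¹ * v ≠ (u : G)⁻¹ * w :=
    fun h => hvw (Subtype.ext (mul_left_cancel h))
  generalize (u : G)⁻¹ * v = s at hs hs1 hst
  generalize (u : G)⁻¹ * w = t at ht ht1 hst
  -- P is abelian, N normalizes
  have hPcomm : ∀ p ∈ P, ∀ q ∈ P, p * q = q * p := by
    intro p hp q hq
    have h : q ∈ Subgroup.centralizer (P : Set G) := by rw [hC]; exact hq
    exact Subgroup.mem_centralizer_iff.mp h p hp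
  have hconj : ∀ n ∈ Subgroup.normalizer (P : Set G), ∀ p ∈ P, n * p * n⁻¹ ∈ P :=
    fun n hn p hp => (Subgroup.mem_normalizer_iff.mp hn p).mp hp
  have hcen : ∀ c ∈ T, (∀ q ∈ P, c * q * c⁻¹ = q) → c = 1 := by
    intro c hc h
    have hcC : c ∈ Subgroup.centralizer (P : Set G) := by
      rw [Subgroup.mem_centralizer_iff]
      intro q hq
      exact (mul_inv_eq_iff_eq_mul.mp (h q hq)).symm
    rw [hC] at hcC
    exact h71k_eq_one c (hsq c hc) (hexp c hcC)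
  -- choose `a` not inverting `P`
  obtain ⟨a, t, ha, ht, ha1, ht1, hat, hainv⟩ : ∃ a t : G, a ∈ T ∧ t ∈ T ∧ a ≠ 1 ∧ t ≠ 1 ∧
      a ≠ t ∧ ¬ (∀ p ∈ P, a * p * a⁻¹ = p⁻¹) := by
    by_cases h1 : ∀ p ∈ P, s * p * s⁻¹ = p⁻¹
    · refine ⟨t, s, ht, hs, ht1, hs1, hst.symm, ?_⟩
      intro h2
      apply hst
      have h3 : s * t = 1 := hcen (s * t) (mul_mem hs ht) (fun q hq => by
        calc s * t * q * (s * t)⁻¹ = s * (t * q * t⁻¹) * s⁻¹ := by group
          _ = s * q⁻¹ * s⁻¹ := by rw [h2 q hq]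
          _ = (s * q * s⁻¹)⁻¹ := by group
          _ = q := by rw [h1 q hq, inv_inv])
      have h4 := eq_inv_of_mul_eq_one_left h3
      rw [hinv t ht] at h4
      exact h4
    · exact ⟨s, t, hs, ht, hs1, ht1, hst, h1⟩
  have haN : a ∈ Subgroup.normalizer (P : Set G) := hTN ha
  have htN : t ∈ Subgroup.normalizer (P : Set G) := hTN ht
  have haa : a * a = 1 := hsq a ha
  push Not at hainv
  obtain ⟨p, hp, hpa⟩ := hainv
  -- a does not centralize
  obtain ⟨q, hq, hqa⟩ : ∃ q ∈ P, a * q * a⁻¹ ≠ q := by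
    by_contra hcon
    push Not at hcon
    exact ha1 (hcen a ha hcon)
  -- projections
  have hplus : ∀ r ∈ P, a * (r * (a * r * a⁻¹)) * a⁻¹ = r * (a * r * a⁻¹) := by
    intro r hr
    have h1 : a * (r * (a * r * a⁻¹)) * a⁻¹ = (a * r * a⁻¹) * ((a * a) * r * (a * a)⁻¹) := by
      group
    rw [h1, haa, one_mul, inv_one, mul_one]
    exact hPcomm _ (hconj a haN r hr) _ hr
  have hminus : ∀ r ∈ P, a * (r * (a * r * a⁻¹)⁻¹) * a⁻¹ = (r * (a * r * a⁻¹)⁻¹)⁻¹ := by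
    intro r hr
    have h1 : a * (r * (a * r * a⁻¹)⁻¹) * a⁻¹
        = (a * r * a⁻¹) * ((a * a) * r * (a * a)⁻¹)⁻¹ := by group
    rw [h1, haa, one_mul, inv_one, mul_one, mul_inv_rev, inv_inv]
  -- x and x'
  have hxP : p * (a * p * a⁻¹) ∈ P := P.mul_mem hp (hconj a haN p hp)
  have hx1 : p * (a * p * a⁻¹) ≠ 1 := fun h => hpa (eq_inv_of_mul_eq_one_right h)
  have hax := hplus p hp
  have hx'P : q * (a * q * a⁻¹)⁻¹ ∈ P := P.mul_mem hq (P.inv_mem (hconj a haN q hq))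
  have hx'1 : q * (a * q * a⁻¹)⁻¹ ≠ 1 := fun h => hqa (mul_inv_eq_one.mp h).symm
  have hax' := hminus q hq
  generalize p * (a * p * a⁻¹) = x at hxP hx1 hax
  generalize q * (a * q * a⁻¹)⁻¹ = x' at hx'P hx'1 hax'
  -- eigen-subgroups
  have hself : ∀ y ∈ P, y = y⁻¹ → y = 1 := by
    intro y hy h
    apply h71k_eq_one y _ (hexp y hy)
    nth_rewrite 1 [h]
    exact inv_mul_cancel y
  have hPp3 : ∀ y ∈ P, a * y * a⁻¹ = y → y = 1 ∨ y = x ∨ y = x⁻¹ := by
    intro y hy hay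
    have hle : P ⊓ Subgroup.centralizer {a} ≤ P := inf_le_left
    have hmem : ∀ z, z ∈ P ⊓ Subgroup.centralizer {a} ↔ z ∈ P ∧ a * z * a⁻¹ = z := by
      intro z
      simp only [Subgroup.mem_inf, Subgroup.mem_centralizer_iff, Set.mem_singleton_iff,
        forall_eq, mul_inv_eq_iff_eq_mul]
    refine h71k_three P _ hP9 hle x x' ((hmem x).mpr ⟨hxP, hax⟩) hx1 (hexp x hxP) hx'P ?_ y
      ((hmem y).mpr ⟨hy, hay⟩)
    intro h
    have h2 := ((hmem x').mp h).2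
    rw [hax'] at h2
    exact hx'1 (hself x' hx'P h2.symm)
  have hPm3 : ∀ y ∈ P, a * y * a⁻¹ = y⁻¹ → y = 1 ∨ y = x' ∨ y = x'⁻¹ := by
    intro y hy hay
    let Pm : Subgroup G :=
      { carrier := {y | y ∈ P ∧ a * y * a⁻¹ = y⁻¹}
        one_mem' := ⟨P.one_mem, by simp⟩
        mul_mem' := by
          rintro y z ⟨hy, hya⟩ ⟨hz, hza⟩
          refine ⟨P.mul_mem hy hz, ?_⟩
          have h : a * (y * z) * a⁻¹ = (a * y * a⁻¹) * (a * z * a⁻¹) := by group
          rw [h, hya, hza, mul_inv_rev]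
          exact hPcomm _ (P.inv_mem hy) _ (P.inv_mem hz)
        inv_mem' := by
          rintro y ⟨hy, hya⟩
          refine ⟨P.inv_mem hy, ?_⟩
          have h : a * y⁻¹ * a⁻¹ = (a * y * a⁻¹)⁻¹ := by group
          rw [h, hya] }
    have hle : Pm ≤ P := fun z hz => hz.1
    refine h71k_three P Pm hP9 hle x' x ⟨hx'P, hax'⟩ hx'1 (hexp x' hx'P) hxP ?_ y ⟨hy, hay⟩
    intro h
    have h2 : a * x * a⁻¹ = x⁻¹ := h.2
    rw [hax] at h2
    exact hx1 (hself x hxP h2)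
  -- claim Z
  have hZ : ∀ c : G, c * x * c⁻¹ = x → c * x' * c⁻¹ = x' → ∀ r ∈ P, c * r * c⁻¹ = r := by
    intro c hcx hcx' r hr
    have hcx : Commute c x := mul_inv_eq_iff_eq_mul.mp hcx
    have hcx' : Commute c x' := mul_inv_eq_iff_eq_mul.mp hcx'
    have harP : a * r * a⁻¹ ∈ P := hconj a haN r hr
    have h1 : Commute c (r * (a * r * a⁻¹)) := by
      rcases hPp3 _ (P.mul_mem hr harP) (hplus r hr) with h | h | h
      · rw [h]; exact Commute.one_right c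
      · rw [h]; exact hcx
      · rw [h]; exact hcx.inv_right
    have h2 : Commute c (r * (a * r * a⁻¹)⁻¹) := by
      rcases hPm3 _ (P.mul_mem hr (P.inv_mem harP)) (hminus r hr) with h | h | h
      · rw [h]; exact Commute.one_right c
      · rw [h]; exact hcx'
      · rw [h]; exact hcx'.inv_right
    have h3 : (r * (a * r * a⁻¹)) * (r * (a * r * a⁻¹)⁻¹) = r * r := by
      calc (r * (a * r * a⁻¹)) * (r * (a * r * a⁻¹)⁻¹)
          = r * ((a * r * a⁻¹) * r) * (a * r * a⁻¹)⁻¹ := by group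
        _ = r * (r * (a * r * a⁻¹)) * (a * r * a⁻¹)⁻¹ := by rw [hPcomm _ harP r hr]
        _ = r * r := by group
    have h4 : Commute c (r * r) := h3 ▸ h1.mul_right h2
    have h5 : r * r * (r * r) = r := by
      have h6 := hexp r hr
      rw [pow_succ, pow_two] at h6
      rw [← mul_assoc, h6, one_mul]
    have h7 : Commute c r := h5 ▸ h4.mul_right h4
    exact mul_inv_eq_iff_eq_mul.mpr h7
  -- action of `T` on the eigen-subgroups
  have hTx : ∀ c ∈ T, c * x * c⁻¹ = x ∨ c * x * c⁻¹ = x⁻¹ := by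
    intro c hc
    have h1 : a * (c * x * c⁻¹) * a⁻¹ = (a * c) * x * (a * c)⁻¹ := by group
    have h2 : (c * a) * x * (c * a)⁻¹ = c * (a * x * a⁻¹) * c⁻¹ := by group
    have h3 : a * (c * x * c⁻¹) * a⁻¹ = c * x * c⁻¹ := by
      rw [h1, hcomm a ha c hc, h2, hax]
    rcases hPp3 _ (hconj c (hTN hc) x hxP) h3 with h | h | h
    · exact absurd (conj_eq_one_iff.mp h) hx1
    · exact Or.inl h
    · exact Or.inr h
  have hTx' : ∀ c ∈ T, c * x' * c⁻¹ = x' ∨ c * x' * c⁻¹ = x'⁻¹ := by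
    intro c hc
    have h1 : a * (c * x' * c⁻¹) * a⁻¹ = (a * c) * x' * (a * c)⁻¹ := by group
    have h2 : (c * a) * x' * (c * a)⁻¹ = c * (a * x' * a⁻¹) * c⁻¹ := by group
    have h4 : c * x'⁻¹ * c⁻¹ = (c * x' * c⁻¹)⁻¹ := by group
    have h3 : a * (c * x' * c⁻¹) * a⁻¹ = (c * x' * c⁻¹)⁻¹ := by
      rw [h1, hcomm a ha c hc, h2, hax', h4]
    rcases hPm3 _ (hconj c (hTN hc) x' hx'P) h3 with h | h | h
    · exact absurd (conj_eq_one_iff.mp h) hx'1
    · exact Or.inl h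
    · exact Or.inr h
  have hatT : a * t ∈ T := mul_mem ha ht
  have hat1 : a * t ≠ 1 := by
    intro h
    have h4 := eq_inv_of_mul_eq_one_left h
    rw [hinv t ht] at h4
    exact hat h4
  have hconjmul : ∀ z : G, (a * t) * z * (a * t)⁻¹ = a * (t * z * t⁻¹) * a⁻¹ := by
    intro z; group
  have hainvx : a * x⁻¹ * a⁻¹ = x⁻¹ := by
    have h : a * x⁻¹ * a⁻¹ = (a * x * a⁻¹)⁻¹ := by group
    rw [h, hax]
  have hainvx' : a * x'⁻¹ * a⁻¹ = x' := by
    have h : a * x'⁻¹ * a⁻¹ = (a * x' * a⁻¹)⁻¹ := by group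
    rw [h, hax', inv_inv]
  rcases hTx t ht with h1 | h1 <;> rcases hTx' t ht with h2 | h2
  · exact absurd (hcen t ht (hZ t h1 h2)) ht1
  · refine absurd (hcen (a * t) hatT (hZ (a * t) ?_ ?_)) hat1
    · rw [hconjmul, h1, hax]
    · rw [hconjmul, h2, hainvx']
  · exact ⟨x, x', a, t, hxP, hx'P, hx1, hx'1, haN, htN, haa, hsq t ht, hax, hax', h1, h2⟩
  · refine ⟨x, x', a, a * t, hxP, hx'P, hx1, hx'1, haN, hTN hatT, haa, hsq _ hatT, hax, hax',
      ?_, ?_⟩
    · rw [hconjmul, h1, hainvx]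
    · rw [hconjmul, h2, hainvx']

end Cfsg.Agent.Helper71.O2520
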