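import Mathlib
import Cfsg.Agent.Lib.Helper41.PGrow

/-!
# Server O459648 (helper53, S1022), piece (B4a) `endgame_setup`

Normaliser growth twice: `V` (order 4) `≤ S0` (order 8) `≤ N_G(V) = N`, `S0 ≤ K2` (order 16)
`≤ N_G(S0)`; `16 ∤ 456` gives `g ∈ K2 \ N`; `g * g ∈ S0` as `S0` has index 2 in `K2`.
-/

set_option autoImplicit false

namespace Cfsg.Agent.Helper71.O459648

theorem endgame_setup {G : Type*} [Group G] [Finite G] (hG : Nat.card G = 459648)
    (N V : Subgroup G) (hN : Nat.card N = 456) (hV : Nat.card V = 4)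
    (hNV : Subgroup.normalizer (V : Set G) = N) :
    ∃ (S0 : Subgroup G) (g : G), Nat.card S0 = 8 ∧ V ≤ S0 ∧ S0 ≤ N ∧ g ∉ N ∧
      g ∈ Subgroup.normalizer (S0 : Set G) ∧ g * g ∈ S0 := by
  have : Fact (Nat.Prime 2) := ⟨Nat.prime_two⟩
  have hV' : Nat.card V = 2 ^ 2 := by rw [hV]; norm_num
  have hG3 : 2 ^ (2 + 1) ∣ Nat.card G := by rw [hG]; decide
  obtain ⟨S0, hS0, hVS, hSN⟩ :=
    Cfsg.Agent.Helper41.PGrow.h41_exists_succ_normalizer (p := 2) (k := 2) V hV' hG3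
  have hG4 : 2 ^ (3 + 1) ∣ Nat.card G := by rw [hG]; decide
  obtain ⟨K2, hK2, hSK, hKN⟩ :=
    Cfsg.Agent.Helper41.PGrow.h41_exists_succ_normalizer (p := 2) (k := 3) S0 hS0 hG4
  rw [hNV] at hSN
  have hnot : ¬ K2 ≤ N := by
    intro hle
    have h1 := Subgroup.card_dvd_of_le hle
    rw [hK2, hN] at h1
    revert h1
    decide
  obtain ⟨g, hgK, hgN⟩ := SetLike.not_le_iff_exists.mp hnot
  refine ⟨S0, g, by rw [hS0]; norm_num, hVS, hSN, hgN, hKN hgK, ?_⟩
  have hidx : (S0.subgroupOf K2).index = 2 := by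
    have h1 := Subgroup.card_mul_index (S0.subgroupOf K2)
    have h2 : Nat.card (S0.subgroupOf K2) = 2 ^ 3 := by
      rw [← hS0]
      exact Nat.card_congr (Subgroup.subgroupOfEquivOfLe hSK).toEquiv
    rw [h2, hK2] at h1
    omega
  have h3 := Subgroup.mul_self_mem_of_index_two hidx ⟨g, hgK⟩
  rw [Subgroup.mem_subgroupOf] at h3
  exact h3

end Cfsg.Agent.Helper71.O459648
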