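import Mathlib

/-!
# Twisted symmetric designs (helper71)

A square `0/1` matrix `A` with constant row and column sums `k`, with `A * Aᵀ` and an odd power `A ^ m`
both in the span of `1` and the all-ones matrix, and with `k` coprime to the size `n`, has `k = 1` or
`k = n - 1`.
-/

set_option autoImplicit false
set_option linter.unusedSectionVars false

namespace Cfsg.Agent.Lib.Helper71.TwistedDesign

/-- The arithmetic core. -/
theorem arith_core (n k : ℕ) (hn : 2 ≤ n) (hk0 : 0 < k) (hkn : k < n) (hcop : k.Coprime n)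
    (m : ℕ) (hm : Odd m) (u v x y : ℤ) (h1 : u + v = k) (h2 : u + n * v = k ^ 2)
    (h3 : x + n * y = k ^ m) (h4 : x ^ 2 = u ^ m) : k = 1 ∨ k = n - 1 := by
  obtain ⟨j, rfl⟩ := hm
  have hnZ : (2 : ℤ) ≤ n := by exact_mod_cast hn
  have hk0Z : (0 : ℤ) < k := by exact_mod_cast hk0
  have hknZ : (k : ℤ) < n := by exact_mod_cast hkn
  -- v ≥ 0
  have hv : 0 ≤ v := by
    have h5 : ((n : ℤ) - 1) * v = k ^ 2 - k := by linarith
    by_contra hneg
    push Not at hneg
    have : ((n : ℤ) - 1) * v < 0 := mul_neg_of_pos_of_neg (by linarith) hneg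
    nlinarith
  have hu_le : u ≤ k := by linarith
  -- u ≥ 0
  have hu0 : 0 ≤ u := by
    by_contra hneg
    push Not at hneg
    have : u ^ (2 * j + 1) < 0 := Odd.pow_neg ⟨j, rfl⟩ hneg
    have : 0 ≤ x ^ 2 := sq_nonneg x
    linarith
  -- n coprime to k as integers
  have hcopZ : IsCoprime (k : ℤ) (n : ℤ) := by
    exact_mod_cast Nat.isCoprime_iff_coprime.mpr hcop
  -- u ≡ k^2 mod n
  have hu_mod : (n : ℤ) ∣ (k : ℤ) ^ 2 - u := ⟨v, by linarith⟩
  rcases hu0.eq_or_lt with hu | hu
  · -- u = 0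
    exfalso
    rw [← hu] at h4
    have hx : x = 0 := by
      have : x ^ 2 = 0 := by rw [h4]; simp
      exact pow_eq_zero_iff (by norm_num) |>.mp this
    have hdvd : (n : ℤ) ∣ (k : ℤ) ^ (2 * j + 1) := ⟨y, by rw [← h3, hx]; ring⟩
    have hc2 : IsCoprime ((k : ℤ) ^ (2 * j + 1)) (n : ℤ) := hcopZ.pow_left
    have : IsUnit (n : ℤ) := hc2.symm.isUnit_of_dvd' dvd_rfl hdvd
    rw [Int.isUnit_iff] at this
    omega
  · -- u > 0
    set g : ℤ := u ^ j with hg
    have hgpos : 0 < g := pow_pos hu j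
    have hx2 : x ^ 2 = u * g ^ 2 := by rw [h4, hg]; ring
    have hgx : g ∣ x := by
      have : g ^ 2 ∣ x ^ 2 := ⟨u, by rw [hx2]; ring⟩
      exact (Int.pow_dvd_pow_iff (by norm_num)).mp this
    obtain ⟨s, hs⟩ := hgx
    have hs2 : s ^ 2 = u := by
      have : g ^ 2 * s ^ 2 = g ^ 2 * u := by rw [← mul_pow, ← hs, hx2]; ring
      exact mul_left_cancel₀ (pow_ne_zero 2 hgpos.ne') this
    -- g ≡ k^(2j) mod n
    have hg_mod : (n : ℤ) ∣ (k : ℤ) ^ (2 * j) - g := by
      have : (k : ℤ) ^ (2 * j) - g = ((k : ℤ) ^ 2) ^ j - u ^ j := by rw [hg, pow_mul]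
      rw [this]
      exact dvd_trans hu_mod (sub_dvd_pow_sub_pow _ _ j)
    -- n ∣ k^(2j) * (k - s)
    have hdvd : (n : ℤ) ∣ (k : ℤ) ^ (2 * j) * (k - s) := by
      have e : (k : ℤ) ^ (2 * j) * (k - s) = ((k : ℤ) ^ (2 * j + 1) - x) - ((k : ℤ) ^ (2 * j) - g) * s := by
        rw [hs]; ring
      rw [e]
      exact dvd_sub ⟨y, by linarith⟩ (dvd_mul_of_dvd_left hg_mod s)
    have hks : (n : ℤ) ∣ (k : ℤ) - s := by
      have hc2 : IsCoprime (n : ℤ) ((k : ℤ) ^ (2 * j)) := hcopZ.symm.pow_right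
      exact hc2.dvd_of_dvd_mul_left hdvd
    -- |s| ≤ k
    have hs_abs : s ^ 2 ≤ (k : ℤ) ^ 2 := by rw [hs2]; nlinarith
    have hs_le : s ≤ k := by nlinarith
    have hs_ge : -(k : ℤ) ≤ s := by nlinarith
    obtain ⟨t, ht⟩ := hks
    have ht0 : 0 ≤ t := by
      by_contra hneg
      push Not at hneg
      have : (n : ℤ) * t < 0 := mul_neg_of_pos_of_neg (by linarith) hneg
      linarith
    have ht1 : t < 2 := by
      by_contra hge
      push Not at hge
      have : (n : ℤ) * 2 ≤ n * t := mul_le_mul_of_nonneg_left hge (by linarith)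
      linarith
    have ht01 : t = 0 ∨ t = 1 := by omega
    rcases ht01 with rfl | rfl
    · left
      have hsk : s = k := by linarith
      rw [hsk] at hs2
      have : (k : ℤ) ^ 2 ≤ k := by rw [hs2]; exact hu_le
      have : (k : ℤ) ≤ 1 := by nlinarith
      have : k ≤ 1 := by exact_mod_cast this
      omega
    · right
      have hsk : s = k - n := by linarith
      rw [hsk] at hs2
      have hvv : v = k - ((k : ℤ) - n) ^ 2 := by linarith
      have h5 : ((n : ℤ) - 1) * v = k ^ 2 - k := by linarith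
      rw [hvv] at h5
      have h6 : ((n : ℤ) - k) * (1 - (n - k)) * n = 0 := by linear_combination h5
      have hnk : ((n : ℤ) - k) ≠ 0 := by linarith
      have hn0 : (n : ℤ) ≠ 0 := by linarith
      have : (1 - ((n : ℤ) - k)) = 0 := by
        rcases mul_eq_zero.mp h6 with h7 | h7
        · rcases mul_eq_zero.mp h7 with h8 | h8
          · exact absurd h8 hnk
          · exact h8
        · exact absurd h7 hn0
      have : (k : ℤ) = n - 1 := by linarith
      omega


open Matrix

variable {Ω : Type*}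

/-- The all-ones matrix. -/
def allOnes (Ω : Type*) : Matrix Ω Ω ℤ := Matrix.of fun _ _ => 1

@[simp] lemma allOnes_apply (x y : Ω) : allOnes Ω x y = 1 := rfl

lemma allOnes_transpose : (allOnes Ω)ᵀ = allOnes Ω := by
  ext x y; simp [Matrix.transpose_apply]

variable [Fintype Ω]

lemma mul_allOnes (M : Matrix Ω Ω ℤ) (r : ℤ) (h : ∀ x, ∑ y, M x y = r) :
    M * allOnes Ω = r • allOnes Ω := by
  ext x z
  simp [Matrix.mul_apply, h]

lemma allOnes_mul (M : Matrix Ω Ω ℤ) (c : ℤ) (h : ∀ y, ∑ x, M x y = c) :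
    allOnes Ω * M = c • allOnes Ω := by
  ext x z
  simp [Matrix.mul_apply, h]

lemma allOnes_mul_allOnes : allOnes Ω * allOnes Ω = (Fintype.card Ω : ℤ) • allOnes Ω := by
  apply mul_allOnes
  intro x
  simp

variable [DecidableEq Ω]

lemma span_inj {o o' : Ω} (hne : o ≠ o') {a b a' b' : ℤ}
    (h : a • (1 : Matrix Ω Ω ℤ) + b • allOnes Ω = a' • (1 : Matrix Ω Ω ℤ) + b' • allOnes Ω) :
    a = a' ∧ b = b' := by
  have h1 := congrFun (congrFun h o) o'
  have h2 := congrFun (congrFun h o) o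
  simp only [Matrix.add_apply, Matrix.smul_apply, Matrix.one_apply, allOnes_apply, smul_eq_mul,
    if_neg hne, if_true, mul_zero, mul_one, zero_add] at h1 h2
  constructor
  · linarith
  · exact h1

/-- The matrix core. -/
theorem matrix_core (A : Matrix Ω Ω ℤ) (k u v x y : ℤ) (m : ℕ) {o o' : Ω} (hne : o ≠ o')
    (hAJ : A * allOnes Ω = k • allOnes Ω) (hJA : allOnes Ω * A = k • allOnes Ω)
    (hAAT : A * Aᵀ = u • (1 : Matrix Ω Ω ℤ) + v • allOnes Ω)
    (hAm : A ^ m = x • (1 : Matrix Ω Ω ℤ) + y • allOnes Ω) :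
    x ^ 2 = u ^ m ∧ x + (Fintype.card Ω : ℤ) * y = k ^ m ∧ u + (Fintype.card Ω : ℤ) * v = k ^ 2 := by
  have hATJ : Aᵀ * allOnes Ω = k • allOnes Ω := by
    have := congrArg Matrix.transpose hJA
    rw [Matrix.transpose_mul, allOnes_transpose, Matrix.transpose_smul, allOnes_transpose] at this
    exact this
  have hJAT : allOnes Ω * Aᵀ = k • allOnes Ω := by
    have := congrArg Matrix.transpose hAJ
    rw [Matrix.transpose_mul, allOnes_transpose, Matrix.transpose_smul, allOnes_transpose] at this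
    exact this
  have hJ1 : allOnes Ω o o = 1 := rfl
  refine ⟨?_, ?_, ?_⟩
  · -- x^2 = u^m
    have key : ∀ j : ℕ, ∃ c : ℤ, A ^ j * (Aᵀ) ^ j = (u ^ j) • (1 : Matrix Ω Ω ℤ) + c • allOnes Ω := by
      intro j
      induction j with
      | zero => exact ⟨0, by simp⟩
      | succ j ih =>
        obtain ⟨c, hc⟩ := ih
        refine ⟨u ^ j * v + c * k ^ 2, ?_⟩
        have e : A ^ (j + 1) * (Aᵀ) ^ (j + 1) = A * (A ^ j * (Aᵀ) ^ j) * Aᵀ := by
          rw [pow_succ' A j, pow_succ (Aᵀ) j]
          simp only [Matrix.mul_assoc]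
        rw [e, hc, Matrix.mul_add, Matrix.add_mul, Matrix.mul_smul, Matrix.smul_mul, Matrix.mul_one,
          hAAT, Matrix.mul_smul, Matrix.smul_mul, hAJ, Matrix.smul_mul, hJAT]
        ext a b
        simp only [Matrix.add_apply, Matrix.smul_apply, Matrix.one_apply, allOnes_apply, smul_eq_mul]
        ring
    obtain ⟨c, hc⟩ := key m
    rw [← Matrix.transpose_pow, hAm] at hc
    have e2 : (x • (1 : Matrix Ω Ω ℤ) + y • allOnes Ω) * (x • (1 : Matrix Ω Ω ℤ) + y • allOnes Ω)ᵀ
        = (x ^ 2) • (1 : Matrix Ω Ω ℤ) + (2 * x * y + (Fintype.card Ω : ℤ) * y ^ 2) • allOnes Ω := by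
      rw [Matrix.transpose_add, Matrix.transpose_smul, Matrix.transpose_smul, Matrix.transpose_one,
        allOnes_transpose, Matrix.mul_add, Matrix.add_mul, Matrix.add_mul]
      simp only [Matrix.mul_smul, Matrix.smul_mul, Matrix.mul_one, Matrix.one_mul, allOnes_mul_allOnes]
      ext a b
      simp only [Matrix.add_apply, Matrix.smul_apply, Matrix.one_apply, allOnes_apply, smul_eq_mul]
      ring
    rw [e2] at hc
    exact (span_inj hne hc).1
  · -- x + n y = k^m
    have hpow : ∀ j : ℕ, A ^ j * allOnes Ω = (k ^ j) • allOnes Ω := by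
      intro j
      induction j with
      | zero => simp
      | succ j ih =>
        rw [pow_succ, Matrix.mul_assoc, hAJ, Matrix.mul_smul, ih, smul_smul, pow_succ]
        congr 1
        ring
    have h := hpow m
    rw [hAm, Matrix.add_mul, Matrix.smul_mul, Matrix.smul_mul, Matrix.one_mul, allOnes_mul_allOnes] at h
    have h1 := congrFun (congrFun h o) o
    simp only [Matrix.add_apply, Matrix.smul_apply, allOnes_apply, smul_eq_mul] at h1
    linarith
  · -- u + n v = k^2
    have h : A * Aᵀ * allOnes Ω = (k ^ 2) • allOnes Ω := by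
      rw [Matrix.mul_assoc, hATJ, Matrix.mul_smul, hAJ, smul_smul]
      congr 1
      ring
    rw [hAAT, Matrix.add_mul, Matrix.smul_mul, Matrix.smul_mul, Matrix.one_mul, allOnes_mul_allOnes] at h
    have h1 := congrFun (congrFun h o) o
    simp only [Matrix.add_apply, Matrix.smul_apply, allOnes_apply, smul_eq_mul] at h1
    linarith


section GroupPart

variable (G : Subgroup (Equiv.Perm Ω))

/-- Twisted equivariance of a matrix with respect to an automorphism. -/
def TwEq (φ : MulAut G) (M : Matrix Ω Ω ℤ) : Prop :=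
  ∀ (h : G) (x y : Ω), M (φ h • x) (h • y) = M x y

variable {G}

lemma TwEq.mul {φ ψ : MulAut G} {M N : Matrix Ω Ω ℤ} (hM : TwEq G φ M) (hN : TwEq G ψ N) :
    TwEq G (φ * ψ) (M * N) := by
  intro h x z
  rw [Matrix.mul_apply, Matrix.mul_apply]
  rw [← Equiv.sum_comp ((ψ h : G) : Equiv.Perm Ω)]
  apply Finset.sum_congr rfl
  intro y _
  rw [MulAut.mul_apply]
  have e1 : M (φ (ψ h) • x) (((ψ h : G) : Equiv.Perm Ω) y) = M x y := hM (ψ h) x y
  have e2 : N (((ψ h : G) : Equiv.Perm Ω) y) (h • z) = N y z := hN h y z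
  rw [e1, e2]

lemma TwEq.one : TwEq G 1 (1 : Matrix Ω Ω ℤ) := by
  intro h x y
  rw [MulAut.one_apply, Matrix.one_apply, Matrix.one_apply]
  by_cases hxy : x = y
  · subst hxy; simp
  · have : h • x ≠ h • y := fun hh => hxy (MulAction.injective h hh)
    rw [if_neg hxy, if_neg this]

lemma TwEq.pow {φ : MulAut G} {M : Matrix Ω Ω ℤ} (hM : TwEq G φ M) (j : ℕ) :
    TwEq G (φ ^ j) (M ^ j) := by
  induction j with
  | zero => rw [pow_zero, pow_zero]; exact TwEq.one
  | succ j ih => rw [pow_succ, pow_succ]; exact ih.mul hM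

lemma TwEq.transpose {φ : MulAut G} {M : Matrix Ω Ω ℤ} (hM : TwEq G φ M) :
    TwEq G φ⁻¹ Mᵀ := by
  intro h x y
  have := hM (φ⁻¹ h) y x
  rw [MulAut.apply_inv_self] at this
  exact this

lemma TwEq.span (h2 : MulAction.IsMultiplyPretransitive G Ω 2) {M : Matrix Ω Ω ℤ}
    (hM : TwEq G 1 M) {o o' : Ω} (hne : o ≠ o') :
    M = (M o o - M o o') • (1 : Matrix Ω Ω ℤ) + (M o o') • allOnes Ω := by
  have htr : MulAction.IsPretransitive G Ω := MulAction.isPretransitive_of_is_two_pretransitive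
  ext x y
  simp only [Matrix.add_apply, Matrix.smul_apply, Matrix.one_apply, allOnes_apply, smul_eq_mul]
  by_cases hxy : x = y
  · subst hxy
    obtain ⟨g, hg⟩ := MulAction.exists_smul_eq G o x
    have := hM g o o
    rw [MulAut.one_apply, hg] at this
    rw [this, if_pos rfl]
    ring
  · obtain ⟨g, hg1, hg2⟩ := (MulAction.is_two_pretransitive_iff.mp h2) hne hxy
    have := hM g o o'
    rw [MulAut.one_apply, hg1, hg2] at this
    rw [this, if_neg hxy]
    ring

end GroupPart


section Incidence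

variable {G : Subgroup (Equiv.Perm Ω)} (α : MulAut G) (o : Ω) (S : Set Ω)

/-- The incidence relation: `x` is incident with `β = h • o` iff `x ∈ α h • S`. -/
def Inc (x β : Ω) : Prop := ∃ h : G, h • o = β ∧ (α h)⁻¹ • x ∈ S

lemma inc_smul (g : G) (x β : Ω) : Inc α o S (α g • x) (g • β) ↔ Inc α o S x β := by
  constructor
  · rintro ⟨h, hh, hx⟩
    refine ⟨g⁻¹ * h, ?_, ?_⟩
    · rw [mul_smul, hh, inv_smul_smul]
    · rw [map_mul, map_inv, _root_.mul_inv_rev, inv_inv, mul_smul]
      exact hx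
  · rintro ⟨h, hh, hx⟩
    refine ⟨g * h, ?_, ?_⟩
    · rw [mul_smul, hh]
    · rw [map_mul, _root_.mul_inv_rev, mul_smul, inv_smul_smul]
      exact hx

lemma inc_base (hS : ∀ h ∈ MulAction.stabilizer G o, ∀ x, α h • x ∈ S ↔ x ∈ S) (x : Ω) :
    Inc α o S x o ↔ x ∈ S := by
  constructor
  · rintro ⟨h, hh, hx⟩
    have := hS h hh ((α h)⁻¹ • x)
    rw [smul_inv_smul] at this
    exact this.mpr hx
  · intro hx
    exact ⟨1, one_smul _ _, by simpa using hx⟩

open Classical in
/-- The incidence matrix. -/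
noncomputable def incMatrix : Matrix Ω Ω ℤ :=
  Matrix.of fun x β => if Inc α o S x β then 1 else 0

lemma incMatrix_twEq : TwEq G α (incMatrix α o S) := by
  classical
  intro h x y
  simp only [incMatrix, Matrix.of_apply]
  exact if_congr (inc_smul α o S h x y) rfl rfl

lemma incMatrix_sq (x y : Ω) : incMatrix α o S x y * incMatrix α o S x y = incMatrix α o S x y := by
  classical
  simp only [incMatrix, Matrix.of_apply]
  split_ifs <;> simp

lemma incMatrix_col_sum [MulAction.IsPretransitive G Ω]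
    (hS : ∀ h ∈ MulAction.stabilizer G o, ∀ x, α h • x ∈ S ↔ x ∈ S) (β : Ω) :
    ∑ x, incMatrix α o S x β = (Nat.card S : ℤ) := by
  classical
  obtain ⟨g, rfl⟩ := MulAction.exists_smul_eq G o β
  rw [← Equiv.sum_comp ((α g : G) : Equiv.Perm Ω)]
  have e : ∀ x, incMatrix α o S (((α g : G) : Equiv.Perm Ω) x) (g • o) = if x ∈ S then 1 else 0 := by
    intro x
    have := incMatrix_twEq α o S g x o
    rw [show ((α g : G) : Equiv.Perm Ω) x = α g • x from rfl, this]
    simp only [incMatrix, Matrix.of_apply]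
    exact if_congr (inc_base α o S hS x) rfl rfl
  simp_rw [e]
  rw [Finset.sum_boole, Nat.card_eq_fintype_card, Fintype.card_subtype]

lemma incMatrix_row_sum [MulAction.IsPretransitive G Ω]
    (hS : ∀ h ∈ MulAction.stabilizer G o, ∀ x, α h • x ∈ S ↔ x ∈ S) (x : Ω) :
    ∑ β, incMatrix α o S x β = (Nat.card S : ℤ) := by
  classical
  have hconst : ∀ (g : G) (x : Ω), ∑ β, incMatrix α o S (α g • x) β = ∑ β, incMatrix α o S x β := by
    intro g x
    rw [← Equiv.sum_comp ((g : G) : Equiv.Perm Ω)]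
    apply Finset.sum_congr rfl
    intro β _
    exact incMatrix_twEq α o S g x β
  have hall : ∀ x, ∑ β, incMatrix α o S x β = ∑ β, incMatrix α o S o β := by
    intro x
    obtain ⟨g, rfl⟩ := MulAction.exists_smul_eq G o x
    have := hconst (α⁻¹ g) o
    rw [MulAut.apply_inv_self] at this
    exact this
  have htot : ∑ x, ∑ β, incMatrix α o S x β = (Fintype.card Ω : ℤ) * (Nat.card S : ℤ) := by
    calc ∑ x, ∑ β, incMatrix α o S x β = ∑ β, ∑ x, incMatrix α o S x β := Finset.sum_comm
      _ = ∑ _β : Ω, (Nat.card S : ℤ) :=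
          Finset.sum_congr rfl (fun β _ => incMatrix_col_sum α o S hS β)
      _ = _ := by simp
  simp_rw [hall] at htot
  rw [Finset.sum_const, Finset.card_univ, nsmul_eq_mul] at htot
  have hn : (Fintype.card Ω : ℤ) ≠ 0 := by
    have : Nonempty Ω := ⟨o⟩
    exact_mod_cast Fintype.card_ne_zero
  rw [hall x]
  exact mul_left_cancel₀ hn htot

/-- Main theorem: a set invariant under `α(G_o)`, of size coprime to the degree, in a `2`-transitive group,
with `α` of odd order, has size `1` or `n - 1`. -/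
theorem card_eq_one_or (h2 : MulAction.IsMultiplyPretransitive G Ω 2) (hα : Odd (orderOf α))
    (hS : ∀ h ∈ MulAction.stabilizer G o, ∀ x, α h • x ∈ S ↔ x ∈ S) (hne : S.Nonempty)
    (hcop : (Nat.card S).Coprime (Fintype.card Ω)) :
    Nat.card S = 1 ∨ Nat.card S = Fintype.card Ω - 1 := by
  classical
  have htr : MulAction.IsPretransitive G Ω := MulAction.isPretransitive_of_is_two_pretransitive
  have hk0 : 0 < Nat.card S := by
    have : Nonempty S := hne.to_subtype
    exact Nat.card_pos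
  have hkle : Nat.card S ≤ Fintype.card Ω := by
    rw [← Nat.card_eq_fintype_card]
    exact Nat.card_le_card_of_injective _ Subtype.val_injective
  by_cases hn : Fintype.card Ω ≤ 1
  · left; omega
  push Not at hn
  obtain ⟨o', ho'⟩ : ∃ o' : Ω, o ≠ o' := by
    by_contra hcon
    push Not at hcon
    have : Fintype.card Ω ≤ 1 := Fintype.card_le_one_iff.mpr (fun a b => (hcon a).symm.trans (hcon b))
    omega
  have hkn : Nat.card S < Fintype.card Ω := by
    rcases hkle.eq_or_lt with h | h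
    · rw [h, Nat.coprime_self] at hcop
      omega
    · exact h
  set A := incMatrix α o S with hA
  have hAtw : TwEq G α A := incMatrix_twEq α o S
  -- A * Aᵀ
  have h1 : TwEq G 1 (A * Aᵀ) := by
    have := hAtw.mul hAtw.transpose
    rwa [mul_inv_cancel] at this
  have h1s := h1.span h2 ho'
  -- A ^ m
  have h3 : TwEq G 1 (A ^ orderOf α) := by
    have := hAtw.pow (orderOf α)
    rwa [pow_orderOf_eq_one] at this
  have h3s := h3.span h2 ho'
  have hAJ : A * allOnes Ω = (Nat.card S : ℤ) • allOnes Ω := mul_allOnes A _ (incMatrix_row_sum α o S hS)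
  have hJA : allOnes Ω * A = (Nat.card S : ℤ) • allOnes Ω := allOnes_mul A _ (incMatrix_col_sum α o S hS)
  obtain ⟨e1, e2, e3⟩ := matrix_core A (Nat.card S : ℤ) _ _ _ _ (orderOf α) ho' hAJ hJA h1s h3s
  have hdiag : (A * Aᵀ) o o = (Nat.card S : ℤ) := by
    rw [Matrix.mul_apply]
    simp_rw [Matrix.transpose_apply, hA, incMatrix_sq]
    exact incMatrix_row_sum α o S hS o
  refine arith_core (Fintype.card Ω) (Nat.card S) hn hk0 hkn hcop (orderOf α) hα _ _ _ _ ?_ e3 e2 e1
  rw [← hdiag]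
  ring

end Incidence

end Cfsg.Agent.Lib.Helper71.TwistedDesign
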