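import Mathlib
import Cfsg.Prelude.Def_KGroupFacts
import Cfsg.Agent.S4290
import Cfsg.Agent.Lib.Helper12.PermCentralizer
import Cfsg.Agent.Lib.Helper12.PrimeDegree

/-!
# Outer automorphism groups of groups of prime degree (helper71)
-/

set_option autoImplicit false
set_option linter.unusedSectionVars false

namespace Cfsg.Agent.Lib.Helper71.OutPrimeDegree

/-- Solvability of `Out` transfers along an isomorphism. -/
theorem out_isSolvable_of_mulEquiv {G G' : Type*} [Group G] [Group G'] (e : G ≃* G')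
    (h : Group.IsSolvable (Cfsg.Out G')) : Group.IsSolvable (Cfsg.Out G) := by
  let f : MulAut G' →* Cfsg.Out G :=
    (QuotientGroup.mk' (Cfsg.Inn G)).comp (MulAut.congr e.symm).toMonoidHom
  have hker : Cfsg.Inn G' ≤ f.ker := by
    rintro _ ⟨g, rfl⟩
    rw [MonoidHom.mem_ker]
    show ((MulAut.congr e.symm (MulAut.conj g) : MulAut G) : Cfsg.Out G) = 1
    rw [QuotientGroup.eq_one_iff]
    refine ⟨e.symm g, ?_⟩
    ext x
    simp [MulAut.congr_apply, MulAut.conj_apply]
  let f' : Cfsg.Out G' →* Cfsg.Out G := QuotientGroup.lift (Cfsg.Inn G') f hker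
  have hsurj : Function.Surjective f' := by
    intro q
    obtain ⟨a, rfl⟩ := QuotientGroup.mk_surjective q
    refine ⟨((MulAut.congr e a : MulAut G') : Cfsg.Out G'), ?_⟩
    show ((MulAut.congr e.symm (MulAut.congr e a) : MulAut G) : Cfsg.Out G) = _
    congr 1
    ext x
    simp [MulAut.congr_apply]
  exact Group.isSolvable_of_surjective hsurj

/-- A commutative simple group is cyclic. -/
theorem isCyclic_of_simple_comm {G : Type*} [hG : Group G] [hs : IsSimpleGroup G]
    (h : ∀ a b : G, a * b = b * a) : IsCyclic G := by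
  let hG' : CommGroup G := { hG with mul_comm := h }
  exact @IsSimpleGroup.isCyclic G hG' hs

/-- A solvable simple group has solvable outer automorphism group. -/
theorem out_isSolvable_of_simple_solvable {G : Type*} [Group G] [IsSimpleGroup G]
    (h : Group.IsSolvable G) : Group.IsSolvable (Cfsg.Out G) := by
  have hcomm := IsSimpleGroup.comm_iff_isSolvable.mpr h
  have hcyc : IsCyclic G := isCyclic_of_simple_comm hcomm
  have : Group.IsSolvable (MulAut G) :=
    Group.isSolvable_of_isSolvable_injective (f := (IsCyclic.mulAutMulEquiv G).toMonoidHom)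
      (IsCyclic.mulAutMulEquiv G).injective
  infer_instance


section Aut

open scoped Pointwise commutatorElement

variable {X : Type*} [Group X] [Finite X] {p : ℕ} [Fact p.Prime] (P : Sylow p X)

/-- Automorphisms fixing `P` pointwise. -/
def fixer : Subgroup (MulAut X) where
  carrier := {b | ∀ z ∈ (P : Subgroup X), b z = z}
  one_mem' := fun z _ => rfl
  mul_mem' := by
    intro a b ha hb z hz
    rw [MulAut.mul_apply, hb z hz, ha z hz]
  inv_mem' := by
    intro b hb z hz
    have := hb z hz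
    calc b⁻¹ z = b⁻¹ (b z) := by rw [this]
      _ = z := MulAut.inv_apply_self _ _ _

lemma mem_fixer {b : MulAut X} : b ∈ fixer P ↔ ∀ z ∈ (P : Subgroup X), b z = z := Iff.rfl

lemma mem_stabilizer_apply {b : MulAut X} (hb : b ∈ MulAction.stabilizer (MulAut X) P) (z : X) :
    b z ∈ (P : Subgroup X) ↔ z ∈ (P : Subgroup X) := by
  have h1 : b • P = P := hb
  have h2 : (b • (P : Subgroup X)) = (P : Subgroup X) := by
    rw [← Sylow.pointwise_smul_def, h1]
  have h3 : b • z ∈ b • (P : Subgroup X) ↔ z ∈ (P : Subgroup X) :=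
    Subgroup.smul_mem_pointwise_smul_iff
  rw [h2] at h3
  exact h3

/-- Frattini argument in the automorphism group. -/
lemma exists_conj_mul_mem_stabilizer (a : MulAut X) :
    ∃ g : X, (MulAut.conj g)⁻¹ * a ∈ MulAction.stabilizer (MulAut X) P := by
  obtain ⟨g, hg⟩ := MulAction.exists_smul_eq X P (a • P)
  refine ⟨g, ?_⟩
  rw [MulAction.mem_stabilizer_iff, mul_smul, ← hg, Sylow.smul_def, inv_smul_smul]

/-- When `P` is cyclic, commutators of automorphisms stabilizing `P` fix `P` pointwise. -/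
lemma commutator_mem_fixer (hcyc : IsCyclic P) {x y : MulAut X}
    (hx : x ∈ MulAction.stabilizer (MulAut X) P) (hy : y ∈ MulAction.stabilizer (MulAut X) P) :
    ⁅x, y⁆ ∈ fixer P := by
  obtain ⟨z0, hz0⟩ := hcyc.exists_generator
  have hgen : ∀ w ∈ (P : Subgroup X), ∃ l : ℤ, w = (z0 : X) ^ l := by
    intro w hw
    obtain ⟨l, hl⟩ := Subgroup.mem_zpowers_iff.mp (hz0 ⟨w, hw⟩)
    refine ⟨l, ?_⟩
    have := congrArg Subtype.val hl
    simpa using this.symm
  have hpow : ∀ b : MulAut X, b ∈ MulAction.stabilizer (MulAut X) P → ∃ i : ℤ, b (z0 : X) = (z0 : X) ^ i := by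
    intro b hb
    exact hgen _ ((mem_stabilizer_apply P hb _).mpr z0.2)
  obtain ⟨i, hi⟩ := hpow x hx
  obtain ⟨j, hj⟩ := hpow y hy
  have hz : (x * y) (z0 : X) = (y * x) (z0 : X) := by
    rw [MulAut.mul_apply, MulAut.mul_apply, hj, hi, map_zpow, map_zpow, hi, hj, ← zpow_mul, ← zpow_mul,
      mul_comm]
  have hagree : ∀ w ∈ (P : Subgroup X), (x * y) w = (y * x) w := by
    intro w hw
    obtain ⟨l, rfl⟩ := hgen w hw
    rw [map_zpow, map_zpow, hz]
  intro w hw
  have hyx : (y * x)⁻¹ ∈ MulAction.stabilizer (MulAut X) P :=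
    Subgroup.inv_mem _ (Subgroup.mul_mem _ hy hx)
  have hw' : (y * x)⁻¹ w ∈ (P : Subgroup X) := (mem_stabilizer_apply P hyx w).mpr hw
  have e : ⁅x, y⁆ = (x * y) * (y * x)⁻¹ := by
    rw [commutatorElement_def]
    group
  rw [e, MulAut.mul_apply, hagree _ hw', MulAut.apply_inv_self]

end Aut


section Perm

open scoped Pointwise commutatorElement

variable {Ω : Type*} [Fintype Ω] [DecidableEq Ω] {p : ℕ} [hp : Fact p.Prime]

/-- A subgroup of `Perm Ω` of order `p = |Ω|` is transitive. -/
lemma pretransitive_of_card_eq (hΩ : Fintype.card Ω = p) (Q : Subgroup (Equiv.Perm Ω))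
    (hQ : Nat.card Q = p) : MulAction.IsPretransitive Q Ω := by
  have hne : Q ≠ ⊥ := by
    intro h
    rw [h, Subgroup.card_bot] at hQ
    exact hp.out.one_lt.ne hQ
  obtain ⟨z, hz1⟩ := (Subgroup.ne_bot_iff_exists_ne_one).mp hne
  obtain ⟨ω, hω⟩ : ∃ ω, z • ω ≠ ω := by
    by_contra hcon
    push Not at hcon
    apply hz1
    apply Subtype.ext
    ext x
    exact hcon x
  have hdvd : (MulAction.orbit Q ω).ncard ∣ p := by
    rw [← MulAction.index_stabilizer, ← hQ]
    exact Subgroup.index_dvd_card _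
  have h1 : (MulAction.orbit Q ω).ncard ≠ 1 := by
    intro h
    obtain ⟨a, ha⟩ := Set.ncard_eq_one.mp h
    have m1 : ω ∈ MulAction.orbit Q ω := MulAction.mem_orbit_self ω
    have m2 : z • ω ∈ MulAction.orbit Q ω := MulAction.mem_orbit ω z
    rw [ha, Set.mem_singleton_iff] at m1 m2
    exact hω (m2.trans m1.symm)
  have hcard : (MulAction.orbit Q ω).ncard = p := ((Nat.dvd_prime hp.out).mp hdvd).resolve_left h1
  have huniv : MulAction.orbit Q ω = Set.univ := by
    rw [Set.eq_univ_iff_ncard, hcard, Nat.card_eq_fintype_card, hΩ]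
  constructor
  intro a b
  have ha : a ∈ MulAction.orbit Q ω := huniv ▸ Set.mem_univ a
  have hb : b ∈ MulAction.orbit Q ω := huniv ▸ Set.mem_univ b
  obtain ⟨g1, rfl⟩ := ha
  obtain ⟨g2, rfl⟩ := hb
  exact ⟨g2 * g1⁻¹, by simp [mul_smul]⟩

/-- The Hall condition for point stabilizers in prime degree. -/
lemma hall_stabilizer (hΩ : Fintype.card Ω = p) (G : Subgroup (Equiv.Perm Ω))
    [MulAction.IsPretransitive G Ω] (o : Ω) :
    (Nat.card (MulAction.stabilizer G o)).Coprime (MulAction.stabilizer G o).index := by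
  have hidx : (MulAction.stabilizer G o).index = p := by
    rw [MulAction.index_stabilizer_of_transitive, Nat.card_eq_fintype_card, hΩ]
  rw [hidx]
  apply Nat.Coprime.symm
  rw [Nat.Prime.coprime_iff_not_dvd hp.out]
  intro hdvd
  have h1 : Nat.card (MulAction.stabilizer G o) * p = Nat.card G := by
    rw [← hidx]; exact Subgroup.card_mul_index _
  have hGS : Nat.card G ∣ p.factorial := by
    have := Subgroup.card_subgroup_dvd_card G
    rwa [Nat.card_eq_fintype_card (α := Equiv.Perm Ω), Fintype.card_perm, hΩ] at this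
  apply Cfsg.Agent.Helper12.PrimeDegree.sq_not_dvd_factorial (p := p)
  exact (h1 ▸ Nat.mul_dvd_mul_right hdvd p).trans hGS

/-- Odd order automorphisms fixing a Sylow `p`-subgroup pointwise are inner. -/
lemma mem_inn_of_mem_fixer_of_odd (hΩ : Fintype.card Ω = p) (G : Subgroup (Equiv.Perm Ω))
    (h2 : MulAction.IsMultiplyPretransitive G Ω 2) (P : Sylow p G) {b : MulAut G}
    (hb : b ∈ fixer P) (hodd : Odd (orderOf b)) : b ∈ Cfsg.Inn G := by
  have htr : MulAction.IsPretransitive G Ω := MulAction.isPretransitive_of_is_two_pretransitive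
  have hne : Nonempty Ω := by
    rw [← Fintype.card_pos_iff, hΩ]
    exact hp.out.pos
  obtain ⟨o⟩ := hne
  obtain ⟨σ, -, hσ⟩ := Cfsg.Agent.S4290.result G h2 o (hall_stabilizer hΩ G o) b hodd
  have hPcard : Nat.card P = p := Cfsg.Agent.Helper12.PrimeDegree.sylow_card hΩ G P
  set P' : Subgroup (Equiv.Perm Ω) := (P : Subgroup G).map G.subtype with hP'
  have hP'card : Nat.card P' = p := by
    rw [hP', Subgroup.card_map_of_injective G.subtype_injective]
    exact hPcard
  have htrP' : MulAction.IsPretransitive P' Ω := pretransitive_of_card_eq hΩ P' hP'card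
  have hcyc : IsCyclic P' := isCyclic_of_prime_card hP'card
  have hcomm : P' ≤ Subgroup.centralizer (P' : Set (Equiv.Perm Ω)) :=
    Subgroup.le_centralizer_iff_isMulCommutative.mpr IsCyclic.isMulCommutative
  have hcent := Cfsg.Agent.Helper12.centralizer_eq_of_transitive_le P' P' hcomm
  have hσc : σ ∈ Subgroup.centralizer (P' : Set (Equiv.Perm Ω)) := by
    rw [Subgroup.mem_centralizer_iff]
    rintro _ ⟨z, hz, rfl⟩
    have h1 := hσ z
    rw [hb z hz] at h1
    show (z : Equiv.Perm Ω) * σ = σ * (z : Equiv.Perm Ω)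
    calc (z : Equiv.Perm Ω) * σ = (σ * (z : Equiv.Perm Ω) * σ⁻¹) * σ := by rw [← h1]
      _ = σ * (z : Equiv.Perm Ω) := by group
  rw [hcent] at hσc
  obtain ⟨z1, -, hz1⟩ := hσc
  refine ⟨z1, ?_⟩
  ext g
  rw [hσ g, ← hz1]
  simp [MulAut.conj_apply]


/-- A `2`-transitive group of prime degree has solvable outer automorphism group. -/
theorem out_isSolvable_of_two_transitive (hΩ : Fintype.card Ω = p) (G : Subgroup (Equiv.Perm Ω))
    (h2 : MulAction.IsMultiplyPretransitive G Ω 2) : Group.IsSolvable (Cfsg.Out G) := by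
  have htr : MulAction.IsPretransitive G Ω := MulAction.isPretransitive_of_is_two_pretransitive
  obtain ⟨P⟩ : Nonempty (Sylow p G) := inferInstance
  have hPcard : Nat.card P = p := Cfsg.Agent.Helper12.PrimeDegree.sylow_card hΩ G P
  have hcyc : IsCyclic P := isCyclic_of_prime_card hPcard
  set π : MulAut G →* Cfsg.Out G := QuotientGroup.mk' (Cfsg.Inn G) with hπ
  set B : Subgroup (MulAut G) := MulAction.stabilizer (MulAut G) P with hB
  set L : Subgroup (Cfsg.Out G) := (fixer P).map π with hL
  -- every class has a representative in B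
  have hrep : ∀ q : Cfsg.Out G, ∃ b ∈ B, π b = q := by
    intro q
    obtain ⟨a, rfl⟩ := QuotientGroup.mk_surjective q
    obtain ⟨g, hg⟩ := exists_conj_mul_mem_stabilizer P a
    refine ⟨_, hg, ?_⟩
    rw [map_mul, map_inv]
    have : π (MulAut.conj g) = 1 := by
      rw [hπ, QuotientGroup.mk'_apply, QuotientGroup.eq_one_iff]
      exact ⟨g, rfl⟩
    rw [this, inv_one, one_mul]
    rfl
  -- the commutator subgroup lies in L
  have hcomm : commutator (Cfsg.Out G) ≤ L := by
    rw [commutator_def, Subgroup.commutator_le]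
    intro q1 _ q2 _
    obtain ⟨b1, hb1, rfl⟩ := hrep q1
    obtain ⟨b2, hb2, rfl⟩ := hrep q2
    rw [← map_commutatorElement]
    exact ⟨_, commutator_mem_fixer P hcyc hb1 hb2, rfl⟩
  -- L is a 2-group
  have hL2 : IsPGroup 2 L := by
    rintro ⟨_, b, hb, rfl⟩
    have hord : orderOf b ≠ 0 := (orderOf_pos b).ne'
    obtain ⟨k, m, hm, hkm⟩ := Nat.exists_eq_two_pow_mul_odd hord
    refine ⟨k, ?_⟩
    apply Subtype.ext
    show (π b) ^ (2 ^ k) = 1
    rw [← map_pow]
    have hb' : b ^ (2 ^ k) ∈ fixer P := Subgroup.pow_mem _ hb _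
    have hord' : orderOf (b ^ (2 ^ k)) = m := by
      rw [orderOf_pow_of_dvd (by positivity) (hkm ▸ Dvd.intro _ rfl), hkm,
        Nat.mul_div_cancel_left _ (by positivity)]
    have hinn := mem_inn_of_mem_fixer_of_odd hΩ G h2 P hb' (hord' ▸ hm)
    rw [hπ, QuotientGroup.mk'_apply, QuotientGroup.eq_one_iff]
    exact hinn
  have : Fact (Nat.Prime 2) := ⟨Nat.prime_two⟩
  have hLnil : Group.IsNilpotent L := hL2.isNilpotent
  have hLsol : Group.IsSolvable L := inferInstance
  refine Group.isSolvable_of_ker_le_range L.subtype (Abelianization.of (G := Cfsg.Out G)) ?_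
  rw [Abelianization.ker_of, Subgroup.range_subtype]
  exact hcomm

end Perm

end Cfsg.Agent.Lib.Helper71.OutPrimeDegree
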