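import Mathlib

/-!
* A `p`-subgroup of `Perm α` with `card α < p ^ 2` is commutative.
* Elements of order `r * s` in alternating groups of degree at least `r ^ 2`.
-/

set_option autoImplicit false

namespace Cfsg.Agent.Helper71.PermPGroup

open Equiv Equiv.Perm
open scoped commutatorElement

/-- In a finite `r`-group, a subgroup of index dividing... at most `r` contains the commutator
subgroup. -/
theorem commutator_le_of_index_lt {P : Type*} [Group P] [Finite P] {r : ℕ} [hr : Fact r.Prime]
    (hP : IsPGroup r P) (S : Subgroup P) (hS : S.index < r ^ 2) :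
    _root_.commutator P ≤ S := by
  obtain ⟨k, hk⟩ := IsPGroup.iff_card.1 hP
  have hdvd : S.index ∣ r ^ k := hk ▸ S.index_dvd_card
  obtain ⟨j, hjk, hj⟩ := (Nat.dvd_prime_pow hr.1).1 hdvd
  have hj2 : j < 2 := by
    rw [hj] at hS
    exact (Nat.pow_lt_pow_iff_right hr.1.one_lt).1 hS
  interval_cases j
  · rw [pow_zero, Subgroup.index_eq_one] at hj
    rw [hj]; exact le_top
  · rw [pow_one] at hj
    have hk0 : k ≠ 0 := by
      rintro rfl
      rw [pow_zero] at hdvd
      have := Nat.le_of_dvd Nat.one_pos hdvd
      have := hr.1.two_le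
      omega
    have hnorm : S.Normal := by
      apply Subgroup.normal_of_index_eq_minFac_card
      rw [hk, Nat.pow_minFac hk0, hr.1.minFac_eq, hj]
    have hcard : Nat.card (P ⧸ S) = r := by rw [← Subgroup.index_eq_card, hj]
    have : IsCyclic (P ⧸ S) := isCyclic_of_prime_card hcard
    exact Subgroup.Normal.quotient_commutative_iff_commutator_le.1 inferInstance

/-- A `r`-subgroup of the symmetric group of degree less than `r ^ 2` is commutative. -/
theorem comm_of_pgroup_small {α : Type*} [DecidableEq α] [Fintype α] {r : ℕ} [hr : Fact r.Prime]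
    (P : Subgroup (Perm α)) (hP : IsPGroup r P) (hcard : Fintype.card α < r ^ 2)
    (x y : Perm α) (hx : x ∈ P) (hy : y ∈ P) : x * y = y * x := by
  have key : ∀ a : α, (⁅x, y⁆ : Perm α) a = a := by
    intro a
    have hidx : (MulAction.stabilizer P a).index < r ^ 2 := by
      rw [MulAction.index_stabilizer]
      refine lt_of_le_of_lt (Set.ncard_le_card _) ?_
      rwa [Nat.card_eq_fintype_card]
    have hle := commutator_le_of_index_lt hP (MulAction.stabilizer P a) hidx
    have hmem : ⁅(⟨x, hx⟩ : P), ⟨y, hy⟩⁆ ∈ _root_.commutator P :=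
      Subgroup.commutator_mem_commutator (Subgroup.mem_top _) (Subgroup.mem_top _)
    have := hle hmem
    rw [MulAction.mem_stabilizer_iff] at this
    exact this
  have h1 : (⁅x, y⁆ : Perm α) = 1 := Perm.ext key
  rw [commutatorElement_def] at h1
  have h2 : x * y = (x * y * x⁻¹ * y⁻¹) * (y * x) := by group
  rw [h2, h1, one_mul]

/-- Existence of elements of order `r * s` in `A_n`, `n ≥ r ^ 2`, `s < r` primes. -/
theorem exists_orderOf_mul (n r s : ℕ) (hr : r.Prime) (hs : s.Prime) (hsr : s < r)
    (hn : r ^ 2 ≤ n) : ∃ g : alternatingGroup (Fin n), orderOf g = r * s := by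
  have hr3 : 3 ≤ r := by have := hs.two_le; omega
  have hrodd : Odd r := hr.odd_of_ne_two (by omega)
  have hr2 : 3 * r ≤ r ^ 2 := by nlinarith
  rcases hs.eq_two_or_odd' with rfl | hsodd
  · -- cycle type {r, 2, 2}
    obtain ⟨g, hg⟩ := (Equiv.Perm.exists_with_cycleType_iff (Fin n) (m := {r, 2, 2})).2 (by
      constructor
      · simp only [Multiset.insert_eq_cons, Multiset.sum_cons, Multiset.sum_singleton,
          Fintype.card_fin]
        omega
      · intro a ha
        simp only [Multiset.insert_eq_cons, Multiset.mem_cons, Multiset.mem_singleton] at ha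
        rcases ha with rfl | rfl | rfl <;> omega)
    have hsign : Perm.sign g = 1 := by
      rw [Equiv.Perm.sign_of_cycleType, hg]
      have h7 : (({r, 2, 2} : Multiset ℕ)).sum + Multiset.card ({r, 2, 2} : Multiset ℕ)
          = r + 7 := by
        simp only [Multiset.insert_eq_cons, Multiset.sum_cons, Multiset.sum_singleton,
          Multiset.card_cons, Multiset.card_singleton]
      rw [h7]
      exact Even.neg_one_pow (by obtain ⟨t, ht⟩ := hrodd; exact ⟨t + 4, by omega⟩)
    refine ⟨⟨g, mem_alternatingGroup.2 hsign⟩, ?_⟩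
    rw [Subgroup.orderOf_mk, ← Equiv.Perm.lcm_cycleType, hg]
    simp only [Multiset.insert_eq_cons, Multiset.lcm_cons, Multiset.lcm_singleton, normalize_eq]
    have hcop : Nat.Coprime r 2 := (Nat.coprime_primes hr Nat.prime_two).2 (by omega)
    rw [lcm_eq_nat_lcm, lcm_eq_nat_lcm]
    simpa using hcop.lcm_eq_mul
  · -- cycle type {r, s}
    obtain ⟨g, hg⟩ := (Equiv.Perm.exists_with_cycleType_iff (Fin n) (m := {r, s})).2 (by
      constructor
      · simp only [Multiset.insert_eq_cons, Multiset.sum_cons, Multiset.sum_singleton,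
          Fintype.card_fin]
        omega
      · intro a ha
        simp only [Multiset.insert_eq_cons, Multiset.mem_cons, Multiset.mem_singleton] at ha
        have := hs.two_le
        rcases ha with rfl | rfl <;> omega)
    have hsign : Perm.sign g = 1 := by
      rw [Equiv.Perm.sign_of_cycleType, hg]
      have h7 : (({r, s} : Multiset ℕ)).sum + Multiset.card ({r, s} : Multiset ℕ)
          = r + s + 2 := by
        simp only [Multiset.insert_eq_cons, Multiset.sum_cons, Multiset.sum_singleton,
          Multiset.card_cons, Multiset.card_singleton]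
      rw [h7]
      exact Even.neg_one_pow (by
        obtain ⟨t, ht⟩ := hrodd
        obtain ⟨u, hu⟩ := hsodd
        exact ⟨t + u + 2, by omega⟩)
    refine ⟨⟨g, mem_alternatingGroup.2 hsign⟩, ?_⟩
    rw [Subgroup.orderOf_mk, ← Equiv.Perm.lcm_cycleType, hg]
    simp only [Multiset.insert_eq_cons, Multiset.lcm_cons, Multiset.lcm_singleton, normalize_eq]
    have hcop : Nat.Coprime r s := (Nat.coprime_primes hr hs).2 (by omega)
    rw [lcm_eq_nat_lcm]
    exact hcop.lcm_eq_mul

end Cfsg.Agent.Helper71.PermPGroup
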