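import Mathlib

set_option autoImplicit false

namespace Cfsg.Agent.Helper71

open QuaternionGroup

variable {Γ : Type*} [Group Γ]

/-- the homomorphism `ZMod (2n) →+ Additive Γ` sending `1` to `I`, when `I ^ (2n) = 1` -/
noncomputable def zpowHom (n : ℕ) (I : Γ) (h1 : I ^ (2 * n) = 1) : ZMod (2 * n) →+ Additive Γ :=
  ZMod.lift (2 * n) ⟨zmultiplesHom (Additive Γ) (Additive.ofMul I), by
    simp only [zmultiplesHom_apply]
    rw [natCast_zsmul]
    show Additive.ofMul (I ^ (2 * n)) = 0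
    rw [h1]; rfl⟩

theorem zpowHom_intCast (n : ℕ) (I : Γ) (h1 : I ^ (2 * n) = 1) (z : ℤ) :
    (zpowHom n I h1 (z : ZMod (2 * n))).toMul = I ^ z := by
  unfold zpowHom
  rw [ZMod.lift_coe]
  simp only [zmultiplesHom_apply]
  rfl

theorem zpowHom_natCast (n : ℕ) (I : Γ) (h1 : I ^ (2 * n) = 1) (k : ℕ) :
    (zpowHom n I h1 (k : ZMod (2 * n))).toMul = I ^ k := by
  have := zpowHom_intCast n I h1 (k : ℤ)
  simpa using this

theorem zpowHom_one (n : ℕ) (I : Γ) (h1 : I ^ (2 * n) = 1) :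
    (zpowHom n I h1 1).toMul = I := by
  have := zpowHom_natCast n I h1 1
  simpa using this

/-- conjugating by `J⁻¹` inverts the image of `zpowHom` -/
theorem zpowHom_conj (n : ℕ) (I J : Γ) (h1 : I ^ (2 * n) = 1) (h3 : J * I * J⁻¹ = I⁻¹)
    (k : ZMod (2 * n)) :
    (zpowHom n I h1 k).toMul * J = J * (zpowHom n I h1 (-k)).toMul := by
  obtain ⟨z, rfl⟩ := ZMod.intCast_surjective k
  rw [← Int.cast_neg, zpowHom_intCast, zpowHom_intCast]
  have h4 : J⁻¹ * I * J = I⁻¹ := by
    have : I = J⁻¹ * I⁻¹ * J := by rw [← h3]; group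
    calc J⁻¹ * I * J = (J⁻¹ * I⁻¹ * J)⁻¹ := by group
      _ = I⁻¹ := by rw [← this]
  have h5 : J⁻¹ * I ^ z * J = I ^ (-z) := by
    have := (MulAut.conj J⁻¹).toMonoidHom.map_zpow I z
    simp only [MulEquiv.toMonoidHom_eq_coe, MonoidHom.coe_coe, MulAut.conj_apply, inv_inv] at this
    rw [this, h4, inv_zpow, zpow_neg]
  rw [← h5]; group

/-- **Universal property of the dicyclic group.** -/
noncomputable def quaternionHom (n : ℕ) (I J : Γ) (h1 : I ^ (2 * n) = 1) (h2 : J ^ 2 = I ^ n)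
    (h3 : J * I * J⁻¹ = I⁻¹) : QuaternionGroup n →* Γ where
  toFun g := match g with
    | a k => (zpowHom n I h1 k).toMul
    | xa k => J * (zpowHom n I h1 k).toMul
  map_one' := by
    show (zpowHom n I h1 0).toMul = 1
    rw [map_zero]; rfl
  map_mul' := by
    have hn : (zpowHom n I h1 (n : ZMod (2 * n))).toMul = J * J := by
      rw [zpowHom_natCast, ← h2, pow_two]
    rintro (k | k) (l | l)
    · show (zpowHom n I h1 (k + l)).toMul = _
      rw [(zpowHom n I h1).map_add]; rfl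
    · show J * (zpowHom n I h1 (l - k)).toMul = (zpowHom n I h1 k).toMul * (J * _)
      rw [← mul_assoc, zpowHom_conj n I J h1 h3 k, mul_assoc, sub_eq_add_neg, add_comm,
        (zpowHom n I h1).map_add]
      rfl
    · show J * (zpowHom n I h1 (k + l)).toMul = J * _ * _
      rw [(zpowHom n I h1).map_add, mul_assoc]; rfl
    · show (zpowHom n I h1 ((n : ZMod (2 * n)) + l - k)).toMul = J * _ * (J * _)
      have e : (n : ZMod (2 * n)) + l - k = (n : ZMod (2 * n)) + (-k + l) := by ring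
      rw [e, (zpowHom n I h1).map_add, (zpowHom n I h1).map_add]
      show (zpowHom n I h1 (n : ZMod (2 * n))).toMul *
        ((zpowHom n I h1 (-k)).toMul * (zpowHom n I h1 l).toMul) = _
      rw [hn]
      have := zpowHom_conj n I J h1 h3 k
      calc J * J * ((zpowHom n I h1 (-k)).toMul * (zpowHom n I h1 l).toMul)
          = J * (J * (zpowHom n I h1 (-k)).toMul) * (zpowHom n I h1 l).toMul := by group
        _ = J * ((zpowHom n I h1 k).toMul * J) * (zpowHom n I h1 l).toMul := by rw [this]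
        _ = J * (zpowHom n I h1 k).toMul * (J * (zpowHom n I h1 l).toMul) := by group

theorem quaternionHom_a (n : ℕ) (I J : Γ) (h1 : I ^ (2 * n) = 1) (h2 : J ^ 2 = I ^ n)
    (h3 : J * I * J⁻¹ = I⁻¹) (k : ℕ) :
    quaternionHom n I J h1 h2 h3 (a (k : ZMod (2 * n))) = I ^ k :=
  zpowHom_natCast n I h1 k

theorem quaternionHom_a_one (n : ℕ) (I J : Γ) (h1 : I ^ (2 * n) = 1) (h2 : J ^ 2 = I ^ n)
    (h3 : J * I * J⁻¹ = I⁻¹) : quaternionHom n I J h1 h2 h3 (a 1) = I :=
  zpowHom_one n I h1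

theorem quaternionHom_xa_zero (n : ℕ) (I J : Γ) (h1 : I ^ (2 * n) = 1) (h2 : J ^ 2 = I ^ n)
    (h3 : J * I * J⁻¹ = I⁻¹) : quaternionHom n I J h1 h2 h3 (xa 0) = J := by
  show J * (zpowHom n I h1 0).toMul = J
  rw [map_zero]
  exact mul_one J

end Cfsg.Agent.Helper71
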