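import Mathlib
import Cfsg.Prelude.Def_RootSubgroups
import Cfsg.Agent.Lib.Helper83.Conj
import Cfsg.Agent.Lib.Helper83.CommMod
import Cfsg.Agent.Lib.Helper83.RankOne
import Cfsg.Agent.Lib.Helper83.RankOneNormal
import Cfsg.Agent.Lib.Helper83.RootBasic
import Cfsg.Agent.Lib.Helper83.RootLemmas
import Cfsg.Agent.Lib.Helper83.Root30
import Cfsg.Agent.Lib.Helper83.R2N1
import Cfsg.Agent.Lib.Helper83.R2E
import Cfsg.Agent.Lib.Helper83.R2G
import Cfsg.Agent.Lib.Helper83.R3Defs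
import Cfsg.Agent.Lib.Helper94.RootComm
import Cfsg.Agent.Lib.Helper94.RootMap
import Cfsg.Agent.S5029

/-!
# R3 lemma server (helper83, S5033): pieces (CJ) `conj_of_connected` and (PT) `partner_of_connected`
-/

set_option autoImplicit false

namespace Cfsg.Agent.Helper71.R3

open Cfsg Cfsg.Agent.Helper83 Cfsg.Agent.Helper83.R2 Cfsg.Agent.Helper83.R3 Cfsg.Agent.Helper94
open scoped commutatorElement

variable {G : Type*} [Group G] {S : Set (Subgroup G)} {N : Subgroup G}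

/-- (CJ) All members of `S` are conjugate. -/
theorem conj_of_connected (h1 : IsConnectedFamily (FAdj S) S)
    (h4 : ∀ A ∈ S, ∀ B ∈ rankOnePartners S A, IsSpecialRankOnePair A B) :
    ∀ A ∈ S, ∀ B ∈ S, ∃ g : G, B = conjBy A g := by
  intro A hA B hB
  have h := h1 A hA B hB
  clear hB
  induction h with
  | refl => exact ⟨1, (conjBy_one A).symm⟩
  | @tail C B' _ hCB ih =>
    obtain ⟨hC, hB', hr⟩ := hCB
    obtain ⟨g, hg⟩ := ih
    have hs := h4 C hC B' ⟨hB', hr⟩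
    obtain ⟨c, hc, hc1⟩ := exists_mem_ne_one_of_ne_bot (rankOne_ne_bot_left hr)
    have h2 := (nEl_conj hs hc hc1).1
    refine ⟨nEl C B' c * g, ?_⟩
    rw [← conjBy_conjBy, ← hg, h2]

/-- (PT) Every member has a rank one partner. -/
theorem partner_of_connected (h2 : ∃ A ∈ S, ∃ B ∈ S, A ≠ B)
    (h1 : IsConnectedFamily (FAdj S) S) : ∀ A ∈ S, ∃ B ∈ S, IsRankOnePair A B := by
  intro A hA
  obtain ⟨A₀, hA₀, B₀, hB₀, hne⟩ := h2
  have hex : ∃ B ∈ S, A ≠ B := by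
    by_cases h : A = A₀
    · exact ⟨B₀, hB₀, h ▸ hne⟩
    · exact ⟨A₀, hA₀, h⟩
  obtain ⟨B, hB, hAB⟩ := hex
  have h := h1 A hA B hB
  rcases Relation.ReflTransGen.cases_head h with heq | ⟨C, hAC, _⟩
  · exact absurd heq hAB
  · exact ⟨C, hAC.2.1, hAC.2.2⟩

end Cfsg.Agent.Helper71.R3
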