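import Mathlib
import Cfsg.Prelude.Def_RootSubgroups
import Cfsg.Agent.Lib.Helper83.Conj
import Cfsg.Agent.Lib.Helper83.CommMod
import Cfsg.Agent.Lib.Helper83.RankOne
import Cfsg.Agent.Lib.Helper83.RankOneNormal
import Cfsg.Agent.Lib.Helper83.RootBasic
import Cfsg.Agent.Lib.Helper83.RootLemmas
import Cfsg.Agent.Lib.Helper83.Root30
import Cfsg.Agent.Lib.Helper83.R2N1
import Cfsg.Agent.Lib.Helper83.R2E
import Cfsg.Agent.Lib.Helper83.R2G
import Cfsg.Agent.Lib.Helper83.R3Defs
import Cfsg.Agent.Lib.Helper94.RootComm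
import Cfsg.Agent.Lib.Helper94.RootMap
import Cfsg.Agent.S5029

/-!
# R3 lemma server (helper83, S5033): pieces (PF) `perfect` and (FP) `le_comm_diag`
-/

set_option autoImplicit false

namespace Cfsg.Agent.Helper71.R3

open Cfsg Cfsg.Agent.Helper83 Cfsg.Agent.Helper83.R2 Cfsg.Agent.Helper83.R3 Cfsg.Agent.Helper94
open scoped commutatorElement

variable {G : Type*} [Group G] {S : Set (Subgroup G)} {N : Subgroup G}

/-- (FP) `A ≤ [A, H]` for a special rank one PAIR (any ambient group) with abelian unipotents, `|A| > 3`. -/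
theorem le_comm_diag {A B : Subgroup G} (hs : IsSpecialRankOnePair A B)
    (hab : HasAbelianUnipotents A B) (hcard : 3 < ENat.card A) :
    A ≤ ⁅A, rankOneDiagonal A B⁆ := by
  classical
  have hE : ∀ a ∈ A, a ≠ 1 → ∀ d ∈ A, d ≠ 1 → a ≠ d → a * d ∈ ⁅A, rankOneDiagonal A B⁆ :=
    fun a ha ha1 d hd hd1 had => mul_mem_comm hs hab ha ha1 hd hd1 had
  have hcomm : ∀ a ∈ A, ∀ d ∈ A, a * d = d * a := by
    intro a ha d hd
    have h := hab.1.is_comm.comm (⟨a, ha⟩ : ↥A) ⟨d, hd⟩
    exact congrArg Subtype.val h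
  -- counting: `A` is not inside a set of at most three elements
  have hcount : ∀ T : Finset G, T.card ≤ 3 → ∃ a ∈ A, a ∉ T := by
    intro T hT
    by_contra hcon
    push Not at hcon
    have hsub : (A : Set G) ⊆ (↑T : Set G) := fun a ha => hcon a ha
    have h1 : (A : Set G).encard ≤ (↑T : Set G).encard := Set.encard_le_encard hsub
    rw [Set.encard_coe_eq_coe_finsetCard] at h1
    have h2 : ((T.card : ℕ) : ℕ∞) ≤ 3 := by exact_mod_cast hT
    have h3 : ENat.card A ≤ 3 := le_trans h1 h2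
    exact absurd hcard (not_lt.2 h3)
  -- squares
  have hsq : ∀ u ∈ A, u ≠ 1 → u * u ∈ ⁅A, rankOneDiagonal A B⁆ := by
    intro u hu hu1
    obtain ⟨v, hv, hvT⟩ := hcount {1, u} (Finset.card_le_two.trans (by norm_num))
    obtain ⟨w, hw, hwT⟩ := hcount {1, u, v} Finset.card_le_three
    simp only [Finset.mem_insert, Finset.mem_singleton, not_or] at hvT hwT
    obtain ⟨hv1, hvu⟩ := hvT
    obtain ⟨hw1, hwu, hwv⟩ := hwT
    have h1 := hE u hu hu1 v hv hv1 (Ne.symm hvu)
    have h2 := hE u hu hu1 w hw hw1 (Ne.symm hwu)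
    have h3 := hE v hv hv1 w hw hw1 (Ne.symm hwv)
    have hvu' : v * u = u * v := hcomm v hv u hu
    have heq : u * u = (u * v) * (u * w) * (v * w)⁻¹ := by
      symm
      calc (u * v) * (u * w) * (v * w)⁻¹ = u * (v * u) * v⁻¹ := by group
        _ = u * (u * v) * v⁻¹ := by rw [hvu']
        _ = u * u := by group
    rw [heq]
    exact Subgroup.mul_mem _ (Subgroup.mul_mem _ h1 h2) (Subgroup.inv_mem _ h3)
  intro x hx
  by_cases hx1 : x = 1
  · rw [hx1]; exact Subgroup.one_mem _
  obtain ⟨a, ha, haT⟩ := hcount {1, x} (Finset.card_le_two.trans (by norm_num))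
  simp only [Finset.mem_insert, Finset.mem_singleton, not_or] at haT
  obtain ⟨ha1, hax⟩ := haT
  have hdA : a⁻¹ * x ∈ A := A.mul_mem (A.inv_mem ha) hx
  have hd1 : a⁻¹ * x ≠ 1 := by
    intro e
    apply hax
    exact (inv_mul_eq_one.1 e)
  by_cases had : a = a⁻¹ * x
  · have hxa : x = a * a := by
      calc x = a * (a⁻¹ * x) := by group
        _ = a * a := by rw [← had]
    rw [hxa]
    exact hsq a ha ha1
  · have := hE a ha ha1 (a⁻¹ * x) hdA hd1 had
    rwa [mul_inv_cancel_left] at this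

/-- (PF) `G` is perfect. -/
theorem perfect (c : RootCtx S) (hFP : BigInComm S) : commutator G = ⊤ := by
  have hcG : ∀ H K : Subgroup G, ⁅H, K⁆ ≤ commutator G := by
    intro H K
    rw [commutator_def]
    exact Subgroup.commutator_mono le_top le_top
  have key : ∀ A ∈ S, A ≤ commutator G := by
    by_cases hdeg : IsDegenerateRootSet S
    · intro A hA
      obtain ⟨B, hB, hr⟩ := c.partner A hA
      exact (hFP A hA B hB hr (c.big hdeg A hA)).trans (hcG _ _)
    · unfold IsDegenerateRootSet at hdeg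
      push Not at hdeg
      obtain ⟨A, hA, B, hB, hcase⟩ := hdeg
      have hD : ⁅A, B⁆ ∈ S := hcase.1
      intro E hE
      obtain ⟨g, hg⟩ := c.conj _ hD E hE
      rw [hg]
      calc conjBy ⁅A, B⁆ g ≤ conjBy (commutator G) g := conjBy_mono (hcG A B) g
        _ = commutator G := conjBy_normal _ g
  rw [eq_top_iff, ← c.hS.generates]
  exact iSup₂_le key

end Cfsg.Agent.Helper71.R3
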