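import Mathlib
import Cfsg.Prelude.Def_LieExceptional

/-!
# REE lemma server (helper36; S1091 / S1069 / S1073): piece (BN) `bnpair_rank_one`
-/

set_option autoImplicit false

namespace Cfsg.Agent.Helper71.REE

open Cfsg

universe u

/-- the (B,N)-pair of rank one, in the whole group -/
theorem h71_bn_core {G : Type u} [Group G] (B N : Subgroup G) (n0 : G) (hn0N : n0 ∈ N)
    (hHnorm : ∀ n ∈ N, ∀ h ∈ B ⊓ N, n * h * n⁻¹ ∈ B ⊓ N) (hn0H : n0 ∉ B ⊓ N)
    (hN : ∀ n ∈ N, n ∈ B ⊓ N ∨ n0 * n ∈ B ⊓ N)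
    (hG : ∀ g : G, g ∈ B ∨ ∃ b ∈ B, ∃ b' ∈ B, g = b * n0 * b')
    (hne : ∃ b ∈ B, n0 * b * n0 ∉ B) :
    ∃ P : Cfsg.BNPair G, P.B = B ∧ P.N = N ∧ P.S = {n0} := by
  have hh2 : n0 * n0 ∈ B ⊓ N := by
    rcases hN n0 hn0N with h | h
    · exact absurd h hn0H
    · exact h
  refine ⟨
    { B := B
      N := N
      S := {n0}
      sup_eq_top := ?_
      conj_mem := ?_
      subset := ?_
      sq_mem := ?_
      inj := ?_
      closure_sup := ?_
      mul_mem_union := ?_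
      conj_ne := ?_ }, rfl, rfl, rfl⟩
  · rw [eq_top_iff]
    intro g _
    rcases hG g with h | ⟨b, hb, b', hb', rfl⟩
    · exact Subgroup.mem_sup_left h
    · exact Subgroup.mul_mem _ (Subgroup.mul_mem _ (Subgroup.mem_sup_left hb)
        (Subgroup.mem_sup_right hn0N)) (Subgroup.mem_sup_left hb')
  · intro n hn t ht
    exact (Subgroup.mem_inf.1 (hHnorm n hn t ht)).1
  · intro s hs
    rw [Set.mem_singleton_iff] at hs
    rw [hs]
    exact hn0N
  · intro s hs
    rw [Set.mem_singleton_iff] at hs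
    rw [hs]
    exact (Subgroup.mem_inf.1 hh2).1
  · intro s hs s' hs' _
    rw [Set.mem_singleton_iff] at hs hs'
    rw [hs, hs']
  · apply le_antisymm
    · refine sup_le ?_ inf_le_right
      rw [Subgroup.closure_le]
      intro s hs
      rw [Set.mem_singleton_iff] at hs
      rw [hs]
      exact hn0N
    · intro n hn
      rcases hN n hn with h | h
      · exact Subgroup.mem_sup_right h
      · have : n = n0⁻¹ * (n0 * n) := by group
        rw [this]
        exact Subgroup.mul_mem _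
          (Subgroup.mem_sup_left (Subgroup.inv_mem _ (Subgroup.subset_closure rfl)))
          (Subgroup.mem_sup_right h)
  · intro s hs n hn b hb
    rw [Set.mem_singleton_iff] at hs
    subst hs
    rcases hN n hn with h | h
    · left
      rw [DoubleCoset.mem_doubleCoset]
      have hnB : n ∈ B := (Subgroup.mem_inf.1 h).1
      refine ⟨1, B.one_mem, n⁻¹ * b * n, B.mul_mem (B.mul_mem (B.inv_mem hnB) hb) hnB, ?_⟩
      group
    · have hhB : s * n ∈ B := (Subgroup.mem_inf.1 h).1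
      have hh2B : s * s ∈ B := (Subgroup.mem_inf.1 hh2).1
      rcases hG (s * b * n) with hx | ⟨b1, hb1, b2, hb2, hx⟩
      · left
        rw [DoubleCoset.mem_doubleCoset]
        refine ⟨s * b * n * (s * n)⁻¹, B.mul_mem hx (B.inv_mem hhB), 1, B.one_mem, ?_⟩
        group
      · right
        rw [DoubleCoset.mem_doubleCoset]
        refine ⟨b1, hb1, (s * n)⁻¹ * (s * s) * b2,
          B.mul_mem (B.mul_mem (B.inv_mem hhB) hh2B) hb2, ?_⟩
        rw [hx]
        group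
  · intro s hs
    rw [Set.mem_singleton_iff] at hs
    subst hs
    obtain ⟨b, hb, hnb⟩ := hne
    intro heq
    apply hnb
    have : s * b * s ∈ (fun b : G => s * b * s) '' (B : Set G) := ⟨b, hb, rfl⟩
    rw [heq] at this
    exact this

/-- (BN) [M-L, LONG POLE] imports Mathlib + Cfsg.Prelude.Def_LieExceptional (structure Cfsg.BNPair: fields B N S sup_eq_top
conj_mem subset sq_mem inj closure_sup mul_mem_union conj_ne).  Here B N H are subgroups of M contained in T. -/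
theorem bnpair_rank_one {M : Type u} [Group M] (T B N H : Subgroup M) (hBT : B ≤ T) (hNT : N ≤ T)
    (n0 : M) (hn0N : n0 ∈ N)
    (hBN : B ⊓ N = H) (hHnorm : ∀ n ∈ N, ∀ h ∈ H, n * h * n⁻¹ ∈ H) (hn0H : n0 ∉ H)
    (hN : ∀ n ∈ N, n ∈ H ∨ n0 * n ∈ H)
    (hG : ∀ g ∈ T, g ∈ B ∨ ∃ b ∈ B, ∃ b' ∈ B, g = b * n0 * b')
    (hne : ∃ b ∈ B, n0 * b * n0 ∉ B) :
    ∃ P : Cfsg.BNPair ↥T, P.B = B.subgroupOf T ∧ P.N = N.subgroupOf T ∧
      P.S = {(⟨n0, hNT hn0N⟩ : ↥T)} := by
  subst hBN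
  have hmem : ∀ x : ↥T, x ∈ B.subgroupOf T ⊓ N.subgroupOf T ↔ (x : M) ∈ B ⊓ N := by
    intro x
    rw [Subgroup.mem_inf, Subgroup.mem_inf, Subgroup.mem_subgroupOf, Subgroup.mem_subgroupOf]
  apply h71_bn_core (B.subgroupOf T) (N.subgroupOf T) (⟨n0, hNT hn0N⟩ : ↥T)
  · exact Subgroup.mem_subgroupOf.2 hn0N
  · intro n hn h hh
    rw [hmem] at hh ⊢
    exact hHnorm (n : M) (Subgroup.mem_subgroupOf.1 hn) (h : M) hh
  · intro h
    rw [hmem] at h
    exact hn0H h
  · intro n hn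
    rw [hmem, hmem]
    exact hN (n : M) (Subgroup.mem_subgroupOf.1 hn)
  · intro g
    rcases hG (g : M) g.2 with h | ⟨b, hb, b', hb', hg⟩
    · left
      exact Subgroup.mem_subgroupOf.2 h
    · right
      refine ⟨⟨b, hBT hb⟩, Subgroup.mem_subgroupOf.2 hb, ⟨b', hBT hb'⟩,
        Subgroup.mem_subgroupOf.2 hb', ?_⟩
      apply Subtype.ext
      exact hg
  · obtain ⟨b, hb, hnb⟩ := hne
    refine ⟨⟨b, hBT hb⟩, Subgroup.mem_subgroupOf.2 hb, ?_⟩
    intro h
    exact hnb (Subgroup.mem_subgroupOf.1 h)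

end Cfsg.Agent.Helper71.REE
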