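import Mathlib
import Cfsg.Agent.Lib.Helper98.RT0
import Cfsg.Agent.Lib.Helper72.F4
import Cfsg.Agent.Lib.Helper5.SL

/-!
# RT (S4): `SL_3(F)`, `|F| = 4`, is generated by two conjugate regular unipotent elements

Model: helper72's computable field `F4`; `u = J`, `g = !![0,0,1;0,1,0;1,ω,0]`, `v = g u g⁻¹`; the 18 elementary
transvections are explicit words in `u, v` (helper98's table), checked by the kernel; transport along a ring
isomorphism `F4 ≃+* F`.
-/

set_option autoImplicit false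

namespace Cfsg.Agent.Helper71.RT

open Matrix Cfsg.Agent.Helper93.RU Cfsg.Agent.Helper98.RT

/-- the model field -/
abbrev K4 : Type := Cfsg.Agent.Helper72.F4

/-- the element of the model with code `d` (`0, 1, 2, 3` for `0, 1, ω, ω + 1`) -/
def kc (d : ℕ) : K4 := Cfsg.Agent.Helper72.F4.ofCode d

/-- `3 × 3` matrices over the model, indexed as in the RU project -/
abbrev M3 : Type := Matrix (Fin (0 + 3)) (Fin (0 + 3)) K4

/-- `u = J` -/
def uM : M3 := !![1, 1, 0; 0, 1, 1; 0, 0, 1]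
/-- `u⁻¹` -/
def uiM : M3 := !![1, 1, 1; 0, 1, 1; 0, 0, 1]
/-- `v = g u g⁻¹` -/
def vM : M3 := !![1, 0, 0; 1, 1, 0; kc 2, 1, 1]
/-- `v⁻¹` -/
def viM : M3 := !![1, 0, 0; 1, 1, 0; kc 3, 1, 1]
/-- `g` -/
def gM : M3 := !![0, 0, 1; 0, 1, 0; 1, kc 2, 0]

/-- the letters `0, 1, 2, 3 = u, v, u⁻¹, v⁻¹` as matrices -/
def letM : ℕ → M3
  | 0 => uM
  | 1 => vM
  | 2 => uiM
  | _ => viM

/-- the value of a word (as a matrix) -/
def evalM (l : List ℕ) : M3 := (l.map letM).prod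

/-- helper98's words: entry `(3 i + j) * 4 + d` is a word for `x_ij(kc d)` -/
def wordL : List (List ℕ) := [
  [],
  [],
  [],
  [],
  [],
  [0, 1, 2, 3, 2, 1, 1, 2, 1, 2, 1, 2, 1, 1],
  [1, 0, 1, 0, 3, 0, 1, 1, 0, 1, 0, 0, 1],
  [1, 0, 0, 1, 2, 1, 1, 2, 3, 2, 1, 2, 1],
  [],
  [0, 0],
  [0, 1, 1, 0, 0, 3, 0, 0, 1, 1],
  [0, 1, 1, 0, 0, 1, 0, 0, 1, 1],
  [],
  [0, 1, 1, 2, 1, 1, 0, 1, 1, 2],
  [0, 1, 0, 0, 3, 2, 1, 1, 0, 1, 0, 0, 3, 2],
  [0, 3, 0, 0, 1, 2, 1, 1, 0, 3, 0, 0, 1, 2],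
  [],
  [],
  [],
  [],
  [],
  [2, 1, 0, 3, 0, 1, 1, 0, 1, 0, 1, 0, 1, 1],
  [1, 0, 0, 1, 0, 1, 1, 0, 3, 0, 1, 0, 1],
  [1, 2, 1, 2, 3, 2, 1, 1, 2, 1, 0, 0, 1],
  [],
  [1, 1],
  [0, 0, 1, 1, 0, 1, 1, 0, 0, 3],
  [0, 0, 1, 1, 0, 1, 1, 0, 0, 1],
  [],
  [2, 1, 1, 0, 1, 1, 2, 1, 1, 0],
  [0, 1, 1, 0, 3, 0, 3, 0, 1, 1, 0, 3, 0, 3],
  [0, 1, 1, 0, 1, 0, 1, 0, 1, 1, 0, 1, 0, 1],
  [],
  [],
  [],
  []]

/-- the word for `x_ij(kc d)` -/
def wordTab (n : ℕ) : List ℕ := wordL.getD n []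

set_option maxRecDepth 100000 in
theorem words_ok : ∀ i j : Fin (0 + 3), i ≠ j → ∀ d : Fin 4,
    evalM (wordTab ((3 * i.val + j.val) * 4 + d.val)) = Matrix.transvection i j (kc d.val) := by
  decide +kernel

theorem kc_surj : ∀ c : K4, ∃ d : Fin 4, c = kc d.val := by decide +kernel

theorem det_uM : uM.det = 1 := (Matrix.det_fin_three uM).trans (by decide +kernel)
theorem det_uiM : uiM.det = 1 := (Matrix.det_fin_three uiM).trans (by decide +kernel)
theorem det_vM : vM.det = 1 := (Matrix.det_fin_three vM).trans (by decide +kernel)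
theorem det_viM : viM.det = 1 := (Matrix.det_fin_three viM).trans (by decide +kernel)
theorem det_gM : gM.det = 1 := (Matrix.det_fin_three gM).trans (by decide +kernel)

/-- `u` in `SL_3` -/
def uS : G3 K4 := ⟨uM, det_uM⟩
/-- `u⁻¹` in `SL_3` -/
def uiS : G3 K4 := ⟨uiM, det_uiM⟩
/-- `v` in `SL_3` -/
def vS : G3 K4 := ⟨vM, det_vM⟩
/-- `v⁻¹` in `SL_3` -/
def viS : G3 K4 := ⟨viM, det_viM⟩
/-- `g` in `SL_3` -/
def gS : G3 K4 := ⟨gM, det_gM⟩

theorem uM_mul_uiM : uM * uiM = 1 := by decide +kernel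
theorem vM_mul_viM : vM * viM = 1 := by decide +kernel
theorem vM_mul_gM : vM * gM = gM * uM := by decide +kernel

theorem uiS_eq : uiS = uS⁻¹ := by
  have h : uS * uiS = 1 := Subtype.ext uM_mul_uiM
  exact (inv_eq_of_mul_eq_one_right h).symm

theorem viS_eq : viS = vS⁻¹ := by
  have h : vS * viS = 1 := Subtype.ext vM_mul_viM
  exact (inv_eq_of_mul_eq_one_right h).symm

theorem vS_eq : vS = gS * uS * gS⁻¹ := by
  have h : vS * gS = gS * uS := Subtype.ext vM_mul_gM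
  exact eq_mul_inv_iff_mul_eq.2 h

/-- the letters in `SL_3` -/
def letS : ℕ → G3 K4
  | 0 => uS
  | 1 => vS
  | 2 => uiS
  | _ => viS

/-- the value of a word in `SL_3` -/
def evalS (l : List ℕ) : G3 K4 := (l.map letS).prod

theorem letS_val (n : ℕ) : (letS n).1 = letM n := by
  unfold letS letM
  split <;> rfl

theorem evalS_val (l : List ℕ) : (evalS l).1 = evalM l := by
  induction l with
  | nil => rfl
  | cons a l ih =>
    show (letS a * evalS l).1 = letM a * evalM l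
    rw [Matrix.SpecialLinearGroup.coe_mul, ih, letS_val]

theorem letS_mem (n : ℕ) : letS n ∈ Subgroup.closure ({uS, vS} : Set (G3 K4)) := by
  have hu : uS ∈ Subgroup.closure ({uS, vS} : Set (G3 K4)) :=
    Subgroup.subset_closure (Set.mem_insert _ _)
  have hv : vS ∈ Subgroup.closure ({uS, vS} : Set (G3 K4)) :=
    Subgroup.subset_closure (Set.mem_insert_of_mem _ rfl)
  unfold letS
  split
  · exact hu
  · exact hv
  · rw [uiS_eq]; exact Subgroup.inv_mem _ hu
  · rw [viS_eq]; exact Subgroup.inv_mem _ hv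

theorem evalS_mem (l : List ℕ) : evalS l ∈ Subgroup.closure ({uS, vS} : Set (G3 K4)) := by
  induction l with
  | nil => exact Subgroup.one_mem _
  | cons a l ih => exact Subgroup.mul_mem _ (letS_mem a) ih

theorem closure_model : Subgroup.closure ({uS, vS} : Set (G3 K4)) = ⊤ := by
  have : Nontrivial (Fin (0 + 3)) := ⟨⟨0, 1, by decide⟩⟩
  rw [Subgroup.eq_top_iff']
  intro A
  refine Cfsg.Agent.Helper5.transvection_induction
    (fun B => B ∈ Subgroup.closure ({uS, vS} : Set (G3 K4))) ?_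
    (fun A B hA hB => Subgroup.mul_mem _ hA hB) A
  intro i j hij c
  obtain ⟨d, rfl⟩ := kc_surj c
  have h : Matrix.SpecialLinearGroup.transvection hij (kc d.val) =
      evalS (wordTab ((3 * i.val + j.val) * 4 + d.val)) := by
    apply Subtype.ext
    rw [evalS_val, words_ok i j hij d]
    rfl
  rw [h]
  exact evalS_mem _

theorem uM_cube : (uM - 1) ^ 3 = 0 := by decide +kernel

theorem uM_sq_entry : ((uM - 1) ^ 2 : M3) 0 2 = 1 := by decide +kernel

variable {F : Type*} [Field F]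

theorem small_four [Fintype F] (h : Fintype.card F = 4) :
    ∃ u g : G3 F, IsNilpotent (u.1 - 1) ∧ (u.1 - 1) ^ (3 - 1) ≠ 0 ∧
      Subgroup.closure ({u, g * u * g⁻¹} : Set (G3 F)) = ⊤ := by
  have hcard : Fintype.card K4 = Fintype.card F := by
    rw [h]; exact Cfsg.Agent.Helper72.F4.card_F4
  let φ : K4 ≃+* F := FiniteField.ringEquivOfCardEq hcard
  let f : G3 K4 →* G3 F := Matrix.SpecialLinearGroup.map (φ : K4 →+* F)
  have hsurj : Function.Surjective f := by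
    intro B
    refine ⟨Matrix.SpecialLinearGroup.map (φ.symm : F →+* K4) B, ?_⟩
    apply Subtype.ext
    show ((Matrix.SpecialLinearGroup.map (φ : K4 →+* F))
      ((Matrix.SpecialLinearGroup.map (φ.symm : F →+* K4)) B)).1 = B.1
    rw [Matrix.SpecialLinearGroup.map_apply_coe, Matrix.SpecialLinearGroup.map_apply_coe]
    ext i j
    simp [RingHom.mapMatrix_apply]
  have hval : (f uS).1 - 1 = (φ : K4 →+* F).mapMatrix (uM - 1) := by
    show ((Matrix.SpecialLinearGroup.map (φ : K4 →+* F)) uS).1 - 1 = _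
    rw [Matrix.SpecialLinearGroup.map_apply_coe, map_sub, map_one]
    rfl
  refine ⟨f uS, f gS, ?_, ?_, ?_⟩
  · refine ⟨3, ?_⟩
    rw [hval, ← map_pow, uM_cube, map_zero]
  · rw [hval, ← map_pow]
    intro h0
    have h1 := congrFun (congrFun h0 0) 2
    rw [RingHom.mapMatrix_apply, Matrix.map_apply] at h1
    have h2 : ((uM - 1) ^ (3 - 1) : M3) 0 2 = 1 := uM_sq_entry
    rw [h2, map_one] at h1
    exact one_ne_zero h1
  · have h1 : Subgroup.map f (Subgroup.closure ({uS, vS} : Set (G3 K4))) = ⊤ := by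
      rw [closure_model, Subgroup.map_top_of_surjective f hsurj]
    rw [MonoidHom.map_closure, Set.image_pair, vS_eq, map_mul, map_mul, map_inv] at h1
    exact h1

end Cfsg.Agent.Helper71.RT
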