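import Mathlib
import Cfsg.Agent.Lib.Helper2.SR0
import Cfsg.Agent.Lib.Helper2.SRC0
import Cfsg.Agent.Lib.Helper71.SRT3
import Cfsg.Agent.Lib.Helper71.SRT4

/-!
# SR (C7, C8), hypothesis versions: `u` is regular unipotent and cyclic on `e_0^⊥`, given the value of `uEl`
and the triangular shape of `uM s - 1` for the level function `lvl`
-/

set_option autoImplicit false

namespace Cfsg.Agent.Helper71.SR

open Matrix Cfsg Cfsg.Agent.Helper13 Cfsg.Agent.Helper84.SpRoot Cfsg.Agent.Helper5.SpAut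
open Cfsg.Agent.Helper2.SR

section C
variable {F : Type*} [Field F] {m : ℕ}

theorem lvl_lt_one (b : Fin (m + 2) ⊕ Fin (m + 2)) (hb : lvl (m := m) b < 1) : b = Sum.inr 0 := by
  cases b with
  | inl i =>
    exfalso
    have hi := i.isLt
    have : lvl (m := m) (Sum.inl i) = 2 * (m + 2) - 1 - i.val := rfl
    omega
  | inr j =>
    have : lvl (m := m) (Sum.inr j) = j.val := rfl
    congr 1
    apply Fin.ext
    rw [Fin.val_zero]
    omega

theorem regular_of (s : F) (hval : (uEl (m := m) s).val = uM s)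
    (hlvl : Function.Injective (lvl (m := m)) ∧
      (∀ a, ∀ j < lvl (m := m) a, ∃ b, lvl (m := m) b = j) ∧
      (∀ a, lvl (m := m) a < 2 * (m + 2)))
    (hlow : ∀ a b, lvl (m := m) a ≤ lvl b → (uM (m := m) s - 1) a b = 0)
    (hsubd : ∀ a b, lvl (m := m) a = lvl b + 1 → (uM (m := m) s - 1) a b ≠ 0) :
    IsNilpotent ((uEl (m := m) s).val - 1) ∧
      ((uEl (m := m) s).val - 1) ^ (2 * (m + 2) - 1) ≠ 0 := by
  rw [hval]
  refine tri_regular (2 * (m + 2)) lvl hlvl.1 hlvl.2.1 hlvl.2.2 ⟨Sum.inl 0, ?_⟩ (uM s - 1) hlow hsubd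
  have : lvl (m := m) (Sum.inl 0) = 2 * (m + 2) - 1 - (0 : Fin (m + 2)).val := rfl
  rw [this, Fin.val_zero]
  omega

theorem cyclic_of (s : F) (hs : s ≠ 0) (hval : (uEl (m := m) s).val = uM s)
    (hlvl : Function.Injective (lvl (m := m)) ∧
      (∀ a, ∀ j < lvl (m := m) a, ∃ b, lvl (m := m) b = j) ∧
      (∀ a, lvl (m := m) a < 2 * (m + 2)))
    (hlow : ∀ a b, lvl (m := m) a ≤ lvl b → (uM (m := m) s - 1) a b = 0)
    (hsubd : ∀ a b, lvl (m := m) a = lvl b + 1 → (uM (m := m) s - 1) a b ≠ 0) :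
    ∀ S : Submodule F (Fin (m + 2) ⊕ Fin (m + 2) → F), pV s ∈ S →
      (∀ x ∈ S, (uEl (m := m) s).val *ᵥ x ∈ S) →
      ∀ x, Cfsg.sympForm (m + 2) F x (be 0) = 0 → x ∈ S := by
  intro S hp hinv x hx
  rw [(form_basis x 0).1] at hx
  refine tri_cyclic lvl hlvl.1 hlvl.2.1 (uM s - 1) hlow hsubd S (pV s) hp ?_ ?_ ?_ x ?_
  · intro b hb
    rw [lvl_lt_one b hb]
    simp [pV, be, bf]
  · refine ⟨Sum.inr 1, ?_, ?_⟩
    · show ((1 : Fin (m + 2)) : ℕ) = 1
      exact Fin.val_one m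
    · simp [pV, be, bf, hs]
  · intro y hy
    have h1 : (1 + (uM (m := m) s - 1)) = uM s := by abel
    rw [h1, ← hval]
    exact hinv y hy
  · intro b hb
    rw [lvl_lt_one b hb]
    exact hx

end C

end Cfsg.Agent.Helper71.SR
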