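import Mathlib
import Cfsg.Agent.Lib.Helper2.SR0
import Cfsg.Agent.Lib.Helper79.SRC2
import Cfsg.Agent.Lib.Helper86.SRC6
import Cfsg.Agent.Lib.Helper71.SRC78Core

/-!
# SR (C7): `uEl s` is a regular unipotent element (`s ≠ 0`)
-/

set_option autoImplicit false

namespace Cfsg.Agent.Helper71.SR

open Matrix Cfsg Cfsg.Agent.Helper13 Cfsg.Agent.Helper84.SpRoot Cfsg.Agent.Helper5.SpAut
open Cfsg.Agent.Helper2.SR

section C
variable {F : Type*} [Field F] {m : ℕ}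

/-- (C7) uses T4 C2 C6 -/
theorem regular {s : F} (hs : s ≠ 0) :
    IsNilpotent ((uEl (m := m) s).val - 1) ∧ ((uEl (m := m) s).val - 1) ^ (2 * (m + 2) - 1) ≠ 0 :=
  regular_of s (Cfsg.Agent.Helper79.SR.uEl_val s) Cfsg.Agent.Helper86.SR.lvl_props
    (Cfsg.Agent.Helper86.SR.uM_lower s) (Cfsg.Agent.Helper86.SR.uM_subdiag hs)

end C

end Cfsg.Agent.Helper71.SR
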