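import Mathlib
import Cfsg.Agent.Lib.Helper2.SR0
import Cfsg.Agent.Lib.Helper79.SRC2
import Cfsg.Agent.Lib.Helper86.SRC6
import Cfsg.Agent.Lib.Helper71.SRC78Core

/-!
# SR (C8): `uEl s` acts cyclically on `e_0^⊥` with cyclic vector `pV s` (`s ≠ 0`)
-/

set_option autoImplicit false

namespace Cfsg.Agent.Helper71.SR

open Matrix Cfsg Cfsg.Agent.Helper13 Cfsg.Agent.Helper84.SpRoot Cfsg.Agent.Helper5.SpAut
open Cfsg.Agent.Helper2.SR

section C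
variable {F : Type*} [Field F] {m : ℕ}

/-- (C8) uses T3 C2 C6 C0 -/
theorem cyclic {s : F} (hs : s ≠ 0) :
    ∀ S : Submodule F (Fin (m + 2) ⊕ Fin (m + 2) → F), pV s ∈ S →
      (∀ x ∈ S, (uEl (m := m) s).val *ᵥ x ∈ S) →
      ∀ x, Cfsg.sympForm (m + 2) F x (be 0) = 0 → x ∈ S :=
  cyclic_of s hs (Cfsg.Agent.Helper79.SR.uEl_val s) Cfsg.Agent.Helper86.SR.lvl_props
    (Cfsg.Agent.Helper86.SR.uM_lower s) (Cfsg.Agent.Helper86.SR.uM_subdiag hs)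

end C

end Cfsg.Agent.Helper71.SR
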