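import Mathlib
import Cfsg.Agent.Lib.Helper62.SUO0

/-!
# SUO server (helper62, S2282): piece (M2) `seed`

`eich (e1 + e0) 0 m * eich e1 0 (-m) = eich e0 (m • e1) m`; written by helper71.
-/

set_option autoImplicit false
set_option linter.unusedSectionVars false
set_option linter.unusedVariables false
set_option quotPrecheck false

namespace Cfsg.Agent.Helper71.SUO

open Matrix Cfsg Cfsg.Agent.Helper13 Cfsg.Agent.Helper87.PsuA Cfsg.Agent.Helper62.SUO

section M
variable {F : Type*} [Field F] [Fintype F] {q n : ℕ} (hF : Fintype.card F = q ^ 2)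
  {Hs : Subgroup ↥(Cfsg.SU n F q)} {u l : ↥(Cfsg.SU n F q)} {e0 e1 p : Fin n → F} {c γ : F}

local notation "V" => Fin n → F
local notation "G" => ↥(Cfsg.SU n F q)
local notation "H" => Cfsg.hermForm n F q

include hF

/-- (M2) `eich (e1 + e0) 0 m * eich e1 0 (-m) = eich e0 (m • e1) m` (actions, `m^q = -m`); A3 M0 -/
theorem seed (hyp : Hyp hF Hs u l e0 e1 p c γ) {m : F} (hm : m ∈ MM hF Hs e0) :
    m • e1 ∈ QQ hF Hs e0 := by
  obtain ⟨hm0, hmH⟩ := hm
  have h00 : H e0 e0 = 0 := hyp.e0e0
  have h01 : H e0 e1 = 0 := hyp.e0e1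
  have h10 : H e1 e0 = 0 := H_symm_zero hF h01
  have h11 : H e1 e1 = 0 := by rw [← hyp.le0, H_actv]; exact h00
  have hmq : m ^ q = -m := by linear_combination hm0
  have hss : H (e1 + e0) (e1 + e0) = 0 := by
    rw [hermForm_add_left, hermForm_add_right hF, hermForm_add_right hF, h00, h01, h10, h11]
    ring
  -- the parameter conditions
  have hc0 : ∀ v : V, m + m ^ q + H (0 : V) (0 : V) = 0 := by
    intro v; rw [H_zero_right hF]; linear_combination hm0
  have hc1 : (-m) + (-m) ^ q + H (0 : V) (0 : V) = 0 := by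
    rw [H_zero_right hF, frob_neg hF, hmq]; ring
  have hc2 : m + m ^ q + H (m • e1) (m • e1) = 0 := by
    rw [hermForm_smul_left, hermForm_smul_right, h11]; linear_combination hm0
  have hw0 : H e0 (m • e1) = 0 := by rw [hermForm_smul_right, h01, mul_zero]
  -- the transvection at `e1 = l e0`
  have hE2 : eich hF e1 0 m ∈ Hs := by
    have h := eich_conj hF h00 (H_zero_right hF e0) (hc0 e0) l
    rw [hyp.le0, actv_zero] at h
    rw [← h]
    exact Hs.mul_mem (Hs.mul_mem hyp.hl hmH) (Hs.inv_mem hyp.hl)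
  -- the transvection at `e1 + e0 = u e1`
  have hE1 : eich hF (e1 + e0) 0 m ∈ Hs := by
    have h := eich_conj hF h11 (H_zero_right hF e1) (hc0 e1) u
    rw [hyp.ue1, actv_zero] at h
    rw [← h]
    exact Hs.mul_mem (Hs.mul_mem hyp.hu hE2) (Hs.inv_mem hyp.hu)
  have hE2i : eich hF e1 0 (-m) ∈ Hs := by
    have h := eich_inv hF h11 (H_zero_right hF e1) (hc0 e1)
    rw [neg_zero, hmq] at h
    rw [← h]
    exact Hs.inv_mem hE2
  have hprod : eich hF (e1 + e0) 0 m * eich hF e1 0 (-m) = eich hF e0 (m • e1) m := by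
    apply G_ext
    intro x
    rw [actv_mul, eich_act hF h11 (H_zero_right hF e1) hc1,
      eich_act hF hss (H_zero_right hF _) (hc0 e0), eich_act hF h00 hw0 hc2]
    simp only [hermForm_add_left, H_sub_left hF, hermForm_smul_left, hermForm_add_right hF,
      hermForm_smul_right, H_zero_right hF, H_zero_left hF, h00, h01, h10, h11, hmq]
    module
  refine ⟨hw0, m, hc2, ?_⟩
  rw [← hprod]
  exact Hs.mul_mem hE1 hE2i

end M

end Cfsg.Agent.Helper71.SUO
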