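import Mathlib
import Cfsg.Agent.Lib.Helper84.Sp4Defs
import Cfsg.Agent.Lib.Helper42.Sp4B1

/-!
# PSP4F (CEN), core: the centre of `SS/⟨zc⟩` is `⟨tt⟩`, parametrised by the EMB / QN8 facts
-/

set_option autoImplicit false

namespace Cfsg.Agent.Helper71.Sp4

open Matrix Cfsg.Agent.Helper84.Sp4

variable {F : Type*} [Field F]

theorem cen_one_ne_neg_one (h2 : (2 : F) ≠ 0) : (1 : SL2 F) ≠ -1 := by
  intro h
  have h1 := congrArg (fun X : SL2 F => (X : Matrix (Fin 2) (Fin 2) F) 0 0) h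
  simp only [Matrix.SpecialLinearGroup.coe_neg, Matrix.SpecialLinearGroup.coe_one,
    Matrix.neg_apply, Matrix.one_apply_eq] at h1
  apply h2
  have : (2 : F) = 1 + 1 := by norm_num
  rw [this]
  nth_rewrite 1 [h1]
  ring

theorem cen_emb_mul (a b c d : SL2 F) : (emb (a, b) : Sp4 F) * emb (c, d) = emb (a * c, b * d) := by
  rw [← map_mul]; rfl

theorem cen_emb_inv (a b : SL2 F) : (emb (a, b) : Sp4 F)⁻¹ = emb (a⁻¹, b⁻¹) := by
  rw [← map_inv]; rfl

theorem cen_emb_one : (emb ((1 : SL2 F), (1 : SL2 F)) : Sp4 F) = 1 := by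
  have : ((1 : SL2 F), (1 : SL2 F)) = (1 : SL2 F × SL2 F) := rfl
  rw [this, map_one]

theorem cen_i0_mem_Q : (i0 : SL2 F) ∈ (Q : Subgroup (SL2 F)) :=
  (le_sup_left : (Tor2 : Subgroup (SL2 F)) ≤ Q) Cfsg.Agent.Helper42.Sp4.i0_mem_Tor2

theorem cen_j0_mem_Q : (j0 : SL2 F) ∈ (Q : Subgroup (SL2 F)) :=
  (le_sup_right : Subgroup.zpowers (j0 : SL2 F) ≤ Q) (Subgroup.mem_zpowers _)

theorem cen_emb_mem_SS {a b : SL2 F} (ha : a ∈ (Q : Subgroup (SL2 F)))
    (hb : b ∈ (Q : Subgroup (SL2 F))) : (emb (a, b) : Sp4 F) ∈ (SS : Subgroup (Sp4 F)) := by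
  apply (le_sup_left : (Q.prod Q).map emb ≤ (SS : Subgroup (Sp4 F)))
  exact Subgroup.mem_map_of_mem _ (Subgroup.mem_prod.mpr ⟨ha, hb⟩)

/-- core of (CEN) -/
theorem cen_core (h2 : (2 : F) ≠ 0)
    (hSS : ∀ g : Sp4 F, g ∈ (SS : Subgroup (Sp4 F)) → ∃ a ∈ (Q : Subgroup (SL2 F)),
      ∃ b ∈ (Q : Subgroup (SL2 F)), g = emb (a, b) ∨ g = emb (a, b) * sw)
    (hinj : Function.Injective (emb : SL2 F × SL2 F → Sp4 F))
    (hsw : ∀ A B : SL2 F, (sw : Sp4 F) * emb (A, B) * sw⁻¹ = emb (B, A))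
    (hqn : ∀ a : SL2 F, a * i0 = i0 * a → a * j0 = j0 * a → a = 1 ∨ a = -1)
    (x : Sp4 F) (hx : x ∈ (SS : Subgroup (Sp4 F)))
    (hc : ∀ s ∈ (SS : Subgroup (Sp4 F)), x * s * x⁻¹ * s⁻¹ = 1 ∨ x * s * x⁻¹ * s⁻¹ = zc) :
    x = 1 ∨ x = zc ∨ x = tt ∨ x = tt * zc := by
  have h1n : (1 : SL2 F) ≠ -1 := cen_one_ne_neg_one h2
  have hone : (1 : SL2 F) ∈ (Q : Subgroup (SL2 F)) := one_mem _
  obtain ⟨a, ha, b, hb, hxa | hxa⟩ := hSS x hx
  · -- x = emb (a, b)
    -- a centralizes Q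
    have hacomm : ∀ c ∈ (Q : Subgroup (SL2 F)), a * c = c * a := by
      intro c hcQ
      have := hc (emb (c, 1)) (cen_emb_mem_SS hcQ hone)
      rw [hxa, cen_emb_inv, cen_emb_inv, cen_emb_mul, cen_emb_mul, cen_emb_mul] at this
      rcases this with h | h
      · rw [← cen_emb_one] at h
        have h' := congrArg Prod.fst (hinj h)
        simp only at h'
        calc a * c = (a * c * a⁻¹ * c⁻¹) * (c * a) := by group
          _ = c * a := by rw [h', one_mul]
      · exfalso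
        have h' := congrArg Prod.snd (hinj (h.trans (show (zc : Sp4 F) = emb (-1, -1) from rfl)))
        simp only [mul_one, mul_inv_cancel, inv_one] at h'
        exact h1n h'
    have hbcomm : ∀ c ∈ (Q : Subgroup (SL2 F)), b * c = c * b := by
      intro c hcQ
      have := hc (emb (1, c)) (cen_emb_mem_SS hone hcQ)
      rw [hxa, cen_emb_inv, cen_emb_inv, cen_emb_mul, cen_emb_mul, cen_emb_mul] at this
      rcases this with h | h
      · rw [← cen_emb_one] at h
        have h' := congrArg Prod.snd (hinj h)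
        simp only at h'
        calc b * c = (b * c * b⁻¹ * c⁻¹) * (c * b) := by group
          _ = c * b := by rw [h', one_mul]
      · exfalso
        have h' := congrArg Prod.fst (hinj (h.trans (show (zc : Sp4 F) = emb (-1, -1) from rfl)))
        simp only [mul_one, mul_inv_cancel, inv_one] at h'
        exact h1n h'
    have ha' := hqn a (hacomm _ cen_i0_mem_Q) (hacomm _ cen_j0_mem_Q)
    have hb' := hqn b (hbcomm _ cen_i0_mem_Q) (hbcomm _ cen_j0_mem_Q)
    rcases ha' with rfl | rfl <;> rcases hb' with rfl | rfl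
    · left; rw [hxa, cen_emb_one]
    · -- emb (1, -1) = tt * zc
      right; right; right
      rw [hxa]
      show (emb ((1 : SL2 F), (-1 : SL2 F)) : Sp4 F) = emb (-1, 1) * emb (-1, -1)
      rw [cen_emb_mul, Cfsg.Agent.Helper42.Sp4.b1_neg_one_mul_neg_one, one_mul]
    · right; right; left; rw [hxa]; rfl
    · right; left; rw [hxa]; rfl
  · -- x = emb (a, b) * sw : impossible
    exfalso
    have := hc (emb (i0, 1)) (cen_emb_mem_SS cen_i0_mem_Q hone)
    have hconj : x * emb (i0, 1) * x⁻¹ = emb (1, b * i0 * b⁻¹) := by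
      rw [hxa]
      have e : (emb (a, b) * sw : Sp4 F) * emb (i0, 1) * (emb (a, b) * sw)⁻¹ =
          emb (a, b) * (sw * emb (i0, 1) * sw⁻¹) * (emb (a, b))⁻¹ := by group
      rw [e, hsw, cen_emb_inv, cen_emb_mul, cen_emb_mul]
      congr 2
      group
    rw [hconj, cen_emb_inv, cen_emb_mul] at this
    rcases this with h | h
    · rw [← cen_emb_one] at h
      have h' := congrArg Prod.fst (hinj h)
      simp only [one_mul, inv_eq_one] at h'
      -- i0 = 1 contradicts i0 * i0 = -1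
      have := Cfsg.Agent.Helper42.Sp4.i0_mul_i0 (F := F)
      rw [h', one_mul] at this
      exact h1n this
    · have h' := congrArg Prod.fst (hinj (h.trans (show (zc : Sp4 F) = emb (-1, -1) from rfl)))
      simp only [one_mul] at h'
      -- i0⁻¹ = -1 so i0 = -1, i0 * i0 = 1
      have hi : (i0 : SL2 F) = -1 := by
        have := congrArg (fun z : SL2 F => z⁻¹) h'
        simp only [inv_inv] at this
        rw [this]
        rw [inv_eq_iff_mul_eq_one, Cfsg.Agent.Helper42.Sp4.b1_neg_one_mul_neg_one]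
      have := Cfsg.Agent.Helper42.Sp4.i0_mul_i0 (F := F)
      rw [hi, Cfsg.Agent.Helper42.Sp4.b1_neg_one_mul_neg_one] at this
      exact h1n this

end Cfsg.Agent.Helper71.Sp4
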