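import Mathlib
import Cfsg.Agent.Lib.Helper84.Sp4Defs
import Cfsg.Agent.Lib.Helper42.Sp4B1
import Cfsg.Agent.Lib.Helper42.Sp4B2
import Cfsg.Agent.Lib.Helper42.Sp4B3
import Cfsg.Agent.Lib.Helper58.Sp4EMB
import Cfsg.Agent.Lib.Helper71.Sp4CENcore

/-!
# PSP4F (CEN): the centre of `SS/⟨zc⟩` is `⟨tt⟩`  (second seat, helper71)
-/

set_option autoImplicit false

namespace Cfsg.Agent.Helper71.Sp4

open Matrix Cfsg.Agent.Helper84.Sp4

variable {F : Type*} [Field F]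

/-- an element commuting with `i0` and `j0` is `±1` (from B1, B2, B3) -/
theorem cen_eq_one_or_neg_one_of_comm [Finite F] (h2 : (2 : F) ≠ 0) (a : SL2 F)
    (hi : a * i0 = i0 * a) (hj : a * j0 = j0 * a) : a = 1 ∨ a = -1 := by
  have haT : a ∈ (Tor : Subgroup (SL2 F)) := by
    rw [Tor, Subgroup.mem_centralizer_iff]
    intro h hh
    rw [Set.mem_singleton_iff] at hh
    rw [hh]; exact hi.symm
  have h1 : (j0 : SL2 F) * a * j0⁻¹ = a⁻¹ :=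
    Cfsg.Agent.Helper42.Sp4.NTor_conj Cfsg.Agent.Helper42.Sp4.j0_mem haT
  have h3 : (j0 : SL2 F) * a * j0⁻¹ = a := by rw [← hj]; group
  have h4 : a * a = 1 := by
    have : a⁻¹ = a := by rw [← h1, h3]
    calc a * a = a * a⁻¹ := by rw [this]
      _ = 1 := mul_inv_cancel a
  exact Cfsg.Agent.Helper42.Sp4.Tor_sq_eq_one h2 haT h4

theorem center_mod [Finite F] (h2 : (2 : F) ≠ 0) (x : Sp4 F) (hx : x ∈ (SS : Subgroup (Sp4 F)))
    (hc : ∀ s ∈ (SS : Subgroup (Sp4 F)), x * s * x⁻¹ * s⁻¹ = 1 ∨ x * s * x⁻¹ * s⁻¹ = zc) :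
    x = 1 ∨ x = zc ∨ x = tt ∨ x = tt * zc :=
  cen_core h2 (fun g hg => (Cfsg.Agent.Helper58.Sp4.mem_SS_iff g).mp hg)
    Cfsg.Agent.Helper58.Sp4.emb_injective Cfsg.Agent.Helper58.Sp4.sw_conj
    (cen_eq_one_or_neg_one_of_comm h2) x hx hc

end Cfsg.Agent.Helper71.Sp4
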