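import Mathlib
import Cfsg.Agent.Lib.Helper84.Sp4Defs

/-!
# PSP4F (NQB): in case B, `N(Q) = Q ∪ om Q ∪ om⁻¹ Q`  (second seat, helper71)
Pure group theory from the hypotheses `hQ8`, `hNF`, `hom1`, `hom2`.
-/

set_option autoImplicit false

namespace Cfsg.Agent.Helper71.Sp4

open Matrix Cfsg.Agent.Helper84.Sp4

variable {F : Type*} [Field F]

theorem nqb_i0_mul_i0 : (i0 : SL2 F) * i0 = -1 := by
  apply Subtype.ext
  rw [Matrix.SpecialLinearGroup.coe_mul, Matrix.SpecialLinearGroup.coe_neg,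
    Matrix.SpecialLinearGroup.coe_one, i0_val]
  ext a b
  fin_cases a <;> fin_cases b <;> simp [rot, Matrix.mul_apply, Fin.sum_univ_two]

theorem nqb_one_ne_neg_one (h2 : (2 : F) ≠ 0) : (1 : SL2 F) ≠ -1 := by
  intro h
  have h1 := congrArg (fun X : SL2 F => (X : Matrix (Fin 2) (Fin 2) F) 0 0) h
  simp only [Matrix.SpecialLinearGroup.coe_neg, Matrix.SpecialLinearGroup.coe_one,
    Matrix.neg_apply, Matrix.one_apply_eq] at h1
  apply h2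
  have : (2 : F) = 1 + 1 := by norm_num
  rw [this]
  nth_rewrite 1 [h1]
  ring

theorem nqb_neg_one_conj (g : SL2 F) : g * (-1) * g⁻¹ = -1 := by
  rw [mul_neg, mul_one, neg_mul, mul_inv_cancel]

/-- conjugation formula -/
theorem nqb_conj_mul (g a b : SL2 F) : g * (a * b) * g⁻¹ = (g * a * g⁻¹) * (g * b * g⁻¹) := by
  group

theorem nqb_conj_inv (g a : SL2 F) : g * a⁻¹ * g⁻¹ = (g * a * g⁻¹)⁻¹ := by
  group

theorem normalizer_Q_caseB [Finite F] (h2 : (2 : F) ≠ 0)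
    (hB : ∀ c ∈ (Tor2 : Subgroup (SL2 F)), c ^ 4 = 1)
    (hQ8 : ∀ X : SL2 F, X ∈ (Q : Subgroup (SL2 F)) ↔ X = 1 ∨ X = -1 ∨ X = i0 ∨ X = i0⁻¹ ∨
      X = j0 ∨ X = j0⁻¹ ∨ X = i0 * j0 ∨ X = (i0 * j0)⁻¹)
    (hNF : ∀ g : SL2 F, g ∈ Subgroup.normalizer ((Q : Subgroup (SL2 F)) : Set (SL2 F)) →
      (g * i0 * g⁻¹ = i0 ∨ g * i0 * g⁻¹ = i0⁻¹) → g ∈ (Q : Subgroup (SL2 F)))
    (hom1 : (om : SL2 F) * i0 * om⁻¹ = i0 * j0) (hom2 : (om : SL2 F) * j0 * om⁻¹ = i0) :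
    (om : SL2 F) ∈ Subgroup.normalizer ((Q : Subgroup (SL2 F)) : Set (SL2 F)) ∧
    ∀ g : SL2 F, g ∈ Subgroup.normalizer ((Q : Subgroup (SL2 F)) : Set (SL2 F)) →
      g ∈ (Q : Subgroup (SL2 F)) ∨ om⁻¹ * g ∈ (Q : Subgroup (SL2 F)) ∨
        om * g ∈ (Q : Subgroup (SL2 F)) := by
  have hiQ : (i0 : SL2 F) ∈ (Q : Subgroup (SL2 F)) := (hQ8 _).mpr (Or.inr (Or.inr (Or.inl rfl)))
  have hjQ : (j0 : SL2 F) ∈ (Q : Subgroup (SL2 F)) :=
    (hQ8 _).mpr (Or.inr (Or.inr (Or.inr (Or.inr (Or.inl rfl)))))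
  have hnQ : (-1 : SL2 F) ∈ (Q : Subgroup (SL2 F)) := (hQ8 _).mpr (Or.inr (Or.inl rfl))
  have hkQ : (i0 * j0 : SL2 F) ∈ (Q : Subgroup (SL2 F)) := mul_mem hiQ hjQ
  -- inverse conjugation formulas
  have hom2' : (om : SL2 F)⁻¹ * i0 * (om⁻¹)⁻¹ = j0 := by
    rw [← hom2]; group
  have hom1' : (om : SL2 F)⁻¹ * (i0 * j0) * (om⁻¹)⁻¹ = i0 := by
    rw [← hom1]; group
  -- conjugation by `om` maps `Q` into `Q`
  have hc : ∀ h ∈ (Q : Subgroup (SL2 F)), (om : SL2 F) * h * om⁻¹ ∈ (Q : Subgroup (SL2 F)) := by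
    intro h hh
    have hci : (om : SL2 F) * i0 * om⁻¹ ∈ (Q : Subgroup (SL2 F)) := by rw [hom1]; exact hkQ
    have hcj : (om : SL2 F) * j0 * om⁻¹ ∈ (Q : Subgroup (SL2 F)) := by rw [hom2]; exact hiQ
    rcases (hQ8 h).mp hh with rfl | rfl | rfl | rfl | rfl | rfl | rfl | rfl
    · rw [mul_one, mul_inv_cancel]; exact one_mem _
    · rw [nqb_neg_one_conj]; exact hnQ
    · exact hci
    · rw [nqb_conj_inv]; exact inv_mem hci
    · exact hcj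
    · rw [nqb_conj_inv]; exact inv_mem hcj
    · rw [nqb_conj_mul]; exact mul_mem hci hcj
    · rw [nqb_conj_inv, nqb_conj_mul]; exact inv_mem (mul_mem hci hcj)
  -- conjugation by `om⁻¹` maps `Q` into `Q`
  have hc' : ∀ h ∈ (Q : Subgroup (SL2 F)),
      (om : SL2 F)⁻¹ * h * (om⁻¹)⁻¹ ∈ (Q : Subgroup (SL2 F)) := by
    intro h hh
    have hci : (om : SL2 F)⁻¹ * i0 * (om⁻¹)⁻¹ ∈ (Q : Subgroup (SL2 F)) := by rw [hom2']; exact hjQ
    have hck : (om : SL2 F)⁻¹ * (i0 * j0) * (om⁻¹)⁻¹ ∈ (Q : Subgroup (SL2 F)) := by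
      rw [hom1']; exact hiQ
    have hcj : (om : SL2 F)⁻¹ * j0 * (om⁻¹)⁻¹ ∈ (Q : Subgroup (SL2 F)) := by
      have : (om : SL2 F)⁻¹ * j0 * (om⁻¹)⁻¹ =
          ((om : SL2 F)⁻¹ * i0 * (om⁻¹)⁻¹)⁻¹ * ((om : SL2 F)⁻¹ * (i0 * j0) * (om⁻¹)⁻¹) := by
        group
      rw [this]; exact mul_mem (inv_mem hci) hck
    rcases (hQ8 h).mp hh with rfl | rfl | rfl | rfl | rfl | rfl | rfl | rfl
    · rw [mul_one, mul_inv_cancel]; exact one_mem _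
    · rw [nqb_neg_one_conj]; exact hnQ
    · exact hci
    · rw [nqb_conj_inv]; exact inv_mem hci
    · exact hcj
    · rw [nqb_conj_inv]; exact inv_mem hcj
    · exact hck
    · rw [nqb_conj_inv]; exact inv_mem hck
  have homN : (om : SL2 F) ∈ Subgroup.normalizer ((Q : Subgroup (SL2 F)) : Set (SL2 F)) := by
    rw [Subgroup.mem_normalizer_iff]
    intro h
    constructor
    · exact hc h
    · intro hh
      have := hc' _ hh
      have e : (om : SL2 F)⁻¹ * (om * h * om⁻¹) * (om⁻¹)⁻¹ = h := by group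
      rwa [e] at this
  refine ⟨homN, ?_⟩
  intro g hg
  have hgi : g * i0 * g⁻¹ ∈ (Q : Subgroup (SL2 F)) :=
    (Subgroup.mem_normalizer_iff.mp hg i0).mp hiQ
  have hsq : (g * i0 * g⁻¹) * (g * i0 * g⁻¹) = -1 := by
    rw [← nqb_conj_mul, nqb_i0_mul_i0, nqb_neg_one_conj]
  have homN' : (om : SL2 F)⁻¹ ∈ Subgroup.normalizer ((Q : Subgroup (SL2 F)) : Set (SL2 F)) :=
    inv_mem homN
  rcases (hQ8 _).mp hgi with h | h | h | h | h | h | h | h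
  · exfalso
    rw [h, mul_one] at hsq
    exact nqb_one_ne_neg_one h2 hsq
  · exfalso
    rw [h, neg_mul_neg, mul_one] at hsq
    exact nqb_one_ne_neg_one h2 hsq
  · exact Or.inl (hNF g hg (Or.inl h))
  · exact Or.inl (hNF g hg (Or.inr h))
  · -- g i g⁻¹ = j : use om * g
    refine Or.inr (Or.inr (hNF _ (mul_mem homN hg) (Or.inl ?_)))
    have : (om * g : SL2 F) * i0 * (om * g)⁻¹ = om * (g * i0 * g⁻¹) * om⁻¹ := by group
    rw [this, h, hom2]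
  · refine Or.inr (Or.inr (hNF _ (mul_mem homN hg) (Or.inr ?_)))
    have : (om * g : SL2 F) * i0 * (om * g)⁻¹ = om * (g * i0 * g⁻¹) * om⁻¹ := by group
    rw [this, h, nqb_conj_inv, hom2]
  · -- g i g⁻¹ = k : use om⁻¹ * g
    refine Or.inr (Or.inl (hNF _ (mul_mem homN' hg) (Or.inl ?_)))
    have : (om⁻¹ * g : SL2 F) * i0 * (om⁻¹ * g)⁻¹ = om⁻¹ * (g * i0 * g⁻¹) * (om⁻¹)⁻¹ := by group
    rw [this, h, hom1']
  · refine Or.inr (Or.inl (hNF _ (mul_mem homN' hg) (Or.inr ?_)))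
    have : (om⁻¹ * g : SL2 F) * i0 * (om⁻¹ * g)⁻¹ = om⁻¹ * (g * i0 * g⁻¹) * (om⁻¹)⁻¹ := by group
    rw [this, h, nqb_conj_inv, hom1']

end Cfsg.Agent.Helper71.Sp4
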