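import Mathlib
import Cfsg.Agent.Lib.Helper84.Sp4Defs
import Cfsg.Agent.Lib.Helper84.Sp4Basic

/-!
# PSP4F (R1B): in case B, `SS` and `dd` normalize `R1`  (second seat, helper71)

In `Q = Q₈` every element squares to `±1`, hence any two elements commute up to sign and
`x⁻¹ = ±x`.  So conjugation by `emb (u, v)` (`u, v ∈ Q`), by `sw` and by `emb (om, om)`
(`om ∈ N(Q)`) keeps the shape `emb (b, ±b)`, `emb (b, ±b) * sw`.
-/

set_option autoImplicit false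

namespace Cfsg.Agent.Helper71.Sp4

open Matrix Cfsg.Agent.Helper84.Sp4

variable {F : Type*} [Field F]

/-- equality up to sign in `SL₂` -/
def r1b_Sg (x y : SL2 F) : Prop := y = x ∨ y = -x

theorem r1b_Sg_refl (x : SL2 F) : r1b_Sg x x := Or.inl rfl

theorem r1b_Sg_symm {x y : SL2 F} (h : r1b_Sg x y) : r1b_Sg y x := by
  rcases h with rfl | rfl
  · exact Or.inl rfl
  · exact Or.inr (neg_neg x).symm

theorem r1b_Sg_trans {x y z : SL2 F} (h : r1b_Sg x y) (h' : r1b_Sg y z) : r1b_Sg x z := by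
  rcases h with rfl | rfl
  · exact h'
  · rcases h' with rfl | rfl
    · exact Or.inr rfl
    · exact Or.inl (neg_neg x)

theorem r1b_Sg_mul_left (a : SL2 F) {x y : SL2 F} (h : r1b_Sg x y) : r1b_Sg (a * x) (a * y) := by
  rcases h with rfl | rfl
  · exact Or.inl rfl
  · exact Or.inr (mul_neg a x)

theorem r1b_Sg_mul_right (a : SL2 F) {x y : SL2 F} (h : r1b_Sg x y) : r1b_Sg (x * a) (y * a) := by
  rcases h with rfl | rfl
  · exact Or.inl rfl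
  · exact Or.inr (neg_mul x a)

theorem r1b_Sg_mul {x y x' y' : SL2 F} (h : r1b_Sg x y) (h' : r1b_Sg x' y') :
    r1b_Sg (x * x') (y * y') :=
  r1b_Sg_trans (r1b_Sg_mul_left x h') (r1b_Sg_mul_right y' h)

theorem r1b_Sg_conj (a : SL2 F) {x y : SL2 F} (h : r1b_Sg x y) :
    r1b_Sg (a * x * a⁻¹) (a * y * a⁻¹) :=
  r1b_Sg_mul_right _ (r1b_Sg_mul_left _ h)

theorem r1b_emb_mul (a b c d : SL2 F) :
    (emb (a, b) : Sp4 F) * emb (c, d) = emb (a * c, b * d) :=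
  (map_mul emb (a, b) (c, d)).symm

theorem r1b_emb_inv (a b : SL2 F) : (emb (a, b) : Sp4 F)⁻¹ = emb (a⁻¹, b⁻¹) :=
  (map_inv emb (a, b)).symm

/-- the facts about `Q₈` that we use -/
structure r1b_Q8facts (F : Type*) [Field F] : Prop where
  neg_mem : ∀ x : SL2 F, x ∈ (Q : Subgroup (SL2 F)) → -x ∈ (Q : Subgroup (SL2 F))
  inv_sg : ∀ x : SL2 F, x ∈ (Q : Subgroup (SL2 F)) → r1b_Sg x x⁻¹
  comm_sg : ∀ x y : SL2 F, x ∈ (Q : Subgroup (SL2 F)) → y ∈ (Q : Subgroup (SL2 F)) →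
    r1b_Sg (x * y) (y * x)

theorem r1b_sq [Finite F]
    (hQ8 : ∀ X : SL2 F, X ∈ (Q : Subgroup (SL2 F)) ↔ X = 1 ∨ X = -1 ∨ X = i0 ∨ X = i0⁻¹ ∨
      X = j0 ∨ X = j0⁻¹ ∨ X = i0 * j0 ∨ X = (i0 * j0)⁻¹)
    {x : SL2 F} (hx : x ∈ (Q : Subgroup (SL2 F))) : x * x = 1 ∨ x * x = -1 := by
  have hneg : (-1 : SL2 F) * (-1) = 1 := by rw [neg_mul_neg, one_mul]
  have hinv : ∀ y : SL2 F, y * y = -1 → y⁻¹ * y⁻¹ = -1 := by
    intro y hy
    rw [← _root_.mul_inv_rev, hy]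
    exact inv_eq_of_mul_eq_one_right hneg
  have hk : (i0 * j0 : SL2 F) * (i0 * j0) = -1 :=
    NTor_mul_self (Tor_mul_NTor (Tor2_le_Tor i0_mem_Tor2) j0_mem)
  rcases (hQ8 x).1 hx with rfl | rfl | rfl | rfl | rfl | rfl | rfl | rfl
  · left; exact one_mul 1
  · left; exact hneg
  · right; exact i0_mul_i0
  · right; exact hinv _ i0_mul_i0
  · right; exact j0_mul_j0
  · right; exact hinv _ j0_mul_j0
  · right; exact hk
  · right; exact hinv _ hk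

theorem r1b_facts [Finite F]
    (hQ8 : ∀ X : SL2 F, X ∈ (Q : Subgroup (SL2 F)) ↔ X = 1 ∨ X = -1 ∨ X = i0 ∨ X = i0⁻¹ ∨
      X = j0 ∨ X = j0⁻¹ ∨ X = i0 * j0 ∨ X = (i0 * j0)⁻¹) : r1b_Q8facts F := by
  have hnQ : (-1 : SL2 F) ∈ (Q : Subgroup (SL2 F)) := (hQ8 _).mpr (Or.inr (Or.inl rfl))
  have hinv : ∀ x : SL2 F, x ∈ (Q : Subgroup (SL2 F)) → r1b_Sg x x⁻¹ := by
    intro x hx
    rcases r1b_sq hQ8 hx with h | h
    · left; exact inv_eq_of_mul_eq_one_right h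
    · right
      apply inv_eq_of_mul_eq_one_right
      rw [mul_neg, h, neg_neg]
  refine ⟨?_, hinv, ?_⟩
  · intro x hx
    have : -x = (-1) * x := by rw [neg_mul, one_mul]
    rw [this]
    exact mul_mem hnQ hx
  · intro x y hx hy
    have h1 : y * x = x⁻¹ * ((x * y) * (x * y)) * y⁻¹ := by group
    have h2 : r1b_Sg (x⁻¹ * y⁻¹) (y * x) := by
      rcases r1b_sq hQ8 (mul_mem hx hy) with h | h
      · left; rw [h1, h, mul_one]
      · right; rw [h1, h, mul_neg, mul_one, neg_mul]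
    exact r1b_Sg_trans (r1b_Sg_mul (hinv x hx) (hinv y hy)) h2

/-- the `R1`-shape -/
def r1b_form (g : Sp4 F) : Prop :=
  ∃ b ∈ (Q : Subgroup (SL2 F)), ∃ b' : SL2 F, r1b_Sg b b' ∧
    (g = emb (b, b') ∨ g = emb (b, b') * sw)

theorem r1b_mem_iff_form
    (hR1 : ∀ g : Sp4 F, g ∈ (R1 : Subgroup (Sp4 F)) ↔ ∃ b ∈ (Q : Subgroup (SL2 F)),
      g = emb (b, b) ∨ g = emb (b, -b) ∨ g = emb (b, b) * sw ∨ g = emb (b, -b) * sw)
    (g : Sp4 F) : g ∈ (R1 : Subgroup (Sp4 F)) ↔ r1b_form g := by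
  rw [hR1]
  constructor
  · rintro ⟨b, hb, h | h | h | h⟩
    · exact ⟨b, hb, b, Or.inl rfl, Or.inl h⟩
    · exact ⟨b, hb, -b, Or.inr rfl, Or.inl h⟩
    · exact ⟨b, hb, b, Or.inl rfl, Or.inr h⟩
    · exact ⟨b, hb, -b, Or.inr rfl, Or.inr h⟩
  · rintro ⟨b, hb, b', hs | hs, h | h⟩ <;> rw [hs] at h
    · exact ⟨b, hb, Or.inl h⟩
    · exact ⟨b, hb, Or.inr (Or.inr (Or.inl h))⟩
    · exact ⟨b, hb, Or.inr (Or.inl h)⟩
    · exact ⟨b, hb, Or.inr (Or.inr (Or.inr h))⟩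

/-- conjugation by `emb (u, v)` keeps the `R1`-shape, under four compatibility conditions -/
theorem r1b_form_conj_emb
    (hsw : ∀ A B : SL2 F, (sw : Sp4 F) * emb (A, B) * sw⁻¹ = emb (B, A))
    (u v : SL2 F)
    (h1 : ∀ b ∈ (Q : Subgroup (SL2 F)), u * b * u⁻¹ ∈ (Q : Subgroup (SL2 F)))
    (h2 : ∀ b ∈ (Q : Subgroup (SL2 F)), u * b * v⁻¹ ∈ (Q : Subgroup (SL2 F)))
    (h3 : ∀ b ∈ (Q : Subgroup (SL2 F)), r1b_Sg (u * b * u⁻¹) (v * b * v⁻¹))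
    (h4 : ∀ b ∈ (Q : Subgroup (SL2 F)), r1b_Sg (u * b * v⁻¹) (v * b * u⁻¹))
    {g : Sp4 F} (hg : r1b_form g) : r1b_form (emb (u, v) * g * (emb (u, v))⁻¹) := by
  obtain ⟨b, hb, b', hbb', rfl | rfl⟩ := hg
  · refine ⟨u * b * u⁻¹, h1 b hb, v * b' * v⁻¹, ?_, Or.inl ?_⟩
    · exact r1b_Sg_trans (h3 b hb) (r1b_Sg_conj v hbb')
    · rw [r1b_emb_inv, r1b_emb_mul, r1b_emb_mul]
  · refine ⟨u * b * v⁻¹, h2 b hb, v * b' * u⁻¹, ?_, Or.inr ?_⟩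
    · exact r1b_Sg_trans (h4 b hb) (r1b_Sg_mul_right _ (r1b_Sg_mul_left _ hbb'))
    · have e : (sw : Sp4 F) * emb (u⁻¹, v⁻¹) = emb (v⁻¹, u⁻¹) * sw := by
        rw [← hsw u⁻¹ v⁻¹]; group
      rw [r1b_emb_inv]
      calc emb (u, v) * (emb (b, b') * sw) * emb (u⁻¹, v⁻¹)
          = emb (u, v) * emb (b, b') * (sw * emb (u⁻¹, v⁻¹)) := by group
        _ = emb (u, v) * emb (b, b') * (emb (v⁻¹, u⁻¹) * sw) := by rw [e]
        _ = emb (u, v) * emb (b, b') * emb (v⁻¹, u⁻¹) * sw := by group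
        _ = emb (u * b * v⁻¹, v * b' * u⁻¹) * sw := by rw [r1b_emb_mul, r1b_emb_mul]

/-- conjugation by `sw` keeps the `R1`-shape -/
theorem r1b_form_conj_sw (hf : r1b_Q8facts F)
    (hsw : ∀ A B : SL2 F, (sw : Sp4 F) * emb (A, B) * sw⁻¹ = emb (B, A))
    {g : Sp4 F} (hg : r1b_form g) : r1b_form (sw * g * sw⁻¹) := by
  obtain ⟨b, hb, b', hbb', rfl | rfl⟩ := hg
  · have hb' : b' ∈ (Q : Subgroup (SL2 F)) := by
      rcases hbb' with rfl | rfl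
      · exact hb
      · exact hf.neg_mem b hb
    exact ⟨b', hb', b, r1b_Sg_symm hbb', Or.inl (hsw b b')⟩
  · have hb' : b' ∈ (Q : Subgroup (SL2 F)) := by
      rcases hbb' with rfl | rfl
      · exact hb
      · exact hf.neg_mem b hb
    refine ⟨b', hb', b, r1b_Sg_symm hbb', Or.inr ?_⟩
    rw [← hsw b b']; group

/-- conjugation by `emb (u, v)`, `u v ∈ Q`, keeps the `R1`-shape -/
theorem r1b_form_conj_QQ (hf : r1b_Q8facts F)
    (hsw : ∀ A B : SL2 F, (sw : Sp4 F) * emb (A, B) * sw⁻¹ = emb (B, A))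
    {u v : SL2 F} (hu : u ∈ (Q : Subgroup (SL2 F))) (hv : v ∈ (Q : Subgroup (SL2 F)))
    {g : Sp4 F} (hg : r1b_form g) : r1b_form (emb (u, v) * g * (emb (u, v))⁻¹) := by
  have hconj : ∀ a b : SL2 F, a ∈ (Q : Subgroup (SL2 F)) → b ∈ (Q : Subgroup (SL2 F)) →
      r1b_Sg b (a * b * a⁻¹) := by
    intro a b ha hb
    have h := r1b_Sg_mul_right a⁻¹ (hf.comm_sg b a hb ha)
    rwa [mul_inv_cancel_right] at h
  refine r1b_form_conj_emb hsw u v ?_ ?_ ?_ ?_ hg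
  · intro b hb; exact mul_mem (mul_mem hu hb) (inv_mem hu)
  · intro b hb; exact mul_mem (mul_mem hu hb) (inv_mem hv)
  · intro b hb
    exact r1b_Sg_trans (r1b_Sg_symm (hconj u b hu hb)) (hconj v b hv hb)
  · intro b hb
    -- u b v⁻¹ ~ u b v ~ u v b ~ v b u ~ v b u⁻¹
    have s1 : r1b_Sg (u * b * v⁻¹) (u * b * v) :=
      r1b_Sg_mul_left (u * b) (r1b_Sg_symm (hf.inv_sg v hv))
    have s2 : r1b_Sg (u * b * v) (u * (v * b)) := by
      have := r1b_Sg_mul_left u (hf.comm_sg b v hb hv)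
      rwa [← mul_assoc] at this
    have s3 : r1b_Sg (u * (v * b)) (v * b * u) := hf.comm_sg u (v * b) hu (mul_mem hv hb)
    have s4 : r1b_Sg (v * b * u) (v * b * u⁻¹) := r1b_Sg_mul_left (v * b) (hf.inv_sg u hu)
    exact r1b_Sg_trans (r1b_Sg_trans (r1b_Sg_trans s1 s2) s3) s4

/-- conjugation by `emb (w, w)`, `w` normalizing `Q`, keeps the `R1`-shape -/
theorem r1b_form_conj_diag
    (hsw : ∀ A B : SL2 F, (sw : Sp4 F) * emb (A, B) * sw⁻¹ = emb (B, A))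
    {w : SL2 F} (hw : ∀ b ∈ (Q : Subgroup (SL2 F)), w * b * w⁻¹ ∈ (Q : Subgroup (SL2 F)))
    {g : Sp4 F} (hg : r1b_form g) : r1b_form (emb (w, w) * g * (emb (w, w))⁻¹) :=
  r1b_form_conj_emb hsw w w hw hw (fun _ _ => r1b_Sg_refl _) (fun _ _ => r1b_Sg_refl _) hg

theorem normalizer_R1_caseB [Finite F] (h2 : (2 : F) ≠ 0)
    (hQ8 : ∀ X : SL2 F, X ∈ (Q : Subgroup (SL2 F)) ↔ X = 1 ∨ X = -1 ∨ X = i0 ∨ X = i0⁻¹ ∨
      X = j0 ∨ X = j0⁻¹ ∨ X = i0 * j0 ∨ X = (i0 * j0)⁻¹)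
    (hR1 : ∀ g : Sp4 F, g ∈ (R1 : Subgroup (Sp4 F)) ↔ ∃ b ∈ (Q : Subgroup (SL2 F)),
      g = emb (b, b) ∨ g = emb (b, -b) ∨ g = emb (b, b) * sw ∨ g = emb (b, -b) * sw)
    (hSS : ∀ g : Sp4 F, g ∈ (SS : Subgroup (Sp4 F)) ↔ ∃ a ∈ (Q : Subgroup (SL2 F)),
      ∃ b ∈ (Q : Subgroup (SL2 F)), g = emb (a, b) ∨ g = emb (a, b) * sw)
    (hsw : ∀ A B : SL2 F, (sw : Sp4 F) * emb (A, B) * sw⁻¹ = emb (B, A))
    (homN : (om : SL2 F) ∈ Subgroup.normalizer ((Q : Subgroup (SL2 F)) : Set (SL2 F))) :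
    (R1 : Subgroup (Sp4 F)) ≤ SS ∧
    (SS : Subgroup (Sp4 F)) ≤ Subgroup.normalizer ((R1 : Subgroup (Sp4 F)) : Set (Sp4 F)) ∧
    (dd : Sp4 F) ∈ Subgroup.normalizer ((R1 : Subgroup (Sp4 F)) : Set (Sp4 F)) := by
  have hf : r1b_Q8facts F := r1b_facts hQ8
  have hSSconj : ∀ g ∈ (SS : Subgroup (Sp4 F)), ∀ r ∈ (R1 : Subgroup (Sp4 F)),
      g * r * g⁻¹ ∈ (R1 : Subgroup (Sp4 F)) := by
    intro g hg r hr
    rw [r1b_mem_iff_form hR1] at hr ⊢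
    obtain ⟨a, ha, c, hc, rfl | rfl⟩ := (hSS g).1 hg
    · exact r1b_form_conj_QQ hf hsw ha hc hr
    · have := r1b_form_conj_QQ hf hsw ha hc (r1b_form_conj_sw hf hsw hr)
      have e : emb (a, c) * sw * r * (emb (a, c) * sw)⁻¹ =
          emb (a, c) * (sw * r * sw⁻¹) * (emb (a, c))⁻¹ := by group
      rw [e]; exact this
  refine ⟨?_, ?_, ?_⟩
  · intro g hg
    obtain ⟨b, hb, h | h | h | h⟩ := (hR1 g).1 hg
    · exact (hSS g).2 ⟨b, hb, b, hb, Or.inl h⟩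
    · exact (hSS g).2 ⟨b, hb, -b, hf.neg_mem b hb, Or.inl h⟩
    · exact (hSS g).2 ⟨b, hb, b, hb, Or.inr h⟩
    · exact (hSS g).2 ⟨b, hb, -b, hf.neg_mem b hb, Or.inr h⟩
  · intro g hg
    rw [Subgroup.mem_normalizer_iff]
    intro r
    constructor
    · intro hr; exact hSSconj g hg r hr
    · intro hr
      have := hSSconj g⁻¹ (inv_mem hg) _ hr
      have e : g⁻¹ * (g * r * g⁻¹) * g⁻¹⁻¹ = r := by group
      rwa [e] at this
  · rw [Subgroup.mem_normalizer_iff]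
    have hom1 : ∀ b ∈ (Q : Subgroup (SL2 F)), (om : SL2 F) * b * om⁻¹ ∈ (Q : Subgroup (SL2 F)) :=
      fun b hb => ((Subgroup.mem_normalizer_iff).1 homN b).1 hb
    have hom2 : ∀ b ∈ (Q : Subgroup (SL2 F)),
        (om : SL2 F)⁻¹ * b * om⁻¹⁻¹ ∈ (Q : Subgroup (SL2 F)) := by
      intro b hb
      apply ((Subgroup.mem_normalizer_iff).1 homN _).2
      have e : (om : SL2 F) * (om⁻¹ * b * om⁻¹⁻¹) * om⁻¹ = b := by group
      rwa [e]
    intro r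
    constructor
    · intro hr
      rw [r1b_mem_iff_form hR1] at hr ⊢
      exact r1b_form_conj_diag hsw hom1 hr
    · intro hr
      rw [r1b_mem_iff_form hR1] at hr ⊢
      have := r1b_form_conj_diag hsw hom2 hr
      have e : emb ((om : SL2 F)⁻¹, (om : SL2 F)⁻¹) * (dd * r * dd⁻¹) *
          (emb ((om : SL2 F)⁻¹, (om : SL2 F)⁻¹))⁻¹ = r := by
        have : (emb ((om : SL2 F)⁻¹, (om : SL2 F)⁻¹) : Sp4 F) = dd⁻¹ := by
          rw [← r1b_emb_inv]; rfl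
        rw [this]; group
      rwa [e] at this

end Cfsg.Agent.Helper71.Sp4
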