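import Mathlib
import Cfsg.Agent.Lib.Helper14.TSPDefs

set_option autoImplicit false

/-!
# TSP (NK1) `exists_normalized` for helper14's S5980 server
-/

namespace Cfsg.Agent.Helper71.TSP

open Matrix Module Polynomial
open scoped Kronecker
open Cfsg.Agent.Helper14.TSP Cfsg.Agent.Helper44.StarInv

universe u

variable {F : Type u} [Field F] [Fintype F]

/-- in a finite field every element is an `r`-th power when `r` is a prime not dividing `q - 1` -/
theorem nk1_exists_root (r : ℕ) (hr : r.Prime) (hr1 : ¬ r ∣ Fintype.card F - 1) (c : F) (hc : c ≠ 0) :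
    ∃ μ : F, μ ≠ 0 ∧ μ ^ r = c := by
  classical
  have hcop : (Nat.card Fˣ).Coprime r := by
    rw [Nat.card_eq_fintype_card, Fintype.card_units]
    exact ((Nat.Prime.coprime_iff_not_dvd hr).mpr hr1).symm
  obtain ⟨μ, hμ⟩ := (powCoprime hcop).surjective (Units.mk0 c hc)
  refine ⟨(μ : F), μ.ne_zero, ?_⟩
  have := congrArg Units.val hμ
  simpa using this

/-- (NK1) -/
theorem exists_normalized {ι : Type} [Fintype ι] [DecidableEq ι] {a b : ℕ} (ha : 0 < a)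
    (hb : 0 < b) (M : Matrix ι ι F) (hk : IsKronS a b M) (r : ℕ) (hr : r.Prime) (hMr : M ^ r = 1)
    (hr1 : ¬ r ∣ Fintype.card F - 1) :
    ∃ (Ψ : (ι → F) ≃ₗ[F] (Fin a × Fin b → F)) (A : Matrix (Fin a) (Fin a) F)
      (B : Matrix (Fin b) (Fin b) F), A ^ r = 1 ∧ B ^ r = 1 ∧
      ∀ v, Ψ (M *ᵥ v) = (A ⊗ₖ B) *ᵥ Ψ v := by
  classical
  obtain ⟨Ψ, A₀, B₀, hΨ⟩ := hk
  set A₁ : Matrix (Fin a) (Fin a) F := (A₀ : Matrix (Fin a) (Fin a) F) with hA₁
  set B₁ : Matrix (Fin b) (Fin b) F := (B₀ : Matrix (Fin b) (Fin b) F) with hB₁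
  -- powers
  have hpow : ∀ (k : ℕ) (v : ι → F), Ψ ((M ^ k) *ᵥ v) = ((A₁ ⊗ₖ B₁) ^ k) *ᵥ Ψ v := by
    intro k
    induction k with
    | zero => intro v; simp
    | succ k ih =>
      intro v
      rw [pow_succ', ← Matrix.mulVec_mulVec, hΨ, ih, Matrix.mulVec_mulVec, ← pow_succ']
  have hK : (A₁ ⊗ₖ B₁) ^ r = 1 := by
    apply Matrix.toLin'.injective
    apply LinearMap.ext
    intro w
    rw [Matrix.toLin'_apply, Matrix.toLin'_one, LinearMap.id_apply]
    have h1 := hpow r (Ψ.symm w)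
    rw [hMr, Matrix.one_mulVec, LinearEquiv.apply_symm_apply] at h1
    exact h1.symm
  rw [Cfsg.Agent.Helper14.TensorStab.kron_pow] at hK
  obtain ⟨c, hc⟩ := Cfsg.Agent.Helper14.TensorStab.scalar_of_kron_eq_one hb (A₁ ^ r) (B₁ ^ r) hK
  -- B₁^r = c⁻¹ • 1 and c ≠ 0
  have hentry : ∀ j j' : Fin b, c * (B₁ ^ r) j j' = if j = j' then 1 else 0 := by
    intro j j'
    have h1 := congrFun (congrFun hK ((⟨0, ha⟩ : Fin a), j)) ((⟨0, ha⟩ : Fin a), j')
    rw [Matrix.kroneckerMap_apply, hc, Matrix.one_apply] at h1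
    simp only [Matrix.smul_apply, Matrix.one_apply_eq, smul_eq_mul, mul_one] at h1
    rw [h1]
    by_cases hjj : j = j'
    · simp [hjj]
    · have : ¬ (((⟨0, ha⟩ : Fin a), j) = ((⟨0, ha⟩ : Fin a), j')) := fun e => hjj (Prod.ext_iff.mp e).2
      simp [hjj, this]
  have hc0 : c ≠ 0 := by
    intro h0
    have := hentry ⟨0, hb⟩ ⟨0, hb⟩
    rw [h0, zero_mul] at this
    simp at this
  have hB : B₁ ^ r = c⁻¹ • (1 : Matrix (Fin b) (Fin b) F) := by
    ext j j'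
    have h1 := hentry j j'
    rw [Matrix.smul_apply, Matrix.one_apply, smul_eq_mul]
    have : (B₁ ^ r) j j' = c⁻¹ * (c * (B₁ ^ r) j j') := by
      rw [← mul_assoc, inv_mul_cancel₀ hc0, one_mul]
    rw [this, h1]
  obtain ⟨μ, hμ0, hμ⟩ := nk1_exists_root r hr hr1 c hc0
  refine ⟨Ψ, μ⁻¹ • A₁, μ • B₁, ?_, ?_, ?_⟩
  · rw [_root_.smul_pow, hc, smul_smul, inv_pow, hμ, inv_mul_cancel₀ hc0, one_smul]
  · rw [_root_.smul_pow, hB, smul_smul, hμ, mul_inv_cancel₀ hc0, one_smul]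
  · intro v
    rw [Matrix.smul_kronecker, Matrix.kronecker_smul, smul_smul, inv_mul_cancel₀ hμ0, one_smul]
    exact hΨ v

end Cfsg.Agent.Helper71.TSP
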